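import Groth.Prelude.Def_SGA3b
import Mathlib

/-!
Base change of bialgebras and of diagonalisable Hopf algebras.
-/

set_option autoImplicit false
set_option linter.unusedSectionVars false
universe u v w
open TensorProduct

noncomputable section

namespace Groth.Agent.SGA3b53

/-- `T ⊗[S] (S ⊗[R] A) ≅ T ⊗[R] A` as bialgebras. -/
def cancelBC (R : Type u) [CommRing R] (S : Type v) [CommRing S] [Algebra R S] (T : Type w) [CommRing T]
    [Algebra R T] [Algebra S T] [IsScalarTower R S T] (A : Type u) [CommRing A] [Bialgebra R A] :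
    T ⊗[S] (S ⊗[R] A) ≃ₐc[T] T ⊗[R] A :=
  BialgEquiv.ofAlgEquiv (Algebra.TensorProduct.cancelBaseChange R S T T A)
    (by
      refine Algebra.TensorProduct.ext (AlgHom.ext fun t => ?_) (AlgHom.ext fun x => ?_)
      · simp [Algebra.TensorProduct.one_def]
      · induction x with
        | zero => simp
        | add x y hx hy => simp only [map_add, hx, hy]
        | tmul s a => simp [Algebra.smul_def, ← IsScalarTower.algebraMap_apply, mul_comm])
    (by
      refine Algebra.TensorProduct.ext (AlgHom.ext fun t => ?_) (AlgHom.ext fun x => ?_)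
      · simp [Algebra.TensorProduct.one_def]
      · induction x with
        | zero => simp
        | add x y hx hy => simp only [map_add, hx, hy]
        | tmul s a =>
          simp only [AlgHom.restrictScalars_apply, AlgHom.comp_apply, AlgHom.coe_restrictScalars',
            Algebra.TensorProduct.includeRight_apply, Bialgebra.comulAlgHom_apply, AlgEquiv.coe_toAlgHom,
            Algebra.TensorProduct.cancelBaseChange_tmul, TensorProduct.comul_tmul, CommSemiring.comul_apply]
          generalize Coalgebra.comul (R := R) a = z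
          induction z with
          | zero => simp
          | add x y hx hy => simp only [tmul_add, map_add, hx, hy]
          | tmul b c =>
            simp only [AlgebraTensorModule.tensorTensorTensorComm_tmul, Algebra.TensorProduct.map_tmul,
              AlgEquiv.coe_toAlgHom, Algebra.TensorProduct.cancelBaseChange_tmul]
            rw [one_smul])

theorem cancelBC_tmul (R : Type u) [CommRing R] (S : Type v) [CommRing S] [Algebra R S] (T : Type w)
    [CommRing T] [Algebra R T] [Algebra S T] [IsScalarTower R S T] (A : Type u) [CommRing A] [Bialgebra R A]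
    (t : T) (s : S) (a : A) : cancelBC R S T A (t ⊗ₜ (s ⊗ₜ a)) = (s • t) ⊗ₜ a := by
  simp [cancelBC]

/-- Base change of a bialgebra equivalence. -/
def congrBC {R : Type u} [CommRing R] (T : Type v) [CommRing T] [Algebra R T] {A : Type u} [CommRing A]
    [Bialgebra R A] {B : Type u} [CommRing B] [Bialgebra R B] (e : A ≃ₐc[R] B) :
    T ⊗[R] A ≃ₐc[T] T ⊗[R] B :=
  BialgEquiv.ofBialgHom (Bialgebra.TensorProduct.map (BialgHom.id T T) (e : A →ₐc[R] B))
    (Bialgebra.TensorProduct.map (BialgHom.id T T) (e.symm : B →ₐc[R] A))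
    (by
      refine BialgHom.ext fun x => ?_
      induction x with
      | zero => simp
      | add x y hx hy => simp only [map_add, hx, hy]
      | tmul s a => simp)
    (by
      refine BialgHom.ext fun x => ?_
      induction x with
      | zero => simp
      | add x y hx hy => simp only [map_add, hx, hy]
      | tmul s a => simp)

theorem congrBC_tmul {R : Type u} [CommRing R] (T : Type v) [CommRing T] [Algebra R T] {A : Type u} [CommRing A]
    [Bialgebra R A] {B : Type u} [CommRing B] [Bialgebra R B] (e : A ≃ₐc[R] B) (t : T) (a : A) :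
    congrBC T e (t ⊗ₜ a) = t ⊗ₜ e a := rfl

/-- `T ⊗[R] R[M] ≅ T[M]` as bialgebras. -/
def monoidAlgebraBC (R : Type u) [CommRing R] (T : Type v) [CommRing T] [Algebra R T] (M : Type u)
    [CommMonoid M] : T ⊗[R] MonoidAlgebra R M ≃ₐc[T] MonoidAlgebra T M :=
  BialgEquiv.ofAlgEquiv (MonoidAlgebra.scalarTensorEquiv R T)
    (by
      refine Algebra.TensorProduct.ext (AlgHom.ext fun t => ?_) (MonoidAlgebra.algHom_ext (fun m => ?_) (Subsingleton.elim _ _)) <;>
      simp [MonoidAlgebra.mapAlgHom_single])
    (by
      refine Algebra.TensorProduct.ext (AlgHom.ext fun t => ?_) (MonoidAlgebra.algHom_ext (fun m => ?_) (Subsingleton.elim _ _)) <;>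
      simp [MonoidAlgebra.mapAlgHom_single, Algebra.TensorProduct.one_def])

theorem monoidAlgebraBC_one_tmul (R : Type u) [CommRing R] (T : Type v) [CommRing T] [Algebra R T] (M : Type u)
    [CommMonoid M] (p : MonoidAlgebra R M) (m : M) :
    (monoidAlgebraBC R T M ((1 : T) ⊗ₜ p)).coeff m = algebraMap R T (p.coeff m) := by
  simp [monoidAlgebraBC]

variable {R : Type u} [CommRing R] {A : Type u} [CommRing A] [HopfAlgebra R A]

theorem isDiag_of_equiv {B : Type u} [CommRing B] [HopfAlgebra R B] (e : A ≃ₐc[R] B)
    (h : SGA3b.IsDiag R A) : SGA3b.IsDiag R B := by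
  obtain ⟨M, _, ⟨f⟩⟩ := h
  exact ⟨M, inferInstance, ⟨e.symm.trans f⟩⟩

theorem isDiag_baseChange (T : Type u) [CommRing T] [Algebra R T] (h : SGA3b.IsDiag R A) :
    SGA3b.IsDiag T (T ⊗[R] A) := by
  obtain ⟨M, _, ⟨f⟩⟩ := h
  exact ⟨M, inferInstance, ⟨(congrBC T f).trans (monoidAlgebraBC R T M)⟩⟩

theorem isDiag_tower (S : Type u) [CommRing S] [Algebra R S] (T : Type u) [CommRing T] [Algebra R T] [Algebra S T]
    [IsScalarTower R S T] (h : SGA3b.IsDiag S (S ⊗[R] A)) : SGA3b.IsDiag T (T ⊗[R] A) :=
  isDiag_of_equiv (cancelBC R S T A) (isDiag_baseChange T h)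

end Groth.Agent.SGA3b53
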