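import Groth.Agent.SGA3b53.DiagLift
import Mathlib

/-!
A group split by a finite cover is of multiplicative type: the type is locally constant.
-/

set_option autoImplicit false
set_option linter.unusedSectionVars false
set_option linter.style.haveILetI false
universe u v w
open TensorProduct

noncomputable section

namespace Groth.Agent.SGA3b53

/-- Isomorphic group algebras over a domain come from isomorphic groups. -/
theorem nonempty_mulEquiv_of_bialgEquiv {K : Type u} [CommRing K] [IsDomain K] {M N : Type u} [CommGroup M]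
    [CommGroup N] (e : MonoidAlgebra K M ≃ₐc[K] MonoidAlgebra K N) : Nonempty (M ≃* N) := by
  let f := MonoidAlgebra.mapDomainOfBialgHom (e : MonoidAlgebra K M →ₐc[K] MonoidAlgebra K N)
  let g := MonoidAlgebra.mapDomainOfBialgHom (e.symm : MonoidAlgebra K N →ₐc[K] MonoidAlgebra K M)
  refine ⟨MonoidHom.toMulEquiv f g (MonoidHom.ext fun m => ?_) (MonoidHom.ext fun m => ?_)⟩
  · refine MonoidAlgebra.single_left_injective (R := K) one_ne_zero ?_
    simp [f, g, MonoidAlgebra.single_mapDomainOfBialgHom]
  · refine MonoidAlgebra.single_left_injective (R := K) one_ne_zero ?_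
    simp [f, g, MonoidAlgebra.single_mapDomainOfBialgHom]

variable {R : Type u} [CommRing R] {A : Type u} [CommRing A] [HopfAlgebra R A]

/-- Two splittings with different types live over disjoint parts of the base. -/
theorem subsingleton_tensor_of_types {S T : Type u} [CommRing S] [Algebra R S] [CommRing T] [Algebra R T]
    {M N : Type u} [CommGroup M] [CommGroup N] (ρ : S ⊗[R] A ≃ₐc[S] MonoidAlgebra S M)
    (σ : T ⊗[R] A ≃ₐc[T] MonoidAlgebra T N) (hne : ¬ Nonempty (M ≃* N)) : Subsingleton (S ⊗[R] T) := by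
  by_contra hns
  rw [not_subsingleton_iff_nontrivial] at hns
  obtain ⟨m, hm⟩ := Ideal.exists_maximal (S ⊗[R] T)
  let K := (S ⊗[R] T) ⧸ m
  letI : Field K := Ideal.Quotient.field m
  let qS : S →ₐ[R] K := (Ideal.Quotient.mkₐ R m).comp Algebra.TensorProduct.includeLeft
  let qT : T →ₐ[R] K := (Ideal.Quotient.mkₐ R m).comp Algebra.TensorProduct.includeRight
  obtain ⟨ρ', -⟩ := exists_split_map qS ρ
  obtain ⟨σ', -⟩ := exists_split_map qT σ
  exact hne (nonempty_mulEquiv_of_bialgEquiv (K := K) (ρ'.symm.trans σ'))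

/-- Splittings with one group over the factors give a splitting over a finite product. -/
theorem isDiag_pi {ι : Type u} [Finite ι] {T : ι → Type u} [∀ i, CommRing (T i)] [∀ i, Algebra R (T i)]
    {M : Type u} [CommGroup M] (ρ : ∀ i, T i ⊗[R] A ≃ₐc[T i] MonoidAlgebra (T i) M) :
    SGA3b.IsDiag (∀ i, T i) ((∀ i, T i) ⊗[R] A) := by
  classical
  haveI := Fintype.ofFinite ι
  let P := ∀ i, T i
  letI alg : ∀ i, Algebra P (T i) := fun i => (Pi.evalRingHom T i).toAlgebra
  haveI : ∀ i, IsScalarTower R P (T i) := fun i => IsScalarTower.of_algebraMap_eq fun _ => rfl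
  have hsurj : ∀ i, Function.Surjective (algebraMap P (T i)) := fun i t => ⟨Pi.single i t, Pi.single_eq_same i t⟩
  haveI : ∀ i, Module.Flat P (T i) := fun i => by
    let sec : T i →ₗ[P] P :=
      { toFun := fun t => Pi.single i t
        map_add' := fun a b => Pi.single_add i a b
        map_smul' := fun p t => by
          funext j
          change (Pi.single i (p i * t) : P) j = p j * (Pi.single i t : P) j
          by_cases hj : j = i
          · subst hj; simp
          · simp [hj] }
    exact Module.Flat.of_retract sec (Algebra.linearMap P (T i)) (LinearMap.ext fun t => Pi.single_eq_same i t)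
  have hT : IsCover P T := ⟨inferInstance, fun p => by
    obtain ⟨⟨i, q⟩, hq⟩ := (PrimeSpectrum.sigmaToPi_bijective T).2 p
    exact ⟨i, q, hq⟩⟩
  let y : M → ∀ i, T i ⊗[P] (P ⊗[R] A) := fun m i =>
    (cancelBC R P (T i) A).symm ((ρ i).symm (MonoidAlgebra.of (T i) M m))
  have hy : ∀ m i, IsGroupLikeElem (T i) (y m i) := fun m i =>
    ((MonoidAlgebra.isGroupLikeElem_of (R := T i) m).map (ρ i).symm).map (cancelBC R P (T i) A).symm
  have hc : ∀ m i j, ((TensorProduct.mk P (T j) (T i)).flip 1).rTensor (P ⊗[R] A) (y m j) =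
      ((TensorProduct.mk P (T j) (T i)) 1).rTensor (P ⊗[R] A) (y m i) := by
    intro m i j
    by_cases hij : i = j
    · subst hij
      congr 1
      congr 1
      refine LinearMap.ext fun t => ?_
      obtain ⟨p, rfl⟩ := hsurj i t
      rw [Algebra.algebraMap_eq_smul_one]
      change (p • (1 : T i)) ⊗ₜ[P] (1 : T i) = (1 : T i) ⊗ₜ[P] (p • (1 : T i))
      rw [TensorProduct.smul_tmul]
    · haveI : Subsingleton (T j ⊗[P] T i) := subsingleton_of_forall_eq 0 fun z => by
        induction z with
        | zero => rfl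
        | add a b ha hb => rw [ha, hb, add_zero]
        | tmul a b =>
          have h1 : a = (Pi.single j 1 : P) • a := by
            change a = (Pi.single j 1 : P) j * a
            simp
          have h2 : (Pi.single j 1 : P) • b = 0 := by
            change (Pi.single j 1 : P) i * b = 0
            simp [hij]
          rw [h1, TensorProduct.smul_tmul, h2, tmul_zero]
      haveI : Subsingleton ((T j ⊗[P] T i) ⊗[P] (P ⊗[R] A)) := subsingleton_of_forall_eq 0 fun z => by
        induction z with
        | zero => rfl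
        | add a b ha hb => rw [ha, hb, add_zero]
        | tmul a b => rw [Subsingleton.elim a 0, zero_tmul]
      exact Subsingleton.elim _ _
  choose γ hγ using fun m => hT.descend (y m) (hc m)
  have hgl : ∀ m, IsGroupLikeElem P (γ m) := fun m => hT.isGroupLike_of_forall fun i => (hγ m i).symm ▸ hy m i
  have huniq : ∀ a b : P ⊗[R] A, (∀ i, (1 : T i) ⊗ₜ[P] a = (1 : T i) ⊗ₜ[P] b) → a = b := fun a b h =>
    sub_eq_zero.1 (hT.eq_zero fun i => by rw [tmul_sub, h i, sub_self])
  let γ' : M →* P ⊗[R] A :=
    { toFun := γ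
      map_one' := huniq _ _ fun i => by
        rw [hγ]
        change (cancelBC R P (T i) A).symm ((ρ i).symm (MonoidAlgebra.of (T i) M 1)) = _
        rw [map_one, map_one, map_one]
        rfl
      map_mul' := fun a b => huniq _ _ fun i => by
        conv_rhs => rw [← one_mul (1 : T i), ← Algebra.TensorProduct.tmul_mul_tmul, hγ, hγ]
        rw [hγ]
        simp only [y, map_mul] }
  obtain ⟨θ, hθ⟩ := exists_bialgHom_of_grouplike γ' hgl
  have hb : ∀ i, Function.Bijective ((θ : MonoidAlgebra P M →ₗ[P] P ⊗[R] A).lTensor (T i)) := by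
    intro i
    let e := (monoidAlgebraBC P (T i) M).trans ((ρ i).symm.trans (cancelBC R P (T i) A).symm)
    have he : ((θ : MonoidAlgebra P M →ₗ[P] P ⊗[R] A).lTensor (T i) : _ → _) = e := by
      funext w
      induction w with
      | zero => simp
      | add a b ha hb => simp only [map_add, ha, hb]
      | tmul t c =>
        rw [LinearMap.lTensor_tmul, show t ⊗ₜ[P] c = t • ((1 : T i) ⊗ₜ[P] c) by rw [TensorProduct.smul_tmul', smul_eq_mul, mul_one],
          map_smul, show ∀ v : P ⊗[R] A, t ⊗ₜ[P] v = t • ((1 : T i) ⊗ₜ[P] v) from fun v => by rw [TensorProduct.smul_tmul', smul_eq_mul, mul_one]]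
        congr 1
        induction c using MonoidAlgebra.induction_linear with
        | zero => simp
        | add f g hf hg => simp only [map_add, tmul_add, hf, hg]
        | single m r =>
          have h1 : (monoidAlgebraBC P (T i) M) ((1 : T i) ⊗ₜ[P] MonoidAlgebra.single m r) =
              algebraMap P (T i) r • MonoidAlgebra.of (T i) M m := by
            refine MonoidAlgebra.ext (Finsupp.ext fun n => ?_)
            rw [monoidAlgebraBC_one_tmul]
            by_cases hn : m = n <;> simp [hn, Algebra.algebraMap_eq_smul_one]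
          change _ = (cancelBC R P (T i) A).symm ((ρ i).symm (monoidAlgebraBC P (T i) M _))
          rw [h1, map_smul, map_smul, show (θ : MonoidAlgebra P M →ₗ[P] P ⊗[R] A) (MonoidAlgebra.single m r) = θ (MonoidAlgebra.single m r) from rfl,
            hθ, tmul_smul, algebraMap_smul]
          exact congrArg (r • ·) (hγ m i)
    rw [he]
    exact EquivLike.bijective e
  exact ⟨M, inferInstance, ⟨(BialgEquiv.ofBijective θ
    ⟨hT.injective (θ : MonoidAlgebra P M →ₗ[P] P ⊗[R] A) fun i => (hb i).1,
      hT.surjective (θ : MonoidAlgebra P M →ₗ[P] P ⊗[R] A) fun i => (hb i).2⟩).symm⟩⟩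

/-- A group split by a finite cover is of multiplicative type. -/
theorem isMultType_of_cover {ι : Type u} [Finite ι] {T : ι → Type u} [∀ i, CommRing (T i)] [∀ i, Algebra R (T i)]
    (hT : IsCover R T) (hd : ∀ i, SGA3b.IsDiag (T i) (T i ⊗[R] A)) : SGA3b.IsMultType R A := by
  classical
  choose M hM ρ using hd
  let δ : ι → ∀ i, T i ⊗[R] R := fun j i => if Nonempty (M i ≃* M j) then (1 : T i) ⊗ₜ[R] (1 : R) else 0
  have hc : ∀ j a b, ((TensorProduct.mk R (T b) (T a)).flip 1).rTensor R (δ j b) =
      ((TensorProduct.mk R (T b) (T a)) 1).rTensor R (δ j a) := by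
    intro j a b
    by_cases hab : Nonempty (M b ≃* M a)
    · obtain ⟨e⟩ := hab
      have hiff : Nonempty (M b ≃* M j) ↔ Nonempty (M a ≃* M j) :=
        ⟨fun ⟨f⟩ => ⟨e.symm.trans f⟩, fun ⟨f⟩ => ⟨e.trans f⟩⟩
      by_cases hj : Nonempty (M a ≃* M j)
      · simp [δ, hiff, hj]
      · simp [δ, hiff, hj]
    · haveI := subsingleton_tensor_of_types (ρ b).some (ρ a).some hab
      apply (TensorProduct.rid R (T b ⊗[R] T a)).injective
      exact Subsingleton.elim _ _
  choose e he using fun j => hT.descend (δ j) (hc j)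
  have he' : ∀ j i, algebraMap R (T i) (e j) = if Nonempty (M i ≃* M j) then 1 else 0 := by
    intro j i
    have h1 := congrArg (TensorProduct.rid R (T i)) (he j i)
    rw [TensorProduct.rid_tmul, Algebra.smul_def, mul_one] at h1
    rw [h1]
    by_cases h : Nonempty (M i ≃* M j) <;> simp [δ, h]
  refine ⟨Set.range e, ?_, ?_⟩
  · by_contra hne
    obtain ⟨m, hm, hle⟩ := Ideal.exists_le_maximal _ hne
    obtain ⟨i, q, hq⟩ := hT.exists_lift ⟨m, hm.isPrime⟩
    have h1 : e i ∈ (q.comap (algebraMap R (T i))).asIdeal := by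
      rw [hq]; exact hle (Ideal.subset_span ⟨i, rfl⟩)
    rw [PrimeSpectrum.comap_asIdeal, Ideal.mem_comap, he', if_pos ⟨MulEquiv.refl _⟩] at h1
    exact q.isPrime.ne_top ((Ideal.eq_top_iff_one _).2 h1)
  rintro _ ⟨j, rfl⟩
  let κ := {i : ι // Nonempty (M i ≃* M j)}
  let Rj := Localization.Away (e j)
  have hu : ∀ i : κ, IsUnit (algebraMap R (T i.1) (e j)) := fun i => by rw [he', if_pos i.2]; exact isUnit_one
  letI algi : ∀ i : κ, Algebra Rj (T i.1) := fun i => (IsLocalization.Away.lift (e j) (hu i)).toAlgebra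
  haveI : ∀ i : κ, IsScalarTower R Rj (T i.1) := fun i =>
    IsScalarTower.of_algebraMap_eq fun r => (IsLocalization.Away.lift_eq _ (hu i) r).symm
  let P := ∀ i : κ, T i.1
  haveI : Module.Flat Rj P := by
    haveI : ∀ i : κ, Module.Flat Rj (T i.1) := fun i => by
      haveI := hT.flat i.1
      exact (Module.flat_iff_of_isLocalization Rj (Submonoid.powers (e j)) (T i.1)).2 inferInstance
    classical
    haveI := Fintype.ofFinite κ
    exact Module.Flat.of_linearEquiv (DirectSum.linearEquivFunOnFintype Rj κ (fun i : κ => T i.1)).symm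
  haveI : Module.FaithfullyFlat Rj P := Module.FaithfullyFlat.of_comap_surjective fun p => by
    obtain ⟨i, q, hq⟩ := hT.exists_lift (p.comap (algebraMap R Rj))
    have hi : Nonempty (M i ≃* M j) := by
      by_contra hi
      have h1 : e j ∈ (q.comap (algebraMap R (T i))).asIdeal := by
        rw [PrimeSpectrum.comap_asIdeal, Ideal.mem_comap, he', if_neg hi]
        exact q.asIdeal.zero_mem
      rw [hq, PrimeSpectrum.comap_asIdeal, Ideal.mem_comap] at h1
      exact p.isPrime.ne_top (Ideal.eq_top_of_isUnit_mem _ h1 (IsLocalization.Away.algebraMap_isUnit _))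
    refine ⟨q.comap (Pi.evalRingHom (fun i : κ => T i.1) ⟨i, hi⟩), ?_⟩
    apply PrimeSpectrum.localization_comap_injective Rj (Submonoid.powers (e j))
    rw [← hq, ← PrimeSpectrum.comap_comp_apply, ← PrimeSpectrum.comap_comp_apply]
    congr 1
    refine RingHom.ext fun r => ?_
    exact IsLocalization.Away.lift_eq (S := Rj) (e j) (hu ⟨i, hi⟩) r
  haveI : ∀ i : κ, IsScalarTower R Rj (T i.1) := inferInstance
  haveI : IsScalarTower R Rj P := IsScalarTower.of_algebraMap_eq fun r => funext fun i =>
    IsScalarTower.algebraMap_apply R Rj (T i.1) r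
  have hdP : SGA3b.IsDiag P (P ⊗[R] A) := isDiag_pi fun i : κ =>
    (ρ i.1).some.trans (MonoidAlgebra.domCongrBialgEquiv (T i.1) (T i.1) i.2.some)
  exact ⟨P, inferInstance, inferInstance, inferInstance, isDiag_of_equiv (cancelBC R Rj P A).symm hdP⟩

end Groth.Agent.SGA3b53
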