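import Groth.Agent.SGA3b53.TorsionKer
import Mathlib

/-!
A group of multiplicative type is finite iff it is killed by an integer.
-/

set_option autoImplicit false
set_option linter.unusedSectionVars false
set_option linter.style.haveILetI false
universe u v w
open TensorProduct

noncomputable section

namespace Groth.Agent.SGA3b53

variable {R : Type u} [CommRing R] {A : Type u} [CommRing A] [HopfAlgebra R A]

theorem torsionIdeal_eq_bot_iff (n : ℕ) : SGA3b.torsionIdeal R A n = ⊥ ↔
    ∀ a : A, SGA3b.powConv R A n a = algebraMap R A (Coalgebra.counit (R := R) a) := by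
  constructor
  · intro h a
    have h2 : a - algebraMap R A (Coalgebra.counit (R := R) a) ∈ RingHom.ker (Bialgebra.counitAlgHom R A) := by
      rw [RingHom.mem_ker, map_sub, AlgHom.commutes, sub_eq_zero]
      rfl
    have h3 : SGA3b.powConv R A n (a - algebraMap R A (Coalgebra.counit (R := R) a)) ∈ SGA3b.torsionIdeal R A n :=
      Ideal.mem_map_of_mem _ h2
    rwa [h, Ideal.mem_bot, map_sub, AlgHom.commutes, sub_eq_zero] at h3
  · intro h
    refine le_bot_iff.1 (Ideal.map_le_iff_le_comap.2 fun a ha => ?_)
    rw [Ideal.mem_comap, Ideal.mem_bot, h, show Coalgebra.counit (R := R) a = 0 from ha, map_zero]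

theorem monoidFG_of_finiteType {T : Type u} [CommRing T] [Nontrivial T] [Algebra R T] [Algebra.FiniteType R A]
    {M : Type u} [CommGroup M] (ρ : T ⊗[R] A ≃ₐc[T] MonoidAlgebra T M) : Monoid.FG M := by
  haveI : Algebra.FiniteType T (MonoidAlgebra T M) :=
    Algebra.FiniteType.equiv (inferInstance : Algebra.FiniteType T (T ⊗[R] A)) (ρ : T ⊗[R] A ≃ₐ[T] _)
  exact (MonoidAlgebra.finiteType_iff_fg (R := T)).1 inferInstance

theorem finite_iff_killed (hft : Algebra.FiniteType R A) (h : SGA3b.IsMultType R A) :
    Module.Finite R A ↔ ∃ n : ℕ, 0 < n ∧ SGA3b.torsionIdeal R A n = ⊥ := by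
  obtain ⟨ι, _, T, _, _, hT, hd⟩ := exists_finite_cover h
  choose M hM ρ using hd
  constructor
  · intro hfin
    have hMfin : ∀ i, Nontrivial (T i) → Finite (M i) := fun i _ => by
      haveI : Module.Finite (T i) (MonoidAlgebra (T i) (M i)) := Module.Finite.equiv (ρ i).some.toLinearEquiv
      exact Module.Finite.finite_basis (MonoidAlgebra.basis (M i) (T i))
    classical
    haveI := Fintype.ofFinite ι
    let n := ∏ i, if Nontrivial (T i) then Nat.card (M i) else 1
    have hn : 0 < n := Finset.prod_pos fun i _ => by
      split_ifs with hi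
      · haveI := hMfin i hi
        exact Nat.card_pos
      · exact one_pos
    refine ⟨n, hn, (torsionIdeal_eq_bot_iff n).2 fun a => sub_eq_zero.1 (hT.eq_zero fun i => ?_)⟩
    rcases subsingleton_or_nontrivial (T i) with hs | hs
    · haveI := Module.subsingleton (T i) (T i ⊗[R] A)
      exact Subsingleton.elim _ _
    rw [tmul_sub, sub_eq_zero, ← Versch53.powConv_baseChange_one_tmul]
    apply EquivLike.injective (ρ i).some
    let f : T i ⊗[R] A →ₐc[T i] MonoidAlgebra (T i) (M i) := (ρ i).some
    change f _ = f _
    rw [powConv_naturality, powConv_monoidAlgebra_trivial n (fun x => ?_), CoalgHomClass.counit_comp_apply,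
      TensorProduct.counit_tmul, CommSemiring.counit_apply, Algebra.algebraMap_eq_smul_one (R := R) (A := A),
      TensorProduct.tmul_smul, ← Algebra.TensorProduct.one_def]
    · rw [Algebra.smul_def (Coalgebra.counit (R := R) a) (1 : T i), mul_one,
        ← algebraMap_smul (T i) (Coalgebra.counit (R := R) a) (1 : T i ⊗[R] A), map_smul, map_one,
        Algebra.algebraMap_eq_smul_one]
    · haveI := hMfin i hs
      obtain ⟨c, hc⟩ : Nat.card (M i) ∣ n := by
        have := Finset.dvd_prod_of_mem (fun i => if Nontrivial (T i) then Nat.card (M i) else 1) (Finset.mem_univ i)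
        simpa [hs] using this
      rw [hc, pow_mul, pow_card_eq_one', one_pow]
  · rintro ⟨n, hn, hbot⟩
    have htriv := (torsionIdeal_eq_bot_iff n).1 hbot
    refine finite_of_cover hT A fun i => ?_
    rcases subsingleton_or_nontrivial (T i) with hs | hs
    · haveI := Module.subsingleton (T i) (T i ⊗[R] A)
      infer_instance
    have hpow : ∀ m : M i, m ^ n = 1 := fun m => by
      have h1 := grouplike_pow_eq_one n (powConv_trivial_baseChange (T i) n htriv)
        ((MonoidAlgebra.isGroupLikeElem_of (R := T i) m).map (ρ i).some.symm)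
      rw [← map_pow, ← map_pow] at h1
      exact MonoidAlgebra.of_injective (EquivLike.injective (ρ i).some.symm (h1.trans (by simp [← MonoidAlgebra.one_def])))
    haveI := monoidFG_of_finiteType (ρ i).some
    haveI : Group.FG (M i) := Group.fg_iff_monoid_fg.2 inferInstance
    haveI : Finite (M i) := CommGroup.finite_of_fg_isMulTorsion _ fun x => isOfFinOrder_iff_pow_eq_one.2 ⟨n, hn, hpow x⟩
    haveI : Module.Finite (T i) (MonoidAlgebra (T i) (M i)) := Module.Finite.of_basis (MonoidAlgebra.basis _ (T i))
    exact Module.Finite.equiv (ρ i).some.symm.toLinearEquiv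

end Groth.Agent.SGA3b53
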