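import Groth.Agent.SGA3b53.FieldQuot
import Groth.Agent.SGA3b53.FiniteIff
import Mathlib

/-!
Groups of multiplicative type over a field are split by a finite separable extension.
-/

set_option autoImplicit false
set_option linter.unusedSectionVars false
set_option linter.style.haveILetI false
universe u v w
open TensorProduct

noncomputable section

namespace Groth.Agent.SGA3b53

variable {K : Type u} [Field K] {A : Type u} [CommRing A] [HopfAlgebra K A]

/-- A splitting over a purely inseparable extension descends. -/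
theorem isDiag_of_purelyInseparable {L : Type u} [Field L] [Algebra K L] [IsPurelyInseparable K L]
    (h : SGA3b.IsDiag L (L ⊗[K] A)) : SGA3b.IsDiag K A := by
  have hd := h
  obtain ⟨M, _, ⟨ρ⟩⟩ := h
  have hT : IsCover K (fun _ : PUnit.{u+1} => L) :=
    ⟨fun _ => inferInstance, fun p => ⟨PUnit.unit, ⟨⊥, Ideal.isPrime_bot⟩, Subsingleton.elim _ _⟩⟩
  let y : M → L ⊗[K] A := fun m => ρ.symm (MonoidAlgebra.of L M m)
  have hy : ∀ m, IsGroupLikeElem L (y m) := fun m => (MonoidAlgebra.isGroupLikeElem_of (R := L) m).map ρ.symm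
  have hnil : RingHom.ker ((Algebra.TensorProduct.lmul' K : L ⊗[K] L →ₐ[K] L) : L ⊗[K] L →+* L) ≤
      (⊥ : Ideal (L ⊗[K] L)).jacobson := by
    intro z hz
    refine Ideal.radical_le_jacobson ?_
    obtain ⟨n, hn, c, hc⟩ := IsPurelyInseparable.exists_pow_mem_range_tensorProduct (k := K) (K := L) (R := L) z
    refine ⟨n, ?_⟩
    rw [Ideal.mem_bot, ← hc]
    have h1 : Algebra.TensorProduct.lmul' K (z ^ n) = 0 := by
      rw [map_pow]
      change ((Algebra.TensorProduct.lmul' K : L ⊗[K] L →ₐ[K] L) : L ⊗[K] L →+* L) z ^ n = 0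
      rw [RingHom.mem_ker.1 hz, zero_pow hn.ne']
    rw [← hc, Algebra.TensorProduct.algebraMap_apply, Algebra.algebraMap_self, RingHom.id_apply,
      Algebra.TensorProduct.lmul'_apply_tmul, mul_one] at h1
    rw [h1, map_zero]
  have hc : ∀ m, ((TensorProduct.mk K L L).flip 1).rTensor A (y m) = ((TensorProduct.mk K L L) 1).rTensor A (y m) := by
    intro m
    have e1 : ∀ z : L ⊗[K] A, ((TensorProduct.mk K L L).flip 1).rTensor A z =
        Algebra.TensorProduct.map (Algebra.TensorProduct.includeLeft : L →ₐ[K] L ⊗[K] L) (AlgHom.id K A) z := by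
      intro z
      induction z with
      | zero => simp
      | add a b ha hb => simp only [map_add, ha, hb]
      | tmul t a => simp
    have e2 : ∀ z : L ⊗[K] A, ((TensorProduct.mk K L L) 1).rTensor A z =
        Algebra.TensorProduct.map (Algebra.TensorProduct.includeRight : L →ₐ[K] L ⊗[K] L) (AlgHom.id K A) z := by
      intro z
      induction z with
      | zero => simp
      | add a b ha hb => simp only [map_add, ha, hb]
      | tmul t a => simp
    rw [e1, e2]
    letI : Algebra L (L ⊗[K] L) := Algebra.TensorProduct.leftAlgebra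
    refine grouplike_eq_of_map_eq (isDiag_tower L (L ⊗[K] L) hd) (Algebra.TensorProduct.lmul' K) hnil
      (isGroupLike_map _ (hy m)) (isGroupLike_map _ (hy m)) ?_
    generalize y m = z
    induction z with
    | zero => simp
    | add a b ha hb => simp only [map_add, ha, hb]
    | tmul t a => simp
  choose γ hγ using fun m => hT.descend (fun _ => y m) (fun _ _ => hc m)
  have hgl : ∀ m, IsGroupLikeElem K (γ m) := fun m => hT.isGroupLike_of_forall fun i => (hγ m i).symm ▸ hy m
  have hinj : ∀ a b : A, (1 : L) ⊗ₜ[K] a = (1 : L) ⊗ₜ[K] b → a = b := fun a b hab =>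
    sub_eq_zero.1 (hT.eq_zero fun _ => by rw [tmul_sub, hab, sub_self])
  let γ' : M →* A :=
    { toFun := γ
      map_one' := hinj _ _ (by
        rw [hγ 1 PUnit.unit]
        simp only [y, map_one]
        rfl)
      map_mul' := fun a b => hinj _ _ (by
        conv_rhs => rw [← one_mul (1 : L), ← Algebra.TensorProduct.tmul_mul_tmul, hγ a PUnit.unit, hγ b PUnit.unit]
        rw [hγ (a * b) PUnit.unit]
        simp only [y, map_mul]) }
  obtain ⟨θ, hθ⟩ := exists_bialgHom_of_grouplike γ' hgl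
  let e := (monoidAlgebraBC K L M).trans ρ.symm
  have he : ((θ : MonoidAlgebra K M →ₗ[K] A).lTensor L : _ → _) = e := by
    funext w
    induction w with
    | zero => simp
    | add a b ha hb => simp only [map_add, ha, hb]
    | tmul t c =>
      rw [LinearMap.lTensor_tmul, show t ⊗ₜ[K] c = t • ((1 : L) ⊗ₜ[K] c) by rw [TensorProduct.smul_tmul', smul_eq_mul, mul_one],
        map_smul, show ∀ v : A, t ⊗ₜ[K] v = t • ((1 : L) ⊗ₜ[K] v) from fun v => by rw [TensorProduct.smul_tmul', smul_eq_mul, mul_one]]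
      congr 1
      induction c using MonoidAlgebra.induction_linear with
      | zero => simp
      | add f g hf hg => simp only [map_add, tmul_add, hf, hg]
      | single m r =>
        have h1 : (monoidAlgebraBC K L M) ((1 : L) ⊗ₜ[K] MonoidAlgebra.single m r) = algebraMap K L r • MonoidAlgebra.of L M m := by
          refine MonoidAlgebra.ext (Finsupp.ext fun n => ?_)
          rw [monoidAlgebraBC_one_tmul]
          by_cases hn : m = n <;> simp [hn, Algebra.algebraMap_eq_smul_one]
        change (1 : L) ⊗ₜ[K] θ (MonoidAlgebra.single m r) = ρ.symm (monoidAlgebraBC K L M _)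
        rw [h1, map_smul, hθ, tmul_smul, algebraMap_smul]
        exact congrArg (r • ·) (hγ m PUnit.unit)
  have hb : Function.Bijective ((θ : MonoidAlgebra K M →ₗ[K] A).lTensor L) := by
    rw [he]; exact EquivLike.bijective e
  exact ⟨M, inferInstance, ⟨(BialgEquiv.ofBijective θ
    ⟨hT.injective (θ : MonoidAlgebra K M →ₗ[K] A) fun _ => hb.1,
      hT.surjective (θ : MonoidAlgebra K M →ₗ[K] A) fun _ => hb.2⟩).symm⟩⟩

theorem coef₂_ext {B : Type u} [CommRing B] {M : Type u} [CommGroup M] {x y : MonoidAlgebra B M ⊗[B] MonoidAlgebra B M}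
    (h : ∀ m n, coef₂ m n x = coef₂ m n y) : x = y := by
  apply (Module.Basis.repr ((MonoidAlgebra.basis M B).tensorProduct (MonoidAlgebra.basis M B))).injective
  ext ⟨m, n⟩
  have key : ∀ w : MonoidAlgebra B M ⊗[B] MonoidAlgebra B M,
      ((MonoidAlgebra.basis M B).tensorProduct (MonoidAlgebra.basis M B)).repr w (m, n) = coef₂ m n w := by
    intro w
    induction w with
    | zero => simp
    | add a b ha hb => simp only [map_add, Finsupp.add_apply, ha, hb]
    | tmul a b => simp [mul_comm]; rfl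
  rw [key, key, h]

/-- Whether an algebra map into a group algebra respects comultiplication can be seen after an injection. -/
theorem exists_bialgHom_of_coeff {B Ω : Type u} [CommRing B] [Algebra K B] [CommRing Ω] [Algebra K Ω]
    {M : Type u} [CommGroup M] (j : B →ₐ[K] Ω) (hj : Function.Injective j)
    (ρ : Ω ⊗[K] A →ₐc[Ω] MonoidAlgebra Ω M) (σ : B ⊗[K] A →ₐ[B] MonoidAlgebra B M)
    (hσ : ∀ a m, j ((σ ((1 : B) ⊗ₜ[K] a)).coeff m) = (ρ ((1 : Ω) ⊗ₜ[K] a)).coeff m) :
    ∃ σ' : B ⊗[K] A →ₐc[B] MonoidAlgebra B M, ∀ z, σ' z = σ z := by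
  classical
  have hc : ∀ y : MonoidAlgebra B M, j (Coalgebra.counit (R := B) y) =
      Coalgebra.counit (R := Ω) (MonoidAlgebra.mapRingHom M (j : B →+* Ω) y) := by
    intro y
    induction y using MonoidAlgebra.induction_linear with
    | zero => simp
    | add f g hf hg => simp only [map_add, hf, hg]
    | single m r => simp
  have hmap : ∀ a : A, MonoidAlgebra.mapRingHom M (j : B →+* Ω) (σ ((1 : B) ⊗ₜ[K] a)) = ρ ((1 : Ω) ⊗ₜ[K] a) :=
    fun a => MonoidAlgebra.ext (Finsupp.ext fun m => by simpa using hσ a m)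
  refine ⟨BialgHom.ofAlgHom σ ?_ ?_, fun z => rfl⟩
  · refine Algebra.TensorProduct.ext (Subsingleton.elim _ _) (AlgHom.ext fun a => hj ?_)
    change j (Coalgebra.counit (R := B) (σ ((1 : B) ⊗ₜ[K] a))) = j (Coalgebra.counit (R := B) ((1 : B) ⊗ₜ[K] a))
    rw [hc, hmap, CoalgHomClass.counit_comp_apply, TensorProduct.counit_tmul, TensorProduct.counit_tmul,
      CommSemiring.counit_apply, CommSemiring.counit_apply, Algebra.smul_def, Algebra.smul_def, map_mul,
      AlgHom.commutes, map_one]
  · refine Algebra.TensorProduct.ext (Subsingleton.elim _ _) (AlgHom.ext fun a => coef₂_ext fun m n => hj ?_)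
    change j (coef₂ m n (TensorProduct.map σ.toLinearMap σ.toLinearMap (Coalgebra.comul (R := B) ((1 : B) ⊗ₜ[K] a)))) =
      j (coef₂ m n (Coalgebra.comul (R := B) (σ ((1 : B) ⊗ₜ[K] a))))
    have h1 := congrArg (coef₂ (T := Ω) m n) (CoalgHomClass.map_comp_comul_apply ρ ((1 : Ω) ⊗ₜ[K] a))
    rw [coef₂_comul] at h1 ⊢
    rw [apply_ite j, hσ, map_zero, ← h1, TensorProduct.comul_tmul, TensorProduct.comul_tmul,
      CommSemiring.comul_apply, CommSemiring.comul_apply]
    generalize Coalgebra.comul (R := K) a = z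
    induction z with
    | zero => simp
    | add p q hp hq => simp only [tmul_add, map_add, hp, hq]
    | tmul p q =>
      simp only [AlgebraTensorModule.tensorTensorTensorComm_tmul, TensorProduct.map_tmul, coef₂_tmul, map_mul]
      exact congrArg₂ (· * ·) (hσ p m) (hσ q n)

/-- A splitting over a field extension spreads out to a finitely generated subalgebra. -/
theorem exists_fg_split {Ω : Type u} [Field Ω] [Algebra K Ω] [Algebra.FiniteType K A] {M : Type u} [CommGroup M]
    [Monoid.FG M] (ρ : Ω ⊗[K] A ≃ₐc[Ω] MonoidAlgebra Ω M) :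
    ∃ B : Subalgebra K Ω, B.FG ∧ SGA3b.IsDiag B (B ⊗[K] A) := by
  classical
  obtain ⟨S, hS⟩ := Algebra.FiniteType.out (R := K) (A := A)
  obtain ⟨G, hG⟩ := Monoid.FG.fg_top (M := M)
  have hlift : ∀ z : Ω ⊗[K] A, ∃ F : Finset Ω, ∀ B : Subalgebra K Ω, (F : Set Ω) ⊆ B →
      z ∈ Set.range (Algebra.TensorProduct.map B.val (AlgHom.id K A)) := by
    intro z
    induction z with
    | zero => exact ⟨∅, fun B _ => ⟨0, map_zero _⟩⟩
    | tmul t a => exact ⟨{t}, fun B hB => ⟨⟨t, hB (Finset.mem_singleton_self t)⟩ ⊗ₜ[K] a, by simp⟩⟩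
    | add x y hx hy =>
      obtain ⟨F, hF⟩ := hx
      obtain ⟨F', hF'⟩ := hy
      refine ⟨F ∪ F', fun B hB => ?_⟩
      obtain ⟨u, hu⟩ := hF B fun w hw => hB (Finset.mem_union_left _ hw)
      obtain ⟨v, hv⟩ := hF' B fun w hw => hB (Finset.mem_union_right _ hw)
      exact ⟨u + v, by rw [map_add, hu, hv]⟩
  choose F hF using hlift
  let Fg : Finset Ω := (G.biUnion fun g => F (ρ.symm (MonoidAlgebra.single g 1))) ∪
    S.biUnion fun a => (ρ ((1 : Ω) ⊗ₜ[K] a)).coeff.support.image fun m => (ρ ((1 : Ω) ⊗ₜ[K] a)).coeff m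
  let B := Algebra.adjoin K (Fg : Set Ω)
  refine ⟨B, ⟨Fg, rfl⟩, ?_⟩
  let incl : B ⊗[K] A →ₐ[K] Ω ⊗[K] A := Algebra.TensorProduct.map B.val (AlgHom.id K A)
  have hincl : Function.Injective incl :=
    Module.Flat.rTensor_preserves_injective_linearMap B.val.toLinearMap Subtype.val_injective
  let ι₀ : MonoidAlgebra B M →+* MonoidAlgebra Ω M := MonoidAlgebra.mapRingHom M (B.val : B →+* Ω)
  have hι : ∀ (y : MonoidAlgebra B M) (m : M), (ι₀ y).coeff m = (y.coeff m : Ω) := fun y m => by simp [ι₀]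
  have hιinj : Function.Injective ι₀ := fun y y' hyy' => MonoidAlgebra.ext (Finsupp.ext fun m => Subtype.ext (by
    rw [← hι, ← hι, hyy']))
  have hcoef : ∀ (a : A) (m : M), (ρ ((1 : Ω) ⊗ₜ[K] a)).coeff m ∈ B := by
    intro a
    have ha : a ∈ Algebra.adjoin K (S : Set A) := hS ▸ Algebra.mem_top
    induction ha using Algebra.adjoin_induction with
    | mem x hx =>
      intro m
      by_cases hm : (ρ ((1 : Ω) ⊗ₜ[K] x)).coeff m = 0
      · rw [hm]; exact zero_mem _
      · exact Algebra.subset_adjoin (Finset.mem_coe.2 (Finset.mem_union_right _ (Finset.mem_biUnion.2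
          ⟨x, hx, Finset.mem_image.2 ⟨m, Finsupp.mem_support_iff.2 hm, rfl⟩⟩)))
    | algebraMap r =>
      intro m
      rw [show (1 : Ω) ⊗ₜ[K] algebraMap K A r = algebraMap Ω _ (algebraMap K Ω r) by
        rw [Algebra.TensorProduct.algebraMap_apply, Algebra.algebraMap_self, RingHom.id_apply,
          Algebra.algebraMap_eq_smul_one, Algebra.algebraMap_eq_smul_one, TensorProduct.smul_tmul],
        show ρ (algebraMap Ω _ (algebraMap K Ω r)) = algebraMap Ω _ (algebraMap K Ω r) from AlgHomClass.commutes ρ _,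
        MonoidAlgebra.coe_algebraMap, Function.comp_apply, MonoidAlgebra.coeff_single, Finsupp.single_apply]
      split_ifs
      · rw [Algebra.algebraMap_self, RingHom.id_apply]; exact B.algebraMap_mem r
      · exact zero_mem _
    | add x y _ _ hx hy =>
      intro m
      rw [tmul_add, map_add, MonoidAlgebra.coeff_add, Finsupp.add_apply]
      exact add_mem (hx m) (hy m)
    | mul x y _ _ hx hy =>
      intro m
      rw [show (1 : Ω) ⊗ₜ[K] (x * y) = ((1 : Ω) ⊗ₜ[K] x) * ((1 : Ω) ⊗ₜ[K] y) by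
        rw [Algebra.TensorProduct.tmul_mul_tmul, one_mul], map_mul, MonoidAlgebra.coeff_mul]
      simp only [Finsupp.sum, Finsupp.finsetSum_apply, Finsupp.single_apply]
      exact Subalgebra.sum_mem _ fun i _ => Subalgebra.sum_mem _ fun j _ => by
        split_ifs
        · exact mul_mem (hx i) (hy j)
        · exact zero_mem _
  let cB : A → MonoidAlgebra B M := fun a => .ofCoeff
    ⟨(ρ ((1 : Ω) ⊗ₜ[K] a)).coeff.support, fun m => ⟨_, hcoef a m⟩, fun m => by
      rw [Finsupp.mem_support_iff, not_iff_not]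
      exact ⟨fun h => Subtype.ext h, fun h => congrArg Subtype.val h⟩⟩
  have hcB : ∀ a, ι₀ (cB a) = ρ ((1 : Ω) ⊗ₜ[K] a) := fun a => MonoidAlgebra.ext (Finsupp.ext fun m => hι _ m)
  let cA : A →ₐ[K] MonoidAlgebra B M :=
    { toFun := cB
      map_one' := hιinj (by rw [hcB, ← Algebra.TensorProduct.one_def, map_one, map_one])
      map_mul' := fun x y => hιinj (by
        rw [hcB, map_mul, hcB, hcB, ← map_mul, Algebra.TensorProduct.tmul_mul_tmul, one_mul])
      map_zero' := hιinj (by rw [hcB, tmul_zero, map_zero, map_zero])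
      map_add' := fun x y => hιinj (by rw [hcB, map_add, hcB, hcB, ← map_add, tmul_add])
      commutes' := fun r => hιinj (by
        rw [hcB, show (1 : Ω) ⊗ₜ[K] algebraMap K A r = algebraMap Ω _ (algebraMap K Ω r) by
          rw [Algebra.TensorProduct.algebraMap_apply, Algebra.algebraMap_self, RingHom.id_apply,
            Algebra.algebraMap_eq_smul_one, Algebra.algebraMap_eq_smul_one, TensorProduct.smul_tmul],
          show ρ (algebraMap Ω _ (algebraMap K Ω r)) = algebraMap Ω _ (algebraMap K Ω r) from AlgHomClass.commutes ρ _]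
        simp [ι₀]) }
  let σ : B ⊗[K] A →ₐ[B] MonoidAlgebra B M :=
    Algebra.TensorProduct.lift (Algebra.ofId B _) cA fun _ _ => Commute.all _ _
  have hσ : ∀ z, ι₀ (σ z) = ρ (incl z) := by
    intro z
    induction z with
    | zero => simp
    | add a b ha hb => simp only [map_add, ha, hb]
    | tmul t a =>
      have h1 : σ (t ⊗ₜ[K] a) = algebraMap B _ t * cB a := by simp [σ, cA, Algebra.ofId_apply]
      rw [h1, map_mul, hcB]
      have h2 : incl (t ⊗ₜ[K] a) = algebraMap Ω _ (t : Ω) * ((1 : Ω) ⊗ₜ[K] a) := by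
        simp [incl, Algebra.TensorProduct.tmul_mul_tmul]
      rw [h2, map_mul, show ρ (algebraMap Ω _ (t : Ω)) = algebraMap Ω _ (t : Ω) from AlgHomClass.commutes ρ _]
      congr 1
      simp [ι₀]
  have hgl : ∀ m ∈ (G : Set M), ∃ z, σ z = MonoidAlgebra.single m 1 := by
    intro m hm
    obtain ⟨z, hz⟩ := hF (ρ.symm (MonoidAlgebra.single m 1)) B fun w hw => Algebra.subset_adjoin
      (Finset.mem_coe.2 (Finset.mem_union_left _ (Finset.mem_biUnion.2 ⟨m, hm, hw⟩)))
    refine ⟨z, hιinj ?_⟩
    rw [hσ, show incl z = ρ.symm (MonoidAlgebra.single m 1) from hz,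
      show ρ (ρ.symm (MonoidAlgebra.single m 1)) = MonoidAlgebra.single m 1 from ρ.apply_symm_apply _]
    simp [ι₀]
  have hsurj : Function.Surjective σ := by
    intro y
    induction y using MonoidAlgebra.induction_linear with
    | zero => exact ⟨0, map_zero _⟩
    | add f g hf hg =>
      obtain ⟨a, ha⟩ := hf
      obtain ⟨b, hb⟩ := hg
      exact ⟨a + b, by rw [map_add, ha, hb]⟩
    | single m r =>
      obtain ⟨z, hz⟩ : ∃ z, σ z = MonoidAlgebra.single m 1 := by
        have hm : m ∈ Submonoid.closure (G : Set M) := hG ▸ Submonoid.mem_top m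
        induction hm using Submonoid.closure_induction with
        | mem x hx => exact hgl x hx
        | one => exact ⟨1, by rw [map_one, MonoidAlgebra.one_def]⟩
        | mul x y _ _ hx hy =>
          obtain ⟨a, ha⟩ := hx
          obtain ⟨b, hb⟩ := hy
          exact ⟨a * b, by rw [map_mul, ha, hb, MonoidAlgebra.single_mul_single, mul_one]⟩
      exact ⟨r • z, by rw [map_smul, hz, MonoidAlgebra.smul_single, smul_eq_mul, mul_one]⟩
  obtain ⟨σ', hσ'⟩ := exists_bialgHom_of_coeff B.val Subtype.val_injective (ρ : Ω ⊗[K] A →ₐc[Ω] MonoidAlgebra Ω M) σ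
    (fun a m => by
      change ((σ ((1 : B) ⊗ₜ[K] a)).coeff m : Ω) = (ρ ((1 : Ω) ⊗ₜ[K] a)).coeff m
      rw [← hι, hσ]
      simp [incl])
  refine ⟨M, inferInstance, ⟨BialgEquiv.ofBijective σ' ⟨fun a b hab => hincl (EquivLike.injective ρ ?_), fun y => ?_⟩⟩⟩
  · rw [← hσ, ← hσ, ← hσ' a, ← hσ' b, hab]
  · obtain ⟨z, hz⟩ := hsurj y
    exact ⟨z, (hσ' z).trans hz⟩

theorem isotrivial_of_field (hft : Algebra.FiniteType K A) (h : SGA3b.IsMultType K A) :
    ∃ (k' : Type u) (_ : Field k') (_ : Algebra K k'), Module.Finite K k' ∧ Algebra.IsSeparable K k' ∧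
      SGA3b.IsDiagFT k' (k' ⊗[K] A) := by
  obtain ⟨ι, T, _, _, hT, hd⟩ := exists_cover h
  obtain ⟨i, q, -⟩ := hT.exists_lift ⟨⊥, Ideal.isPrime_bot⟩
  let Ω := q.asIdeal.ResidueField
  obtain ⟨M, _, ⟨ρ⟩⟩ := isDiag_tower (T i) Ω (hd i)
  haveI : Monoid.FG M := monoidFG_of_finiteType ρ
  obtain ⟨B, hB, hBd⟩ := exists_fg_split ρ
  haveI : Algebra.FiniteType K B := B.fg_iff_finiteType.1 hB
  obtain ⟨m, hm⟩ := Ideal.exists_maximal B
  letI : Field (B ⧸ m) := Ideal.Quotient.field m
  haveI : Algebra.FiniteType K (B ⧸ m) := Algebra.FiniteType.trans (inferInstance : Algebra.FiniteType K B) inferInstance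
  haveI : Module.Finite K (B ⧸ m) := finite_of_finite_type_of_isJacobsonRing K (B ⧸ m)
  have hk : SGA3b.IsDiag (B ⧸ m) ((B ⧸ m) ⊗[K] A) := isDiag_tower B (B ⧸ m) hBd
  let Ks := separableClosure K (B ⧸ m)
  haveI : IsPurelyInseparable Ks (B ⧸ m) := separableClosure.isPurelyInseparable K (B ⧸ m)
  have hKs : SGA3b.IsDiag Ks (Ks ⊗[K] A) :=
    isDiag_of_purelyInseparable (isDiag_of_equiv (cancelBC K Ks (B ⧸ m) A).symm hk)
  obtain ⟨N, _, ⟨σ⟩⟩ := hKs
  haveI : Monoid.FG N := monoidFG_of_finiteType σ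
  exact ⟨Ks, inferInstance, inferInstance, inferInstance, inferInstance,
    ⟨N, inferInstance, Group.fg_iff_monoid_fg.2 inferInstance, ⟨σ⟩⟩⟩

end Groth.Agent.SGA3b53
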