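import Groth.Agent.SGA3b53.Cover
import Mathlib

/-!
Base change of groups of multiplicative type.
-/

set_option autoImplicit false
set_option linter.unusedSectionVars false
universe u v
open TensorProduct

noncomputable section

namespace Groth.Agent.SGA3b53

variable {R : Type u} [CommRing R] {A : Type u} [CommRing A] [HopfAlgebra R A]

theorem isMultTypeConst_away (f : R) (S : Type u) [CommRing S] [Algebra R S] (f' : S) (hf' : algebraMap R S f = f')
    (h : SGA3b.IsMultTypeConst (Localization.Away f) (Localization.Away f ⊗[R] A)) :
    SGA3b.IsMultTypeConst (Localization.Away f') (Localization.Away f' ⊗[S] (S ⊗[R] A)) := by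
  subst hf'
  obtain ⟨T, _, _, hff, hd⟩ := h
  let Sf := Localization.Away (algebraMap R S f)
  have hu : IsUnit (algebraMap R Sf f) := by
    rw [IsScalarTower.algebraMap_apply R S Sf]
    exact IsLocalization.Away.algebraMap_isUnit _
  let φ : Localization.Away f →+* Sf := IsLocalization.Away.lift f hu
  letI : Algebra (Localization.Away f) Sf := φ.toAlgebra
  haveI : IsScalarTower R (Localization.Away f) Sf := IsScalarTower.of_algebraMap_eq fun r => by
    exact (IsLocalization.Away.lift_eq f hu r).symm
  letI : Algebra R T := ((algebraMap (Localization.Away f) T).comp (algebraMap R (Localization.Away f))).toAlgebra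
  haveI : IsScalarTower R (Localization.Away f) T := IsScalarTower.of_algebraMap_eq fun _ => rfl
  have h1 : SGA3b.IsDiag T (T ⊗[R] A) := isDiag_of_equiv (cancelBC R (Localization.Away f) T A) hd
  let T' := Sf ⊗[Localization.Away f] T
  letI : Algebra T T' := Algebra.TensorProduct.rightAlgebra
  haveI : IsScalarTower R T T' := IsScalarTower.of_algebraMap_eq fun r => by
    rw [IsScalarTower.algebraMap_apply R (Localization.Away f) T', IsScalarTower.algebraMap_apply R (Localization.Away f) T]
    exact IsScalarTower.algebraMap_apply (Localization.Away f) T T' _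
  have h2 : SGA3b.IsDiag T' (T' ⊗[R] A) := isDiag_tower T T' h1
  exact ⟨T', inferInstance, inferInstance, inferInstance,
    isDiag_of_equiv ((cancelBC R Sf T' A).symm.trans (congrBC T' (cancelBC R S Sf A).symm)) h2⟩

/-- Groups of multiplicative type are stable under base change. -/
theorem isMultType_baseChange (S : Type u) [CommRing S] [Algebra R S] (h : SGA3b.IsMultType R A) :
    SGA3b.IsMultType S (S ⊗[R] A) := by
  obtain ⟨s, hs, hf⟩ := h
  refine ⟨algebraMap R S '' s, by rw [← Ideal.map_span, hs, Ideal.map_top], ?_⟩
  rintro _ ⟨f, hfs, rfl⟩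
  exact isMultTypeConst_away f S _ rfl (hf f hfs)

end Groth.Agent.SGA3b53
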