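import Groth.Agent.SGA3b53.HenselLift
import Groth.Agent.SGA3b53.FieldSplit
import Groth.Agent.SGA3b53.MultBC
import Mathlib

/-!
Finite separable extensions of the residue field lift to finite etale local algebras;
groups of multiplicative type over henselian local rings are isotrivial.
-/

set_option autoImplicit false
set_option linter.unusedSectionVars false
set_option linter.style.haveILetI false
universe u v w
open TensorProduct Polynomial

noncomputable section

namespace Groth.Agent.SGA3b53

variable {R : Type u} [CommRing R]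

theorem exists_etale_local_lift [IsLocalRing R] (k' : Type u) [Field k'] [Algebra (R ⧸ IsLocalRing.maximalIdeal R) k']
    [Algebra R k'] [IsScalarTower R (R ⧸ IsLocalRing.maximalIdeal R) k']
    [Module.Finite (R ⧸ IsLocalRing.maximalIdeal R) k'] [Algebra.IsSeparable (R ⧸ IsLocalRing.maximalIdeal R) k'] :
    ∃ (R' : Type u) (_ : CommRing R') (_ : Algebra R R') (_ : IsLocalRing R'),
      Algebra.Etale R R' ∧ Module.Finite R R' ∧ Module.FaithfullyFlat R R' ∧
      (IsLocalRing.maximalIdeal R).map (algebraMap R R') = IsLocalRing.maximalIdeal R' ∧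
      ∃ π : R' →ₐ[R] k', Function.Surjective π ∧ RingHom.ker π = IsLocalRing.maximalIdeal R' := by
  letI : Field (R ⧸ IsLocalRing.maximalIdeal R) := Ideal.Quotient.field _
  obtain ⟨α, hα⟩ := Field.exists_primitive_element (R ⧸ IsLocalRing.maximalIdeal R) k'
  have hint : IsIntegral (R ⧸ IsLocalRing.maximalIdeal R) α := IsIntegral.of_finite _ α
  obtain ⟨F, hFmap, -, hm⟩ := Polynomial.lifts_and_degree_eq_and_monic
    ((Polynomial.mem_lifts _).2 (Polynomial.map_surjective _ (Ideal.Quotient.mk_surjective (I := IsLocalRing.maximalIdeal R))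
      (minpoly (R ⧸ IsLocalRing.maximalIdeal R) α))) (minpoly.monic hint)
  have := hm.finite_adjoinRoot
  have := hm.free_adjoinRoot
  have hFα : Polynomial.aeval α F = 0 := by
    rw [← Polynomial.aeval_map_algebraMap (R ⧸ IsLocalRing.maximalIdeal R) α F, Ideal.Quotient.algebraMap_eq, hFmap,
      minpoly.aeval]
  let π : AdjoinRoot F →ₐ[R] k' := AdjoinRoot.liftAlgHom F (Algebra.ofId R k') α hFα
  have hπmk : ∀ q : R[X], π (AdjoinRoot.mk F q) = Polynomial.aeval α q := fun q => by
    rw [← AdjoinRoot.aeval_eq, ← Polynomial.aeval_algHom_apply]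
    simp [π]
  have hπs : Function.Surjective π := by
    intro y
    have h1 : y ∈ Algebra.adjoin (R ⧸ IsLocalRing.maximalIdeal R) {α} := by
      rw [← IntermediateField.adjoin_simple_toSubalgebra_of_isAlgebraic hint.isAlgebraic, hα]
      trivial
    rw [Algebra.adjoin_singleton_eq_range_aeval] at h1
    obtain ⟨p, rfl⟩ := h1
    obtain ⟨q, rfl⟩ := Polynomial.map_surjective _ Ideal.Quotient.mk_surjective p
    exact ⟨AdjoinRoot.mk F q, by rw [hπmk, ← Polynomial.aeval_map_algebraMap (R ⧸ IsLocalRing.maximalIdeal R) α q]; rfl⟩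
  have hle : RingHom.ker π ≤ (IsLocalRing.maximalIdeal R).map (algebraMap R (AdjoinRoot F)) := by
    intro x hx
    obtain ⟨q, rfl⟩ := AdjoinRoot.mk_surjective x
    rw [RingHom.mem_ker, hπmk, ← Polynomial.aeval_map_algebraMap (R ⧸ IsLocalRing.maximalIdeal R) α q,
      Ideal.Quotient.algebraMap_eq] at hx
    obtain ⟨g, hg⟩ := minpoly.dvd _ α hx
    obtain ⟨g, rfl⟩ := Polynomial.map_surjective _ Ideal.Quotient.mk_surjective g
    rw [← hFmap, ← Polynomial.map_mul, ← sub_eq_zero, ← Polynomial.map_sub] at hg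
    have h1 : q - F * g ∈ (IsLocalRing.maximalIdeal R).map (Polynomial.C : R →+* R[X]) := by
      rw [← Ideal.mk_ker (I := IsLocalRing.maximalIdeal R), ← Polynomial.ker_mapRingHom]
      exact hg
    have h2 := Ideal.mem_map_of_mem (AdjoinRoot.mk F) h1
    rw [Ideal.map_map, map_sub, map_mul, AdjoinRoot.mk_self, zero_mul, sub_zero] at h2
    exact h2
  have hmax : RingHom.ker π = (IsLocalRing.maximalIdeal R).map (algebraMap R (AdjoinRoot F)) := by
    refine le_antisymm hle (Ideal.map_le_iff_le_comap.2 fun a ha => ?_)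
    rw [Ideal.mem_comap, RingHom.mem_ker, AlgHom.commutes, IsScalarTower.algebraMap_apply R (R ⧸ IsLocalRing.maximalIdeal R) k',
      Ideal.Quotient.algebraMap_eq, Ideal.Quotient.eq_zero_iff_mem.2 ha, map_zero]
  haveI hkm : (RingHom.ker π).IsMaximal := RingHom.ker_isMaximal_of_surjective π hπs
  have hint' : Algebra.IsIntegral R (AdjoinRoot F) := Algebra.IsIntegral.of_finite R _
  have huniq : ∀ M : Ideal (AdjoinRoot F), M.IsMaximal → M = RingHom.ker π := by
    intro M hM
    have hcomap : Ideal.comap (algebraMap R (AdjoinRoot F)) M = IsLocalRing.maximalIdeal R :=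
      IsLocalRing.eq_maximalIdeal (Ideal.isMaximal_comap_of_isIntegral_of_isMaximal M)
    refine (hkm.eq_of_le hM.ne_top ?_).symm
    rw [hmax, Ideal.map_le_iff_le_comap, hcomap]
  haveI : IsLocalRing (AdjoinRoot F) := IsLocalRing.of_unique_max_ideal ⟨RingHom.ker π, hkm, huniq⟩
  have hmax' : RingHom.ker π = IsLocalRing.maximalIdeal (AdjoinRoot F) := IsLocalRing.eq_maximalIdeal hkm
  have hu : IsUnit (AdjoinRoot.mk F (derivative F)) := by
    by_contra hnu
    have h1 : AdjoinRoot.mk F (derivative F) ∈ RingHom.ker π := by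
      rw [hmax']
      exact (IsLocalRing.mem_maximalIdeal _).2 hnu
    rw [RingHom.mem_ker, hπmk, ← Polynomial.aeval_map_algebraMap (R ⧸ IsLocalRing.maximalIdeal R) α (derivative F),
      ← derivative_map, Ideal.Quotient.algebraMap_eq, hFmap] at h1
    have hsep : (minpoly (R ⧸ IsLocalRing.maximalIdeal R) α).Separable :=
      Algebra.IsSeparable.isSeparable (R ⧸ IsLocalRing.maximalIdeal R) α
    exact Separable.aeval_derivative_ne_zero hsep (minpoly.aeval _ α) h1
  obtain ⟨v, hv⟩ := hu.exists_right_inv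
  obtain ⟨q, rfl⟩ := AdjoinRoot.mk_surjective v
  obtain ⟨w, hw⟩ : F ∣ derivative F * q - 1 := by
    rw [← AdjoinRoot.mk_eq_zero, map_sub, map_mul, hv, map_one, sub_self]
  let Q : StandardEtalePair R := { f := F, monic_f := hm, g := 1, cond := ⟨q, -w, 0, by rw [pow_zero]; linear_combination hw⟩ }
  have hone : IsUnit (AdjoinRoot.mk Q.f Q.g) := by simp [Q]
  let e : Localization.Away (AdjoinRoot.mk Q.f Q.g) ≃ₐ[AdjoinRoot Q.f] AdjoinRoot Q.f :=
    (IsLocalization.atUnits _ (Submonoid.powers (AdjoinRoot.mk Q.f Q.g)) (by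
      rintro _ ⟨k, rfl⟩
      exact hone.pow k)).symm
  have het : Algebra.Etale R (AdjoinRoot F) := Algebra.Etale.of_equiv (Q.equivAwayAdjoinRoot.trans (e.restrictScalars R))
  haveI : IsLocalHom (algebraMap R (AdjoinRoot F)) := ⟨fun a ha => by
    by_contra hna
    have h1 : algebraMap R (AdjoinRoot F) a ∈ RingHom.ker π := by
      rw [hmax]
      exact Ideal.mem_map_of_mem _ ((IsLocalRing.mem_maximalIdeal a).2 hna)
    exact hkm.ne_top (Ideal.eq_top_of_isUnit_mem _ h1 ha)⟩
  exact ⟨AdjoinRoot F, inferInstance, inferInstance, inferInstance, het, inferInstance,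
    Module.FaithfullyFlat.of_flat_of_isLocalHom, hmax.symm.trans hmax', π, hπs, hmax'⟩

variable {A : Type u} [CommRing A] [HopfAlgebra R A]

theorem isIsotrivial_of_henselian [HenselianLocalRing R] (hft : Algebra.FiniteType R A) (h : SGA3b.IsMultType R A) :
    SGA3b.IsIsotrivial R A := by
  let k := R ⧸ IsLocalRing.maximalIdeal R
  letI : Field k := Ideal.Quotient.field _
  obtain ⟨k', _, _, hfin, hsep, M, _, -, ⟨ρ⟩⟩ := isotrivial_of_field (K := k) (A := k ⊗[R] A) inferInstance
    (isMultType_baseChange k h)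
  letI : Algebra R k' := ((algebraMap k k').comp (algebraMap R k)).toAlgebra
  haveI : IsScalarTower R k k' := IsScalarTower.of_algebraMap_eq fun _ => rfl
  have hk' : SGA3b.IsDiag k' (k' ⊗[R] A) := isDiag_of_equiv (cancelBC R k k' A) ⟨M, inferInstance, ⟨ρ⟩⟩
  obtain ⟨R', _, _, _, het, hfR, hff, hmR, π, hπs, hπk⟩ := exists_etale_local_lift (R := R) k'
  haveI : Algebra.IsIntegral R R' := Algebra.IsIntegral.of_finite R R'
  haveI : HenselianRing R' (IsLocalRing.maximalIdeal R') := by
    rw [← hmR]
    exact Henz21.henselianRing_of_isIntegral (IsLocalRing.maximalIdeal R) R'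
  haveI : HenselianLocalRing R' := EtAlg23.henselianLocalRing_of_henselianRing R'
  refine ⟨R', inferInstance, inferInstance, het, hfR, hff, ?_⟩
  refine isDiag_of_isDiag_residue inferInstance (isMultType_baseChange R' h) ?_
  let e : R' ⧸ IsLocalRing.maximalIdeal R' ≃+* k' :=
    (Ideal.quotEquivOfEq hπk.symm).trans (RingHom.quotientKerEquivOfSurjective (f := (π : R' →+* k')) hπs)
  letI : Algebra k' (R' ⧸ IsLocalRing.maximalIdeal R') := (e.symm : k' →+* R' ⧸ IsLocalRing.maximalIdeal R').toAlgebra
  haveI : IsScalarTower R k' (R' ⧸ IsLocalRing.maximalIdeal R') := IsScalarTower.of_algebraMap_eq fun r => by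
    change _ = e.symm _
    rw [RingEquiv.eq_symm_apply]
    exact π.commutes r
  exact isDiag_of_equiv (cancelBC R R' (R' ⧸ IsLocalRing.maximalIdeal R') A).symm
    (isDiag_tower k' (R' ⧸ IsLocalRing.maximalIdeal R') hk')

end Groth.Agent.SGA3b53
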