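import Groth.Agent.SGA3b53.Spread
import Groth.Agent.SGA3b53.TypeCover
import Groth.Agent.SGA3b53.SepLift
import Mathlib

/-!
Groups of multiplicative type and of finite type are quasi-isotrivial.
-/

set_option autoImplicit false
set_option linter.unusedSectionVars false
set_option linter.style.haveILetI false
universe u v w
open TensorProduct Polynomial

noncomputable section

namespace Groth.Agent.SGA3b53

variable {R : Type u} [CommRing R]

/-- The projection of the colimit to a separable closure of a residue field is surjective. -/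
theorem proj_surjective (p : Ideal R) [p.IsPrime] :
    Function.Surjective (Henz21.H.proj R (SeparableClosure p.ResidueField)) := by
  let K := SeparableClosure p.ResidueField
  let π := Henz21.H.proj R K
  have hκ : ∀ c : p.ResidueField, ∃ a, π a = algebraMap p.ResidueField K c := by
    intro c
    obtain ⟨r, s, hs, rfl⟩ := IsFractionRing.div_surjective (A := R ⧸ p) c
    obtain ⟨r, rfl⟩ := Ideal.Quotient.mk_surjective r
    obtain ⟨s, rfl⟩ := Ideal.Quotient.mk_surjective s
    have hsne : algebraMap R K s ≠ 0 := by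
      rw [IsScalarTower.algebraMap_apply R p.ResidueField K, _root_.map_ne_zero,
        IsScalarTower.algebraMap_apply R (R ⧸ p) p.ResidueField, Ideal.Quotient.algebraMap_eq]
      exact (map_ne_zero_iff _ (IsFractionRing.injective (R ⧸ p) p.ResidueField)).2 (nonZeroDivisors.ne_zero hs)
    have hu : IsUnit (algebraMap R (Henz21.H R K) s) := Henz21.H.isUnit_of_isUnit_proj (by
      rw [AlgHom.commutes]; exact hsne.isUnit)
    obtain ⟨v, hv⟩ := hu.exists_left_inv
    refine ⟨algebraMap R _ r * v, ?_⟩
    have hv' : π v * algebraMap R K s = 1 := by rw [← π.commutes, ← map_mul, hv, map_one]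
    have key : ∀ r : R, algebraMap p.ResidueField K (algebraMap (R ⧸ p) p.ResidueField (Ideal.Quotient.mk p r)) =
        algebraMap R K r := fun r => by
      rw [← Ideal.Quotient.algebraMap_eq, ← IsScalarTower.algebraMap_apply R (R ⧸ p) p.ResidueField,
        ← IsScalarTower.algebraMap_apply R p.ResidueField K]
    rw [map_mul, π.commutes, map_div₀, key, key, eq_div_iff hsne, mul_assoc, hv', mul_one]
  intro x
  have hint : IsIntegral p.ResidueField x := Algebra.IsIntegral.isIntegral x
  have hl : (minpoly p.ResidueField x).map (algebraMap p.ResidueField K) ∈ Polynomial.lifts (π : Henz21.H R K →+* K) := by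
    rw [Polynomial.lifts_iff_coeff_lifts]
    intro n
    rw [Polynomial.coeff_map]
    exact hκ _
  obtain ⟨F, hFmap, -, hm⟩ := Polynomial.lifts_and_degree_eq_and_monic hl ((minpoly.monic hint).map _)
  have hsep : (minpoly p.ResidueField x).Separable := Algebra.IsSeparable.isSeparable p.ResidueField x
  obtain ⟨a, -, ha⟩ := Henz21.H.exists_root F hm x (by
      change F.eval₂ (π : Henz21.H R K →+* K) x = 0
      rw [← eval_map, hFmap, eval_map_algebraMap, minpoly.aeval]) (by
      change IsUnit (F.derivative.eval₂ (π : Henz21.H R K →+* K) x)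
      rw [← eval_map, ← derivative_map, hFmap, derivative_map, eval_map_algebraMap]
      exact (Separable.aeval_derivative_ne_zero hsep (minpoly.aeval _ x)).isUnit)
  exact ⟨a, ha⟩

variable {A : Type u} [CommRing A] [HopfAlgebra R A]

theorem isDiag_residue_sepClosed {K : Type u} [Field K] [Algebra R K] [IsSepClosed K] [Algebra.FiniteType R A]
    (h : SGA3b.IsMultType R A) : SGA3b.IsDiag K (K ⊗[R] A) := by
  obtain ⟨k', _, _, _, hsep, hd⟩ := isotrivial_of_field (K := K) (A := K ⊗[R] A) inferInstance (isMultType_baseChange K h)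
  obtain ⟨M, _, -, hρ⟩ := hd
  let e : K ≃ₐ[K] k' := AlgEquiv.ofBijective (Algebra.ofId K k')
    ⟨(algebraMap K k').injective, IsSepClosed.algebraMap_surjective K k'⟩
  letI : Algebra k' K := (e.symm : k' →+* K).toAlgebra
  haveI : IsScalarTower K k' K := IsScalarTower.of_algebraMap_eq fun c => (e.symm.commutes c).symm
  have h1 : SGA3b.IsDiag K (K ⊗[K] (K ⊗[R] A)) := isDiag_tower k' K ⟨M, inferInstance, hρ⟩
  exact isDiag_of_equiv (cancelBC R K K A) h1

/-- Every point has an etale neighbourhood splitting the group. -/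
theorem exists_etale_point (hft : Algebra.FiniteType R A) (h : SGA3b.IsMultType R A) (p : PrimeSpectrum R) :
    ∃ (S : Type u) (_ : CommRing S) (_ : Algebra R S), Algebra.Etale R S ∧
      (∃ q : PrimeSpectrum S, q.comap (algebraMap R S) = p) ∧ SGA3b.IsDiag S (S ⊗[R] A) := by
  let K := SeparableClosure p.asIdeal.ResidueField
  let H := Henz21.H R K
  haveI : Algebra.FinitePresentation R A := finitePresentation_of_isMultType hft h
  let π := Henz21.H.proj R K
  let e : H ⧸ IsLocalRing.maximalIdeal H ≃+* K :=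
    (Ideal.quotEquivOfEq Henz21.H.maximalIdeal_eq).trans (RingHom.quotientKerEquivOfSurjective (f := (π : H →+* K)) (proj_surjective p.asIdeal))
  have h0 : SGA3b.IsDiag (H ⧸ IsLocalRing.maximalIdeal H) ((H ⧸ IsLocalRing.maximalIdeal H) ⊗[H] (H ⊗[R] A)) := by
    letI : Algebra K (H ⧸ IsLocalRing.maximalIdeal H) := (e.symm : K →+* H ⧸ IsLocalRing.maximalIdeal H).toAlgebra
    haveI : IsScalarTower R K (H ⧸ IsLocalRing.maximalIdeal H) := IsScalarTower.of_algebraMap_eq fun r => by
      change _ = e.symm _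
      rw [RingEquiv.eq_symm_apply]
      exact π.commutes r
    exact isDiag_of_equiv (cancelBC R H (H ⧸ IsLocalRing.maximalIdeal H) A).symm
      (isDiag_tower K (H ⧸ IsLocalRing.maximalIdeal H) (isDiag_residue_sepClosed h))
  obtain ⟨M, _, ⟨ρ⟩⟩ := isDiag_of_isDiag_residue (R := H) (A := H ⊗[R] A) inferInstance (isMultType_baseChange H h) h0
  haveI : Nontrivial H := RingHom.domain_nontrivial (π : H →+* K)
  haveI : Monoid.FG M := monoidFG_of_finiteType ρ
  obtain ⟨i, hi⟩ := exists_stage_isDiag ρ
  refine ⟨i.S, inferInstance, inferInstance, inferInstance, ⟨⟨RingHom.ker i.pt, RingHom.ker_isPrime _⟩, ?_⟩, hi⟩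
  apply PrimeSpectrum.ext
  rw [PrimeSpectrum.comap_asIdeal]
  refine Ideal.ext fun r => ?_
  rw [Ideal.mem_comap, RingHom.mem_ker, AlgHom.commutes, IsScalarTower.algebraMap_apply R p.asIdeal.ResidueField K,
    map_eq_zero, Ideal.algebraMap_residueField_eq_zero]

/-- A group split by a finite etale cover family is quasi-isotrivial. -/
theorem isQuasiIsotrivial_of_cover {ι : Type u} [Finite ι] {T : ι → Type u} [∀ i, CommRing (T i)] [∀ i, Algebra R (T i)]
    (het : ∀ i, Algebra.Etale R (T i))
    (hT : IsCover R T) (hd : ∀ i, SGA3b.IsDiag (T i) (T i ⊗[R] A)) : SGA3b.IsQuasiIsotrivial R A := by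
  classical
  choose M hM ρ using hd
  let δ : ι → ∀ i, T i ⊗[R] R := fun j i => if Nonempty (M i ≃* M j) then (1 : T i) ⊗ₜ[R] (1 : R) else 0
  have hc : ∀ j a b, ((TensorProduct.mk R (T b) (T a)).flip 1).rTensor R (δ j b) =
      ((TensorProduct.mk R (T b) (T a)) 1).rTensor R (δ j a) := by
    intro j a b
    by_cases hab : Nonempty (M b ≃* M a)
    · obtain ⟨e⟩ := hab
      have hiff : Nonempty (M b ≃* M j) ↔ Nonempty (M a ≃* M j) :=
        ⟨fun ⟨f⟩ => ⟨e.symm.trans f⟩, fun ⟨f⟩ => ⟨e.trans f⟩⟩
      by_cases hj : Nonempty (M a ≃* M j)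
      · simp [δ, hiff, hj]
      · simp [δ, hiff, hj]
    · haveI := subsingleton_tensor_of_types (ρ b).some (ρ a).some hab
      apply (TensorProduct.rid R (T b ⊗[R] T a)).injective
      exact Subsingleton.elim _ _
  choose e he using fun j => hT.descend (δ j) (hc j)
  have he' : ∀ j i, algebraMap R (T i) (e j) = if Nonempty (M i ≃* M j) then 1 else 0 := by
    intro j i
    have h1 := congrArg (TensorProduct.rid R (T i)) (he j i)
    rw [TensorProduct.rid_tmul, Algebra.smul_def, mul_one] at h1
    rw [h1]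
    by_cases h : Nonempty (M i ≃* M j) <;> simp [δ, h]
  refine ⟨Set.range e, ?_, ?_⟩
  · by_contra hne
    obtain ⟨m, hm, hle⟩ := Ideal.exists_le_maximal _ hne
    obtain ⟨i, q, hq⟩ := hT.exists_lift ⟨m, hm.isPrime⟩
    have h1 : e i ∈ (q.comap (algebraMap R (T i))).asIdeal := by
      rw [hq]; exact hle (Ideal.subset_span ⟨i, rfl⟩)
    rw [PrimeSpectrum.comap_asIdeal, Ideal.mem_comap, he', if_pos ⟨MulEquiv.refl _⟩] at h1
    exact q.isPrime.ne_top ((Ideal.eq_top_iff_one _).2 h1)
  rintro _ ⟨j, rfl⟩
  let κ := {i : ι // Nonempty (M i ≃* M j)}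
  let Rj := Localization.Away (e j)
  have hu : ∀ i : κ, IsUnit (algebraMap R (T i.1) (e j)) := fun i => by rw [he', if_pos i.2]; exact isUnit_one
  letI algi : ∀ i : κ, Algebra Rj (T i.1) := fun i => (IsLocalization.Away.lift (e j) (hu i)).toAlgebra
  haveI : ∀ i : κ, IsScalarTower R Rj (T i.1) := fun i =>
    IsScalarTower.of_algebraMap_eq fun r => (IsLocalization.Away.lift_eq _ (hu i) r).symm
  let P := ∀ i : κ, T i.1
  haveI : ∀ i : κ, Algebra.Etale Rj (T i.1) := fun i => by
    haveI := het i.1
    haveI : Algebra.Etale R Rj := Algebra.Etale.of_isLocalizationAway (e j)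
    exact Algebra.Etale.of_restrictScalars R Rj (T i.1)
  haveI : Module.FaithfullyFlat Rj P := Module.FaithfullyFlat.of_comap_surjective fun p => by
    obtain ⟨i, q, hq⟩ := hT.exists_lift (p.comap (algebraMap R Rj))
    have hi : Nonempty (M i ≃* M j) := by
      by_contra hi
      have h1 : e j ∈ (q.comap (algebraMap R (T i))).asIdeal := by
        rw [PrimeSpectrum.comap_asIdeal, Ideal.mem_comap, he', if_neg hi]
        exact q.asIdeal.zero_mem
      rw [hq, PrimeSpectrum.comap_asIdeal, Ideal.mem_comap] at h1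
      exact p.isPrime.ne_top (Ideal.eq_top_of_isUnit_mem _ h1 (IsLocalization.Away.algebraMap_isUnit _))
    refine ⟨q.comap (Pi.evalRingHom (fun i : κ => T i.1) ⟨i, hi⟩), ?_⟩
    apply PrimeSpectrum.localization_comap_injective Rj (Submonoid.powers (e j))
    rw [← hq, ← PrimeSpectrum.comap_comp_apply, ← PrimeSpectrum.comap_comp_apply]
    congr 1
    refine RingHom.ext fun r => ?_
    exact IsLocalization.Away.lift_eq (S := Rj) (e j) (hu ⟨i, hi⟩) r
  haveI : IsScalarTower R Rj P := IsScalarTower.of_algebraMap_eq fun r => funext fun i =>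
    IsScalarTower.algebraMap_apply R Rj (T i.1) r
  have hdP : SGA3b.IsDiag P (P ⊗[R] A) := isDiag_pi fun i : κ =>
    (ρ i.1).some.trans (MonoidAlgebra.domCongrBialgEquiv (T i.1) (T i.1) i.2.some)
  exact ⟨P, inferInstance, inferInstance, inferInstance, inferInstance, isDiag_of_equiv (cancelBC R Rj P A).symm hdP⟩

theorem isQuasiIsotrivial_of_finiteType (hft : Algebra.FiniteType R A) (h : SGA3b.IsMultType R A) :
    SGA3b.IsQuasiIsotrivial R A := by
  choose S hS₁ hS₂ hS₃ hS₄ hS₅ using fun p => exists_etale_point hft h p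
  letI : ∀ p, CommRing (S p) := hS₁
  letI : ∀ p, Algebra R (S p) := hS₂
  haveI : ∀ p, Algebra.Etale R (S p) := hS₃
  haveI : ∀ p, Algebra.HasGoingDown R (S p) := fun p => inferInstance
  let U : PrimeSpectrum R → Set (PrimeSpectrum R) := fun p => Set.range (PrimeSpectrum.comap (algebraMap R (S p)))
  obtain ⟨t, ht⟩ := isCompact_univ.elim_finite_subcover U
    (fun p => (PrimeSpectrum.isOpenMap_comap_of_hasGoingDown_of_finitePresentation (R := R) (S := S p)).isOpen_range)
    (fun p _ => Set.mem_iUnion.2 ⟨p, hS₄ p⟩)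
  haveI : Finite {p // p ∈ t} := Finset.finite_toSet t |>.to_subtype
  refine isQuasiIsotrivial_of_cover (ι := {p // p ∈ t}) (T := fun p => S p.1) (fun p => hS₃ p.1)
    ⟨fun p => inferInstance, fun q => ?_⟩ fun p => hS₅ p.1
  obtain ⟨p, hp⟩ := Set.mem_iUnion.1 (ht (Set.mem_univ q))
  obtain ⟨hpt, r, hr⟩ := Set.mem_iUnion.1 hp
  exact ⟨⟨p, hpt⟩, r, hr⟩

end Groth.Agent.SGA3b53
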