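import Groth.Agent.SGA3b53.FibreVanish
import Groth.Agent.SGA3b53.TypeCover
import Mathlib

/-!
The type of an isotrivial group is seen on any nonempty part of the base.
-/

set_option autoImplicit false
set_option linter.unusedSectionVars false
set_option linter.style.haveILetI false
universe u v w
open TensorProduct

noncomputable section

namespace Groth.Agent.SGA3b53

variable {R : Type u} [CommRing R] {C : Type u} [CommRing C] [HopfAlgebra R C]

theorem isTorus_of_isIsotrivial_of_point {T : Type u} [CommRing T] [Algebra R T] [Nontrivial T] {n : ℕ}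
    (σ : T ⊗[R] C ≃ₐc[T] MonoidAlgebra T (Multiplicative (Fin n → ℤ))) (h : SGA3b.IsIsotrivial R C) :
    SGA3b.IsTorus R C := by
  obtain ⟨W, _, _, -, -, hff, M, _, ⟨ρ⟩⟩ := h
  haveI := hff
  have hne : Nontrivial (T ⊗[R] W) := inferInstance
  let N := ULift.{u} (Multiplicative (Fin n → ℤ))
  obtain ⟨e⟩ : Nonempty (M ≃* N) := by
    by_contra hne'
    haveI := subsingleton_tensor_of_types ρ
      (σ.trans (MonoidAlgebra.domCongrBialgEquiv T T MulEquiv.ulift.symm)) hne'
    haveI : Nontrivial (W ⊗[R] T) := (TensorProduct.comm R W T).toEquiv.nontrivial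
    exact false_of_nontrivial_of_subsingleton (W ⊗[R] T)
  refine ⟨{1}, Ideal.span_singleton_one, fun f _ => ?_⟩
  letI : Algebra W (Localization.Away f ⊗[R] W) := Algebra.TensorProduct.rightAlgebra
  haveI : IsScalarTower R W (Localization.Away f ⊗[R] W) := IsScalarTower.of_algebraMap_eq fun r => by
    change _ = (1 : Localization.Away f) ⊗ₜ[R] algebraMap R W r
    rw [Algebra.TensorProduct.algebraMap_apply, Algebra.algebraMap_eq_smul_one, Algebra.algebraMap_eq_smul_one,
      TensorProduct.smul_tmul]
  let W' := Localization.Away f ⊗[R] W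
  refine ⟨W', inferInstance, inferInstance, inferInstance, n, ⟨?_⟩⟩
  exact (cancelBC R (Localization.Away f) W' C).trans ((cancelBC R W W' C).symm.trans
    ((congrBC W' ρ).trans ((monoidAlgebraBC W W' M).trans
      (MonoidAlgebra.domCongrBialgEquiv W' W' (e.trans MulEquiv.ulift)))))

theorem isTorus_of_isIsotrivial_of_mod (I : Ideal R) (hI : I ≤ (⊥ : Ideal R).jacobson) (h : SGA3b.IsIsotrivial R C)
    (h0 : SGA3b.IsTorus (R ⧸ I) ((R ⧸ I) ⊗[R] C)) : SGA3b.IsTorus R C := by
  rcases subsingleton_or_nontrivial R with hR | hR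
  · refine ⟨{1}, Ideal.span_singleton_one, fun f _ => ⟨Localization.Away f, inferInstance, inferInstance, inferInstance, 0, ⟨?_⟩⟩⟩
    haveI : Subsingleton (Localization.Away f) := Module.subsingleton R _
    haveI : Subsingleton (Localization.Away f ⊗[Localization.Away f] (Localization.Away f ⊗[R] C)) := Module.subsingleton (Localization.Away f) _
    haveI : Subsingleton (MonoidAlgebra (Localization.Away f) (Multiplicative (Fin 0 → ℤ))) := Module.subsingleton (Localization.Away f) _
    exact BialgEquiv.ofAlgEquiv (AlgEquiv.ofBijective (Algebra.TensorProduct.lift (Algebra.ofId _ _)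
      { toFun := fun _ => 0, map_one' := Subsingleton.elim _ _, map_mul' := fun _ _ => Subsingleton.elim _ _,
        map_zero' := rfl, map_add' := fun _ _ => Subsingleton.elim _ _, commutes' := fun _ => Subsingleton.elim _ _ }
      fun _ _ => Commute.all _ _) ⟨fun _ _ _ => Subsingleton.elim _ _, fun _ => ⟨0, Subsingleton.elim _ _⟩⟩)
      (AlgHom.ext fun _ => Subsingleton.elim _ _) (AlgHom.ext fun _ => by
        haveI : Subsingleton ((MonoidAlgebra (Localization.Away f) (Multiplicative (Fin 0 → ℤ))) ⊗[Localization.Away f]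
          (MonoidAlgebra (Localization.Away f) (Multiplicative (Fin 0 → ℤ)))) := Module.subsingleton (Localization.Away f) _
        exact Subsingleton.elim _ _)
  obtain ⟨s, hs, hf⟩ := h0
  obtain ⟨m, hm⟩ := Ideal.exists_maximal R
  have hIm : I ≤ m := hI.trans (by
    rw [Ideal.jacobson]
    exact sInf_le ⟨bot_le, hm⟩)
  obtain ⟨f, hfs, hfm⟩ : ∃ f ∈ s, f ∉ m.map (Ideal.Quotient.mk I) := by
    by_contra hc
    push Not at hc
    have h1 : (1 : R ⧸ I) ∈ m.map (Ideal.Quotient.mk I) := (Ideal.span_le.2 hc) (hs ▸ Submodule.mem_top)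
    rw [← map_one (Ideal.Quotient.mk I), ← Ideal.mem_comap, Ideal.comap_map_mk hIm] at h1
    exact hm.ne_top ((Ideal.eq_top_iff_one _).2 h1)
  obtain ⟨T, _, _, hT, n, ⟨σ⟩⟩ := hf f hfs
  haveI := hT
  haveI : Nontrivial (Localization.Away f) := by
    by_contra hc
    rw [not_nontrivial_iff_subsingleton, IsLocalization.subsingleton_iff (S := Localization.Away f) (M := Submonoid.powers f)] at hc
    obtain ⟨k, hk⟩ := hc
    haveI : (m.map (Ideal.Quotient.mk I)).IsPrime :=
      Ideal.map_isPrime_of_surjective Ideal.Quotient.mk_surjective (by rwa [Ideal.mk_ker])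
    exact hfm ((inferInstance : (m.map (Ideal.Quotient.mk I)).IsPrime).mem_of_pow_mem k (by rw [show f ^ k = 0 from hk]; exact zero_mem _))
  haveI : Nontrivial T := (FaithfulSMul.algebraMap_injective (Localization.Away f) T).nontrivial
  letI : Algebra (R ⧸ I) T := ((algebraMap (Localization.Away f) T).comp (algebraMap (R ⧸ I) (Localization.Away f))).toAlgebra
  haveI : IsScalarTower (R ⧸ I) (Localization.Away f) T := IsScalarTower.of_algebraMap_eq fun _ => rfl
  letI : Algebra R T := ((algebraMap (R ⧸ I) T).comp (Ideal.Quotient.mk I)).toAlgebra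
  haveI : IsScalarTower R (R ⧸ I) T := IsScalarTower.of_algebraMap_eq fun _ => rfl
  exact isTorus_of_isIsotrivial_of_point
    ((cancelBC R (R ⧸ I) T C).symm.trans ((cancelBC (R ⧸ I) (Localization.Away f) T _).symm.trans σ)) h

end Groth.Agent.SGA3b53
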