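import Groth.Agent.SGA3b53.LocalMult
import Groth.Agent.SGA3b53.QuasiIso
import Groth.Agent.SGA3b53.TorusType
import Mathlib

/-!
The global criteria for groups of multiplicative type.
-/

set_option autoImplicit false
set_option linter.unusedSectionVars false
set_option linter.style.haveILetI false
universe u v w
open TensorProduct

noncomputable section

namespace Groth.Agent.SGA3b53

variable {R : Type u} [CommRing R] {A : Type u} [CommRing A] [HopfAlgebra R A]

/-- Connected fibres stay connected after base change. -/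
theorem connectedSpace_fibre_bc (S : Type u) [CommRing S] [Algebra R S]
    (hconn : ∀ (p : Ideal R) [p.IsPrime], ConnectedSpace (PrimeSpectrum (p.ResidueField ⊗[R] A)))
    (P : Ideal S) [P.IsPrime] : ConnectedSpace (PrimeSpectrum (P.ResidueField ⊗[S] (S ⊗[R] A))) := by
  let K := P.ResidueField
  let c : K ⊗[S] (S ⊗[R] A) ≃ₐc[K] K ⊗[R] A := cancelBC R S K A
  suffices h : ConnectedSpace (PrimeSpectrum (K ⊗[R] A)) by
    let e := PrimeSpectrum.homeomorphOfRingEquiv (AlgEquivClass.toAlgEquiv c : _ ≃ₐ[K] _).toRingEquiv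
    exact e.symm.surjective.connectedSpace e.symm.continuous
  rw [CAlg6.connectedSpace_iff_idempotent]
  refine ⟨(Bialgebra.counitAlgHom K (K ⊗[R] A)).toRingHom.domain_nontrivial, fun x hx => ?_⟩
  have h0 : ∀ y : K ⊗[R] A, IsIdempotentElem y → Coalgebra.counit (R := K) y = 0 → y = 0 :=
    fun y hy hy0 => idem_eq_zero_of_connected_bc K hconn hy hy0
  rcases IsIdempotentElem.iff_eq_zero_or_one.1 (hx.map (Bialgebra.counitAlgHom K (K ⊗[R] A))) with h | h
  · exact Or.inl (h0 x hx h)
  · refine Or.inr (sub_eq_zero.1 (h0 (1 - x) hx.one_sub ?_)).symm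
    rw [map_sub, Bialgebra.counit_one]
    exact sub_eq_zero.2 h.symm

/-- A point with a group of multiplicative type over its strict henselization has an etale neighbourhood
splitting the group. -/
theorem exists_etale_point_of_local [Algebra.FinitePresentation R A] (p : PrimeSpectrum R)
    (hp : SGA3b.IsMultType p.asIdeal.ResidueField (p.asIdeal.ResidueField ⊗[R] A))
    (hH : ∀ (H : Type u) [CommRing H] [IsLocalRing H] [Algebra R H],
      SGA3b.IsMultType (IsLocalRing.ResidueField H) (IsLocalRing.ResidueField H ⊗[H] (H ⊗[R] A)) →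
      SGA3b.IsMultType H (H ⊗[R] A)) :
    ∃ (S : Type u) (_ : CommRing S) (_ : Algebra R S), Algebra.Etale R S ∧
      (∃ q : PrimeSpectrum S, q.comap (algebraMap R S) = p) ∧ SGA3b.IsDiag S (S ⊗[R] A) := by
  let K := SeparableClosure p.asIdeal.ResidueField
  let H := Henz21.H R K
  let π := Henz21.H.proj R K
  let e : H ⧸ IsLocalRing.maximalIdeal H ≃+* K :=
    (Ideal.quotEquivOfEq Henz21.H.maximalIdeal_eq).trans (RingHom.quotientKerEquivOfSurjective (f := (π : H →+* K)) (proj_surjective p.asIdeal))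
  have h0 : SGA3b.IsDiag (H ⧸ IsLocalRing.maximalIdeal H) ((H ⧸ IsLocalRing.maximalIdeal H) ⊗[H] (H ⊗[R] A)) := by
    letI : Algebra K (H ⧸ IsLocalRing.maximalIdeal H) := (e.symm : K →+* H ⧸ IsLocalRing.maximalIdeal H).toAlgebra
    haveI : IsScalarTower R K (H ⧸ IsLocalRing.maximalIdeal H) := IsScalarTower.of_algebraMap_eq fun r => by
      change _ = e.symm _
      rw [RingEquiv.eq_symm_apply]
      exact π.commutes r
    have hK : SGA3b.IsDiag K (K ⊗[R] A) := isDiag_of_equiv (cancelBC R p.asIdeal.ResidueField K A)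
      (isDiag_residue_sepClosed (K := K) hp)
    exact isDiag_of_equiv (cancelBC R H (H ⧸ IsLocalRing.maximalIdeal H) A).symm
      (isDiag_tower K (H ⧸ IsLocalRing.maximalIdeal H) hK)
  have hHm : SGA3b.IsMultType H (H ⊗[R] A) := hH H (isMultType_of_isDiag h0)
  obtain ⟨M, _, ⟨ρ⟩⟩ := isDiag_of_isDiag_residue (R := H) (A := H ⊗[R] A) inferInstance hHm h0
  haveI : Nontrivial H := RingHom.domain_nontrivial (π : H →+* K)
  haveI : Monoid.FG M := monoidFG_of_finiteType ρ
  obtain ⟨i, hi⟩ := exists_stage_isDiag ρ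
  refine ⟨i.S, inferInstance, inferInstance, inferInstance, ⟨⟨RingHom.ker i.pt, RingHom.ker_isPrime _⟩, ?_⟩, hi⟩
  apply PrimeSpectrum.ext
  rw [PrimeSpectrum.comap_asIdeal]
  refine Ideal.ext fun r => ?_
  rw [Ideal.mem_comap, RingHom.mem_ker, AlgHom.commutes, IsScalarTower.algebraMap_apply R p.asIdeal.ResidueField K,
    map_eq_zero, Ideal.algebraMap_residueField_eq_zero]

theorem isQuasiIsotrivial_of_local [Algebra.FinitePresentation R A]
    (hp : ∀ (p : Ideal R) [p.IsPrime], SGA3b.IsMultType p.ResidueField (p.ResidueField ⊗[R] A))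
    (hH : ∀ (H : Type u) [CommRing H] [IsLocalRing H] [Algebra R H],
      SGA3b.IsMultType (IsLocalRing.ResidueField H) (IsLocalRing.ResidueField H ⊗[H] (H ⊗[R] A)) →
      SGA3b.IsMultType H (H ⊗[R] A)) :
    SGA3b.IsQuasiIsotrivial R A := by
  choose S hS₁ hS₂ hS₃ hS₄ hS₅ using fun p : PrimeSpectrum R => exists_etale_point_of_local p (hp p.asIdeal) hH
  letI : ∀ p, CommRing (S p) := hS₁
  letI : ∀ p, Algebra R (S p) := hS₂
  haveI : ∀ p, Algebra.Etale R (S p) := hS₃
  haveI : ∀ p, Algebra.HasGoingDown R (S p) := fun p => inferInstance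
  let U : PrimeSpectrum R → Set (PrimeSpectrum R) := fun p => Set.range (PrimeSpectrum.comap (algebraMap R (S p)))
  obtain ⟨t, ht⟩ := isCompact_univ.elim_finite_subcover U
    (fun p => (PrimeSpectrum.isOpenMap_comap_of_hasGoingDown_of_finitePresentation (R := R) (S := S p)).isOpen_range)
    (fun p _ => Set.mem_iUnion.2 ⟨p, hS₄ p⟩)
  haveI : Finite {p // p ∈ t} := Finset.finite_toSet t |>.to_subtype
  refine isQuasiIsotrivial_of_cover (ι := {p // p ∈ t}) (T := fun p => S p.1) (fun p => hS₃ p.1)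
    ⟨fun p => inferInstance, fun q => ?_⟩ fun p => hS₅ p.1
  obtain ⟨p, hp⟩ := Set.mem_iUnion.1 (ht (Set.mem_univ q))
  obtain ⟨hpt, r, hr⟩ := Set.mem_iUnion.1 hp
  exact ⟨⟨p, hpt⟩, r, hr⟩

theorem isQuasiIsotrivial_of_fibres_connected [Module.Flat R A] [Algebra.FinitePresentation R A]
    (hp : ∀ (p : Ideal R) [p.IsPrime], SGA3b.IsMultType p.ResidueField (p.ResidueField ⊗[R] A))
    (hconn : ∀ (p : Ideal R) [p.IsPrime], ConnectedSpace (PrimeSpectrum (p.ResidueField ⊗[R] A))) :
    SGA3b.IsQuasiIsotrivial R A :=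
  isQuasiIsotrivial_of_local hp fun H _ _ _ hs => isMultType_local_connected H (H ⊗[R] A)
    (fun q _ _ => haveI : Module.Flat (H ⊗[R] A) (Localization.AtPrime q) := IsLocalization.flat _ q.primeCompl
      Module.Flat.trans H (H ⊗[R] A) (Localization.AtPrime q))
    hs fun P _ => connectedSpace_fibre_bc H hconn P

theorem isQuasiIsotrivial_of_fibres_torsion [Module.Flat R A] [Algebra.FinitePresentation R A] [Coalgebra.IsCocomm R A]
    (hp : ∀ (p : Ideal R) [p.IsPrime], SGA3b.IsMultType p.ResidueField (p.ResidueField ⊗[R] A))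
    (hfin : ∀ n : ℕ, 0 < n → Module.Finite R (A ⧸ SGA3b.torsionIdeal R A n)) :
    SGA3b.IsQuasiIsotrivial R A :=
  isQuasiIsotrivial_of_local hp fun H _ _ _ hs => isMultType_local_torsion H (H ⊗[R] A)
    (fun q _ _ => haveI : Module.Flat (H ⊗[R] A) (Localization.AtPrime q) := IsLocalization.flat _ q.primeCompl
      Module.Flat.trans H (H ⊗[R] A) (Localization.AtPrime q))
    hs fun n hn => haveI := hfin n hn; finite_torsion_bc H n (BialgEquiv.refl H (H ⊗[R] A))

/-- A torus over a field, split over a field. -/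
theorem exists_field_split_of_isTorus {k : Type u} [Field k] [Algebra R k] (h : SGA3b.IsTorus k (k ⊗[R] A)) :
    ∃ (K : Type u) (_ : Field K) (_ : Algebra R K) (_ : Algebra k K) (_ : IsScalarTower R k K) (n : ℕ),
      Nonempty (K ⊗[R] A ≃ₐc[K] MonoidAlgebra K (Multiplicative (Fin n → ℤ))) := by
  obtain ⟨s, hs, hf⟩ := h
  obtain ⟨f, hfs, hf0⟩ : ∃ f ∈ s, f ≠ (0 : k) := by
    by_contra hc
    push Not at hc
    have h1 : Ideal.span s ≤ ⊥ := Ideal.span_le.2 fun x hx => Ideal.mem_bot.2 (hc x hx)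
    rw [hs] at h1
    exact one_ne_zero (Ideal.mem_bot.1 (h1 Submodule.mem_top))
  obtain ⟨T, _, _, hT, n, ⟨σ⟩⟩ := hf f hfs
  haveI := hT
  haveI : Nontrivial (Localization.Away f) :=
    (IsLocalization.lift (M := Submonoid.powers f) (g := RingHom.id k) (fun y => by
      obtain ⟨j, hj⟩ := y.2
      rw [RingHom.id_apply, ← hj]
      exact (pow_ne_zero j hf0).isUnit) : Localization.Away f →+* k).domain_nontrivial
  haveI : Nontrivial T := (FaithfulSMul.algebraMap_injective (Localization.Away f) T).nontrivial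
  obtain ⟨m, hm⟩ := Ideal.exists_maximal T
  let K := T ⧸ m
  letI : Field K := Ideal.Quotient.field m
  letI : Algebra k T := ((algebraMap (Localization.Away f) T).comp (algebraMap k (Localization.Away f))).toAlgebra
  haveI : IsScalarTower k (Localization.Away f) T := IsScalarTower.of_algebraMap_eq fun _ => rfl
  letI : Algebra R T := ((algebraMap k T).comp (algebraMap R k)).toAlgebra
  haveI : IsScalarTower R k T := IsScalarTower.of_algebraMap_eq fun _ => rfl
  let σ' : T ⊗[R] A ≃ₐc[T] MonoidAlgebra T (Multiplicative (Fin n → ℤ)) :=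
    (cancelBC R k T A).symm.trans ((cancelBC k (Localization.Away f) T _).symm.trans σ)
  let N := ULift.{u} (Multiplicative (Fin n → ℤ))
  let eN : N ≃* Multiplicative (Fin n → ℤ) := MulEquiv.ulift
  exact ⟨K, inferInstance, inferInstance, inferInstance, inferInstance, n,
    ⟨(cancelBC R T K A).symm.trans ((congrBC K (σ'.trans (MonoidAlgebra.domCongrBialgEquiv T T eN.symm))).trans
      ((monoidAlgebraBC T K N).trans (MonoidAlgebra.domCongrBialgEquiv K K eN)))⟩⟩

theorem fibre_of_isTorus {k : Type u} [Field k] [Algebra R k] (h : SGA3b.IsTorus k (k ⊗[R] A)) :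
    SGA3b.IsMultType k (k ⊗[R] A) ∧ ConnectedSpace (PrimeSpectrum (k ⊗[R] A)) := by
  obtain ⟨K, _, _, _, _, n, ⟨σ⟩⟩ := exists_field_split_of_isTorus h
  have hd : SGA3b.IsDiag K (K ⊗[k] (k ⊗[R] A)) :=
    ⟨ULift.{u} (Multiplicative (Fin n → ℤ)), inferInstance,
      ⟨(cancelBC R k K A).trans (σ.trans (MonoidAlgebra.domCongrBialgEquiv K K MulEquiv.ulift.symm))⟩⟩
  refine ⟨isMultType_of_faithfullyFlat K (isMultType_of_isDiag hd), ?_⟩
  let g : K ⊗[R] A →+* MonoidAlgebra K (Multiplicative (Fin n → ℤ)) := (AlgEquivClass.toAlgEquiv σ : K ⊗[R] A ≃ₐ[K] MonoidAlgebra K (Multiplicative (Fin n → ℤ))).toRingEquiv.toRingHom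
  let i : k ⊗[R] A →ₐ[R] K ⊗[R] A := Algebra.TensorProduct.map (IsScalarTower.toAlgHom R k K) (AlgHom.id R A)
  have hi : Function.Injective i := by
    have h1 : Function.Injective (TensorProduct.mk k K (k ⊗[R] A) 1) :=
      Module.Flat.tensorProduct_mk_injective k (k ⊗[R] A) K
    have h2 : ∀ z, i z = cancelBC R k K A ((1 : K) ⊗ₜ[k] z) := by
      intro z
      induction z with
      | zero => simp
      | add a b ha hb => simp only [tmul_add, map_add, ha, hb]
      | tmul t a => rw [cancelBC_tmul]; simp [i, Algebra.smul_def]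
    intro a b hab
    rw [h2, h2] at hab
    exact h1 (EquivLike.injective (cancelBC R k K A) hab)
  haveI : IsDomain (MonoidAlgebra K (Multiplicative (Fin n → ℤ))) := NoZeroDivisors.to_isDomain _
  haveI : IsDomain (k ⊗[R] A) := Function.Injective.isDomain (g.comp i.toRingHom)
    ((EquivLike.injective σ).comp hi)
  infer_instance

theorem isTorus_of_fibres [Module.Flat R A] [Algebra.FinitePresentation R A]
    (hfib : ∀ (p : Ideal R) [p.IsPrime], SGA3b.IsTorus p.ResidueField (p.ResidueField ⊗[R] A)) : SGA3b.IsTorus R A := by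
  obtain ⟨s, hs, hf⟩ := isQuasiIsotrivial_of_fibres_connected (fun p _ => (fibre_of_isTorus (hfib p)).1)
    (fun p _ => (fibre_of_isTorus (hfib p)).2)
  refine ⟨s, hs, fun f hfs => ?_⟩
  obtain ⟨T, _, _, -, hff, M, _, ⟨ρ⟩⟩ := hf f hfs
  haveI := hff
  rcases subsingleton_or_nontrivial T with hT | hT
  · refine ⟨T, inferInstance, inferInstance, hff, 0, ⟨?_⟩⟩
    haveI : Subsingleton (MonoidAlgebra T M) := Module.subsingleton T _
    haveI : Subsingleton (MonoidAlgebra T (Multiplicative (Fin 0 → ℤ))) := Module.subsingleton T _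
    haveI : Subsingleton (MonoidAlgebra T (Multiplicative (Fin 0 → ℤ)) ⊗[T] MonoidAlgebra T (Multiplicative (Fin 0 → ℤ))) :=
      Module.subsingleton T _
    exact ρ.trans (BialgEquiv.ofAlgEquiv (AlgEquiv.ofBijective
      (MonoidAlgebra.mapDomainAlgHom T T (1 : M →* Multiplicative (Fin 0 → ℤ)))
      ⟨fun _ _ _ => Subsingleton.elim _ _, fun _ => ⟨0, Subsingleton.elim _ _⟩⟩)
      (AlgHom.ext fun _ => Subsingleton.elim _ _) (AlgHom.ext fun _ => Subsingleton.elim _ _))
  letI : Algebra R T := ((algebraMap (Localization.Away f) T).comp (algebraMap R (Localization.Away f))).toAlgebra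
  haveI : IsScalarTower R (Localization.Away f) T := IsScalarTower.of_algebraMap_eq fun _ => rfl
  obtain ⟨P, hP⟩ := Ideal.exists_maximal T
  let p : Ideal R := P.comap (algebraMap R T)
  haveI : p.IsPrime := Ideal.IsPrime.comap _
  obtain ⟨K, _, _, _, _, n, ⟨σ⟩⟩ := exists_field_split_of_isTorus (hfib p)
  let Q := P.ResidueField
  letI : Algebra p.ResidueField Q := (Ideal.ResidueField.map p P (algebraMap R T) rfl).toAlgebra
  haveI : IsScalarTower R p.ResidueField Q := IsScalarTower.of_algebraMap_eq fun r => by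
    rw [RingHom.algebraMap_toAlgebra, IsScalarTower.algebraMap_apply R T Q]
    exact (Ideal.ResidueField.map_algebraMap p P (algebraMap R T) rfl r).symm
  have hM : Nonempty (M ≃* ULift.{u} (Multiplicative (Fin n → ℤ))) := by
    by_contra hne
    haveI := subsingleton_tensor_of_types ((cancelBC R (Localization.Away f) T A).symm.trans ρ)
      (σ.trans (MonoidAlgebra.domCongrBialgEquiv K K MulEquiv.ulift.symm)) hne
    let χ : T ⊗[R] K →ₐ[R] Q ⊗[p.ResidueField] K := Algebra.TensorProduct.productMap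
      (((Algebra.TensorProduct.includeLeft : Q →ₐ[p.ResidueField] Q ⊗[p.ResidueField] K).restrictScalars R).comp
        (IsScalarTower.toAlgHom R T Q))
      ((Algebra.TensorProduct.includeRight : K →ₐ[p.ResidueField] Q ⊗[p.ResidueField] K).restrictScalars R)
    haveI : Nontrivial (T ⊗[R] K) := χ.toRingHom.domain_nontrivial
    exact false_of_nontrivial_of_subsingleton (T ⊗[R] K)
  obtain ⟨em⟩ := hM
  exact ⟨T, inferInstance, inferInstance, hff, n,
    ⟨ρ.trans (MonoidAlgebra.domCongrBialgEquiv T T (em.trans MulEquiv.ulift))⟩⟩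

end Groth.Agent.SGA3b53
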