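import Groth.Agent.SGA3b53.GLLift
import Mathlib

/-!
A group of multiplicative type which is diagonalisable modulo a nil ideal is diagonalisable.
-/

set_option autoImplicit false
set_option linter.unusedSectionVars false
universe u v w
open TensorProduct

noncomputable section

namespace Groth.Agent.SGA3b53

/-- A surjection onto a projective module which is injective modulo the Jacobson radical is injective. -/
theorem injective_of_surjective_of_jac {T : Type u} [CommRing T] {F G : Type u} [AddCommGroup F] [Module T F]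
    [AddCommGroup G] [Module T G] [Module.Projective T G] {ι : Type v} (b : Module.Basis ι T F) (f : F →ₗ[T] G)
    (hs : Function.Surjective f) (J : Ideal T) (hJ : J ≤ (⊥ : Ideal T).jacobson)
    (h : ∀ x, f x = 0 → ∀ i, b.repr x i ∈ J) : Function.Injective f := by
  obtain ⟨s, hs'⟩ := Module.projective_lifting_property f LinearMap.id hs
  have hfs : ∀ y, f (s y) = y := fun y => LinearMap.congr_fun hs' y
  rw [injective_iff_map_eq_zero]
  intro x hx
  let c := b.repr x
  let 𝔠 : Ideal T := Ideal.span ((fun i => c i) '' (c.support : Set ι))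
  have hp : x = c.sum fun i a => a • (b i - s (f (b i))) := by
    have h1 := congrArg (fun z => z - s (f z)) (b.linearCombination_repr x)
    simp only [hx, map_zero, sub_zero] at h1
    conv_lhs => rw [← h1]
    rw [Finsupp.linearCombination_apply]
    simp only [map_finsuppSum, map_smul, smul_sub]
    rw [Finsupp.sum_sub]
  have hmem : ∀ i, c i ∈ J * 𝔠 := by
    intro i
    have h1 := congrArg (fun z => b.repr z i) hp
    simp only [map_finsuppSum, map_smul, Finsupp.sum_apply] at h1
    change c i ∈ J * 𝔠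
    rw [show c i = b.repr x i from rfl, h1]
    refine Ideal.sum_mem _ fun j hj => ?_
    simp only [Finsupp.smul_apply, smul_eq_mul]
    rw [mul_comm (c j)]
    refine Ideal.mul_mem_mul (h _ ?_ i) (show c j ∈ 𝔠 from Ideal.subset_span ⟨j, hj, rfl⟩)
    rw [map_sub, hfs, sub_self]
  have hfg : 𝔠.FG := Submodule.fg_span ((c.support.finite_toSet).image _)
  have hle : 𝔠 ≤ J • 𝔠 := Ideal.span_le.2 (by rintro _ ⟨i, _, rfl⟩; exact hmem i)
  have h0 : 𝔠 = ⊥ := Submodule.eq_bot_of_le_smul_of_le_jacobson_bot J 𝔠 hfg hle hJ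
  apply b.repr.injective
  rw [map_zero]
  ext i
  have := hmem i
  rw [h0, Ideal.mul_bot, Ideal.mem_bot] at this
  simpa using this

variable {R : Type u} [CommRing R] {A : Type u} [CommRing A] [HopfAlgebra R A]

/-- The bialgebra map out of a group algebra given by group-like elements. -/
theorem exists_bialgHom_of_grouplike {M : Type u} [CommGroup M] (γ : M →* A) (h : ∀ m, IsGroupLikeElem R (γ m)) :
    ∃ θ : MonoidAlgebra R M →ₐc[R] A, ∀ m r, θ (MonoidAlgebra.single m r) = r • γ m := by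
  refine ⟨BialgHom.ofAlgHom (MonoidAlgebra.lift R A M γ) ?_ ?_, fun m r => ?_⟩
  · refine MonoidAlgebra.algHom_ext (fun m => ?_) (Subsingleton.elim _ _)
    simp [(h m).counit_eq_one]
  · refine MonoidAlgebra.algHom_ext (fun m => ?_) (Subsingleton.elim _ _)
    simp [(h m).comul_eq_tmul_self]
  · exact MonoidAlgebra.lift_single γ m r

/-- Group-like elements of `(R ⧸ I) ⊗ A` define a lift of a diagonalisation modulo a nil ideal. -/
theorem exists_grouplike_hom (I : Ideal R) (hI : ∀ x ∈ I, IsNilpotent x) (h : SGA3b.IsMultType R A)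
    {M : Type u} [CommGroup M] (g : M →* (R ⧸ I) ⊗[R] A) (hg : ∀ m, IsGroupLikeElem (R ⧸ I) (g m)) :
    ∃ γ : M →* A, ∀ m, IsGroupLikeElem R (γ m) ∧ (1 : R ⧸ I) ⊗ₜ[R] γ m = g m := by
  choose γ hγ hu using fun m => existsUnique_grouplike_lift I hI h (hg m)
  refine ⟨{ toFun := γ, map_one' := (hu 1 1 ⟨IsGroupLikeElem.one, by rw [map_one]; rfl⟩).symm,
            map_mul' := fun a b => (hu (a * b) (γ a * γ b) ⟨(hγ a).1.mul (hγ b).1, ?_⟩).symm }, fun m => hγ m⟩
  rw [map_mul, ← (hγ a).2, ← (hγ b).2, Algebra.TensorProduct.tmul_mul_tmul, one_mul]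

theorem isDiag_of_isDiag_quotient (I : Ideal R) (hI : ∀ x ∈ I, IsNilpotent x) (h : SGA3b.IsMultType R A)
    (h0 : SGA3b.IsDiag (R ⧸ I) ((R ⧸ I) ⊗[R] A)) : SGA3b.IsDiag R A := by
  obtain ⟨M, _, ⟨ρ0⟩⟩ := h0
  obtain ⟨γ, hγ⟩ := exists_grouplike_hom I hI h
    ((MonoidHomClass.toMonoidHom ρ0.symm).comp (MonoidAlgebra.of (R ⧸ I) M))
    (fun m => (MonoidAlgebra.isGroupLikeElem_of m).map ρ0.symm)
  obtain ⟨θ, hθ⟩ := exists_bialgHom_of_grouplike γ fun m => (hγ m).1
  let e0 : (R ⧸ I) ⊗[R] MonoidAlgebra R M ≃ₐc[R ⧸ I] (R ⧸ I) ⊗[R] A :=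
    (monoidAlgebraBC R (R ⧸ I) M).trans ρ0.symm
  have he0 : ∀ c, e0 ((1 : R ⧸ I) ⊗ₜ[R] c) = (1 : R ⧸ I) ⊗ₜ[R] θ c := by
    intro c
    induction c using MonoidAlgebra.induction_linear with
    | zero => simp
    | add f g hf hg => simp only [map_add, tmul_add, hf, hg]
    | single m r =>
      have h1 : (monoidAlgebraBC R (R ⧸ I) M) ((1 : R ⧸ I) ⊗ₜ[R] MonoidAlgebra.single m r) =
          algebraMap R (R ⧸ I) r • MonoidAlgebra.of (R ⧸ I) M m := by
        refine MonoidAlgebra.ext (Finsupp.ext fun n => ?_)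
        rw [monoidAlgebraBC_one_tmul]
        by_cases hn : m = n <;> simp [hn]
      change ρ0.symm (monoidAlgebraBC R (R ⧸ I) M _) = _
      rw [h1, map_smul, hθ, tmul_smul, algebraMap_smul, (hγ m).2]
      rfl
  obtain ⟨ι, T, _, _, hT, hd⟩ := exists_cover h
  have hb : ∀ i, Function.Bijective ((θ : MonoidAlgebra R M →ₗ[R] A).lTensor (T i)) := by
    intro i
    obtain ⟨N, _, ⟨ρ⟩⟩ := hd i
    let J : Ideal (T i) := I.map (algebraMap R (T i))
    have hJ : ∀ x ∈ J, IsNilpotent x := fun x hx =>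
      mem_nilradical.1 ((Ideal.map_le_iff_le_comap.2 fun a ha => mem_nilradical.2 ((hI a ha).map _)) hx)
    have hJ' : J ≤ (⊥ : Ideal (T i)).jacobson := fun x hx => Ideal.radical_le_jacobson (by
      obtain ⟨n, hn⟩ := hJ x hx
      exact ⟨n, by simp [hn]⟩)
    let q := Ideal.Quotient.mkₐ R J
    have hq : RingHom.ker (q : T i →+* T i ⧸ J) ≤ (⊥ : Ideal (T i)).jacobson := fun x hx => hJ' (by
      rw [RingHom.mem_ker] at hx
      exact Ideal.Quotient.eq_zero_iff_mem.1 hx)
    have hq' : ∀ x ∈ RingHom.ker (q : T i →+* T i ⧸ J), IsNilpotent x := fun x hx => hJ x (by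
      rw [RingHom.mem_ker] at hx
      exact Ideal.Quotient.eq_zero_iff_mem.1 hx)
    let f₀ : (R ⧸ I) →ₐ[R] T i ⧸ J := Ideal.Quotient.liftₐ I (Algebra.ofId R _) fun a ha => by
      rw [Algebra.ofId_apply, IsScalarTower.algebraMap_apply R (T i) (T i ⧸ J),
        Ideal.Quotient.algebraMap_eq, Ideal.Quotient.eq_zero_iff_mem]
      exact Ideal.mem_map_of_mem _ ha
    letI : Algebra (R ⧸ I) (T i ⧸ J) := f₀.toRingHom.toAlgebra
    haveI : IsScalarTower R (R ⧸ I) (T i ⧸ J) := IsScalarTower.of_algebraMap_eq fun r => (f₀.commutes r).symm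
    let e' : (T i ⧸ J) ⊗[R] MonoidAlgebra R M ≃ₐc[T i ⧸ J] (T i ⧸ J) ⊗[R] A :=
      ((cancelBC R (R ⧸ I) (T i ⧸ J) (MonoidAlgebra R M)).symm.trans (congrBC (T i ⧸ J) e0)).trans
        (cancelBC R (R ⧸ I) (T i ⧸ J) A)
    have he' : ∀ (t : T i ⧸ J) c, e' (t ⊗ₜ[R] c) = t ⊗ₜ[R] θ c := by
      intro t c
      have h1 : (cancelBC R (R ⧸ I) (T i ⧸ J) (MonoidAlgebra R M)).symm (t ⊗ₜ[R] c) =
          t ⊗ₜ[R ⧸ I] ((1 : R ⧸ I) ⊗ₜ[R] c) := by
        apply EquivLike.injective (cancelBC R (R ⧸ I) (T i ⧸ J) (MonoidAlgebra R M))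
        erw [BialgEquiv.apply_symm_apply]
      change cancelBC R (R ⧸ I) (T i ⧸ J) A (congrBC (T i ⧸ J) e0
        ((cancelBC R (R ⧸ I) (T i ⧸ J) (MonoidAlgebra R M)).symm (t ⊗ₜ[R] c))) = _
      rw [h1, congrBC_tmul, he0, cancelBC_tmul, one_smul]
    let θT : T i ⊗[R] MonoidAlgebra R M →ₐc[T i] T i ⊗[R] A :=
      Bialgebra.TensorProduct.map (BialgHom.id (T i) (T i)) θ
    have hcomm : ∀ w, Algebra.TensorProduct.map q (AlgHom.id R A) (θT w) =
        e' (Algebra.TensorProduct.map q (AlgHom.id R (MonoidAlgebra R M)) w) := by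
      intro w
      induction w with
      | zero => simp
      | add a b ha hb => simp only [map_add, ha, hb]
      | tmul t c => simp [θT, he']
    have hdC : SGA3b.IsDiag (T i) (T i ⊗[R] MonoidAlgebra R M) := ⟨M, inferInstance, ⟨monoidAlgebraBC R (T i) M⟩⟩
    have hsurj : Function.Surjective θT := by
      have hs : ∀ y, ρ.symm y ∈ Set.range θT := by
        intro y
        induction y using MonoidAlgebra.induction_linear with
        | zero => exact ⟨0, by simp⟩
        | add f g hf hg =>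
          obtain ⟨a, ha⟩ := hf
          obtain ⟨b, hb⟩ := hg
          exact ⟨a + b, by rw [map_add, map_add, ha, hb]⟩
        | single m r =>
          have hx := (MonoidAlgebra.isGroupLikeElem_of (R := T i) m).map ρ.symm
          have hz := (isGroupLike_map q hx).map e'.symm
          obtain ⟨z, hzg, hzm⟩ := exists_grouplike_lift hdC q (Ideal.Quotient.mkₐ_surjective R J) hq' hz
          refine ⟨r • z, ?_⟩
          have h2 : θT z = ρ.symm (MonoidAlgebra.of (T i) N m) := by
            refine grouplike_eq_of_map_eq (hd i) q hq (hzg.map θT) hx ?_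
            rw [hcomm, hzm]
            first | done | exact e'.apply_symm_apply _
          rw [map_smul, h2, ← map_smul]
          simp
      intro y
      obtain ⟨w, hw⟩ := hs (ρ y)
      exact ⟨w, hw.trans (ρ.symm_apply_apply y)⟩
    haveI : Module.Free (T i) (T i ⊗[R] A) :=
      Module.Free.of_basis (Module.Basis.map (MonoidAlgebra.basis N (T i)) ρ.symm.toLinearEquiv)
    have hinj : Function.Injective θT := by
      refine injective_of_surjective_of_jac
        (Module.Basis.map (MonoidAlgebra.basis M (T i)) (monoidAlgebraBC R (T i) M).symm.toLinearEquiv)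
        (θT : T i ⊗[R] MonoidAlgebra R M →ₗ[T i] T i ⊗[R] A) hsurj J hJ' fun x hx j => ?_
      have h1 : Algebra.TensorProduct.map q (AlgHom.id R (MonoidAlgebra R M)) x = 0 := by
        apply EquivLike.injective e'
        rw [← hcomm, show θT x = 0 from hx, map_zero, map_zero]
      obtain ⟨ρ', hρ'⟩ := exists_split_map q (monoidAlgebraBC R (T i) M)
      have h2 := congrArg (fun z => (ρ' z).coeff j) h1
      simp only [hρ', map_zero] at h2
      refine Ideal.Quotient.eq_zero_iff_mem.1 ?_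
      simp only [MonoidAlgebra.coeff_zero, Finsupp.coe_zero, Pi.zero_apply] at h2
      exact Eq.trans (by simp [q]; rfl) h2
    have hlin : ((θ : MonoidAlgebra R M →ₗ[R] A).lTensor (T i) : _ → _) = θT := by
      funext w
      induction w with
      | zero => simp
      | add a b ha hb => simp only [map_add, ha, hb]
      | tmul t c => simp [θT]
    rw [hlin]
    exact ⟨hinj, hsurj⟩
  have hbij : Function.Bijective θ :=
    ⟨hT.injective (θ : MonoidAlgebra R M →ₗ[R] A) fun i => (hb i).1,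
      hT.surjective (θ : MonoidAlgebra R M →ₗ[R] A) fun i => (hb i).2⟩
  exact ⟨M, inferInstance, ⟨(BialgEquiv.ofBijective θ hbij).symm⟩⟩

end Groth.Agent.SGA3b53
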