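import Groth.Agent.SGA3b53.TypeCover
import Mathlib

/-!
Closed subgroups of diagonalisable groups over a field are diagonalisable.
-/

set_option autoImplicit false
set_option linter.unusedSectionVars false
set_option linter.style.haveILetI false
universe u v w
open TensorProduct

noncomputable section

namespace Groth.Agent.SGA3b53

theorem isDiag_of_surjective_field {K : Type u} [Field K] {B : Type u} [CommRing B] [HopfAlgebra K B]
    {M : Type u} [CommGroup M] (π : MonoidAlgebra K M →ₐc[K] B) (hπ : Function.Surjective π) :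
    SGA3b.IsDiag K B := by
  let φ : M →* B := ((π : MonoidAlgebra K M →ₐ[K] B) : MonoidAlgebra K M →* B).comp (MonoidAlgebra.of K M)
  have hφ : ∀ m, IsGroupLikeElem K (φ m) := fun m => (MonoidAlgebra.isGroupLikeElem_of (R := K) m).map π
  let φ' : M →* Bˣ := φ.toHomUnits
  let N := M ⧸ φ'.ker
  let ψ : N →* B := (Units.coeHom B).comp (QuotientGroup.kerLift φ')
  have hψi : Function.Injective ψ := fun a b h =>
    QuotientGroup.kerLift_injective φ' (Units.ext h)
  have hψ : ∀ n, IsGroupLikeElem K (ψ n) := by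
    intro n
    obtain ⟨m, rfl⟩ := QuotientGroup.mk_surjective n
    exact hφ m
  obtain ⟨θ, hθ⟩ := exists_bialgHom_of_grouplike ψ hψ
  refine ⟨N, inferInstance, ⟨(BialgEquiv.ofBijective θ ⟨?_, ?_⟩).symm⟩⟩
  · have hli : LinearIndependent K ψ :=
      (linearIndep_groupLikeVal (R := K) (A := B)).comp (fun n => (⟨ψ n, hψ n⟩ : GroupLike K B))
        fun a b h => hψi (congrArg GroupLike.val h)
    rw [injective_iff_map_eq_zero]
    intro x hx
    refine MonoidAlgebra.ext ?_
    rw [MonoidAlgebra.coeff_zero]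
    refine linearIndependent_iff.1 hli x.coeff ?_
    rw [← hx, Finsupp.linearCombination_apply]
    conv_rhs => rw [← x.sum_coeff_single]
    simp only [Finsupp.sum, map_sum, hθ]
  · intro b
    obtain ⟨x, rfl⟩ := hπ b
    induction x using MonoidAlgebra.induction_linear with
    | zero => exact ⟨0, by simp⟩
    | add f g hf hg =>
      obtain ⟨a, ha⟩ := hf
      obtain ⟨c, hc⟩ := hg
      exact ⟨a + c, by rw [map_add, map_add, ha, hc]⟩
    | single m r =>
      refine ⟨MonoidAlgebra.single (QuotientGroup.mk m : N) r, ?_⟩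
      rw [hθ, show MonoidAlgebra.single m r = r • MonoidAlgebra.of K M m by simp, map_smul]
      rfl

variable {R : Type u} [CommRing R] {A : Type u} [CommRing A] [HopfAlgebra R A]

/-- A closed subgroup of a group split over a field extension is split over it. -/
theorem isDiag_quotient_field {K : Type u} [Field K] [Algebra R K] (h : SGA3b.IsDiag K (K ⊗[R] A))
    (J : Ideal A) [J.IsHopfIdeal R] : SGA3b.IsDiag K (K ⊗[R] (A ⧸ J)) := by
  obtain ⟨M, _, ⟨ρ⟩⟩ := h
  refine isDiag_of_surjective_field
    ((Bialgebra.TensorProduct.map (BialgHom.id K K) (Bialgebra.Quotient.mkBialgHom (R := R) J)).comp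
      (ρ.symm : MonoidAlgebra K M →ₐc[K] K ⊗[R] A)) ?_
  refine Function.Surjective.comp (g := Bialgebra.TensorProduct.map (BialgHom.id K K) _) ?_ (EquivLike.surjective ρ.symm)
  intro y
  induction y with
  | zero => exact ⟨0, by simp⟩
  | add a b ha hb =>
    obtain ⟨a', rfl⟩ := ha
    obtain ⟨b', rfl⟩ := hb
    exact ⟨a' + b', map_add _ _ _⟩
  | tmul t a =>
    obtain ⟨a, rfl⟩ := Ideal.Quotient.mk_surjective a
    exact ⟨t ⊗ₜ a, by simp⟩

/-- Closed subgroups of groups of multiplicative type over a field are of multiplicative type. -/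
theorem isMultType_quotient_field {k : Type u} [Field k] {A : Type u} [CommRing A] [HopfAlgebra k A]
    (h : SGA3b.IsMultType k A) (J : Ideal A) [J.IsHopfIdeal k] : SGA3b.IsMultType k (A ⧸ J) := by
  obtain ⟨ι, T, _, _, hT, hd⟩ := exists_cover h
  obtain ⟨i, q, -⟩ := hT.exists_lift ⟨⊥, Ideal.isPrime_bot⟩
  haveI : Nontrivial (T i) := ⟨0, 1, fun h => q.isPrime.ne_top
    ((Ideal.eq_top_iff_one _).2 (h ▸ q.asIdeal.zero_mem))⟩
  obtain ⟨m, hm⟩ := Ideal.exists_maximal (T i)
  let K := T i ⧸ m
  letI : Field K := Ideal.Quotient.field m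
  have hK : SGA3b.IsDiag K (K ⊗[k] A) := isDiag_tower (T i) K (hd i)
  refine isMultType_of_cover (ι := PUnit.{u+1}) (T := fun _ => K) ⟨fun _ => inferInstance, fun p => ?_⟩
    (fun _ => isDiag_quotient_field hK J)
  exact ⟨PUnit.unit, ⟨⊥, Ideal.isPrime_bot⟩, Subsingleton.elim _ _⟩

end Groth.Agent.SGA3b53
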