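import Groth.Agent.SGA3b53.BaseChange
import Groth.Agent.Versch53.BaseChange
import Mathlib

/-!
Basic properties of the power endomorphisms.
-/

set_option autoImplicit false
set_option linter.unusedSectionVars false
universe u v w
open TensorProduct WithConv

noncomputable section

namespace Groth.Agent.SGA3b53

variable {R : Type u} [CommRing R] {A : Type u} [CommRing A] [HopfAlgebra R A]

theorem powConv_zero (a : A) : SGA3b.powConv R A 0 a = algebraMap R A (Coalgebra.counit (R := R) a) := by
  show ((WithConv.toConv (AlgHom.id R A)) ^ 0).ofConv a = _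
  rw [pow_zero]
  simp [AlgHom.convOne_apply]

theorem powConv_succ (n : ℕ) (a : A) : SGA3b.powConv R A (n + 1) a =
    Algebra.TensorProduct.lift (SGA3b.powConv R A n) (AlgHom.id R A) (fun _ _ => Commute.all _ _)
      (Coalgebra.comul (R := R) a) := by
  show ((WithConv.toConv (AlgHom.id R A)) ^ (n + 1)).ofConv a = _
  rw [pow_succ, AlgHom.convMul_apply]
  rfl

theorem powConv_grouplike (n : ℕ) {g : A} (hg : IsGroupLikeElem R g) : SGA3b.powConv R A n g = g ^ n := by
  induction n with
  | zero => rw [powConv_zero, hg.counit_eq_one, map_one, pow_zero]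
  | succ n ih => rw [powConv_succ, hg.comul_eq_tmul_self, Algebra.TensorProduct.lift_tmul, ih, pow_succ]; rfl

theorem powConv_naturality {B : Type u} [CommRing B] [HopfAlgebra R B] (f : A →ₐc[R] B) (n : ℕ) (a : A) :
    f (SGA3b.powConv R A n a) = SGA3b.powConv R B n (f a) := by
  induction n generalizing a with
  | zero =>
    rw [powConv_zero, powConv_zero, CoalgHomClass.counit_comp_apply]
    exact AlgHomClass.commutes f _
  | succ n ih =>
    rw [powConv_succ, powConv_succ, ← CoalgHomClass.map_comp_comul_apply]
    generalize Coalgebra.comul (R := R) a = z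
    induction z with
    | zero => simp
    | add p q hp hq => simp only [map_add, hp, hq]
    | tmul p q =>
      rw [TensorProduct.map_tmul, Algebra.TensorProduct.lift_tmul, Algebra.TensorProduct.lift_tmul, map_mul, ih]
      rfl

/-- On the kernel of the `n`-th power map that map is trivial. -/
theorem powConv_quotient_trivial (n : ℕ) (J : Ideal A) [J.IsHopfIdeal R] (hJ : SGA3b.torsionIdeal R A n ≤ J)
    (y : A ⧸ J) : SGA3b.powConv R (A ⧸ J) n y = algebraMap R _ (Coalgebra.counit (R := R) y) := by
  obtain ⟨a, rfl⟩ := Ideal.Quotient.mk_surjective y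
  have h1 := powConv_naturality (Bialgebra.Quotient.mkBialgHom (R := R) J) n a
  simp only [Bialgebra.Quotient.mkBialgHom_apply] at h1
  have h2 : a - algebraMap R A (Coalgebra.counit (R := R) a) ∈ RingHom.ker (Bialgebra.counitAlgHom R A) := by
    rw [RingHom.mem_ker, map_sub, AlgHom.commutes, sub_eq_zero]
    rfl
  have h3 : SGA3b.powConv R A n (a - algebraMap R A (Coalgebra.counit (R := R) a)) ∈ J :=
    hJ (Ideal.mem_map_of_mem _ h2)
  rw [map_sub, AlgHom.commutes, ← Ideal.Quotient.eq_zero_iff_mem, map_sub, sub_eq_zero] at h3
  rw [← h1, h3]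
  rfl

/-- If the power map is trivial it stays trivial after base change. -/
theorem powConv_trivial_baseChange (T : Type u) [CommRing T] [Algebra R T] (n : ℕ)
    (h : ∀ a : A, SGA3b.powConv R A n a = algebraMap R A (Coalgebra.counit (R := R) a)) (x : T ⊗[R] A) :
    SGA3b.powConv T (T ⊗[R] A) n x = algebraMap T _ (Coalgebra.counit (R := T) x) := by
  induction x with
  | zero => simp
  | add a b ha hb => simp only [map_add, ha, hb]
  | tmul t a =>
    rw [Versch53.powConv_baseChange_tmul, h, TensorProduct.counit_tmul, CommSemiring.counit_apply,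
      Algebra.TensorProduct.algebraMap_apply, Algebra.algebraMap_self, RingHom.id_apply,
      Algebra.algebraMap_eq_smul_one, TensorProduct.tmul_smul, TensorProduct.smul_tmul']

/-- Group-like elements are killed by `n` if the power map is trivial. -/
theorem grouplike_pow_eq_one (n : ℕ) (h : ∀ a : A, SGA3b.powConv R A n a = algebraMap R A (Coalgebra.counit (R := R) a))
    {g : A} (hg : IsGroupLikeElem R g) : g ^ n = 1 := by
  rw [← powConv_grouplike n hg, h, hg.counit_eq_one, map_one]

/-- The power map of a group algebra of a group killed by `n` is trivial. -/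
theorem powConv_monoidAlgebra_trivial {N : Type u} [CommGroup N] (n : ℕ) (h : ∀ x : N, x ^ n = 1)
    (x : MonoidAlgebra R N) : SGA3b.powConv R (MonoidAlgebra R N) n x =
      algebraMap R _ (Coalgebra.counit (R := R) x) := by
  induction x using MonoidAlgebra.induction_linear with
  | zero => simp
  | add f g hf hg => simp only [map_add, hf, hg]
  | single m r =>
    rw [show MonoidAlgebra.single m r = r • MonoidAlgebra.of R N m by simp, map_smul, map_smul,
      powConv_grouplike n (MonoidAlgebra.isGroupLikeElem_of m), ← map_pow, h, map_one,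
      (MonoidAlgebra.isGroupLikeElem_of (R := R) m).counit_eq_one, smul_eq_mul, mul_one,
      Algebra.algebraMap_eq_smul_one]

end Groth.Agent.SGA3b53
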