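import Groth.Agent.SGA3b53.BaseChange
import Mathlib

/-!
Splitting covers of groups of multiplicative type.
-/

set_option autoImplicit false
set_option linter.unusedSectionVars false
universe u v
open TensorProduct

noncomputable section

namespace Groth.Agent.SGA3b53

variable {R : Type u} [CommRing R]

/-- A jointly faithfully flat family of `R`-algebras. -/
structure IsCover (R : Type u) [CommRing R] {ι : Type v} (T : ι → Type u) [∀ i, CommRing (T i)]
    [∀ i, Algebra R (T i)] : Prop where
  flat : ∀ i, Module.Flat R (T i)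
  exists_lift : ∀ p : PrimeSpectrum R, ∃ (i : ι) (q : PrimeSpectrum (T i)), q.comap (algebraMap R (T i)) = p

variable {ι : Type v} {T : ι → Type u} [∀ i, CommRing (T i)] [∀ i, Algebra R (T i)]

theorem IsCover.eq_zero (hT : IsCover R T) {M : Type*} [AddCommGroup M] [Module R M] {x : M}
    (h : ∀ i, (1 : T i) ⊗ₜ[R] x = (0 : T i ⊗[R] M)) : x = 0 := by
  by_contra hx
  let f : R →ₗ[R] M := LinearMap.toSpanSingleton R M x
  have hne : LinearMap.ker f ≠ ⊤ := fun he => hx (by
    have : (1 : R) ∈ LinearMap.ker f := he ▸ Submodule.mem_top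
    simpa [f] using this)
  obtain ⟨m, hm, hle⟩ := Ideal.exists_le_maximal (LinearMap.ker f) hne
  obtain ⟨i, q, hq⟩ := hT.exists_lift ⟨m, hm.isPrime⟩
  haveI := hT.flat i
  have hex : Function.Exact ((LinearMap.ker f).subtype.lTensor (T i)) (f.lTensor (T i)) :=
    Module.Flat.lTensor_exact _ (LinearMap.exact_subtype_ker_map f)
  obtain ⟨z, hz⟩ := (hex ((1 : T i) ⊗ₜ[R] (1 : R))).1 (by simpa [f] using h i)
  have key : ∀ z : T i ⊗[R] LinearMap.ker f,
      TensorProduct.rid R (T i) ((LinearMap.ker f).subtype.lTensor (T i) z) ∈ q.asIdeal := by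
    intro z
    induction z with
    | zero => simp
    | add a b ha hb => rw [map_add, map_add]; exact add_mem ha hb
    | tmul t a =>
      rw [LinearMap.lTensor_tmul, TensorProduct.rid_tmul, Algebra.smul_def]
      refine Ideal.mul_mem_right _ _ ?_
      have : (a : R) ∈ (q.comap (algebraMap R (T i))).asIdeal := by rw [hq]; exact hle a.2
      exact this
  have := key z
  rw [hz, TensorProduct.rid_tmul, one_smul] at this
  exact q.isPrime.ne_top ((Ideal.eq_top_iff_one _).2 this)

theorem IsCover.injective (hT : IsCover R T) {M N : Type*} [AddCommGroup M] [Module R M] [AddCommGroup N]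
    [Module R N] (f : M →ₗ[R] N) (h : ∀ i, Function.Injective (f.lTensor (T i))) : Function.Injective f := by
  rw [injective_iff_map_eq_zero]
  intro x hx
  exact hT.eq_zero fun i => h i (by rw [LinearMap.lTensor_tmul, hx, tmul_zero, map_zero])

theorem IsCover.surjective (hT : IsCover R T) {M N : Type*} [AddCommGroup M] [Module R M] [AddCommGroup N]
    [Module R N] (f : M →ₗ[R] N) (h : ∀ i, Function.Surjective (f.lTensor (T i))) : Function.Surjective f := by
  rw [← LinearMap.range_eq_top, eq_top_iff]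
  intro y _
  rw [← Submodule.Quotient.mk_eq_zero (LinearMap.range f)]
  refine hT.eq_zero fun i => ?_
  obtain ⟨z, hz⟩ := h i ((1 : T i) ⊗ₜ[R] y)
  have h0 := congrArg ((LinearMap.range f).mkQ.lTensor (T i)) hz
  rw [← LinearMap.comp_apply, ← LinearMap.lTensor_comp, LinearMap.lTensor_tmul,
    LinearMap.range_mkQ_comp, LinearMap.lTensor_zero, LinearMap.zero_apply] at h0
  exact h0.symm

variable {A : Type u} [CommRing A] [HopfAlgebra R A]

theorem exists_cover_of_span (s : Set R) (hs : Ideal.span s = ⊤)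
    (hf : ∀ f ∈ s, SGA3b.IsMultTypeConst (Localization.Away f) (Localization.Away f ⊗[R] A)) :
    ∃ (T : s → Type u) (_ : ∀ i, CommRing (T i)) (_ : ∀ i, Algebra R (T i)),
      IsCover R T ∧ ∀ i, SGA3b.IsDiag (T i) (T i ⊗[R] A) := by
  choose T hT₁ hT₂ hT₃ hT₄ using fun f : s => hf f.1 f.2
  letI : ∀ f, CommRing (T f) := hT₁
  letI hL : ∀ f : s, Algebra (Localization.Away f.1) (T f) := hT₂
  letI : ∀ f : s, Algebra R (T f) := fun f =>
    ((algebraMap (Localization.Away f.1) (T f)).comp (algebraMap R (Localization.Away f.1))).toAlgebra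
  haveI : ∀ f : s, IsScalarTower R (Localization.Away f.1) (T f) := fun f => IsScalarTower.of_algebraMap_eq fun _ => rfl
  refine ⟨T, inferInstance, inferInstance, ⟨fun f => ?_, fun p => ?_⟩, fun f => ?_⟩
  · haveI := hT₃ f
    exact Module.Flat.trans R (Localization.Away f.1) (T f)
  · obtain ⟨f, hfs, hfp⟩ : ∃ f ∈ s, f ∉ p.asIdeal := by
      by_contra hc
      push Not at hc
      exact p.isPrime.ne_top (top_le_iff.1 (hs ▸ Ideal.span_le.2 hc))
    obtain ⟨P, hP⟩ : p ∈ Set.range (PrimeSpectrum.comap (algebraMap R (Localization.Away f))) := by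
      rw [PrimeSpectrum.localization_away_comap_range (Localization.Away f) f]; exact hfp
    haveI := hT₃ ⟨f, hfs⟩
    letI : Algebra (Localization.Away f) (T ⟨f, hfs⟩) := hL ⟨f, hfs⟩
    obtain ⟨q, hq⟩ := PrimeSpectrum.comap_surjective_of_faithfullyFlat (A := Localization.Away f) (B := T ⟨f, hfs⟩) P
    exact ⟨⟨f, hfs⟩, q, by rw [← hP, ← hq, ← PrimeSpectrum.comap_comp_apply]; rfl⟩
  · exact isDiag_of_equiv (cancelBC R (Localization.Away f.1) (T f) A) (hT₄ f)

/-- A group of multiplicative type is split by a cover. -/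
theorem exists_cover (h : SGA3b.IsMultType R A) :
    ∃ (ι : Type u) (T : ι → Type u) (_ : ∀ i, CommRing (T i)) (_ : ∀ i, Algebra R (T i)),
      IsCover R T ∧ ∀ i, SGA3b.IsDiag (T i) (T i ⊗[R] A) := by
  obtain ⟨s, hs, hf⟩ := h
  obtain ⟨T, _, _, hT⟩ := exists_cover_of_span s hs hf
  exact ⟨s, T, _, _, hT⟩

/-- A group of multiplicative type is split by a finite cover. -/
theorem exists_finite_cover (h : SGA3b.IsMultType R A) :
    ∃ (ι : Type u) (_ : Finite ι) (T : ι → Type u) (_ : ∀ i, CommRing (T i)) (_ : ∀ i, Algebra R (T i)),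
      IsCover R T ∧ ∀ i, SGA3b.IsDiag (T i) (T i ⊗[R] A) := by
  obtain ⟨s, hs, hf⟩ := h
  obtain ⟨t, hts, ht⟩ := (Ideal.span_eq_top_iff_finite s).1 hs
  obtain ⟨T, _, _, hT⟩ := exists_cover_of_span (t : Set R) ht fun f hf' => hf f (hts hf')
  exact ⟨(t : Set R), Finset.finite_toSet t |>.to_subtype, T, _, _, hT⟩

theorem isMultType_of_isDiag (h : SGA3b.IsDiag R A) : SGA3b.IsMultType R A := by
  refine ⟨{1}, Ideal.span_singleton_one, fun f _ => ?_⟩
  exact ⟨Localization.Away f, inferInstance, inferInstance, inferInstance,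
    isDiag_baseChange _ (isDiag_baseChange _ h)⟩

end Groth.Agent.SGA3b53
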