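import Groth.Agent.SGA3b53.Coord
import Groth.Agent.SGA3b53.Cover
import Mathlib

/-!
Rigidity of homomorphisms out of groups of multiplicative type.
-/

set_option autoImplicit false
set_option linter.unusedSectionVars false
universe u
open TensorProduct

noncomputable section

namespace Groth.Agent.SGA3b53

variable {R : Type u} [CommRing R] {A : Type u} [CommRing A] [HopfAlgebra R A]
variable {C : Type u} [CommRing C] [HopfAlgebra R C]

theorem mem_smul_top_of_one_tmul {M : Type*} [AddCommGroup M] [Module R M] (I : Ideal R) {x : M}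
    (h : (1 : R ⧸ I) ⊗ₜ[R] x = 0) : x ∈ I • (⊤ : Submodule R M) := by
  have := congrArg (TensorProduct.quotTensorEquivQuotSMul M I) h
  rw [map_zero, ← Submodule.Quotient.mk_eq_zero (I • (⊤ : Submodule R M))] at *
  simpa using this

theorem mem_smul_top_of_mem_map (I : Ideal R) {x : A} (h : x ∈ I.map (algebraMap R A)) :
    x ∈ I • (⊤ : Submodule R A) := by
  rw [Ideal.smul_top_eq_map]
  exact h

theorem eq_unit_of_nilpotent (I : Ideal R) (hI : IsNilpotent I) (hH : SGA3b.IsMultType R A) (φ : C →ₐc[R] A)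
    (h0 : ∀ c, φ c - algebraMap R A (Coalgebra.counit c) ∈ I • (⊤ : Submodule R A)) (c : C) :
    φ c = algebraMap R A (Coalgebra.counit c) := by
  obtain ⟨ι, T, _, _, hT, hd⟩ := exists_cover hH
  refine sub_eq_zero.1 (hT.eq_zero fun i => ?_)
  obtain ⟨M, _, ⟨ρ⟩⟩ := hd i
  obtain ⟨N, hN⟩ := hI
  set J := I.map (algebraMap R (T i))
  have key : ∀ k m c, coord ρ m (φ c - algebraMap R A (Coalgebra.counit c)) ∈ J ^ (k + 1) := by
    intro k
    induction k with
    | zero =>
      intro m c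
      rw [zero_add, pow_one]
      exact coord_mem ρ I (h0 c) m
    | succ k ih =>
      intro m c
      have h1 := coord_congr_unit_sq ρ φ _ ih m c
      rw [← pow_add] at h1
      exact Ideal.pow_le_pow_right (by omega) h1
  rw [← tmul_zero A (1 : T i)]
  refine eq_of_coord ρ fun m => ?_
  have h1 := Ideal.pow_le_pow_right (show N ≤ N + 1 by omega) (key N m c)
  rw [← Ideal.map_pow, hN, Ideal.zero_eq_bot, Ideal.map_bot, Ideal.mem_bot] at h1
  rw [h1, map_zero]

theorem eq_of_nilpotent_cocomm [Coalgebra.IsCocomm R C] (I : Ideal R) (hI : IsNilpotent I)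
    (hH : SGA3b.IsMultType R A) (φ ψ : C →ₐc[R] A) (h0 : ∀ c, φ c - ψ c ∈ I • (⊤ : Submodule R A)) : φ = ψ := by
  obtain ⟨ι, T, _, _, hT, hd⟩ := exists_cover hH
  refine BialgHom.ext fun c => sub_eq_zero.1 (hT.eq_zero fun i => ?_)
  obtain ⟨M, _, ⟨ρ⟩⟩ := hd i
  obtain ⟨N, hN⟩ := hI
  set J := I.map (algebraMap R (T i))
  have key : ∀ k m c, coord ρ m (φ c) - coord ρ m (ψ c) ∈ J ^ (k + 1) := by
    intro k
    induction k with
    | zero =>
      intro m c
      rw [zero_add, pow_one, ← map_sub]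
      exact coord_mem ρ I (h0 c) m
    | succ k ih =>
      intro m c
      have h1 := coord_congr_cube ρ φ ψ _ ih m c
      rw [← pow_add, ← pow_add] at h1
      exact Ideal.pow_le_pow_right (by omega) h1
  rw [← tmul_zero A (1 : T i)]
  refine eq_of_coord ρ fun m => ?_
  have h1 := Ideal.pow_le_pow_right (show N ≤ N + 1 by omega) (key N m c)
  rw [← Ideal.map_pow, hN, Ideal.zero_eq_bot, Ideal.map_bot, Ideal.mem_bot] at h1
  rw [map_sub, h1, map_zero]

section Local

variable [IsLocalRing R]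

/-- A local splitting of a group of multiplicative type over a local ring. -/
theorem exists_local_split (h : SGA3b.IsMultType R A) :
    ∃ (T : Type u) (_ : CommRing T) (_ : Algebra R T) (_ : IsLocalRing T), Module.FaithfullyFlat R T ∧
      (IsLocalRing.maximalIdeal R).map (algebraMap R T) ≤ IsLocalRing.maximalIdeal T ∧
      SGA3b.IsDiag T (T ⊗[R] A) := by
  obtain ⟨ι, T, _, _, hT, hd⟩ := exists_cover h
  obtain ⟨i, q, hq⟩ := hT.exists_lift (IsLocalRing.closedPoint R)
  have hlt : (IsLocalRing.maximalIdeal R).map (algebraMap R (Localization.AtPrime q.asIdeal)) ≤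
      IsLocalRing.maximalIdeal (Localization.AtPrime q.asIdeal) := by
    rw [Ideal.map_le_iff_le_comap]
    intro x hx
    have hxq : algebraMap R (T i) x ∈ q.asIdeal := by
      have : x ∈ (q.comap (algebraMap R (T i))).asIdeal := by rw [hq]; exact hx
      exact this
    rw [Ideal.mem_comap, IsScalarTower.algebraMap_apply R (T i) (Localization.AtPrime q.asIdeal),
      IsLocalization.AtPrime.to_map_mem_maximal_iff (Localization.AtPrime q.asIdeal) q.asIdeal]
    exact hxq
  haveI := hT.flat i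
  haveI : Module.Flat R (Localization.AtPrime q.asIdeal) := Module.Flat.trans R (T i) _
  haveI : IsLocalHom (algebraMap R (Localization.AtPrime q.asIdeal)) :=
    ⟨fun a ha => IsLocalRing.notMem_maximalIdeal.1 fun hm =>
      IsLocalRing.notMem_maximalIdeal.2 ha (hlt (Ideal.mem_map_of_mem _ hm))⟩
  exact ⟨_, inferInstance, inferInstance, inferInstance, Module.FaithfullyFlat.of_flat_of_isLocalHom, hlt,
    isDiag_tower (T i) _ (hd i)⟩

theorem eq_zero_of_local_split {T : Type u} [CommRing T] [Algebra R T] [Module.FaithfullyFlat R T] {x : A}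
    (h : (1 : T) ⊗ₜ[R] x = (0 : T ⊗[R] A)) : x = 0 :=
  Module.FaithfullyFlat.tensorProduct_mk_injective (A := R) (B := T) A (h.trans (tmul_zero A (1 : T)).symm)

theorem span_eq_bot_of_sq {T : Type u} [CommRing T] [IsLocalRing T] {S : Set T}
    (hfg : (Ideal.span S).FG) (hm : Ideal.span S ≤ IsLocalRing.maximalIdeal T)
    (hsq : ∀ x ∈ S, x ∈ Ideal.span S * Ideal.span S) : Ideal.span S = ⊥ :=
  Submodule.eq_bot_of_le_smul_of_le_jacobson_bot (Ideal.span S) (Ideal.span S) hfg (Ideal.span_le.2 hsq)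
    (hm.trans (IsLocalRing.maximalIdeal_le_jacobson ⊥))

/-- Differences of two algebra maps into `T[M]` are controlled by generators. -/
theorem exists_finset_span {T : Type u} [CommRing T] [Algebra R T] {M : Type u} [CommMonoid M]
    {D : Type u} [CommRing D] [Algebra R D] [Algebra.FiniteType R D] (α β : D →ₐ[R] MonoidAlgebra T M) :
    ∃ S : Finset T, (∀ x ∈ S, ∃ d m, x = (α d).coeff m - (β d).coeff m) ∧
      ∀ d m, (α d).coeff m - (β d).coeff m ∈ Ideal.span (S : Set T) := by
  classical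
  obtain ⟨s, hs⟩ := Algebra.FiniteType.out (R := R) (A := D)
  let S : Finset T := s.biUnion fun d =>
    ((α d).coeff.support ∪ (β d).coeff.support).image fun m => (α d).coeff m - (β d).coeff m
  refine ⟨S, fun x hx => ?_, fun d m => ?_⟩
  · simp only [S, Finset.mem_biUnion, Finset.mem_image] at hx
    obtain ⟨d, -, m, -, rfl⟩ := hx
    exact ⟨d, m, rfl⟩
  let q := MonoidAlgebra.mapAlgHom M (Ideal.Quotient.mkₐ R (Ideal.span (S : Set T)))
  have hq : q.comp α = q.comp β := AlgHom.ext_of_adjoin_eq_top hs fun d hd => by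
    refine MonoidAlgebra.ext (Finsupp.ext fun m => ?_)
    simp only [q, AlgHom.comp_apply, MonoidAlgebra.coeff_mapAlgHom, Ideal.Quotient.mkₐ_eq_mk]
    refine Ideal.Quotient.eq.2 ?_
    by_cases hm : m ∈ (α d).coeff.support ∪ (β d).coeff.support
    · exact Ideal.subset_span (Finset.mem_coe.2 (Finset.mem_biUnion.2 ⟨d, hd, Finset.mem_image.2 ⟨m, hm, rfl⟩⟩))
    · rw [Finset.mem_union, Finsupp.mem_support_iff, Finsupp.mem_support_iff] at hm
      push Not at hm
      rw [hm.1, hm.2, sub_zero]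
      exact zero_mem _
  have h1 := congrArg (fun z : MonoidAlgebra (T ⧸ Ideal.span (S : Set T)) M => z.coeff m) (AlgHom.congr_fun hq d)
  simp only [q, AlgHom.comp_apply, MonoidAlgebra.coeff_mapAlgHom, Ideal.Quotient.mkₐ_eq_mk] at h1
  exact Ideal.Quotient.eq.1 h1

theorem eq_of_closedFibre_cocomm [Coalgebra.IsCocomm R C] [Algebra.FiniteType R C] (h : SGA3b.IsMultType R A)
    (φ ψ : C →ₐc[R] A) (hs : ∀ c, φ c - ψ c ∈ (IsLocalRing.maximalIdeal R).map (algebraMap R A)) : φ = ψ := by
  obtain ⟨T, _, _, _, hff, hle, M, _, ⟨ρ⟩⟩ := exists_local_split h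
  obtain ⟨S, hS1, hS2⟩ := exists_finset_span ((toMA ρ).comp (φ : C →ₐ[R] A)) ((toMA ρ).comp (ψ : C →ₐ[R] A))
  have hd : ∀ m c, coord ρ m (φ c) - coord ρ m (ψ c) ∈ Ideal.span (S : Set T) := fun m c => hS2 c m
  have h0 : Ideal.span (S : Set T) = ⊥ := by
    refine span_eq_bot_of_sq ⟨S, rfl⟩ (Ideal.span_le.2 fun x hx => ?_) (fun x hx => ?_)
    · obtain ⟨c, m, rfl⟩ := hS1 x hx
      refine hle ?_
      change coord ρ m (φ c) - coord ρ m (ψ c) ∈ _
      rw [← map_sub]
      exact coord_mem ρ _ (mem_smul_top_of_mem_map _ (hs c)) m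
    · obtain ⟨c, m, rfl⟩ := hS1 x hx
      exact Ideal.mul_le_left (coord_congr_cube ρ φ ψ _ hd m c)
  refine BialgHom.ext fun c => sub_eq_zero.1 (eq_zero_of_local_split (R := R) (T := T) (x := φ c - ψ c) ?_)
  rw [← tmul_zero A (1 : T)]
  refine eq_of_coord ρ fun m => ?_
  have h1 := hd m c
  rw [h0, Ideal.mem_bot] at h1
  rw [map_sub, h1, map_zero]

/-- The coordinates of a finite type algebra generate a noetherian subring. -/
theorem fg_span_range_of_noetherian [IsNoetherianRing R] {T : Type u} [CommRing T] [Algebra R T] {M : Type u}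
    [CommMonoid M] [Algebra.FiniteType R A] (α : A →ₐ[R] MonoidAlgebra T M) (f : C → A) :
    (Ideal.span (Set.range fun z : M × C => (α (f z.2)).coeff z.1)).FG := by
  classical
  obtain ⟨s, hs⟩ := Algebra.FiniteType.out (R := R) (A := A)
  let T₀ : Subalgebra R T := Algebra.adjoin R ((s.biUnion fun a => (α a).coeff.support.image fun m => (α a).coeff m) : Finset T)
  haveI : Algebra.FiniteType R T₀ := Subalgebra.fg_iff_finiteType _ |>.1 (Subalgebra.fg_adjoin_finset _)
  haveI : IsNoetherianRing T₀ := Algebra.FiniteType.isNoetherianRing R T₀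
  have hin : ∀ a m, (α a).coeff m ∈ T₀ := by
    have hle : Algebra.adjoin R (s : Set A) ≤ ((MonoidAlgebra.mapAlgHom M T₀.val).range).comap α := by
      refine Algebra.adjoin_le fun a ha => ?_
      have hc : ∀ m, (α a).coeff m ∈ T₀ := fun m => by
        by_cases hm : m ∈ (α a).coeff.support
        · exact Algebra.subset_adjoin (Finset.mem_coe.2 (Finset.mem_biUnion.2 ⟨a, ha, Finset.mem_image.2 ⟨m, hm, rfl⟩⟩))
        · rw [Finsupp.notMem_support_iff.1 hm]; exact zero_mem _
      refine ⟨∑ m ∈ (α a).coeff.support, MonoidAlgebra.single m ⟨_, hc m⟩, ?_⟩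
      rw [map_sum]
      refine (Finset.sum_congr rfl fun m _ => MonoidAlgebra.mapAlgHom_single _ _ _).trans ?_
      exact (α a).sum_coeff_single
    intro a m
    obtain ⟨z, hz⟩ := hle (hs ▸ Algebra.mem_top : a ∈ Algebra.adjoin R (s : Set A))
    change MonoidAlgebra.mapAlgHom M T₀.val z = α a at hz
    rw [← hz]
    simp
  let I₀ : Ideal T₀ := Ideal.span (Set.range fun z : M × C => (⟨_, hin (f z.2) z.1⟩ : T₀))
  have : Ideal.span (Set.range fun z : M × C => (α (f z.2)).coeff z.1) = I₀.map T₀.val := by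
    rw [Ideal.map_span, ← Set.range_comp]
    rfl
  rw [this]
  exact Ideal.FG.map (IsNoetherian.noetherian I₀) _

theorem eq_unit_of_closedFibre (hft : Algebra.FiniteType R A) (h : SGA3b.IsMultType R A)
    (hC : IsNoetherianRing R ∨ Algebra.FiniteType R C) (φ : C →ₐc[R] A)
    (hs : ∀ c, φ c - algebraMap R A (Coalgebra.counit c) ∈ (IsLocalRing.maximalIdeal R).map (algebraMap R A))
    (c : C) : φ c = algebraMap R A (Coalgebra.counit c) := by
  obtain ⟨T, _, _, _, hff, hle, M, _, ⟨ρ⟩⟩ := exists_local_split h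
  set Sv : Set T := Set.range fun z : M × C => coord ρ z.1 (φ z.2 - algebraMap R A (Coalgebra.counit z.2))
  have hd : ∀ m c, coord ρ m (φ c - algebraMap R A (Coalgebra.counit c)) ∈ Ideal.span Sv :=
    fun m c => Ideal.subset_span ⟨(m, c), rfl⟩
  have hfg : (Ideal.span Sv).FG := by
    rcases hC with hN | hC
    · exact fg_span_range_of_noetherian (R := R) (A := A) (C := C) (T := T) (M := M) (toMA ρ) (fun c : C => φ c - algebraMap R A (Coalgebra.counit c))
    · obtain ⟨S, hS1, hS2⟩ := exists_finset_span ((toMA ρ).comp (φ : C →ₐ[R] A))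
        ((toMA ρ).comp ((Algebra.ofId R A).comp (Bialgebra.counitAlgHom R C)))
      refine ⟨S, le_antisymm (Ideal.span_le.2 fun x hx => ?_) (Ideal.span_le.2 ?_)⟩
      · obtain ⟨c, m, rfl⟩ := hS1 x hx
        have := hd m c
        rwa [map_sub] at this
      · rintro _ ⟨⟨m, c⟩, rfl⟩
        change coord ρ m _ ∈ _
        rw [map_sub]
        exact hS2 c m
  have h0 : Ideal.span Sv = ⊥ := by
    refine span_eq_bot_of_sq hfg (Ideal.span_le.2 ?_) ?_
    · rintro _ ⟨⟨m, c⟩, rfl⟩
      exact hle (coord_mem ρ _ (mem_smul_top_of_mem_map _ (hs c)) m)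
    · rintro _ ⟨⟨m, c⟩, rfl⟩
      exact coord_congr_unit_sq ρ φ _ hd m c
  refine sub_eq_zero.1 (eq_zero_of_local_split (R := R) (T := T) (x := φ c - algebraMap R A (Coalgebra.counit c)) ?_)
  rw [← tmul_zero A (1 : T)]
  refine eq_of_coord ρ fun m => ?_
  have h1 := hd m c
  rw [h0, Ideal.mem_bot] at h1
  rw [h1, map_zero]

end Local

theorem eq_of_adicComplete (I : Ideal R) [IsNoetherianRing R] [IsAdicComplete I R] (h : SGA3b.IsIsotrivial R A)
    (φ ψ : C →ₐc[R] A) (h0 : ∀ (n : ℕ) c, φ c - ψ c ∈ I ^ (n + 1) • (⊤ : Submodule R A)) : φ = ψ := by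
  obtain ⟨T, _, _, -, hfin, hff, M, _, ⟨ρ⟩⟩ := h
  haveI : IsHausdorff I T :=
    IsHausdorff.of_le_jacobson I T (IsAdicComplete.le_jacobson_bot I)
  refine BialgHom.ext fun c => sub_eq_zero.1
    (Module.FaithfullyFlat.tensorProduct_mk_injective (A := R) (B := T) A ((?_ : (1 : T) ⊗ₜ[R] (φ c - ψ c) = 0).trans (tmul_zero A (1 : T)).symm))
  rw [← tmul_zero A (1 : T)]
  refine eq_of_coord ρ fun m => ?_
  rw [map_zero (coord ρ m)]
  refine IsHausdorff.haus ‹_› _ fun n => ?_
  rw [SModEq.zero, Ideal.smul_top_eq_map]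
  exact Ideal.map_mono (Ideal.pow_le_pow_right (Nat.le_succ n)) (coord_mem ρ _ (h0 n c) m)

end Groth.Agent.SGA3b53
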