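import Groth.Agent.SGA3b53.PowConv
import Groth.Agent.SGA3b53.TypeCover
import Mathlib

/-!
The kernel of the power map of a group of multiplicative type.
-/

set_option autoImplicit false
set_option linter.unusedSectionVars false
set_option linter.style.haveILetI false
universe u v w
open TensorProduct

noncomputable section

namespace Groth.Agent.SGA3b53

variable {R : Type u} [CommRing R] {A : Type u} [CommRing A] [HopfAlgebra R A]

theorem exists_torsion_equiv {T : Type u} [CommRing T] [Algebra R T] {M : Type u} [CommGroup M]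
    (ρ : T ⊗[R] A ≃ₐc[T] MonoidAlgebra T M) (n : ℕ) (J : Ideal A) [J.IsHopfIdeal R]
    (hJ : J = SGA3b.torsionIdeal R A n) :
    Nonempty (MonoidAlgebra T (M ⧸ (powMonoidHom n : M →* M).range) ≃ₐc[T] T ⊗[R] (A ⧸ J)) := by
  let N := M ⧸ (powMonoidHom n : M →* M).range
  have hN : ∀ x : N, x ^ n = 1 := by
    intro x
    obtain ⟨m, rfl⟩ := QuotientGroup.mk_surjective x
    rw [← QuotientGroup.mk_pow, QuotientGroup.eq_one_iff]
    exact ⟨m, rfl⟩
  let q : T ⊗[R] A →ₐc[T] T ⊗[R] (A ⧸ J) :=
    Bialgebra.TensorProduct.map (BialgHom.id T T) (Bialgebra.Quotient.mkBialgHom (R := R) J)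
  have hq : Function.Surjective q := by
    intro y
    induction y with
    | zero => exact ⟨0, by simp⟩
    | add a b ha hb =>
      obtain ⟨a', rfl⟩ := ha
      obtain ⟨b', rfl⟩ := hb
      exact ⟨a' + b', map_add _ _ _⟩
    | tmul t a =>
      obtain ⟨a, rfl⟩ := Ideal.Quotient.mk_surjective a
      exact ⟨t ⊗ₜ a, by simp [q]⟩
  let g : M →* T ⊗[R] (A ⧸ J) :=
    ((q : T ⊗[R] A →ₐ[T] T ⊗[R] (A ⧸ J)) : T ⊗[R] A →* T ⊗[R] (A ⧸ J)).comp
      ((MonoidHomClass.toMonoidHom ρ.symm).comp (MonoidAlgebra.of T M))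
  have hg : ∀ m, IsGroupLikeElem T (g m) := fun m =>
    ((MonoidAlgebra.isGroupLikeElem_of (R := T) m).map ρ.symm).map q
  have htriv := powConv_trivial_baseChange T n (powConv_quotient_trivial n J hJ.ge)
  have hker : (powMonoidHom n : M →* M).range ≤ g.ker := by
    rintro _ ⟨m, rfl⟩
    rw [MonoidHom.mem_ker, powMonoidHom_apply, map_pow]
    exact grouplike_pow_eq_one n htriv (hg m)
  let γ : N →* T ⊗[R] (A ⧸ J) := QuotientGroup.lift _ g hker
  have hγ : ∀ x, IsGroupLikeElem T (γ x) := by
    intro x
    obtain ⟨m, rfl⟩ := QuotientGroup.mk_surjective x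
    exact hg m
  obtain ⟨θ, hθ⟩ := exists_bialgHom_of_grouplike γ hγ
  let π : T ⊗[R] A →ₐc[T] MonoidAlgebra T N :=
    (MonoidAlgebra.mapDomainBialgHom T (QuotientGroup.mk' (powMonoidHom n : M →* M).range)).comp
      (ρ : T ⊗[R] A →ₐc[T] MonoidAlgebra T M)
  let π₀ : A →ₐ[R] MonoidAlgebra T N :=
    ((π : T ⊗[R] A →ₐ[T] MonoidAlgebra T N).restrictScalars R).comp Algebra.TensorProduct.includeRight
  have hπ₀ : ∀ a ∈ J, π₀ a = 0 := by
    intro a ha
    rw [hJ] at ha
    refine RingHom.mem_ker.1 ((Ideal.map_le_iff_le_comap.2 fun b hb => ?_ :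
      SGA3b.torsionIdeal R A n ≤ RingHom.ker π₀) ha)
    rw [Ideal.mem_comap, RingHom.mem_ker]
    change π ((1 : T) ⊗ₜ[R] SGA3b.powConv R A n b) = 0
    rw [← Versch53.powConv_baseChange_one_tmul, powConv_naturality, powConv_monoidAlgebra_trivial n hN,
      CoalgHomClass.counit_comp_apply, TensorProduct.counit_tmul, CommSemiring.counit_apply,
      show Coalgebra.counit (R := R) b = 0 from hb, zero_smul, map_zero]
  let ψ : T ⊗[R] (A ⧸ J) →ₐ[T] MonoidAlgebra T N :=
    Algebra.TensorProduct.lift (Algebra.ofId T _) (Ideal.Quotient.liftₐ J π₀ hπ₀) fun _ _ => Commute.all _ _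
  have hψ : ∀ x, ψ (q x) = π x := by
    intro x
    induction x with
    | zero => simp
    | add a b ha hb => simp only [map_add, ha, hb]
    | tmul t a =>
      rw [show t ⊗ₜ[R] a = t • ((1 : T) ⊗ₜ[R] a) by rw [TensorProduct.smul_tmul', smul_eq_mul, mul_one], map_smul,
        map_smul, map_smul]
      congr 1
      simp [q, ψ, π₀, ← MonoidAlgebra.one_def]
  have hπsurj : ∀ z : MonoidAlgebra T M, θ (π (ρ.symm z)) = q (ρ.symm z) := by
    intro z
    change θ (MonoidAlgebra.mapDomainBialgHom T (QuotientGroup.mk' (powMonoidHom n : M →* M).range)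
      (ρ (ρ.symm z))) = _
    rw [show ρ (ρ.symm z) = z from ρ.apply_symm_apply z]
    induction z using MonoidAlgebra.induction_linear with
    | zero => simp
    | add f g hf hg => simp only [map_add, hf, hg]
    | single m r =>
      rw [MonoidAlgebra.mapDomainBialgHom_single, hθ, show MonoidAlgebra.single m r = r • MonoidAlgebra.of T M m by simp,
        map_smul, map_smul]
      rfl
  refine ⟨BialgEquiv.ofBijective θ ⟨Function.LeftInverse.injective (g := ψ) fun x => ?_, fun y => ?_⟩⟩
  · induction x using MonoidAlgebra.induction_linear with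
    | zero => simp
    | add f g hf hg => simp only [map_add, hf, hg]
    | single x r =>
      obtain ⟨m, rfl⟩ := QuotientGroup.mk_surjective x
      rw [hθ, map_smul]
      change r • ψ (q (ρ.symm (MonoidAlgebra.of T M m))) = _
      rw [hψ]
      change r • MonoidAlgebra.mapDomainBialgHom T _ (ρ (ρ.symm (MonoidAlgebra.of T M m))) = _
      rw [show ρ (ρ.symm (MonoidAlgebra.of T M m)) = MonoidAlgebra.of T M m from ρ.apply_symm_apply _]
      simp
      rfl
  · obtain ⟨x, rfl⟩ := hq y
    refine ⟨π x, ?_⟩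
    have h := hπsurj (ρ x)
    rwa [show ρ.symm (ρ x) = x from ρ.symm_apply_apply x] at h

/-- Finiteness of a module may be checked over a finite cover. -/
theorem finite_of_cover {ι : Type u} [Finite ι] {T : ι → Type u} [∀ i, CommRing (T i)] [∀ i, Algebra R (T i)]
    (hT : IsCover R T) (B : Type u) [AddCommGroup B] [Module R B] (hB : ∀ i, Module.Finite (T i) (T i ⊗[R] B)) :
    Module.Finite R B := by
  classical
  haveI := Fintype.ofFinite ι
  let P := ∀ i, T i
  haveI : ∀ i, Module.Flat R (T i) := hT.flat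
  haveI : Module.Flat R P :=
    Module.Flat.of_linearEquiv (DirectSum.linearEquivFunOnFintype R ι (fun i => T i)).symm
  haveI : Module.FaithfullyFlat R P := Module.FaithfullyFlat.of_comap_surjective fun p => by
    obtain ⟨i, q, hq⟩ := hT.exists_lift p
    refine ⟨q.comap (Pi.evalRingHom (fun i => T i) i), ?_⟩
    rw [← hq, ← PrimeSpectrum.comap_comp_apply]
    rfl
  haveI := hB
  haveI : Module.Finite P (P ⊗[R] B) := by
    choose s hs using fun i => (Module.Finite.fg_top : (⊤ : Submodule (T i) (T i ⊗[R] B)).FG)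
    let σ : ∀ i, T i ⊗[R] B →ₗ[R] P ⊗[R] B := fun i => (LinearMap.single R T i).rTensor _
    refine ⟨⟨Finset.univ.biUnion fun i => (s i).image (σ i), eq_top_iff.2 fun z _ => ?_⟩⟩
    let S := Submodule.span P ((Finset.univ.biUnion fun i => (s i).image (σ i) : Finset (P ⊗[R] B)) : Set (P ⊗[R] B))
    have hS : ∀ (i : ι) (w : T i ⊗[R] B), σ i w ∈ S := by
      intro i w
      have hw : w ∈ Submodule.span (T i) (s i : Set (T i ⊗[R] B)) := hs i ▸ Submodule.mem_top
      induction hw using Submodule.span_induction with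
      | mem x hx => exact Submodule.subset_span (Finset.mem_biUnion.2 ⟨i, Finset.mem_univ _, Finset.mem_image_of_mem _ hx⟩)
      | zero => rw [map_zero]; exact S.zero_mem
      | add x y _ _ hx hy => rw [map_add]; exact S.add_mem hx hy
      | smul t x hm hx =>
        have h1 : σ i (t • x) = (Pi.single i t : P) • σ i x := by
          clear hx hm
          induction x with
          | zero => simp
          | add a b ha hb => rw [smul_add, map_add, map_add, smul_add, ha, hb]
          | tmul a b =>
            simp only [σ, TensorProduct.smul_tmul', LinearMap.rTensor_tmul, LinearMap.single_apply, smul_eq_mul]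
            rw [Pi.single_mul]
        rw [h1]
        exact S.smul_mem _ hx
    change z ∈ S
    induction z with
    | zero => exact S.zero_mem
    | add a b ha hb => exact S.add_mem (ha trivial) (hb trivial)
    | tmul p a =>
      rw [show p = ∑ i, LinearMap.single R T i (p i) from (Finset.univ_sum_single p).symm, TensorProduct.sum_tmul]
      exact S.sum_mem fun i _ => hS i (p i ⊗ₜ a)
  exact Module.Finite.of_finite_tensorProduct_of_faithfullyFlat P

/-- The kernel of the power map is finite and of multiplicative type. -/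
theorem torsion_isMultType_and_finite (hft : Algebra.FiniteType R A) (h : SGA3b.IsMultType R A) (n : ℕ) (hn : 0 < n)
    (J : Ideal A) [J.IsHopfIdeal R] (hJ : J = SGA3b.torsionIdeal R A n) :
    SGA3b.IsMultType R (A ⧸ J) ∧ Module.Finite R (A ⧸ J) := by
  obtain ⟨ι, _, T, _, _, hT, hd⟩ := exists_finite_cover h
  choose M hM ρ using hd
  have e := fun i => (exists_torsion_equiv (ρ i).some n J hJ).some
  refine ⟨isMultType_of_cover hT fun i => ⟨_, inferInstance, ⟨(e i).symm⟩⟩, ?_⟩
  refine finite_of_cover hT (A ⧸ J) fun i => ?_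
  rcases subsingleton_or_nontrivial (T i) with hs | hs
  · haveI := Module.subsingleton (T i) (T i ⊗[R] (A ⧸ J))
    infer_instance
  haveI : Algebra.FiniteType (T i) (MonoidAlgebra (T i) (M i)) :=
    Algebra.FiniteType.equiv (inferInstance : Algebra.FiniteType (T i) (T i ⊗[R] A)) ((ρ i).some : T i ⊗[R] A ≃ₐ[T i] _)
  haveI : Monoid.FG (M i) := (MonoidAlgebra.finiteType_iff_fg (R := T i)).1 inferInstance
  haveI : Group.FG (M i) := Group.fg_iff_monoid_fg.2 inferInstance
  haveI : Finite (M i ⧸ (powMonoidHom n : M i →* M i).range) :=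
    CommGroup.finite_of_fg_torsion _ fun x => isOfFinOrder_iff_pow_eq_one.2 ⟨n, hn, by
      obtain ⟨m, rfl⟩ := QuotientGroup.mk_surjective x
      rw [← QuotientGroup.mk_pow, QuotientGroup.eq_one_iff]
      exact ⟨m, rfl⟩⟩
  haveI : Module.Finite (T i) (MonoidAlgebra (T i) (M i ⧸ (powMonoidHom n : M i →* M i).range)) :=
    Module.Finite.of_basis (MonoidAlgebra.basis _ (T i))
  exact Module.Finite.equiv (e i).toLinearEquiv

end Groth.Agent.SGA3b53
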