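import Groth.Agent.SGA3b53.GLDual
import Groth.Agent.SGA3b53.TorsionKer
import Groth.Agent.SGA3b53.FiniteIff
import Groth.Agent.SGA3b53.Rigidity
import Groth.Agent.Henz21.IntegralPair
import Groth.Agent.Hens22.EtaleLift
import Groth.Agent.EtAlg23.HenselBasic
import Mathlib

/-!
Diagonalisability lifts from the residue field of a henselian local ring.
-/

set_option autoImplicit false
set_option linter.unusedSectionVars false
set_option linter.style.haveILetI false
universe u v w
open TensorProduct

noncomputable section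

namespace Groth.Agent.SGA3b53

variable {R : Type u} [CommRing R]

theorem flat_of_isMultType [IsLocalRing R] {A : Type u} [CommRing A] [HopfAlgebra R A] (h : SGA3b.IsMultType R A) :
    Module.Flat R A := by
  obtain ⟨T, _, _, _, hff, -, M, _, ⟨ρ⟩⟩ := exists_local_split h
  haveI : Module.Free T (T ⊗[R] A) :=
    Module.Free.of_basis (Module.Basis.map (MonoidAlgebra.basis M T) ρ.symm.toLinearEquiv)
  exact Module.Flat.of_flat_tensorProduct R A T

/-- Group-like elements of a finite group of multiplicative type lift over a henselian local ring. -/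
theorem exists_grouplike_lift_henselian [HenselianLocalRing R] {B : Type u} [CommRing B] [HopfAlgebra R B]
    [Module.Finite R B] (h : SGA3b.IsMultType R B) {g₀ : (R ⧸ IsLocalRing.maximalIdeal R) ⊗[R] B}
    (hg₀ : IsGroupLikeElem (R ⧸ IsLocalRing.maximalIdeal R) g₀) :
    ∃ g : B, IsGroupLikeElem R g ∧ (1 : R ⧸ IsLocalRing.maximalIdeal R) ⊗ₜ[R] g = g₀ := by
  haveI := flat_of_isMultType h
  haveI : Module.Free R B := Module.free_of_flat_of_isLocalRing
  haveI : Module.Projective R B := inferInstance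
  haveI := isCocomm_of_isMultType h
  haveI := etale_dual h
  obtain ⟨F, hF, -⟩ := Hens22.existsUnique_lift (IsLocalRing.maximalIdeal R) (CartDual.D R B) (glPoint hg₀)
  obtain ⟨g, ⟨hg, hgF⟩, -⟩ := existsUnique_of_point F
  have h1 : ∀ z : R ⊗[R] B, z = (1 : R) ⊗ₜ[R] (TensorProduct.lid R B z) := fun z => by
    induction z with
    | zero => simp
    | add a b ha hb => conv_lhs => rw [ha, hb, ← tmul_add, ← map_add]
    | tmul r b => rw [TensorProduct.lid_tmul, TensorProduct.tmul_smul, TensorProduct.smul_tmul', smul_eq_mul, mul_one]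
  have hcov : IsCover R (fun _ : PUnit.{u+1} => R) :=
    ⟨fun _ => inferInstance, fun p => ⟨PUnit.unit, p, by rw [Algebra.algebraMap_self]; rfl⟩⟩
  refine ⟨TensorProduct.lid R B g, hcov.isGroupLike_of_forall fun _ => (h1 g) ▸ hg, ?_⟩
  refine dext_injective fun x => ?_
  rw [← glPoint_apply hg₀, ← hF, AlgHom.comp_apply, ← hgF, ← dext_map]
  congr 1
  conv_rhs => rw [h1 g]
  rw [Algebra.TensorProduct.map_tmul, map_one]
  rfl

/-- Finitely many nontrivial elements of a finitely generated abelian group survive modulo some `n`. -/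
theorem exists_separating {M : Type u} [CommGroup M] [Group.FG M] (F : Finset M) :
    ∃ n : ℕ, 0 < n ∧ ∀ d ∈ F, d ≠ 1 → d ∉ (powMonoidHom n : M →* M).range := by
  classical
  induction F using Finset.induction with
  | empty => exact ⟨1, one_pos, fun d hd => absurd hd (Finset.notMem_empty d)⟩
  | insert a s _ ih =>
    obtain ⟨n, hn, hns⟩ := ih
    obtain ⟨m, hm, hma⟩ : ∃ m, 0 < m ∧ (a ≠ 1 → a ∉ (powMonoidHom m : M →* M).range) := by
      by_cases ha : a = 1
      · exact ⟨1, one_pos, fun h => absurd ha h⟩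
      obtain ⟨r, ι, _, p, hp, e, ⟨φ⟩⟩ := AddCommGroup.equiv_free_prod_directSum_zmod (Additive M)
      have ha' : φ (Additive.ofMul a) ≠ 0 := fun h => ha (Additive.ofMul.injective (φ.injective (h.trans (map_zero φ).symm)))
      by_cases h1 : (φ (Additive.ofMul a)).1 = 0
      · let T := DirectSum ι fun i => ZMod (p i ^ e i)
        haveI : ∀ i, NeZero (p i ^ e i) := fun i => ⟨pow_ne_zero _ (hp i).ne_zero⟩
        haveI : Finite T := Finite.of_injective (fun x : T => fun i => x i) fun x y h => DFinsupp.ext (congrFun h)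
        refine ⟨Nat.card T, Nat.card_pos, fun _ ⟨b, hb⟩ => ha' (Prod.ext h1 ?_)⟩
        rw [← hb, powMonoidHom_apply, ofMul_pow, map_nsmul, Prod.smul_snd]
        exact card_nsmul_eq_zero'
      · obtain ⟨i, hi⟩ : ∃ i, (φ (Additive.ofMul a)).1 i ≠ 0 := by
          by_contra hc
          push Not at hc
          exact h1 (Finsupp.ext hc)
        refine ⟨((φ (Additive.ofMul a)).1 i).natAbs + 1, Nat.succ_pos _, fun _ ⟨b, hb⟩ => ?_⟩
        have h2 := congrArg (fun x => (φ (Additive.ofMul x)).1 i) hb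
        simp only [powMonoidHom_apply, ofMul_pow, map_nsmul, Prod.smul_fst, Finsupp.smul_apply] at h2
        have h3 : (((φ (Additive.ofMul a)).1 i).natAbs + 1) ∣ ((φ (Additive.ofMul a)).1 i).natAbs := by
          have h4 := congrArg Int.natAbs h2
          rw [nsmul_eq_mul, Int.natAbs_mul, Int.natAbs_natCast] at h4
          exact ⟨_, h4.symm⟩
        have := Nat.le_of_dvd (Int.natAbs_pos.2 hi) h3
        omega
    refine ⟨n * m, Nat.mul_pos hn hm, fun d hd hd1 => ?_⟩
    rintro ⟨b, rfl⟩
    rcases Finset.mem_insert.1 hd with h | h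
    · exact hma (h ▸ hd1) ⟨b ^ n, by rw [powMonoidHom_apply, ← pow_mul, ← h]; rfl⟩
    · exact hns _ h hd1 ⟨b ^ m, by rw [powMonoidHom_apply, powMonoidHom_apply, ← pow_mul, mul_comm]⟩

theorem coeff_mapDomainBialgHom {T : Type u} [CommRing T] {M N : Type u} [CommGroup M] [CommGroup N] (f : M →* N)
    (y : MonoidAlgebra T M) : (MonoidAlgebra.mapDomainBialgHom T f y).coeff = y.coeff.mapDomain f := by
  induction y using MonoidAlgebra.induction_linear with
  | zero => simp
  | add a b ha hb => simp only [map_add, MonoidAlgebra.coeff_add, ha, hb, Finsupp.mapDomain_add]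
  | single m r => simp

variable {A : Type u} [CommRing A] [HopfAlgebra R A]

/-- Modulo `n` the coordinates only depend on the image in the kernel of the power map. -/
theorem mapDomain_eq_of_quotient {S : Type u} [CommRing S] [Algebra R S] {M : Type u} [CommGroup M]
    (σ : S ⊗[R] A ≃ₐc[S] MonoidAlgebra S M) (n : ℕ) {z z' : S ⊗[R] A}
    (h : Algebra.TensorProduct.map (AlgHom.id R S) (Ideal.Quotient.mkₐ R (SGA3b.torsionIdeal R A n)) z =
      Algebra.TensorProduct.map (AlgHom.id R S) (Ideal.Quotient.mkₐ R (SGA3b.torsionIdeal R A n)) z') :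
    MonoidAlgebra.mapDomainBialgHom S (QuotientGroup.mk' (powMonoidHom n : M →* M).range) (σ z) =
      MonoidAlgebra.mapDomainBialgHom S (QuotientGroup.mk' (powMonoidHom n : M →* M).range) (σ z') := by
  let N := M ⧸ (powMonoidHom n : M →* M).range
  have hN : ∀ x : N, x ^ n = 1 := by
    intro x
    obtain ⟨m, rfl⟩ := QuotientGroup.mk_surjective x
    rw [← QuotientGroup.mk_pow, QuotientGroup.eq_one_iff]
    exact ⟨m, rfl⟩
  let π : S ⊗[R] A →ₐc[S] MonoidAlgebra S N :=
    (MonoidAlgebra.mapDomainBialgHom S (QuotientGroup.mk' (powMonoidHom n : M →* M).range)).comp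
      (σ : S ⊗[R] A →ₐc[S] MonoidAlgebra S M)
  let π₀ : A →ₐ[R] MonoidAlgebra S N :=
    ((π : S ⊗[R] A →ₐ[S] MonoidAlgebra S N).restrictScalars R).comp Algebra.TensorProduct.includeRight
  have hle : SGA3b.torsionIdeal R A n ≤ RingHom.ker π₀ := by
    refine Ideal.map_le_iff_le_comap.2 fun b hb => ?_
    rw [Ideal.mem_comap, RingHom.mem_ker]
    change π ((1 : S) ⊗ₜ[R] SGA3b.powConv R A n b) = 0
    rw [← Versch53.powConv_baseChange_one_tmul, powConv_naturality, powConv_monoidAlgebra_trivial n hN,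
      CoalgHomClass.counit_comp_apply, TensorProduct.counit_tmul, CommSemiring.counit_apply,
      show Coalgebra.counit (R := R) b = 0 from hb, zero_smul, map_zero]
  let ψ : S ⊗[R] (A ⧸ SGA3b.torsionIdeal R A n) →ₐ[S] MonoidAlgebra S N :=
    Algebra.TensorProduct.lift (Algebra.ofId S _) (Ideal.Quotient.liftₐ _ π₀ hle) fun _ _ => Commute.all _ _
  have hψ : ∀ x, ψ (Algebra.TensorProduct.map (AlgHom.id R S) (Ideal.Quotient.mkₐ R (SGA3b.torsionIdeal R A n)) x) = π x := by
    intro x
    induction x with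
    | zero => simp
    | add a b ha hb => simp only [map_add, ha, hb]
    | tmul t a =>
      rw [show t ⊗ₜ[R] a = t • ((1 : S) ⊗ₜ[R] a) by rw [TensorProduct.smul_tmul', smul_eq_mul, mul_one], map_smul π]
      rw [TensorProduct.smul_tmul', smul_eq_mul, mul_one]
      simp [ψ, π₀, Algebra.smul_def]
  change π z = π z'
  rw [← hψ, ← hψ, h]

theorem isDiag_of_isDiag_residue [HenselianLocalRing R] (hft : Algebra.FiniteType R A) (h : SGA3b.IsMultType R A)
    (h0 : SGA3b.IsDiag (R ⧸ IsLocalRing.maximalIdeal R) ((R ⧸ IsLocalRing.maximalIdeal R) ⊗[R] A)) :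
    SGA3b.IsDiag R A := by
  classical
  haveI := isCocomm_of_isMultType h
  obtain ⟨M₀, _, ⟨ρ0⟩⟩ := h0
  obtain ⟨T, _, _, _, hff, hle, M, _, ⟨ρ⟩⟩ := exists_local_split h
  haveI : Monoid.FG M := monoidFG_of_finiteType ρ
  haveI : Group.FG M := Group.fg_iff_monoid_fg.2 inferInstance
  let K := T ⧸ IsLocalRing.maximalIdeal T
  letI : Field K := Ideal.Quotient.field _
  let qT : T →ₐ[R] K := Ideal.Quotient.mkₐ R _
  let f₀ : (R ⧸ IsLocalRing.maximalIdeal R) →ₐ[R] K := Ideal.Quotient.liftₐ _ (Algebra.ofId R K) fun a ha => by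
    rw [Algebra.ofId_apply, IsScalarTower.algebraMap_apply R T K, Ideal.Quotient.algebraMap_eq,
      Ideal.Quotient.eq_zero_iff_mem]
    exact hle (Ideal.mem_map_of_mem _ ha)
  obtain ⟨ρK, hρK⟩ := exists_split_map qT ρ
  obtain ⟨ρ0K, hρ0K⟩ := exists_split_map f₀ ρ0
  let e : MonoidAlgebra K M₀ ≃ₐc[K] MonoidAlgebra K M := ρ0K.symm.trans ρK
  let f := MonoidAlgebra.mapDomainOfBialgHom (e : MonoidAlgebra K M₀ →ₐc[K] MonoidAlgebra K M)
  have hf : Function.Bijective f := by
    let g := MonoidAlgebra.mapDomainOfBialgHom (e.symm : MonoidAlgebra K M →ₐc[K] MonoidAlgebra K M₀)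
    refine ⟨Function.LeftInverse.injective (g := g) fun m => ?_, Function.RightInverse.surjective (g := g) fun m => ?_⟩ <;>
    refine MonoidAlgebra.single_left_injective (R := K) one_ne_zero ?_ <;>
    simp [f, g, MonoidAlgebra.single_mapDomainOfBialgHom]
  let y : M₀ → T ⊗[R] A := fun m => ρ.symm (MonoidAlgebra.of T M (f m))
  let x₀ : M₀ → (R ⧸ IsLocalRing.maximalIdeal R) ⊗[R] A := fun m => ρ0.symm (MonoidAlgebra.of _ M₀ m)
  have hy : ∀ m, IsGroupLikeElem T (y m) := fun m => (MonoidAlgebra.isGroupLikeElem_of (R := T) (f m)).map ρ.symm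
  have hx₀ : ∀ m, IsGroupLikeElem (R ⧸ IsLocalRing.maximalIdeal R) (x₀ m) := fun m =>
    (MonoidAlgebra.isGroupLikeElem_of (R := R ⧸ IsLocalRing.maximalIdeal R) m).map ρ0.symm
  have hred : ∀ m, Algebra.TensorProduct.map qT (AlgHom.id R A) (y m) =
      Algebra.TensorProduct.map f₀ (AlgHom.id R A) (x₀ m) := by
    intro m
    apply EquivLike.injective ρK
    rw [hρK, show ρ (y m) = MonoidAlgebra.of T M (f m) from ρ.apply_symm_apply _]
    have h2 : Algebra.TensorProduct.map f₀ (AlgHom.id R A) (x₀ m) = ρ0K.symm (MonoidAlgebra.single m 1) := by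
      apply EquivLike.injective ρ0K
      rw [hρ0K, show ρ0 (x₀ m) = MonoidAlgebra.of _ M₀ m from ρ0.apply_symm_apply _,
        show ρ0K (ρ0K.symm (MonoidAlgebra.single m 1)) = MonoidAlgebra.single m 1 from ρ0K.apply_symm_apply _]
      simp
    rw [h2]
    change _ = e (MonoidAlgebra.single m 1)
    have h3 := MonoidAlgebra.single_mapDomainOfBialgHom (e : MonoidAlgebra K M₀ →ₐc[K] MonoidAlgebra K M) m (1 : K)
    rw [show e (MonoidAlgebra.single m 1) = MonoidAlgebra.single (f m) 1 from h3.symm]
    simp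
  have hker : RingHom.ker (qT : T →+* K) ≤ (⊥ : Ideal T).jacobson := fun t ht =>
    IsLocalRing.maximalIdeal_le_jacobson ⊥ (Ideal.Quotient.eq_zero_iff_mem.1 ht)
  have hT : IsCover R (fun _ : PUnit.{u+1} => T) :=
    ⟨fun _ => inferInstance, fun p => ⟨PUnit.unit, PrimeSpectrum.comap_surjective_of_faithfullyFlat p⟩⟩
  have hc : ∀ m, ((TensorProduct.mk R T T).flip 1).rTensor A (y m) = ((TensorProduct.mk R T T) 1).rTensor A (y m) := by
    intro m
    have e1 : ∀ z : T ⊗[R] A, ((TensorProduct.mk R T T).flip 1).rTensor A z =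
        Algebra.TensorProduct.map (Algebra.TensorProduct.includeLeft : T →ₐ[R] T ⊗[R] T) (AlgHom.id R A) z := by
      intro z
      induction z with
      | zero => simp
      | add a b ha hb => simp only [map_add, ha, hb]
      | tmul t a => simp
    have e2 : ∀ z : T ⊗[R] A, ((TensorProduct.mk R T T) 1).rTensor A z =
        Algebra.TensorProduct.map (Algebra.TensorProduct.includeRight : T →ₐ[R] T ⊗[R] T) (AlgHom.id R A) z := by
      intro z
      induction z with
      | zero => simp
      | add a b ha hb => simp only [map_add, ha, hb]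
      | tmul t a => simp
    rw [e1, e2]
    obtain ⟨σ, -⟩ := exists_split_map (Algebra.TensorProduct.includeLeft : T →ₐ[R] T ⊗[R] T) ρ
    apply EquivLike.injective σ
    let u₁ := σ (Algebra.TensorProduct.map (Algebra.TensorProduct.includeLeft : T →ₐ[R] T ⊗[R] T) (AlgHom.id R A) (y m))
    let u₂ := σ (Algebra.TensorProduct.map (Algebra.TensorProduct.includeRight : T →ₐ[R] T ⊗[R] T) (AlgHom.id R A) (y m))
    change u₁ = u₂
    let F := u₁.coeff.support ∪ u₂.coeff.support
    obtain ⟨n, hn, hsep⟩ := exists_separating ((F ×ˢ F).image fun p => p.1 * p.2⁻¹)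
    haveI := isHopfIdeal_torsionIdeal (R := R) (A := A) n
    let J := SGA3b.torsionIdeal R A n
    obtain ⟨hBm, hBf⟩ := torsion_isMultType_and_finite hft h n hn J rfl
    haveI := hBf
    let qA : A →ₐc[R] A ⧸ J := Bialgebra.Quotient.mkBialgHom (R := R) J
    obtain ⟨xn, hxn, hxn0⟩ := exists_grouplike_lift_henselian hBm
      ((hx₀ m).map (Bialgebra.TensorProduct.map (BialgHom.id (R ⧸ IsLocalRing.maximalIdeal R) _) qA))
    have hdB : SGA3b.IsDiag T (T ⊗[R] (A ⧸ J)) := by
      obtain ⟨eB⟩ := exists_torsion_equiv ρ n J rfl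
      exact ⟨_, inferInstance, ⟨eB.symm⟩⟩
    have hyn : Bialgebra.TensorProduct.map (BialgHom.id T T) qA (y m) = (1 : T) ⊗ₜ[R] xn := by
      refine grouplike_eq_of_map_eq hdB qT hker ((hy m).map _) (isGroupLike_one_tmul hxn) ?_
      have nat : ∀ {U U' : Type u} [CommRing U] [Algebra R U] [CommRing U'] [Algebra R U'] (g : U →ₐ[R] U') (z : U ⊗[R] A),
          Algebra.TensorProduct.map g (AlgHom.id R (A ⧸ J)) (Bialgebra.TensorProduct.map (BialgHom.id U U) qA z) =
            Bialgebra.TensorProduct.map (BialgHom.id U' U') qA (Algebra.TensorProduct.map g (AlgHom.id R A) z) := by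
        intro U U' _ _ _ _ g z
        induction z with
        | zero => simp
        | add a b ha hb => simp only [map_add, ha, hb]
        | tmul t a => simp
      rw [nat, hred, ← nat, ← hxn0, Algebra.TensorProduct.map_tmul, Algebra.TensorProduct.map_tmul, map_one, map_one]
    have hq : ∀ (g : T →ₐ[R] T ⊗[R] T),
        Algebra.TensorProduct.map (AlgHom.id R (T ⊗[R] T)) (Ideal.Quotient.mkₐ R J)
          (Algebra.TensorProduct.map g (AlgHom.id R A) (y m)) = (1 : T ⊗[R] T) ⊗ₜ[R] xn := by
      intro g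
      have h1 : ∀ z : T ⊗[R] A, Algebra.TensorProduct.map (AlgHom.id R (T ⊗[R] T)) (Ideal.Quotient.mkₐ R J)
          (Algebra.TensorProduct.map g (AlgHom.id R A) z) =
          Algebra.TensorProduct.map g (AlgHom.id R (A ⧸ J)) (Bialgebra.TensorProduct.map (BialgHom.id T T) qA z) := by
        intro z
        induction z with
        | zero => simp
        | add a b ha hb => simp only [map_add, ha, hb]
        | tmul t a => simp [qA]
      rw [h1, hyn, Algebra.TensorProduct.map_tmul, map_one]
      rfl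
    have hmd := mapDomain_eq_of_quotient σ n
      ((hq Algebra.TensorProduct.includeLeft).trans (hq Algebra.TensorProduct.includeRight).symm)
    let mkN := QuotientGroup.mk' (powMonoidHom n : M →* M).range
    have hinj : Set.InjOn mkN (F : Set M) := by
      intro a ha b hb hab
      by_contra hne
      refine hsep (a * b⁻¹) (Finset.mem_image.2 ⟨(a, b), Finset.mem_product.2 ⟨ha, hb⟩, rfl⟩)
        (fun h => hne (mul_inv_eq_one.1 h)) ?_
      rw [← QuotientGroup.eq_one_iff, QuotientGroup.mk_mul, QuotientGroup.mk_inv, mul_inv_eq_one]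
      exact hab
    refine MonoidAlgebra.ext (Finsupp.ext fun k => ?_)
    by_cases hk : k ∈ F
    · have h1 := congrArg (fun z : MonoidAlgebra (T ⊗[R] T) _ => z.coeff (mkN k)) hmd
      simp only [coeff_mapDomainBialgHom] at h1
      rwa [Finsupp.mapDomain_apply' (F : Set M) _ (Finset.coe_subset.2 Finset.subset_union_left) hinj hk,
        Finsupp.mapDomain_apply' (F : Set M) _ (Finset.coe_subset.2 Finset.subset_union_right) hinj hk] at h1
    · rw [Finset.mem_union, not_or, Finsupp.notMem_support_iff, Finsupp.notMem_support_iff] at hk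
      rw [hk.1, hk.2]
  choose γ hγ using fun m => hT.descend (fun _ => y m) (fun _ _ => hc m)
  have hgl : ∀ m, IsGroupLikeElem R (γ m) := fun m => hT.isGroupLike_of_forall fun i => (hγ m i).symm ▸ hy m
  have hinj : ∀ a b : A, (1 : T) ⊗ₜ[R] a = (1 : T) ⊗ₜ[R] b → a = b := fun a b hab =>
    sub_eq_zero.1 (hT.eq_zero fun _ => by rw [tmul_sub, hab, sub_self])
  let γ' : M₀ →* A :=
    { toFun := γ
      map_one' := hinj _ _ (by
        rw [hγ 1 PUnit.unit]
        simp only [y, map_one]
        rfl)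
      map_mul' := fun a b => hinj _ _ (by
        conv_rhs => rw [← one_mul (1 : T), ← Algebra.TensorProduct.tmul_mul_tmul, hγ a PUnit.unit, hγ b PUnit.unit]
        rw [hγ (a * b) PUnit.unit]
        simp only [y, map_mul]) }
  obtain ⟨θ, hθ⟩ := exists_bialgHom_of_grouplike γ' hgl
  let eT := ((monoidAlgebraBC R T M₀).trans
    (MonoidAlgebra.domCongrBialgEquiv T T (MulEquiv.ofBijective f hf))).trans ρ.symm
  have he : ((θ : MonoidAlgebra R M₀ →ₗ[R] A).lTensor T : _ → _) = eT := by
    funext w
    induction w with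
    | zero => simp
    | add a b ha hb => simp only [map_add, ha, hb]
    | tmul t c =>
      rw [LinearMap.lTensor_tmul, show t ⊗ₜ[R] c = t • ((1 : T) ⊗ₜ[R] c) by rw [TensorProduct.smul_tmul', smul_eq_mul, mul_one],
        map_smul, show ∀ v : A, t ⊗ₜ[R] v = t • ((1 : T) ⊗ₜ[R] v) from fun v => by rw [TensorProduct.smul_tmul', smul_eq_mul, mul_one]]
      congr 1
      induction c using MonoidAlgebra.induction_linear with
      | zero => simp
      | add f g hf hg => simp only [map_add, tmul_add, hf, hg]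
      | single m r =>
        have h1 : (monoidAlgebraBC R T M₀) ((1 : T) ⊗ₜ[R] MonoidAlgebra.single m r) = algebraMap R T r • MonoidAlgebra.of T M₀ m := by
          refine MonoidAlgebra.ext (Finsupp.ext fun n => ?_)
          rw [monoidAlgebraBC_one_tmul]
          by_cases hn : m = n <;> simp [hn, Algebra.algebraMap_eq_smul_one]
        change (1 : T) ⊗ₜ[R] θ (MonoidAlgebra.single m r) =
          ρ.symm (MonoidAlgebra.domCongrBialgEquiv T T (MulEquiv.ofBijective f hf) (monoidAlgebraBC R T M₀ _))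
        rw [h1, map_smul, map_smul, hθ, tmul_smul, algebraMap_smul,
          show MonoidAlgebra.domCongrBialgEquiv T T (MulEquiv.ofBijective f hf) (MonoidAlgebra.of T M₀ m) =
            MonoidAlgebra.of T M (f m) by simp [MonoidAlgebra.domCongrBialgEquiv]]
        exact congrArg (r • ·) (hγ m PUnit.unit)
  have hb : Function.Bijective ((θ : MonoidAlgebra R M₀ →ₗ[R] A).lTensor T) := by
    rw [he]; exact EquivLike.bijective eT
  exact ⟨M₀, inferInstance, ⟨(BialgEquiv.ofBijective θ
    ⟨hT.injective (θ : MonoidAlgebra R M₀ →ₗ[R] A) fun _ => hb.1,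
      hT.surjective (θ : MonoidAlgebra R M₀ →ₗ[R] A) fun _ => hb.2⟩).symm⟩⟩

end Groth.Agent.SGA3b53
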