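import Groth.Agent.Hensel20.PairEtale
import Groth.Agent.AdicC27.Approx
import Mathlib

/-!
Finite etale covers lift along adically complete Noetherian pairs.
-/

set_option autoImplicit false
set_option linter.unusedSectionVars false
set_option linter.style.haveILetI false
universe u v w
open TensorProduct

noncomputable section

namespace Groth.Agent.SGA3b53

variable {R : Type u} [CommRing R]

theorem isAdicComplete_map_of_finite [IsNoetherianRing R] (I : Ideal R) [IsAdicComplete I R] (W : Type u) [CommRing W]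
    [Algebra R W] [Module.Finite R W] : IsAdicComplete (I.map (algebraMap R W)) W :=
  (IsAdicComplete.map_algebraMap_iff I W).2 (AdicC27.isAdicComplete_of_finite W)

/-- A finite etale cover of `R/I` lifts to one of `R`. -/
theorem exists_finite_etale_cover_lift [IsNoetherianRing R] (I : Ideal R) [IsAdicComplete I R] (S : Type u)
    [CommRing S] [Algebra (R ⧸ I) S] [Algebra.Etale (R ⧸ I) S] [Module.Finite (R ⧸ I) S]
    [Module.FaithfullyFlat (R ⧸ I) S] :
    ∃ (W : Type u) (_ : CommRing W) (_ : Algebra R W), Algebra.Etale R W ∧ Module.Finite R W ∧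
      Module.FaithfullyFlat R W ∧ Nonempty ((R ⧸ I) ⊗[R] W ≃ₐ[R ⧸ I] S) := by
  obtain ⟨W, _, _, hfin, het, ⟨e⟩⟩ := Hensel20.exists_finite_etale_lift (A := R) (I := I) S
  refine ⟨W, inferInstance, inferInstance, het, hfin, Module.FaithfullyFlat.of_comap_surjective fun p => ?_, ⟨e⟩⟩
  obtain ⟨m, hm, hpm⟩ := Ideal.exists_le_maximal p.asIdeal p.isPrime.ne_top
  have hIm : I ≤ m := (IsAdicComplete.le_jacobson_bot I).trans (by
    rw [Ideal.jacobson]
    exact sInf_le ⟨bot_le, hm⟩)
  obtain ⟨m', hm'⟩ : (⟨m, hm.isPrime⟩ : PrimeSpectrum R) ∈ Set.range (PrimeSpectrum.comap (Ideal.Quotient.mk I)) := by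
    rw [range_comap_of_surjective _ _ Ideal.Quotient.mk_surjective]
    simpa [Ideal.mk_ker] using hIm
  obtain ⟨Q, hQ⟩ := PrimeSpectrum.comap_surjective_of_faithfullyFlat (A := R ⧸ I) (B := S) m'
  let w : W →+* S := (e : (R ⧸ I) ⊗[R] W →+* S).comp
    (Algebra.TensorProduct.includeRight : W →ₐ[R] (R ⧸ I) ⊗[R] W).toRingHom
  let P := Q.comap w
  haveI : P.asIdeal.LiesOver m := ⟨by
    have h1 : w.comp (algebraMap R W) = (algebraMap (R ⧸ I) S).comp (Ideal.Quotient.mk I) := RingHom.ext fun r => by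
      change e ((1 : R ⧸ I) ⊗ₜ[R] algebraMap R W r) = algebraMap (R ⧸ I) S (Ideal.Quotient.mk I r)
      rw [Algebra.algebraMap_eq_smul_one, tmul_smul, ← algebraMap_smul (R ⧸ I) r ((1 : R ⧸ I) ⊗ₜ[R] (1 : W)), map_smul,
        ← Algebra.TensorProduct.one_def, map_one, ← Algebra.algebraMap_eq_smul_one]
      rfl
    have h2 : (⟨m, hm.isPrime⟩ : PrimeSpectrum R) = P.comap (algebraMap R W) := by
      rw [← hm', ← hQ, ← PrimeSpectrum.comap_comp_apply, ← PrimeSpectrum.comap_comp_apply, h1]
    exact congrArg PrimeSpectrum.asIdeal h2⟩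
  obtain ⟨P', -, hP', hover⟩ := Ideal.exists_ideal_le_liesOver_of_le (p := p.asIdeal) P.asIdeal hpm
  exact ⟨⟨P', hP'⟩, PrimeSpectrum.ext hover.over.symm⟩

end Groth.Agent.SGA3b53
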