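import Groth.Agent.SGA3b53.DiagLiftDescend
import Groth.Agent.SGA3b53.QuasiIso
import Groth.Agent.SGA3b53.FormalEtale
import Groth.Agent.Ind91.Lift
import Mathlib

/-!
Lifting quasi-isotrivial and isotrivial groups of multiplicative type.
-/

set_option autoImplicit false
set_option linter.unusedSectionVars false
set_option linter.style.haveILetI false
universe u v w
open TensorProduct

noncomputable section

namespace Groth.Agent.SGA3b53

namespace DLift

variable {R : Type u} [CommRing R] {I : Ideal R}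

theorem le_jac_of_nil (hI : ∀ x ∈ I, IsNilpotent x) (U : Type u) [CommRing U] [Algebra R U] :
    ∀ x ∈ I.map (algebraMap R U), IsNilpotent x := fun _ hx =>
  mem_nilradical.1 ((Ideal.map_le_iff_le_comap.2 fun a ha => mem_nilradical.2 ((hI a ha).map _)) hx)

theorem rigid_of_nil (hI : ∀ x ∈ I, IsNilpotent x) {ι : Type u} (T : ι → Type u) [∀ i, CommRing (T i)]
    [∀ i, Algebra R (T i)] : Rigid I T := by
  have hj : ∀ (U : Type u) [CommRing U] [Algebra R U], I.map (algebraMap R U) ≤ (⊥ : Ideal U).jacobson :=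
    fun U _ _ x hx => Ideal.radical_le_jacobson (by
      obtain ⟨n, hn⟩ := le_jac_of_nil hI U x hx
      exact ⟨n, by simp [hn]⟩)
  refine ⟨fun i => hj _, fun i j => hj _, fun i j l => hj _, fun i j e he => ?_⟩
  exact exists_isIdempotentElem_eq_of_ker_isNilpotent (Ideal.Quotient.mk _)
    (fun x hx => le_jac_of_nil hI _ x (by rwa [Ideal.mk_ker] at hx)) e
    (RingHom.mem_range.2 (Ideal.Quotient.mk_surjective e)) he

theorem exists_idem_lift_henselian {U : Type u} [CommRing U] (J : Ideal U) [HenselianRing U J] (e : U ⧸ J)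
    (he : IsIdempotentElem e) : ∃ e' : U, IsIdempotentElem e' ∧ Ideal.Quotient.mk J e' = e := by
  obtain ⟨a, rfl⟩ := Ideal.Quotient.mk_surjective e
  obtain ⟨b, hb, hba⟩ := HenselianRing.is_henselian (I := J) (Polynomial.X ^ 2 - Polynomial.X)
    (by
      nontriviality U
      refine (Polynomial.monic_X_pow 2).sub_of_left ?_
      rw [Polynomial.degree_X_pow]
      exact lt_of_le_of_lt Polynomial.degree_X_le (by norm_num)) a
    (by
      rw [← Ideal.Quotient.eq_zero_iff_mem]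
      simp [pow_two, he.eq])
    (by
      refine IsUnit.of_mul_eq_one (Ideal.Quotient.mk J (2 * a - 1)) ?_
      have h2 : Ideal.Quotient.mk J a * Ideal.Quotient.mk J a = Ideal.Quotient.mk J a := he
      simp [map_ofNat]
      linear_combination (4 : U ⧸ J) * h2)
  refine ⟨b, ?_, Ideal.Quotient.eq.2 hba⟩
  have h3 : b ^ 2 - b = 0 := by simpa [Polynomial.IsRoot] using hb
  exact (by linear_combination h3 : b * b = b)

theorem rigid_of_adicComplete [IsNoetherianRing R] [IsAdicComplete I R] {ι : Type u} (T : ι → Type u)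
    [∀ i, CommRing (T i)] [∀ i, Algebra R (T i)] [∀ i, Module.Finite R (T i)] : Rigid I T := by
  have hc : ∀ (U : Type u) [CommRing U] [Algebra R U] [Module.Finite R U], IsAdicComplete (I.map (algebraMap R U)) U :=
    fun U _ _ _ => isAdicComplete_map_of_finite I U
  refine ⟨fun i => ?_, fun i j => ?_, fun i j l => ?_, fun i j e he => ?_⟩
  · haveI := hc (T i)
    exact IsAdicComplete.le_jacobson_bot _
  · haveI := hc (T i ⊗[R] T j)
    exact IsAdicComplete.le_jacobson_bot _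
  · haveI := hc (T i ⊗[R] (T j ⊗[R] T l))
    exact IsAdicComplete.le_jacobson_bot _
  · haveI := hc (T i ⊗[R] T j)
    exact exists_idem_lift_henselian (I.map (algebraMap R (T i ⊗[R] T j))) e he

theorem isDiag_of_algHom {K : Type u} [CommRing K] {A₀ : Type u} [CommRing A₀] [HopfAlgebra K A₀] {S : Type u}
    [CommRing S] [Algebra K S] {U : Type u} [CommRing U] [Algebra K U] (σ : S →ₐ[K] U)
    (h : SGA3b.IsDiag S (S ⊗[K] A₀)) : SGA3b.IsDiag U (U ⊗[K] A₀) := by
  letI : Algebra S U := σ.toRingHom.toAlgebra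
  haveI : IsScalarTower K S U := IsScalarTower.of_algebraMap_eq fun k => (σ.commutes k).symm
  exact isDiag_tower S U h

/-- Etale lifts of etale algebras over the quotient by a nil ideal. -/
theorem exists_etale_piece {A₀ : Type u} [CommRing A₀] [HopfAlgebra (R ⧸ I) A₀]
    (f : R ⧸ I)
    (h : SGA3b.IsQuasiIsotrivialConst (Localization.Away f) (Localization.Away f ⊗[R ⧸ I] A₀)) :
    ∃ (W : Type u) (_ : CommRing W) (_ : Algebra R W), Algebra.Etale R W ∧
      (∀ p : PrimeSpectrum (R ⧸ I), f ∉ p.asIdeal →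
        ∃ q : PrimeSpectrum W, q.comap (algebraMap R W) = p.comap (Ideal.Quotient.mk I)) ∧
      SGA3b.IsDiag (red I W) (red I W ⊗[R ⧸ I] A₀) := by
  obtain ⟨S, _, algS, het, hff, hd⟩ := h
  let L := Localization.Away f
  letI : Algebra (R ⧸ I) S := ((algebraMap L S).comp (algebraMap (R ⧸ I) L)).toAlgebra
  haveI : IsScalarTower (R ⧸ I) L S := IsScalarTower.of_algebraMap_eq fun _ => rfl
  haveI : Algebra.Etale (R ⧸ I) L := Algebra.Etale.of_isLocalizationAway f
  haveI : Algebra.Etale (R ⧸ I) S := Algebra.Etale.comp (R ⧸ I) L S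
  have hd' : SGA3b.IsDiag S (S ⊗[R ⧸ I] A₀) := isDiag_of_equiv (cancelBC (R ⧸ I) L S A₀) hd
  letI : Algebra R S := ((algebraMap (R ⧸ I) S).comp (Ideal.Quotient.mk I)).toAlgebra
  haveI : IsScalarTower R (R ⧸ I) S := IsScalarTower.of_algebraMap_eq fun _ => rfl
  obtain ⟨W, _, _, π, hW, hπ, hker⟩ := Groth.Agent.Ind91.exists_etale_lift R I S
  refine ⟨W, inferInstance, inferInstance, hW, fun p hp => ?_, ?_⟩
  · obtain ⟨P, hP⟩ : p ∈ Set.range (PrimeSpectrum.comap (algebraMap (R ⧸ I) L)) := by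
      rw [PrimeSpectrum.localization_away_comap_range L f]; exact hp
    obtain ⟨Q, hQ⟩ := PrimeSpectrum.comap_surjective_of_faithfullyFlat (A := L) (B := S) P
    refine ⟨Q.comap (π : W →+* S), ?_⟩
    rw [← hP, ← hQ, ← PrimeSpectrum.comap_comp_apply, ← PrimeSpectrum.comap_comp_apply, ← PrimeSpectrum.comap_comp_apply]
    congr 1
    exact RingHom.ext fun r => π.commutes r
  · let e : (W ⧸ RingHom.ker (π : W →+* S)) ≃ₐ[R] S := Ideal.quotientKerAlgEquivOfSurjective (f := π) hπ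
    let σ₀ : S →ₐ[R] red I W := (Ideal.quotientEquivAlgOfEq R hker).toAlgHom.comp e.symm.toAlgHom
    exact isDiag_of_algHom (AlgHom.extendScalarsOfSurjective Ideal.Quotient.mk_surjective σ₀) hd'

theorem exists_lift_quasiIsotrivial (hI : ∀ x ∈ I, IsNilpotent x) {A₀ : Type u} [CommRing A₀] [HopfAlgebra (R ⧸ I) A₀]
    (h0 : SGA3b.IsQuasiIsotrivial (R ⧸ I) A₀) :
    ∃ (A : Type u) (_ : CommRing A) (_ : HopfAlgebra R A), SGA3b.IsQuasiIsotrivial R A ∧
      Nonempty (((R ⧸ I) ⊗[R] A) ≃ₐc[R ⧸ I] A₀) := by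
  obtain ⟨s, hs, hf⟩ := h0
  obtain ⟨t, hts, ht⟩ := (Ideal.span_eq_top_iff_finite s).1 hs
  choose T _ _ het hlift hd using fun f : (t : Set (R ⧸ I)) => exists_etale_piece f.1 (hf f.1 (hts f.2))
  haveI : Finite (t : Set (R ⧸ I)) := t.finite_toSet.to_subtype
  have hT : IsCover R T := by
    refine ⟨fun i => ?_, fun p => ?_⟩
    · haveI := het i
      infer_instance
    have hp : I ≤ p.asIdeal := fun x hx => nilradical_le_prime p.asIdeal (mem_nilradical.2 (hI x hx))
    obtain ⟨p', hp'⟩ : p ∈ Set.range (PrimeSpectrum.comap (Ideal.Quotient.mk I)) := by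
      rw [range_comap_of_surjective _ _ Ideal.Quotient.mk_surjective]
      simpa [Ideal.mk_ker] using hp
    obtain ⟨f, hft, hfp⟩ : ∃ f ∈ (t : Set (R ⧸ I)), f ∉ p'.asIdeal := by
      by_contra hc
      push Not at hc
      exact p'.isPrime.ne_top (top_le_iff.1 (ht ▸ Ideal.span_le.2 hc))
    obtain ⟨q, hq⟩ := hlift ⟨f, hft⟩ p' hfp
    exact ⟨⟨f, hft⟩, q, hq.trans hp'⟩
  obtain ⟨A, _, _, hA, hiso⟩ := exists_lift hT (rigid_of_nil hI T) hd
  exact ⟨A, inferInstance, inferInstance, isQuasiIsotrivial_of_cover het hT hA, hiso⟩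

theorem exists_lift_isotrivial [IsNoetherianRing R] [IsAdicComplete I R] {A₀ : Type u} [CommRing A₀]
    [HopfAlgebra (R ⧸ I) A₀] (h0 : SGA3b.IsIsotrivial (R ⧸ I) A₀) :
    ∃ (A : Type u) (_ : CommRing A) (_ : HopfAlgebra R A), SGA3b.IsIsotrivial R A ∧
      Nonempty (((R ⧸ I) ⊗[R] A) ≃ₐc[R ⧸ I] A₀) := by
  obtain ⟨S, _, _, hS1, hS2, hS3, hd⟩ := h0
  obtain ⟨W, _, _, hW1, hW2, hW3, ⟨eW⟩⟩ := exists_finite_etale_cover_lift I S
  let σ : S →ₐ[R ⧸ I] red I W :=
    ((Algebra.TensorProduct.quotIdealMapEquivQuotTensor W I).symm : (R ⧸ I) ⊗[R] W →ₐ[R ⧸ I] red I W).comp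
      (eW.symm : S →ₐ[R ⧸ I] (R ⧸ I) ⊗[R] W)
  have hT : IsCover R (fun _ : PUnit.{u+1} => W) :=
    ⟨fun _ => inferInstance, fun p => ⟨PUnit.unit, PrimeSpectrum.comap_surjective_of_faithfullyFlat p⟩⟩
  obtain ⟨A, _, _, hA, hiso⟩ := exists_lift hT (rigid_of_adicComplete _) fun _ => isDiag_of_algHom σ hd
  exact ⟨A, inferInstance, inferInstance, ⟨W, inferInstance, inferInstance, hW1, hW2, hW3, hA PUnit.unit⟩, hiso⟩

end DLift

end Groth.Agent.SGA3b53
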