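import Groth.Agent.SGA3b53.DiagLift
import Mathlib

/-!
A flat group which is diagonalisable modulo a nilpotent ideal is diagonalisable.
-/

set_option autoImplicit false
set_option linter.unusedSectionVars false
set_option linter.style.haveILetI false
universe u v w
open TensorProduct

noncomputable section

namespace Groth.Agent.SGA3b53

section Modules

variable {R : Type u} [CommRing R] {N : Type u} [AddCommGroup N] [Module R N] {ι : Type u}

theorem repr_one_tmul (I : Ideal R) (b : Module.Basis ι R N) (b0 : Module.Basis ι (R ⧸ I) ((R ⧸ I) ⊗[R] N))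
    (hb : ∀ i, (1 : R ⧸ I) ⊗ₜ[R] b i = b0 i) (z : N) (i : ι) :
    b0.repr ((1 : R ⧸ I) ⊗ₜ[R] z) i = Ideal.Quotient.mk I (b.repr z i) := by
  conv_lhs => rw [← b.linearCombination_repr z, Finsupp.linearCombination_apply]
  rw [Finsupp.sum, TensorProduct.tmul_sum, map_sum, Finsupp.finsetSum_apply]
  have h1 : ∀ j, b0.repr ((1 : R ⧸ I) ⊗ₜ[R] (b.repr z j • b j)) i =
      Ideal.Quotient.mk I (b.repr z j) * (Finsupp.single j (1 : R ⧸ I) : ι →₀ R ⧸ I) i := by
    intro j
    rw [TensorProduct.tmul_smul, ← algebraMap_smul (R ⧸ I) (b.repr z j) ((1 : R ⧸ I) ⊗ₜ[R] b j), map_smul, hb,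
      Module.Basis.repr_self, Finsupp.smul_apply, smul_eq_mul, Ideal.Quotient.algebraMap_eq]
  rw [Finset.sum_congr rfl fun j _ => h1 j, Finset.sum_eq_single i (fun j _ hj => by simp [hj])
    (fun hi => by simp [Finsupp.notMem_support_iff.1 hi])]
  simp

/-- Lifts of a basis along a nilpotent ideal form a basis of a flat module. -/
theorem exists_basis_lift [Module.Flat R N] (I : Ideal R) (hI : IsNilpotent I)
    (b0 : Module.Basis ι (R ⧸ I) ((R ⧸ I) ⊗[R] N)) (x : ι → N) (hx : ∀ i, (1 : R ⧸ I) ⊗ₜ[R] x i = b0 i) :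
    ∃ b : Module.Basis ι R N, ∀ i, b i = x i := by
  classical
  obtain ⟨n, hn⟩ := hI
  have hn' : I ^ n = ⊥ := hn
  let f : (ι →₀ R) →ₗ[R] N := Finsupp.linearCombination R x
  have hspan : ∀ z : N, ∃ c : ι →₀ R, z - f c ∈ I • (⊤ : Submodule R N) := by
    intro z
    choose lift hlift using Ideal.Quotient.mk_surjective (I := I)
    let c0 := b0.repr ((1 : R ⧸ I) ⊗ₜ[R] z)
    refine ⟨Finsupp.onFinset c0.support (fun i => if i ∈ c0.support then lift (c0 i) else 0) (fun i hi => by
      by_contra h
      exact hi (if_neg h)), ?_⟩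
    rw [← Submodule.Quotient.mk_eq_zero]
    suffices h : ∀ w : N, (1 : R ⧸ I) ⊗ₜ[R] w = 0 → (Submodule.Quotient.mk w : N ⧸ I • (⊤ : Submodule R N)) = 0 by
      apply h
      rw [tmul_sub, sub_eq_zero]
      simp only [f, Finsupp.linearCombination_apply]
      rw [Finsupp.onFinset_sum _ (fun i => zero_smul R (x i)), TensorProduct.tmul_sum]
      conv_lhs => rw [← b0.linearCombination_repr ((1 : R ⧸ I) ⊗ₜ[R] z), Finsupp.linearCombination_apply, Finsupp.sum]
      refine Finset.sum_congr rfl fun i hi => ?_
      rw [if_pos hi, TensorProduct.tmul_smul, hx, ← algebraMap_smul (R ⧸ I) (lift (c0 i)) (b0 i),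
        Ideal.Quotient.algebraMap_eq, hlift]
    intro w hw
    have h1 := congrArg (TensorProduct.quotTensorEquivQuotSMul N I) hw
    rw [map_zero, ← map_one (Ideal.Quotient.mk I), TensorProduct.quotTensorEquivQuotSMul_mk_tmul, one_smul] at h1
    exact h1
  have hsurj : Function.Surjective f := by
    have h1 : ∀ k, (⊤ : Submodule R N) ≤ LinearMap.range f ⊔ I ^ k • (⊤ : Submodule R N) := by
      intro k
      induction k with
      | zero => simp
      | succ k ih =>
        refine ih.trans (sup_le le_sup_left ?_)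
        have h2 : (⊤ : Submodule R N) ≤ LinearMap.range f ⊔ I • (⊤ : Submodule R N) := fun z _ => by
          obtain ⟨c, hc⟩ := hspan z
          exact Submodule.mem_sup.2 ⟨f c, ⟨c, rfl⟩, z - f c, hc, by simp⟩
        refine (Submodule.smul_mono le_rfl h2).trans ?_
        rw [Submodule.smul_sup, ← mul_smul, ← pow_succ]
        exact sup_le (Submodule.smul_le_right.trans le_sup_left) le_sup_right
    intro z
    have h2 := h1 n (Submodule.mem_top : z ∈ ⊤)
    rw [hn', Submodule.bot_smul, sup_bot_eq] at h2
    exact h2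
  have hinj : Function.Injective f := by
    rw [injective_iff_map_eq_zero]
    intro c hc
    let T := c.support
    let g : (T → R) →ₗ[R] ι →₀ R := Fintype.linearCombination R fun i : T => Finsupp.single i.1 (1 : R)
    let c' : T → R := fun i => c i.1
    have hg : g c' = c := by
      simp only [g, Fintype.linearCombination_apply, Finsupp.smul_single, smul_eq_mul, mul_one, c']
      rw [Finset.univ_eq_attach, Finset.sum_attach T fun i => Finsupp.single i (c i)]
      exact c.sum_single
    obtain ⟨k, a, y, hay, ha⟩ := Module.Flat.exists_factorization_of_apply_eq_zero_of_free (f := c') (x := f.comp g)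
      (by rw [LinearMap.comp_apply, hg, hc])
    obtain ⟨s, hs⟩ := Module.projective_lifting_property f y hsurj
    let φ : (T → R) →ₗ[R] ι →₀ R := s.comp a
    have hφc : φ c' = 0 := by rw [LinearMap.comp_apply, ha, map_zero]
    have hφ : ∀ (i : T) (j : T), Ideal.Quotient.mk I (φ (Pi.single i 1) j.1) = if i = j then 1 else 0 := by
      intro i j
      have h1 : f (φ (Pi.single i 1)) = f (Finsupp.single i.1 1) := by
        rw [LinearMap.comp_apply, ← LinearMap.comp_apply f, hs, ← LinearMap.comp_apply, ← hay, LinearMap.comp_apply]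
        simp [g, Fintype.linearCombination_apply_single]
      have h2 := congrArg (fun z => b0.repr ((1 : R ⧸ I) ⊗ₜ[R] z) j.1) h1
      have key : ∀ v : ι →₀ R, b0.repr ((1 : R ⧸ I) ⊗ₜ[R] f v) j.1 = Ideal.Quotient.mk I (v j.1) := by
        intro v
        induction v using Finsupp.induction_linear with
        | zero => simp
        | add v w hv hw => simp only [map_add, tmul_add, Finsupp.add_apply, hv, hw]
        | single l r =>
          simp only [f, Finsupp.linearCombination_single]
          rw [TensorProduct.tmul_smul, hx, ← algebraMap_smul (R ⧸ I) r (b0 l), map_smul, Module.Basis.repr_self]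
          by_cases hl : l = j.1 <;> simp [hl]
      simp only [key] at h2
      rw [h2]
      by_cases hij : i = j
      · simp [hij]
      · simp [hij, show i.1 ≠ j.1 from fun h => hij (Subtype.ext h)]
    let 𝔠 : Ideal R := Ideal.span (Set.range c')
    have hmem : ∀ j, c' j ∈ I * 𝔠 := by
      intro j
      have h1 : c' = ∑ i, c' i • (Pi.single i 1 : T → R) := by
        funext l
        simp [Finset.sum_apply, Pi.single_apply]
      have h2 := congrArg (fun v => v j.1) hφc
      rw [h1] at h2
      simp only [map_sum, map_smul, Finsupp.finsetSum_apply, Finsupp.smul_apply, smul_eq_mul, Finsupp.zero_apply] at h2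
      rw [← Finset.add_sum_erase _ _ (Finset.mem_univ j)] at h2
      have h3 : c' j = c' j * (1 - φ (Pi.single j 1) j.1) -
          ∑ i ∈ Finset.univ.erase j, c' i * φ (Pi.single i 1) j.1 := by linear_combination h2
      rw [h3]
      refine sub_mem ?_ (Ideal.sum_mem _ fun i hi => ?_)
      · rw [mul_comm I]
        refine Ideal.mul_mem_mul (Ideal.subset_span ⟨j, rfl⟩) ?_
        rw [← Ideal.Quotient.eq_zero_iff_mem, map_sub, hφ, if_pos rfl, map_one, sub_self]
      · rw [mul_comm I]
        refine Ideal.mul_mem_mul (Ideal.subset_span ⟨i, rfl⟩) ?_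
        rw [← Ideal.Quotient.eq_zero_iff_mem, hφ, if_neg (by simpa using hi)]
    have hle : ∀ k, 𝔠 ≤ I ^ k * 𝔠 := by
      intro k
      induction k with
      | zero => simp
      | succ k ih =>
        refine ih.trans ((Ideal.mul_mono le_rfl (Ideal.span_le.2 (by rintro _ ⟨j, rfl⟩; exact hmem j))).trans ?_)
        rw [pow_succ, mul_assoc]
    refine Finsupp.ext fun i => ?_
    by_cases hi : i ∈ T
    · have h1 := hle n (Ideal.subset_span ⟨⟨i, hi⟩, rfl⟩)
      rw [hn', Ideal.bot_mul, Ideal.mem_bot] at h1
      exact h1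
    · exact Finsupp.notMem_support_iff.1 hi
  exact ⟨.ofRepr (LinearEquiv.ofBijective f ⟨hinj, hsurj⟩).symm, fun i => by
    simp [Module.Basis.coe_ofRepr, f]⟩

end Modules

variable {R : Type u} [CommRing R] {A : Type u} [CommRing A] [HopfAlgebra R A] {M : Type u}

section Coeff

variable (b : Module.Basis M R A)

/-- Coefficients of an element. -/
def co₁ (x : A) (a : M) : R := b.repr x a

/-- Coefficients in `A ⊗ A`. -/
def co₂ (z : A ⊗[R] A) (a c : M) : R := (b.tensorProduct b).repr z (a, c)

/-- Coefficients in `A ⊗ (A ⊗ A)`. -/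
def co₃ (z : A ⊗[R] (A ⊗[R] A)) (a c e : M) : R := (b.tensorProduct (b.tensorProduct b)).repr z (a, c, e)

theorem co₂_tmul (x y : A) (a c : M) : co₂ b (x ⊗ₜ y) a c = co₁ b x a * co₁ b y c := by
  simp [co₂, co₁, mul_comm]

theorem co₃_tmul (x : A) (z : A ⊗[R] A) (a c e : M) : co₃ b (x ⊗ₜ z) a c e = co₁ b x a * co₂ b z c e := by
  simp [co₃, co₂, co₁, mul_comm]

theorem co₃_assoc_tmul (z : A ⊗[R] A) (x : A) (a c e : M) :
    co₃ b (TensorProduct.assoc R A A A (z ⊗ₜ x)) a c e = co₂ b z a c * co₁ b x e := by
  induction z with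
  | zero => simp [co₃, co₂]
  | add u v hu hv =>
    simp only [co₃, co₂] at hu hv ⊢
    rw [add_tmul, map_add, map_add, map_add, Finsupp.add_apply, hu, hv, Finsupp.add_apply, add_mul]
  | tmul p q => rw [TensorProduct.assoc_tmul, co₃_tmul, co₂_tmul, co₂_tmul, mul_assoc]

variable {S : Type u} [CommRing S] (q : R →+* S)

open scoped Classical in
theorem q_co₃_rTensor (z : A ⊗[R] A) (hD : ∀ p r a c, q (co₂ b z p r * (co₂ b (Coalgebra.comul (R := R) (b p)) a c -
      if a = p ∧ c = p then 1 else 0)) = 0) (a c e : M) :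
    q (co₃ b (TensorProduct.assoc R A A A ((Coalgebra.comul (R := R) (A := A)).rTensor A z)) a c e) =
      if a = c then q (co₂ b z a e) else 0 := by
  let B := b.tensorProduct b
  let L : A ⊗[R] A → R := fun w => co₃ b (TensorProduct.assoc R A A A ((Coalgebra.comul (R := R) (A := A)).rTensor A w)) a c e
  have hL : L z = (B.repr z).sum fun pr t => t * L (B pr) := by
    conv_lhs => rw [← B.linearCombination_repr z]
    simp only [L, co₃, Finsupp.linearCombination_apply, Finsupp.sum, map_sum, map_smul, Finsupp.finsetSum_apply,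
      Finsupp.smul_apply, smul_eq_mul]
  change q (L z) = _
  rw [hL, Finsupp.sum, map_sum]
  have h1 : ∀ pr : M × M, q (B.repr z pr * L (B pr)) =
      if a = pr.1 ∧ c = pr.1 ∧ e = pr.2 then q (B.repr z pr) else 0 := by
    rintro ⟨p, r⟩
    have h2 : L (B (p, r)) = co₂ b (Coalgebra.comul (R := R) (b p)) a c * (if e = r then 1 else 0) := by
      simp only [L, B, Module.Basis.tensorProduct_apply, LinearMap.rTensor_tmul]
      rw [co₃_assoc_tmul, co₁, Module.Basis.repr_self, Finsupp.single_apply]
      simp [eq_comm]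
    have h3 : q (co₂ b z p r * co₂ b (Coalgebra.comul (R := R) (b p)) a c) =
        q (co₂ b z p r * if a = p ∧ c = p then 1 else 0) := by
      rw [← sub_eq_zero, ← map_sub, ← mul_sub]
      exact hD p r a c
    rw [h2, ← mul_assoc, map_mul, show B.repr z (p, r) = co₂ b z p r from rfl, h3]
    by_cases he : e = r
    · by_cases hp : a = p ∧ c = p <;> simp [he, hp]
    · simp [he]
  rw [Finset.sum_congr rfl fun pr _ => h1 pr, Finset.sum_eq_single (a, e)]
  · by_cases hac : a = c <;> simp [hac, co₂, B, eq_comm]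
  · rintro ⟨p, r⟩ _ hne
    rw [if_neg]
    rintro ⟨rfl, -, rfl⟩
    exact hne rfl
  · intro h
    rw [Finsupp.notMem_support_iff.1 h, map_zero, ite_self]

open scoped Classical in
theorem q_co₃_lTensor (z : A ⊗[R] A) (hD : ∀ p r a c, q (co₂ b z p r * (co₂ b (Coalgebra.comul (R := R) (b r)) a c -
      if a = r ∧ c = r then 1 else 0)) = 0) (a c e : M) :
    q (co₃ b ((Coalgebra.comul (R := R) (A := A)).lTensor A z) a c e) =
      if c = e then q (co₂ b z a c) else 0 := by
  let B := b.tensorProduct b
  let L : A ⊗[R] A → R := fun w => co₃ b ((Coalgebra.comul (R := R) (A := A)).lTensor A w) a c e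
  have hL : L z = (B.repr z).sum fun pr t => t * L (B pr) := by
    conv_lhs => rw [← B.linearCombination_repr z]
    simp only [L, co₃, Finsupp.linearCombination_apply, Finsupp.sum, map_sum, map_smul, Finsupp.finsetSum_apply,
      Finsupp.smul_apply, smul_eq_mul]
  change q (L z) = _
  rw [hL, Finsupp.sum, map_sum]
  have h1 : ∀ pr : M × M, q (B.repr z pr * L (B pr)) =
      if a = pr.1 ∧ c = pr.2 ∧ e = pr.2 then q (B.repr z pr) else 0 := by
    rintro ⟨p, r⟩
    have h2 : L (B (p, r)) = (if a = p then 1 else 0) * co₂ b (Coalgebra.comul (R := R) (b r)) c e := by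
      simp only [L, B, Module.Basis.tensorProduct_apply, LinearMap.lTensor_tmul]
      rw [co₃_tmul, co₁, Module.Basis.repr_self, Finsupp.single_apply]
      simp [eq_comm]
    have h3 : q (co₂ b z p r * co₂ b (Coalgebra.comul (R := R) (b r)) c e) =
        q (co₂ b z p r * if c = r ∧ e = r then 1 else 0) := by
      rw [← sub_eq_zero, ← map_sub, ← mul_sub]
      exact hD p r c e
    rw [h2, show B.repr z (p, r) = co₂ b z p r from rfl]
    by_cases he : a = p
    · rw [if_pos he, one_mul, h3]
      by_cases hp : c = r ∧ e = r <;> simp [he, hp]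
    · simp [he]
  rw [Finset.sum_congr rfl fun pr _ => h1 pr, Finset.sum_eq_single (a, c)]
  · by_cases hac : c = e <;> simp [hac, co₂, B, eq_comm]
  · rintro ⟨p, r⟩ _ hne
    rw [if_neg]
    rintro ⟨rfl, rfl, -⟩
    exact hne rfl
  · intro h
    rw [Finsupp.notMem_support_iff.1 h, map_zero, ite_self]

end Coeff

open scoped Classical in
/-- One step of the successive approximation of a group-like element. -/
theorem grouplike_step (b : Module.Basis M R A) (I J : Ideal R) (hJI : J ≤ I)
    (hb : ∀ p a c, co₂ b (Coalgebra.comul (R := R) (b p)) a c - (if a = p ∧ c = p then 1 else 0) ∈ I)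
    (g : M) (x : A) (hx : ∀ a, co₁ b x a - (if a = g then 1 else 0) ∈ I)
    (hd : ∀ a c, co₂ b (Coalgebra.comul (R := R) x - x ⊗ₜ x) a c ∈ J) :
    ∃ x' : A, (∀ a, co₁ b x' a - (if a = g then 1 else 0) ∈ I) ∧
      ∀ a c, co₂ b (Coalgebra.comul (R := R) x' - x' ⊗ₜ x') a c ∈ I * J := by
  let q := Ideal.Quotient.mk (I * J)
  let X := co₁ b x
  let δ : M → R := fun a => if a = g then 1 else 0
  let d := co₂ b (Coalgebra.comul (R := R) x - x ⊗ₜ x)
  have hq : ∀ {i j : R}, i ∈ I → j ∈ J → q (j * i) = 0 := fun hi hj => by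
    rename_i i j
    rw [Ideal.Quotient.eq_zero_iff_mem, mul_comm j i]
    exact Ideal.mul_mem_mul hi hj
  have hXd : ∀ a {j}, j ∈ J → q (j * X a) = q (j * δ a) := fun a {j} hj => by
    rw [← sub_eq_zero, ← map_sub, ← mul_sub]
    exact hq (hx a) hj
  have hD : ∀ a c, co₂ b (Coalgebra.comul (R := R) x) a c = X a * X c + d a c := fun a c => by
    simp [d, X, co₂, co₁, mul_comm]
  have hzero : Coalgebra.comul (R := R) x = x ⊗ₜ x + (Coalgebra.comul (R := R) x - x ⊗ₜ x) := by simp
  have eqn : ∀ a c e, δ e * 0 + ((if e = g then q (d a c) else 0) + if a = c then q (d a e) else 0) =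
      (if a = g then q (d c e) else 0) + if c = e then q (d a c) else 0 := by
    intro a c e
    have h1 := congrArg (fun z => q (co₃ b z a c e)) (Coalgebra.coassoc_apply (R := R) x)
    rw [hzero] at h1
    simp only [map_add, co₃, Finsupp.add_apply] at h1
    have hl := q_co₃_rTensor b q (Coalgebra.comul (R := R) x - x ⊗ₜ x) (fun p r a c => hq (hb p a c) (hd p r)) a c e
    have hr := q_co₃_lTensor b q (Coalgebra.comul (R := R) x - x ⊗ₜ x) (fun p r a c => hq (hb r a c) (hd p r)) a c e
    rw [co₃] at hl hr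
    rw [hl, hr] at h1
    rw [LinearMap.rTensor_tmul, LinearMap.lTensor_tmul,
      show (b.tensorProduct (b.tensorProduct b)).repr (TensorProduct.assoc R A A A (Coalgebra.comul (R := R) x ⊗ₜ x)) (a, c, e) =
        co₂ b (Coalgebra.comul (R := R) x) a c * X e from co₃_assoc_tmul b _ _ _ _ _,
      show (b.tensorProduct (b.tensorProduct b)).repr (x ⊗ₜ Coalgebra.comul (R := R) x) (a, c, e) =
        X a * co₂ b (Coalgebra.comul (R := R) x) c e from co₃_tmul b _ _ _ _ _,
      hD, hD, add_mul, mul_add, map_add, map_add, hXd e (hd a c), mul_comm (X a) (d c e), hXd a (hd c e),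
      show X a * X c * X e = X a * (X c * X e) from mul_assoc _ _ _] at h1
    rw [mul_zero, zero_add]
    simp only [δ, mul_ite, mul_one, mul_zero, apply_ite q, map_zero] at h1
    linear_combination h1
  let F := ((b.tensorProduct b).repr (Coalgebra.comul (R := R) x - x ⊗ₜ x)).support.image Prod.fst
  let Y : M →₀ R := Finsupp.onFinset F (fun a => if a = g then -d g g else d a a) fun a ha => by
    by_contra hF
    apply ha
    have h0 : d a a = 0 := Finsupp.notMem_support_iff.1 fun h => hF (Finset.mem_image.2 ⟨(a, a), h, rfl⟩)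
    by_cases hag : a = g
    · rw [if_pos hag, ← hag, h0, neg_zero]
    · rw [if_neg hag, h0]
  have hYJ : ∀ a, Y a ∈ J := fun a => by
    simp only [Y, Finsupp.onFinset_apply]
    split_ifs with hag
    · exact J.neg_mem (hd g g)
    · exact hd a a
  let y := Finsupp.linearCombination R b Y
  have hy1 : ∀ a, co₁ b y a = Y a := fun a => by simp [y, co₁, Module.Basis.repr_linearCombination]
  refine ⟨x - y, fun a => ?_, fun a c => ?_⟩
  · have : co₁ b (x - y) a - (if a = g then 1 else 0) = (co₁ b x a - if a = g then 1 else 0) - Y a := by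
      rw [← hy1]; simp only [co₁, map_sub, Finsupp.sub_apply]; ring
    rw [this]
    exact sub_mem (hx a) (hJI (hYJ a))
  · rw [← Ideal.Quotient.eq_zero_iff_mem]
    change q _ = 0
    have hy2 : q (co₂ b (Coalgebra.comul (R := R) y) a c) = if a = c then q (Y a) else 0 := by
      simp only [y, co₂, Finsupp.linearCombination_apply, Finsupp.sum, map_sum, map_smul, Finsupp.finsetSum_apply,
        Finsupp.smul_apply, smul_eq_mul]
      have h1 : ∀ p, q (Y p * (b.tensorProduct b).repr (Coalgebra.comul (R := R) (b p)) (a, c)) =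
          if a = p ∧ c = p then q (Y p) else 0 := fun p => by
        have h2 := hq (hb p a c) (hYJ p)
        rw [mul_sub, map_sub, sub_eq_zero] at h2
        rw [show (b.tensorProduct b).repr (Coalgebra.comul (R := R) (b p)) (a, c) = co₂ b (Coalgebra.comul (R := R) (b p)) a c from rfl,
          h2]
        by_cases hp : a = p ∧ c = p <;> simp [hp]
      rw [Finset.sum_congr rfl fun p _ => h1 p, Finset.sum_eq_single a]
      · by_cases hac : a = c <;> simp [hac, eq_comm]
      · intro p _ hne
        rw [if_neg fun h => hne h.1.symm]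
      · intro h
        rw [Finsupp.notMem_support_iff.1 h, map_zero, ite_self]
    have e1 : co₂ b (Coalgebra.comul (R := R) (x - y) - (x - y) ⊗ₜ (x - y)) a c =
        d a c - co₂ b (Coalgebra.comul (R := R) y) a c + X a * Y c + Y a * X c - Y a * Y c := by
      simp only [← hy1, d, X, co₂, co₁, map_sub, sub_tmul, tmul_sub, Finsupp.sub_apply,
        Module.Basis.tensorProduct_repr_tmul_apply, smul_eq_mul]
      ring
    rw [e1, map_sub, map_add, map_add, map_sub, hy2, mul_comm (X a), hXd a (hYJ c), hXd c (hYJ a),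
      hq (hJI (hYJ c)) (hYJ a), sub_zero]
    have hYq : ∀ p, q (Y p) = if p = g then -q (d g g) else q (d p p) := fun p => by
      simp only [Y, Finsupp.onFinset_apply]
      by_cases hp : p = g <;> simp [hp]
    simp only [δ, mul_ite, mul_one, mul_zero, apply_ite q, map_zero, hYq]
    by_cases hac : a = c
    · subst hac
      by_cases hag : a = g
      · subst hag; simp
      · simp [hag]
    · by_cases hag : a = g
      · subst hag
        have h := eqn a c c
        have hca : ¬c = a := fun h => hac h.symm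
        simp [hac, hca] at h ⊢
        linear_combination -h
      · by_cases hcg : c = g
        · subst hcg
          have h := eqn a a c
          simp [hac] at h ⊢
          linear_combination h
        · have h := eqn a c g
          simp [hac, hag, hcg] at h ⊢
          linear_combination h

theorem single_one_eq_ite {S : Type*} [Zero S] [One S] [DecidableEq M] (p a : M) :
    (Finsupp.single p (1 : S)) a = if a = p then 1 else 0 := by
  rw [Finsupp.single_apply]
  exact if_congr eq_comm rfl rfl

theorem repr₂_one_tmul (I : Ideal R) (b : Module.Basis M R A) (b0 : Module.Basis M (R ⧸ I) ((R ⧸ I) ⊗[R] A))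
    (hb : ∀ i, (1 : R ⧸ I) ⊗ₜ[R] b i = b0 i) (z : A ⊗[R] A) (a c : M) :
    (b0.tensorProduct b0).repr (AlgebraTensorModule.distribBaseChange R (R ⧸ I) A A ((1 : R ⧸ I) ⊗ₜ[R] z)) (a, c) =
      Ideal.Quotient.mk I (co₂ b z a c) := by
  induction z with
  | zero => simp [co₂]
  | add u v hu hv =>
    simp only [co₂] at hu hv ⊢
    rw [tmul_add, map_add, map_add, map_add, Finsupp.add_apply, hu, hv, Finsupp.add_apply, map_add]
  | tmul u v =>
    rw [show AlgebraTensorModule.distribBaseChange R (R ⧸ I) A A ((1 : R ⧸ I) ⊗ₜ[R] (u ⊗ₜ[R] v)) =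
      ((1 : R ⧸ I) ⊗ₜ[R] u) ⊗ₜ[R ⧸ I] ((1 : R ⧸ I) ⊗ₜ[R] v) by simp [AlgebraTensorModule.distribBaseChange],
      Module.Basis.tensorProduct_repr_tmul_apply, repr_one_tmul I b b0 hb, repr_one_tmul I b b0 hb, co₂_tmul, map_mul,
      smul_eq_mul, mul_comm]
    rfl

/-- A flat group which is diagonalisable modulo a nilpotent ideal is diagonalisable. -/
theorem isDiag_of_flat_mod_nilpotent [Module.Flat R A] (I : Ideal R) (hI : IsNilpotent I)
    (h0 : SGA3b.IsDiag (R ⧸ I) ((R ⧸ I) ⊗[R] A)) : SGA3b.IsDiag R A := by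
  classical
  obtain ⟨M, _, ⟨ρ0⟩⟩ := h0
  let b0 : Module.Basis M (R ⧸ I) ((R ⧸ I) ⊗[R] A) := Module.Basis.map (MonoidAlgebra.basis M (R ⧸ I)) ρ0.symm.toLinearEquiv
  have hb0 : ∀ m, b0 m = ρ0.symm (MonoidAlgebra.of (R ⧸ I) M m) := fun m => by simp [b0]; rfl
  choose x₀ hx₀ using fun m => TensorProduct.mk_surjective R A (R ⧸ I) Ideal.Quotient.mk_surjective (b0 m)
  obtain ⟨b, hb⟩ := exists_basis_lift I hI b0 x₀ hx₀
  have hb' : ∀ m, (1 : R ⧸ I) ⊗ₜ[R] b m = b0 m := fun m => (congrArg _ (hb m)).trans (hx₀ m)
  have hcom : ∀ z : A, AlgebraTensorModule.distribBaseChange R (R ⧸ I) A A ((1 : R ⧸ I) ⊗ₜ[R] Coalgebra.comul (R := R) z) =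
      Coalgebra.comul (R := R ⧸ I) ((1 : R ⧸ I) ⊗ₜ[R] z) := by
    intro z
    rw [TensorProduct.comul_tmul, CommSemiring.comul_apply]
    generalize Coalgebra.comul (R := R) z = w
    induction w with
    | zero => simp
    | add u v hu hv => simp only [tmul_add, map_add, hu, hv]
    | tmul u v => simp [AlgebraTensorModule.distribBaseChange]
  have hD : ∀ p a c, co₂ b (Coalgebra.comul (R := R) (b p)) a c - (if a = p ∧ c = p then 1 else 0) ∈ I := by
    intro p a c
    rw [← Ideal.Quotient.eq_zero_iff_mem, map_sub, ← repr₂_one_tmul I b b0 hb', hcom, hb', hb0,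
      ((MonoidAlgebra.isGroupLikeElem_of p).map ρ0.symm).comul_eq_tmul_self, ← hb0,
      Module.Basis.tensorProduct_repr_tmul_apply, Module.Basis.repr_self, single_one_eq_ite, single_one_eq_ite]
    by_cases ha : a = p <;> by_cases hc : c = p <;> simp [ha, hc]
  have happrox : ∀ g k, ∃ x : A, (∀ a, co₁ b x a - (if a = g then 1 else 0) ∈ I) ∧
      ∀ a c, co₂ b (Coalgebra.comul (R := R) x - x ⊗ₜ x) a c ∈ I ^ (k + 1) := by
    intro g k
    induction k with
    | zero =>
      refine ⟨b g, fun a => ?_, fun a c => ?_⟩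
      · rw [co₁, Module.Basis.repr_self, single_one_eq_ite, sub_self]
        exact I.zero_mem
      · rw [zero_add, pow_one]
        have h1 := hD g a c
        have h2 : co₂ b (b g ⊗ₜ b g) a c = if a = g ∧ c = g then 1 else 0 := by
          rw [co₂_tmul, co₁, co₁, Module.Basis.repr_self, single_one_eq_ite, single_one_eq_ite]
          by_cases ha : a = g <;> by_cases hc : c = g <;> simp [ha, hc]
        simp only [co₂] at h1 h2 ⊢
        rwa [map_sub, Finsupp.sub_apply, h2]
    | succ k ih =>
      obtain ⟨x, hx, hd⟩ := ih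
      obtain ⟨x', hx', hd'⟩ := grouplike_step b I (I ^ (k + 1)) (Ideal.pow_le_self (Nat.succ_ne_zero k)) hD g x hx hd
      exact ⟨x', hx', fun a c => by rw [pow_succ']; exact hd' a c⟩
  obtain ⟨n, hn⟩ := hI
  have hn' : I ^ (n + 1) = ⊥ := by rw [pow_succ, show I ^ n = ⊥ from hn, Ideal.bot_mul]
  choose x hx hd using fun g => happrox g n
  have hcomul : ∀ g, Coalgebra.comul (R := R) (x g) = x g ⊗ₜ x g := fun g => by
    rw [← sub_eq_zero]
    apply (b.tensorProduct b).repr.injective
    rw [map_zero]
    refine Finsupp.ext fun ⟨a, c⟩ => ?_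
    have h1 := hd g a c
    rw [hn', Ideal.mem_bot] at h1
    exact h1
  have hred : ∀ g, (1 : R ⧸ I) ⊗ₜ[R] x g = b0 g := by
    intro g
    apply b0.repr.injective
    refine Finsupp.ext fun a => ?_
    rw [repr_one_tmul I b b0 hb', Module.Basis.repr_self, single_one_eq_ite,
      show b.repr (x g) a = (co₁ b (x g) a - if a = g then 1 else 0) + if a = g then 1 else 0 by simp [co₁],
      map_add, Ideal.Quotient.eq_zero_iff_mem.2 (hx g a)]
    by_cases ha : a = g <;> simp [ha]
  have hcounit : ∀ g, Coalgebra.counit (R := R) (x g) = 1 := by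
    intro g
    let e := Coalgebra.counit (R := R) (x g)
    have h1 : (1 : R ⧸ I) = Ideal.Quotient.mk I e := by
      have h2 := congrArg (Coalgebra.counit (R := R ⧸ I)) (hred g)
      rw [hb0, ((MonoidAlgebra.isGroupLikeElem_of g).map ρ0.symm).counit_eq_one] at h2
      simpa [e, Algebra.smul_def] using h2.symm
    have hu : IsUnit e := by
      have h3 : IsNilpotent (1 - e) := by
        have h4 : 1 - e ∈ I := by rw [← Ideal.Quotient.eq_zero_iff_mem, map_sub, map_one, ← h1, sub_self]
        exact ⟨n, by simpa [show I ^ n = ⊥ from hn] using Ideal.pow_mem_pow h4 n⟩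
      simpa using h3.isUnit_one_sub
    have h5 : x g = e • x g := by
      have h6 := congrArg (Coalgebra.counit (R := R) (A := A) |>.rTensor A) (hcomul g)
      rw [LinearMap.rTensor_tmul, Coalgebra.rTensor_counit_comul] at h6
      simpa using congrArg (TensorProduct.lid R A) h6
    have h7 := congrArg (Coalgebra.counit (R := R)) h5
    rw [map_smul, smul_eq_mul] at h7
    exact hu.mul_left_cancel (by rw [mul_one]; exact h7.symm)
  obtain ⟨b', hb''⟩ := exists_basis_lift I ⟨n, hn⟩ b0 x hred
  have huniq : ∀ (g : M) (z : A), IsGroupLikeElem R z → (1 : R ⧸ I) ⊗ₜ[R] z = b0 g → z = x g := by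
    intro g z hz hzg
    have h1 : ∀ a c, co₁ b' z a * co₁ b' z c = if a = c then co₁ b' z a else 0 := by
      intro a c
      rw [← co₂_tmul, ← hz.comul_eq_tmul_self]
      conv_lhs => rw [← b'.linearCombination_repr z, Finsupp.linearCombination_apply, Finsupp.sum]
      simp only [co₂, co₁, map_sum, map_smul, Finsupp.finsetSum_apply, Finsupp.smul_apply, smul_eq_mul, hb'', hcomul]
      rw [Finset.sum_eq_single a]
      · rw [← hb'' a, Module.Basis.tensorProduct_repr_tmul_apply, Module.Basis.repr_self, Finsupp.single_apply]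
        by_cases hac : a = c <;> simp [hac]
      · intro p _ hne
        rw [← hb'' p, Module.Basis.tensorProduct_repr_tmul_apply, Module.Basis.repr_self, Finsupp.single_apply,
          Finsupp.single_apply, if_neg hne]
        simp
      · intro h
        rw [Finsupp.notMem_support_iff.1 h, zero_mul]
    have h2 : IsUnit (co₁ b' z g) := by
      have h3 : Ideal.Quotient.mk I (co₁ b' z g) = 1 := by
        rw [co₁, ← repr_one_tmul I b' b0 (fun i => by rw [hb'', hred]), hzg, Module.Basis.repr_self, Finsupp.single_eq_same]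
      have h4 : IsNilpotent (1 - co₁ b' z g) := ⟨n, by
        have h5 : 1 - co₁ b' z g ∈ I := by rw [← Ideal.Quotient.eq_zero_iff_mem, map_sub, map_one, h3, sub_self]
        simpa [show I ^ n = ⊥ from hn] using Ideal.pow_mem_pow h5 n⟩
      simpa using h4.isUnit_one_sub
    rw [← hb'' g]
    apply b'.repr.injective
    refine Finsupp.ext fun a => ?_
    change co₁ b' z a = _
    rw [Module.Basis.repr_self, Finsupp.single_apply]
    by_cases ha : g = a
    · subst ha
      rw [if_pos rfl]
      exact h2.mul_left_cancel (by rw [mul_one, h1, if_pos rfl])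
    · rw [if_neg ha]
      exact h2.mul_left_cancel (by rw [mul_zero, h1, if_neg ha])
  have hgl : ∀ g, IsGroupLikeElem R (x g) := fun g => ⟨hcounit g, hcomul g⟩
  let γ : M →* A :=
    { toFun := x
      map_one' := (huniq 1 1 IsGroupLikeElem.one (by rw [hb0, map_one, map_one, Algebra.TensorProduct.one_def])).symm
      map_mul' := fun a c => (huniq (a * c) _ ((hgl a).mul (hgl c)) (by
        rw [← one_mul (1 : R ⧸ I), ← Algebra.TensorProduct.tmul_mul_tmul, hred, hred, hb0, hb0, hb0, map_mul, map_mul])).symm }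
  obtain ⟨θ, hθ⟩ := exists_bialgHom_of_grouplike γ hgl
  have hθ' : (θ : MonoidAlgebra R M → A) = (MonoidAlgebra.basis M R).equiv b' (Equiv.refl M) := by
    funext y
    induction y using MonoidAlgebra.induction_linear with
    | zero => simp
    | add u v hu hv => simp only [map_add, hu, hv]
    | single m r =>
      rw [hθ, show MonoidAlgebra.single m r = r • MonoidAlgebra.basis M R m by simp, map_smul,
        Module.Basis.equiv_apply, Equiv.refl_apply, hb'']
      rfl
  exact ⟨M, inferInstance, ⟨(BialgEquiv.ofBijective θ (by rw [hθ']; exact LinearEquiv.bijective _)).symm⟩⟩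

end Groth.Agent.SGA3b53
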