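import Groth.Agent.SGA3b53.ClopenDescent
import Groth.Agent.SGA3b53.FlatLift
import Mathlib

/-!
When the clopen subgroup is everything.
-/

set_option autoImplicit false
set_option linter.unusedSectionVars false
set_option linter.style.haveILetI false
universe u v w
open TensorProduct

noncomputable section

namespace Groth.Agent.SGA3b53

variable {R : Type u} [CommRing R] {C : Type u} [CommRing C] [HopfAlgebra R C]

theorem idem_eq_zero_of_fibres {e : C} (he : IsIdempotentElem e)
    (h : ∀ (p : Ideal R) [p.IsPrime], (1 : p.ResidueField) ⊗ₜ[R] e = 0) : e = 0 := by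
  suffices hn : e ∈ nilradical C by
    obtain ⟨n, hn⟩ := mem_nilradical.1 hn
    rcases n with _ | n
    · haveI : Subsingleton C := subsingleton_iff_zero_eq_one.1 (by simpa using hn.symm)
      exact Subsingleton.elim _ _
    · rwa [he.pow_succ_eq] at hn
  rw [nilradical_eq_sInf]
  refine Ideal.mem_sInf.2 fun {q} hq => ?_
  haveI : q.IsPrime := hq
  let p := q.comap (algebraMap R C)
  haveI : p.IsPrime := Ideal.IsPrime.comap _
  let ψ : p.ResidueField →ₐ[R] q.ResidueField :=
    { Ideal.ResidueField.map p q (algebraMap R C) rfl with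
      commutes' := fun r => by
        change Ideal.ResidueField.map p q (algebraMap R C) rfl (algebraMap R p.ResidueField r) = _
        rw [IsScalarTower.algebraMap_apply R C q.ResidueField]
        simp }
  have h1 := congrArg (Algebra.TensorProduct.productMap ψ
    (IsScalarTower.toAlgHom R C q.ResidueField)) (h p)
  rw [Algebra.TensorProduct.productMap_apply_tmul, map_one, one_mul, map_zero, IsScalarTower.toAlgHom_apply,
    Ideal.algebraMap_residueField_eq_zero] at h1
  exact h1

theorem isIdempotentElem_eq_zero_or_one {S : Type u} [CommRing S] [PreconnectedSpace (PrimeSpectrum S)] {e : S}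
    (he : IsIdempotentElem e) : e = 0 ∨ e = 1 := by
  have hc : IsClopen (PrimeSpectrum.basicOpen e : Set (PrimeSpectrum S)) :=
    ⟨by rw [PrimeSpectrum.basicOpen_eq_zeroLocus_of_isIdempotentElem _ he]; exact PrimeSpectrum.isClosed_zeroLocus _,
      PrimeSpectrum.isOpen_basicOpen⟩
  rcases isClopen_iff.1 hc with h | h
  · left
    have h1 : IsNilpotent e := by
      rw [← PrimeSpectrum.basicOpen_eq_bot_iff]
      exact SetLike.coe_injective h
    obtain ⟨n, hn⟩ := h1
    rcases n with _ | n
    · haveI : Subsingleton S := subsingleton_iff_zero_eq_one.1 (by simpa using hn.symm)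
      exact Subsingleton.elim _ _
    · rwa [he.pow_succ_eq] at hn
  · right
    have h1 : IsUnit e := by
      by_contra hne
      obtain ⟨m, hm, hem⟩ := exists_max_ideal_of_mem_nonunits hne
      have h2 : (⟨m, hm.isPrime⟩ : PrimeSpectrum S) ∈ (PrimeSpectrum.basicOpen e : Set (PrimeSpectrum S)) := h ▸ Set.mem_univ _
      exact h2 hem
    exact h1.mul_left_cancel (by rw [mul_one]; exact he)

theorem idem_eq_zero_of_connected {e : C} (he : IsIdempotentElem e) (hε : Coalgebra.counit (R := R) (A := C) e = 0)
    (hconn : ∀ (p : Ideal R) [p.IsPrime], ConnectedSpace (PrimeSpectrum (p.ResidueField ⊗[R] C))) : e = 0 := by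
  refine idem_eq_zero_of_fibres (R := R) he fun p _ => ?_
  haveI := hconn p
  rcases isIdempotentElem_eq_zero_or_one (e := (1 : p.ResidueField) ⊗ₜ[R] e)
    (by rw [IsIdempotentElem, Algebra.TensorProduct.tmul_mul_tmul, one_mul, he]) with h | h
  · exact h
  · exfalso
    have h1 := congrArg (Coalgebra.counit (R := p.ResidueField)) h
    rw [TensorProduct.counit_tmul, hε, zero_smul, Bialgebra.counit_one] at h1
    exact zero_ne_one h1

theorem isIsotrivial_of_equiv {D : Type u} [CommRing D] [HopfAlgebra R D] (f : C ≃ₐc[R] D)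
    (h : SGA3b.IsIsotrivial R C) : SGA3b.IsIsotrivial R D := by
  obtain ⟨W, _, _, h1, h2, h3, hd⟩ := h
  exact ⟨W, inferInstance, inferInstance, h1, h2, h3, isDiag_of_equiv (congrBC W f) hd⟩

/-- The clopen subgroup defined by `0` is everything. -/
theorem isIsotrivial_of_quotient_zero {e : C} (he : e = 0) [(Ideal.span {e}).IsHopfIdeal R]
    (h : SGA3b.IsIsotrivial R (C ⧸ Ideal.span {e})) : SGA3b.IsIsotrivial R C := by
  refine isIsotrivial_of_equiv (BialgEquiv.ofBijective (Bialgebra.Quotient.mkBialgHom (R := R) (Ideal.span {e})) ⟨?_, ?_⟩).symm h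
  · intro a b hab
    have h1 : a - b ∈ Ideal.span {e} := Ideal.Quotient.eq.1 hab
    rw [Ideal.mem_span_singleton, he, zero_dvd_iff, sub_eq_zero] at h1
    exact h1
  · exact Ideal.Quotient.mk_surjective

theorem flat_quot [Module.Flat R C] (I : Ideal R) (k : ℕ) : Module.Flat (R ⧸ I ^ k) ((R ⧸ I ^ k) ⊗[R] C) :=
  inferInstance

theorem isIsotrivial_of_adicComplete_connected [IsNoetherianRing R] (I : Ideal R) [IsAdicComplete I R]
    [Algebra.FiniteType R C] [Module.Flat R C]
    (hconn : ∀ (p : Ideal R) [p.IsPrime], ConnectedSpace (PrimeSpectrum (p.ResidueField ⊗[R] C)))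
    (h0 : SGA3b.IsIsotrivial (R ⧸ I) ((R ⧸ I) ⊗[R] C)) : SGA3b.IsIsotrivial R C := by
  obtain ⟨e, he, -, hH, hiso⟩ := exists_clopen_isotrivial I (fun k => flat_quot I k) h0
  haveI := hH
  have hε : Coalgebra.counit (R := R) e = 0 := hH.counit_eq_zero (Ideal.mem_span_singleton_self e)
  exact isIsotrivial_of_quotient_zero (idem_eq_zero_of_connected he hε hconn) hiso

end Groth.Agent.SGA3b53
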