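import Groth.Agent.SGA3b53.Density
import Groth.Agent.SGA3b53.QuasiIso
import Groth.Agent.SGA3b53.FibreVanish
import Groth.Agent.SGA3b53.TorsionKer
import Mathlib

/-!
Applications of the density of torsion.
-/

set_option autoImplicit false
set_option linter.unusedSectionVars false
set_option linter.style.haveILetI false
universe u v w
open TensorProduct

noncomputable section

namespace Groth.Agent.SGA3b53

variable {R : Type u} [CommRing R] {C : Type u} [CommRing C] [HopfAlgebra R C]

theorem map_torsionIdeal_le (S : Type u) [CommRing S] [Algebra R S] (m : ℕ) {c : C} (hc : c ∈ SGA3b.torsionIdeal R C m) :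
    (1 : S) ⊗ₜ[R] c ∈ SGA3b.torsionIdeal S (S ⊗[R] C) m := by
  have h1 : Ideal.map (Algebra.TensorProduct.includeRight : C →ₐ[R] S ⊗[R] C) (SGA3b.torsionIdeal R C m) ≤
      SGA3b.torsionIdeal S (S ⊗[R] C) m := by
    rw [SGA3b.torsionIdeal, Ideal.map_le_iff_le_comap, Ideal.map_le_iff_le_comap]
    intro x hx
    rw [Ideal.mem_comap, Ideal.mem_comap]
    change (1 : S) ⊗ₜ[R] SGA3b.powConv R C m x ∈ _
    rw [← Versch53.powConv_baseChange_one_tmul]
    refine Ideal.mem_map_of_mem _ ?_
    rw [RingHom.mem_ker]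
    change Coalgebra.counit (R := S) ((1 : S) ⊗ₜ[R] x) = 0
    rw [TensorProduct.counit_tmul, show Coalgebra.counit (R := R) x = 0 from hx, zero_smul]
  exact h1 (Ideal.mem_map_of_mem _ hc)

/-- Torsion is dense in a geometric fibre with open subgroup of multiplicative type. -/
theorem dense_fibre [Coalgebra.IsCocomm R C] [Algebra.FiniteType R C] (e : C) (he : IsIdempotentElem e)
    [(Ideal.span {e}).IsHopfIdeal R] (hG : SGA3b.IsMultType R (C ⧸ Ideal.span {e}))
    (K : Type u) [Field K] [IsAlgClosed K] [Algebra R K] : TorsionDenseProp K (K ⊗[R] C) := by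
  haveI : Algebra.FiniteType R (C ⧸ Ideal.span {e}) := Algebra.FiniteType.of_surjective
    (Ideal.Quotient.mkₐ R (Ideal.span {e})) Ideal.Quotient.mk_surjective
  obtain ⟨M, _, ⟨ρ⟩⟩ := isDiag_residue_sepClosed (K := K) hG
  let π : K ⊗[R] C →ₐc[K] K ⊗[R] (C ⧸ Ideal.span {e}) :=
    Bialgebra.TensorProduct.map (BialgHom.id K K) (Bialgebra.Quotient.mkBialgHom (R := R) (Ideal.span {e}))
  let φ : K ⊗[R] C →ₐc[K] MonoidAlgebra K M :=
    (ρ : K ⊗[R] (C ⧸ Ideal.span {e}) →ₐc[K] MonoidAlgebra K M).comp π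
  have hπ : Function.Surjective π := by
    intro y
    induction y with
    | zero => exact ⟨0, by simp⟩
    | add a b ha hb =>
      obtain ⟨a', rfl⟩ := ha
      obtain ⟨b', rfl⟩ := hb
      exact ⟨a' + b', map_add _ _ _⟩
    | tmul t a =>
      obtain ⟨a, rfl⟩ := Ideal.Quotient.mk_surjective a
      exact ⟨t ⊗ₜ a, by simp [π]⟩
  let π' : K ⊗[R] C →ₐ[R] K ⊗[R] (C ⧸ Ideal.span {e}) :=
    Algebra.TensorProduct.map (AlgHom.id R K) (Ideal.Quotient.mkₐ R (Ideal.span {e}))
  have hππ : ∀ x, π x = π' x := by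
    intro x
    induction x with
    | zero => simp
    | add a b ha hb => simp only [map_add, ha, hb]
    | tmul t a => simp [π, π']
  have hker : RingHom.ker π' = Ideal.map (Algebra.TensorProduct.includeRight : C →ₐ[R] K ⊗[R] C)
      (RingHom.ker (Ideal.Quotient.mkₐ R (Ideal.span {e}))) :=
    Algebra.TensorProduct.lTensor_ker _ Ideal.Quotient.mk_surjective
  rw [show RingHom.ker (Ideal.Quotient.mkₐ R (Ideal.span {e})) = Ideal.span {e} from Ideal.mk_ker, Ideal.map_span,
    Set.image_singleton] at hker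
  refine dense_of_openSubgroup φ ((EquivLike.surjective ρ).comp hπ) ((1 : K) ⊗ₜ[R] e) (fun x => ?_)
    (by rw [IsIdempotentElem, Algebra.TensorProduct.tmul_mul_tmul, one_mul, he])
  change ρ (π x) = 0 ↔ _
  rw [map_eq_zero_iff ρ (EquivLike.injective ρ), hππ, ← RingHom.mem_ker, hker]
  rw [Ideal.mem_span_singleton]
  constructor
  · rintro ⟨b, rfl⟩
    rw [Algebra.TensorProduct.includeRight_apply, ← mul_assoc, Algebra.TensorProduct.tmul_mul_tmul, one_mul, he]
  · intro hx
    exact ⟨x, hx.symm⟩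

theorem dense_of_field {k : Type u} [Field k] {D : Type u} [CommRing D] [HopfAlgebra k D] [Coalgebra.IsCocomm k D]
    [Algebra.FiniteType k D] (e : D) (he : IsIdempotentElem e) [(Ideal.span {e}).IsHopfIdeal k]
    (hG : SGA3b.IsMultType k (D ⧸ Ideal.span {e})) : TorsionDenseProp k D := by
  intro y a hya
  let K := AlgebraicClosure k
  obtain ⟨N, hN⟩ := dense_fibre e he hG K ((1 : K) ⊗ₜ[k] y) ((1 : K) ⊗ₜ[k] a) fun m hm => by
    obtain ⟨N, hN⟩ := hya m hm
    refine ⟨N, ?_⟩
    rw [Algebra.TensorProduct.tmul_pow, one_pow, Algebra.TensorProduct.tmul_mul_tmul, one_mul]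
    exact map_torsionIdeal_le K m hN
  rw [Algebra.TensorProduct.tmul_pow, one_pow, Algebra.TensorProduct.tmul_mul_tmul, one_mul] at hN
  exact ⟨N, Module.Flat.tensorProduct_mk_injective k D K (hN.trans (by simp))⟩

theorem isIsotrivial_of_adicComplete_torsion_finite [Coalgebra.IsCocomm R C] [IsNoetherianRing R] (I : Ideal R)
    [IsAdicComplete I R] [Algebra.FiniteType R C] (hflat : ∀ k, Module.Flat (R ⧸ I ^ k) ((R ⧸ I ^ k) ⊗[R] C))
    (h0 : SGA3b.IsIsotrivial (R ⧸ I) ((R ⧸ I) ⊗[R] C))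
    (hfin : ∀ n : ℕ, 0 < n → Module.Finite R (C ⧸ SGA3b.torsionIdeal R C n)) : SGA3b.IsIsotrivial R C := by
  obtain ⟨e, he, heI, hH, hiso⟩ := exists_clopen_isotrivial I hflat h0
  haveI := hH
  have hmem : ∀ n, 0 < n → e ∈ SGA3b.torsionIdeal R C n := by
    intro n hn
    haveI := hfin n hn
    let N := C ⧸ SGA3b.torsionIdeal R C n
    let ē : N := Ideal.Quotient.mk _ e
    have hēI : ē ∈ I • (⊤ : Submodule R N) := by
      rw [Ideal.smul_top_eq_map]
      have h1 := Ideal.mem_map_of_mem (Ideal.Quotient.mk (SGA3b.torsionIdeal R C n)) heI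
      rw [Ideal.map_map] at h1
      exact h1
    let E : Submodule R N := LinearMap.range (LinearMap.mulLeft R ē)
    have hee : ē * ē = ē := by rw [← map_mul, he]
    have hEI : E ≤ I • E := by
      rintro _ ⟨x, rfl⟩
      have h2 : ∀ z ∈ I • (⊤ : Submodule R N), ē * z * x ∈ I • E := fun z hz => by
        refine Submodule.smul_induction_on hz (fun i hi w _ => ?_) (fun a b ha hb => ?_)
        · rw [mul_smul_comm, smul_mul_assoc, mul_assoc]
          exact Submodule.smul_mem_smul hi ⟨w * x, rfl⟩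
        · rw [mul_add, add_mul]
          exact add_mem ha hb
      have h3 := h2 ē hēI
      rwa [hee] at h3
    have h0E := Submodule.eq_bot_of_le_smul_of_le_jacobson_bot I E (IsNoetherian.noetherian E) hEI
      (IsAdicComplete.le_jacobson_bot I)
    have h1 : ē ∈ E := ⟨1, mul_one ē⟩
    rw [h0E, Submodule.mem_bot] at h1
    exact Ideal.Quotient.eq_zero_iff_mem.1 h1
  have hG : SGA3b.IsMultType R (C ⧸ Ideal.span {e}) := isMultType_of_isIsotrivial hiso
  refine isIsotrivial_of_quotient_zero (idem_eq_zero_of_fibres (R := R) he fun p _ => ?_) hiso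
  let K := AlgebraicClosure p.ResidueField
  obtain ⟨N, hN⟩ := dense_fibre e he hG K ((1 : K) ⊗ₜ[R] e) 1 fun m hm =>
    ⟨0, by rw [pow_zero, mul_one]; exact map_torsionIdeal_le K m (hmem m hm)⟩
  rw [one_pow, mul_one] at hN
  apply Module.Flat.tensorProduct_mk_injective p.ResidueField (p.ResidueField ⊗[R] C) K
  apply EquivLike.injective (cancelBC R p.ResidueField K C)
  rw [TensorProduct.mk_apply, TensorProduct.mk_apply, cancelBC_tmul, one_smul, tmul_zero, map_zero, hN]

theorem flat_of_isMultType_global (h : SGA3b.IsMultType R C) : Module.Flat R C := by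
  obtain ⟨ι, T, _, _, hT, hd⟩ := exists_cover h
  refine Module.Flat.iff_lTensor_injective'.2 fun J => ?_
  refine hT.injective _ fun i => ?_
  obtain ⟨M, _, ⟨ρ⟩⟩ := hd i
  haveI : Module.Flat (T i) (T i ⊗[R] C) := Module.Flat.of_linearEquiv ρ.toLinearEquiv
  haveI := hT.flat i
  haveI : Module.Flat R (T i ⊗[R] C) := Module.Flat.trans R (T i) (T i ⊗[R] C)
  let a₁ := TensorProduct.assoc R (T i) C J
  let a₂ := TensorProduct.assoc R (T i) C R
  have h1 : ((J.subtype).lTensor C).lTensor (T i) ∘ₗ a₁.toLinearMap = a₂.toLinearMap ∘ₗ (J.subtype).lTensor (T i ⊗[R] C) :=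
    TensorProduct.ext_threefold fun _ _ _ => rfl
  intro x y hxy
  obtain ⟨x, rfl⟩ := a₁.surjective x
  obtain ⟨y, rfl⟩ := a₁.surjective y
  have h2 : a₂ ((J.subtype).lTensor (T i ⊗[R] C) x) = a₂ ((J.subtype).lTensor (T i ⊗[R] C) y) :=
    ((LinearMap.congr_fun h1 x).symm.trans hxy).trans (LinearMap.congr_fun h1 y)
  rw [Module.Flat.lTensor_preserves_injective_linearMap J.subtype J.injective_subtype (a₂.injective h2)]

theorem isIsotrivial_of_adicComplete_multType [IsNoetherianRing R] (I : Ideal R) [IsAdicComplete I R]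
    (hft : Algebra.FiniteType R C) (h : SGA3b.IsMultType R C) (h0 : SGA3b.IsIsotrivial (R ⧸ I) ((R ⧸ I) ⊗[R] C)) :
    SGA3b.IsIsotrivial R C := by
  haveI := isCocomm_of_isMultType h
  haveI := flat_of_isMultType_global h
  refine isIsotrivial_of_adicComplete_torsion_finite I (fun k => flat_quot I k) h0 fun n hn => ?_
  haveI := isHopfIdeal_torsionIdeal (R := R) (A := C) n
  exact (torsion_isMultType_and_finite hft h n hn (SGA3b.torsionIdeal R C n) rfl).2

end Groth.Agent.SGA3b53
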