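import Groth.Agent.SGA3b53.FiniteIff
import Mathlib

/-!
Groups of multiplicative type and of finite type are of finite presentation.
-/

set_option autoImplicit false
set_option linter.unusedSectionVars false
set_option linter.style.haveILetI false
universe u v w
open TensorProduct

noncomputable section

namespace Groth.Agent.SGA3b53

theorem finitePresentation_monoidAlgebra (R : Type u) [CommRing R] (M : Type u) [CommMonoid M] [Monoid.FG M] :
    Algebra.FinitePresentation R (MonoidAlgebra R M) := by
  haveI : Algebra.FiniteType ℤ (MonoidAlgebra ℤ M) := MonoidAlgebra.finiteType_iff_fg.2 inferInstance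
  haveI : Algebra.FinitePresentation ℤ (MonoidAlgebra ℤ M) := Algebra.FinitePresentation.of_finiteType.1 inferInstance
  exact Algebra.FinitePresentation.equiv (MonoidAlgebra.scalarTensorEquiv ℤ R (M := M))

variable {R : Type u} [CommRing R] {A : Type u} [CommRing A] [HopfAlgebra R A]

theorem finitePresentation_of_isDiag (hft : Algebra.FiniteType R A) (h : SGA3b.IsDiag R A) :
    Algebra.FinitePresentation R A := by
  obtain ⟨M, _, ⟨e⟩⟩ := h
  haveI : Algebra.FiniteType R (MonoidAlgebra R M) :=
    Algebra.FiniteType.equiv hft (e : A ≃ₐ[R] MonoidAlgebra R M)
  rcases subsingleton_or_nontrivial R with hR | hR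
  · haveI : Subsingleton A := Module.subsingleton R A
    exact Algebra.FinitePresentation.of_surjective (f := Algebra.ofId R A)
      (fun a => ⟨0, Subsingleton.elim _ _⟩) ⟨∅, Subsingleton.elim _ _⟩
  haveI : Monoid.FG M := (MonoidAlgebra.finiteType_iff_fg (R := R)).1 inferInstance
  haveI := finitePresentation_monoidAlgebra R M
  exact Algebra.FinitePresentation.equiv (e : A ≃ₐ[R] MonoidAlgebra R M).symm

attribute [local instance] Algebra.TensorProduct.rightAlgebra in
/-- A group of multiplicative type and of finite type is of finite presentation. -/
theorem finitePresentation_of_isMultType (hft : Algebra.FiniteType R A) (h : SGA3b.IsMultType R A) :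
    Algebra.FinitePresentation R A := by
  obtain ⟨s, hs, hf⟩ := h
  refine Algebra.FinitePresentation.of_span_eq_top_target (algebraMap R A '' s)
    (by rw [← Ideal.map_span, hs, Ideal.map_top]) ?_
  rintro _ ⟨f, hfs, rfl⟩
  obtain ⟨R', _, _, hff, hd⟩ := hf f hfs
  haveI : Algebra.FinitePresentation R' (R' ⊗[Localization.Away f] (Localization.Away f ⊗[R] A)) :=
    finitePresentation_of_isDiag inferInstance hd
  haveI : Algebra.FinitePresentation (Localization.Away f) (Localization.Away f ⊗[R] A) :=
    Algebra.FinitePresentation.of_finitePresentation_tensorProduct_of_faithfullyFlat R'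
  haveI : Algebra.FinitePresentation R (Localization.Away f ⊗[R] A) := by
    haveI : Algebra.FinitePresentation R (Localization.Away f) := IsLocalization.Away.finitePresentation f
    exact Algebra.FinitePresentation.trans R (Localization.Away f) _
  exact Algebra.FinitePresentation.equiv
    ((IsLocalization.algEquiv (Submonoid.powers (algebraMap R A f)) (Localization.Away f ⊗[R] A)
      (Localization.Away (algebraMap R A f))).restrictScalars R)

end Groth.Agent.SGA3b53
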