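import Groth.Agent.SGA3b53.TorsionDense
import Groth.Agent.SGA3b53.PowConv
import Groth.Agent.SGA3b53.Cover
import Mathlib

/-!
Schematic density of the torsion kernels.
-/

set_option autoImplicit false
set_option linter.unusedSectionVars false
set_option linter.style.haveILetI false
universe u v w
open TensorProduct WithConv

noncomputable section

namespace Groth.Agent.SGA3b53

section Conv

variable {R : Type u} [CommRing R] {C : Type u} [CommRing C] [HopfAlgebra R C] {B : Type u} [CommRing B] [Algebra R B]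

theorem comp_powConv (q : C →ₐ[R] B) (m : ℕ) :
    q.comp (SGA3b.powConv R C m) = (toConv q ^ m).ofConv := by
  induction m with
  | zero =>
    refine AlgHom.ext fun c => ?_
    rw [AlgHom.comp_apply, powConv_zero, AlgHom.commutes, pow_zero]
    simp [AlgHom.convOne_apply]
  | succ n ih =>
    have h := AlgHom.comp_convMul_distrib q ((toConv (AlgHom.id R C)) ^ n) (toConv (AlgHom.id R C))
    rw [← pow_succ] at h
    refine h.trans ?_
    rw [pow_succ]
    change ofConv (toConv (q.comp (SGA3b.powConv R C n)) * toConv q) = _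
    rw [ih]

/-- A point killed by `m` vanishes on the ideal of the `m`-torsion. -/
theorem kills_torsion (q : C →ₐ[R] B) (m : ℕ) (h : toConv q ^ m = 1) {x : C} (hx : x ∈ SGA3b.torsionIdeal R C m) :
    q x = 0 := by
  have hle : SGA3b.torsionIdeal R C m ≤ RingHom.ker q := Ideal.map_le_iff_le_comap.2 fun c hc => by
    rw [Ideal.mem_comap, RingHom.mem_ker]
    change (q.comp (SGA3b.powConv R C m)) c = 0
    rw [comp_powConv, h]
    change algebraMap R B (Coalgebra.counit (R := R) c) = 0
    rw [show Coalgebra.counit (R := R) c = 0 from hc, map_zero]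
  exact hle hx

theorem toConv_bialgHom_pow {D : Type u} [CommRing D] [HopfAlgebra R D] (ψ : C →ₐc[R] D) (m : ℕ)
    (h : ∀ d : D, SGA3b.powConv R D m d = algebraMap R D (Coalgebra.counit (R := R) d)) :
    toConv (ψ : C →ₐ[R] D) ^ m = 1 := by
  apply WithConv.ofConv_injective
  rw [← comp_powConv]
  refine AlgHom.ext fun c => ?_
  change ψ (SGA3b.powConv R C m c) = algebraMap R D (Coalgebra.counit (R := R) c)
  rw [powConv_naturality, h, CoalgHomClass.counit_comp_apply]

end Conv

/-- The property that torsion is dense, in elementary form. -/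
def TorsionDenseProp (R : Type u) [CommRing R] (C : Type u) [CommRing C] [HopfAlgebra R C] : Prop :=
  ∀ y a : C, (∀ m : ℕ, 0 < m → ∃ N, y * a ^ N ∈ SGA3b.torsionIdeal R C m) → ∃ K, y * a ^ K = 0

theorem iInf_eq_bot_of_dense {R : Type u} [CommRing R] {C : Type u} [CommRing C] [HopfAlgebra R C]
    (h : TorsionDenseProp R C) (a : C) :
    ⨅ n : {n : ℕ // 0 < n}, Ideal.map (algebraMap C (Localization.Away a)) (SGA3b.torsionIdeal R C n.1) = ⊥ := by
  rw [eq_bot_iff]
  intro x hx
  rw [Ideal.mem_bot]
  obtain ⟨⟨y, ⟨_, j, rfl⟩⟩, hyx⟩ := IsLocalization.surj (Submonoid.powers a) x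
  rw [Ideal.mem_iInf] at hx
  obtain ⟨K, hK⟩ := h y a fun m hm => by
    obtain ⟨_, ⟨N, rfl⟩, hN⟩ := (IsLocalization.algebraMap_mem_map_algebraMap_iff (Submonoid.powers a) (Localization.Away a) _ _).1
      (show algebraMap C (Localization.Away a) y ∈ Ideal.map (algebraMap C (Localization.Away a)) (SGA3b.torsionIdeal R C m) by
        rw [← hyx]
        exact Ideal.mul_mem_right _ _ (hx ⟨m, hm⟩))
    exact ⟨N, by rw [mul_comm]; exact hN⟩
  have hu : IsUnit (algebraMap C (Localization.Away a) a) := IsLocalization.Away.algebraMap_isUnit a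
  have h1 := congrArg (algebraMap C (Localization.Away a)) hK
  rw [map_mul, map_zero, map_pow, ← hyx] at h1
  rw [(hu.pow K).mul_left_eq_zero, map_pow, (hu.pow j).mul_left_eq_zero] at h1
  exact h1

theorem exists_pow_mul_eq_zero_monoidAlgebra {T : Type u} [CommRing T] {M : Type u} [CommGroup M] [Group.FG M]
    (y a : MonoidAlgebra T M)
    (h : ∀ (Q : Type u) [CommGroup Q] (m : ℕ), 0 < m → (∀ x : Q, x ^ m = 1) → ∀ π : M →* Q,
      ∃ N, MonoidAlgebra.mapDomainRingHom T π (y * a ^ N) = 0) :
    ∃ K, y * a ^ K = 0 := by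
  classical
  obtain ⟨ι, j, _, _, p, hp, e, ⟨eM⟩⟩ := CommGroup.equiv_free_prod_prod_multiplicative_zmod M
  haveI : ∀ i, NeZero (p i ^ e i) := fun i => ⟨pow_ne_zero _ (hp i).ne_zero⟩
  let r := Fintype.card j
  let F := (i : ι) → Multiplicative (ZMod (p i ^ e i))
  let G := Multiplicative (Fin r → ℤ)
  let eG : (j → Multiplicative ℤ) ≃* G :=
    { toFun := fun f => Multiplicative.ofAdd fun i => Multiplicative.toAdd (f ((Fintype.equivFin j).symm i))
      invFun := fun g i => Multiplicative.ofAdd (Multiplicative.toAdd g (Fintype.equivFin j i))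
      left_inv := fun f => funext fun i => by simp
      right_inv := fun g => by
        apply Multiplicative.toAdd.injective
        funext i
        simp
      map_mul' := fun f g => rfl }
  let eGF : M ≃* G × F := eM.trans (eG.prodCongr (MulEquiv.refl F))
  let Φ : MonoidAlgebra T M →+* MonoidAlgebra (MonoidAlgebra T F) G :=
    ((MonoidAlgebra.curryAlgEquiv T : MonoidAlgebra T (G × F) ≃ₐ[T] _) : MonoidAlgebra T (G × F) →+* _).comp
      (MonoidAlgebra.mapDomainRingHom T (eGF : M →* G × F))
  have hΦ : Function.Injective Φ := by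
    refine (MonoidAlgebra.curryAlgEquiv T : MonoidAlgebra T (G × F) ≃ₐ[T] _).injective.comp ?_
    exact MonoidAlgebra.mapDomain_injective eGF.injective
  obtain ⟨K, hK⟩ := exists_pow_mul_eq_zero r (Φ y) (Φ a) fun ℓ hℓ => by
    haveI : Fact ℓ.Prime := ⟨hℓ⟩
    let Q := ULift.{u} (Multiplicative (Fin r → ZMod ℓ) × F)
    let π : M →* Q := (MulEquiv.ulift.symm : _ ≃* Q).toMonoidHom.comp
      (((redMod r ℓ).prodMap (MonoidHom.id F)).comp (eGF : M →* G × F))
    obtain ⟨N, hN⟩ := h Q (ℓ * Nat.card F) (Nat.mul_pos hℓ.pos Nat.card_pos) (fun x => by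
      apply ULift.down_injective
      refine Prod.ext ?_ ?_
      · change (x.down.1) ^ (ℓ * Nat.card F) = 1
        rw [pow_mul]
        have h1 : x.down.1 ^ ℓ = 1 := by
          apply Multiplicative.toAdd.injective
          funext i
          simp
        rw [h1, one_pow]
      · change x.down.2 ^ (ℓ * Nat.card F) = 1
        rw [mul_comm, pow_mul, pow_card_eq_one', one_pow]) π
    refine ⟨N, ?_⟩
    let Ψ : MonoidAlgebra T Q →+* MonoidAlgebra (MonoidAlgebra T F) (Multiplicative (Fin r → ZMod ℓ)) :=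
      ((MonoidAlgebra.curryAlgEquiv T : MonoidAlgebra T (Multiplicative (Fin r → ZMod ℓ) × F) ≃ₐ[T] _) :
        MonoidAlgebra T (Multiplicative (Fin r → ZMod ℓ) × F) →+* _).comp
        (MonoidAlgebra.mapDomainRingHom T (MulEquiv.ulift : Q ≃* _).toMonoidHom)
    have hcomm : (MonoidAlgebra.mapDomainRingHom (MonoidAlgebra T F) (redMod r ℓ)).comp Φ =
        Ψ.comp (MonoidAlgebra.mapDomainRingHom T π) := by
      refine RingHom.ext fun z => ?_
      induction z using MonoidAlgebra.induction_linear with
      | zero => simp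
      | add u v hu hv => simp only [map_add, hu, hv]
      | single g t =>
        simp [Φ, Ψ, π, MonoidAlgebra.mapDomainRingHom_apply]
        generalize eGF g = x
        obtain ⟨x₁, x₂⟩ := x
        simp
    have h2 := RingHom.congr_fun hcomm (y * a ^ N)
    rw [RingHom.comp_apply] at h2
    rw [RingHom.comp_apply Ψ, hN, map_zero] at h2
    rw [← map_pow, ← map_mul]
    exact h2
  exact ⟨K, hΦ (by rw [map_mul, map_pow, hK, map_zero])⟩

/-- Torsion is dense in a group of multiplicative type. -/
theorem dense_of_cover {R : Type u} [CommRing R] {C : Type u} [CommRing C] [HopfAlgebra R C]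
    [Algebra.FiniteType R C] (h : SGA3b.IsMultType R C) : TorsionDenseProp R C := by
  intro y a hya
  classical
  obtain ⟨ι, _, T, _, _, hT, hd⟩ := exists_finite_cover h
  choose M hM ρ using hd
  have key : ∀ i, ∃ K, (1 : T i) ⊗ₜ[R] (y * a ^ K) = 0 := by
    intro i
    rcases subsingleton_or_nontrivial (T i) with hsub | hnt
    · haveI := Module.subsingleton (T i) (T i ⊗[R] C)
      exact ⟨0, Subsingleton.elim _ _⟩
    haveI : Monoid.FG (M i) := by
      haveI : Algebra.FiniteType (T i) (MonoidAlgebra (T i) (M i)) :=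
        Algebra.FiniteType.equiv (inferInstance : Algebra.FiniteType (T i) (T i ⊗[R] C)) ((ρ i).some : T i ⊗[R] C ≃ₐ[T i] _)
      exact (MonoidAlgebra.finiteType_iff_fg (R := T i)).1 inferInstance
    haveI : Group.FG (M i) := Group.fg_iff_monoid_fg.2 inferInstance
    let f : C →ₐ[R] MonoidAlgebra (T i) (M i) :=
      ((((ρ i).some : T i ⊗[R] C →ₐc[T i] MonoidAlgebra (T i) (M i)) : T i ⊗[R] C →ₐ[T i] MonoidAlgebra (T i) (M i)).restrictScalars R).comp
        Algebra.TensorProduct.includeRight
    obtain ⟨K, hK⟩ := exists_pow_mul_eq_zero_monoidAlgebra (f y) (f a) fun Q _ m hm hQ π => by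
      obtain ⟨N, hN⟩ := hya m hm
      refine ⟨N, ?_⟩
      rw [← map_pow, ← map_mul]
      let φ : T i ⊗[R] C →ₐc[T i] MonoidAlgebra (T i) Q :=
        (MonoidAlgebra.mapDomainBialgHom (T i) π).comp ((ρ i).some : T i ⊗[R] C →ₐc[T i] MonoidAlgebra (T i) (M i))
      refine kills_torsion (R := T i) (φ : T i ⊗[R] C →ₐ[T i] MonoidAlgebra (T i) Q) m
        (toConv_bialgHom_pow φ m fun d => powConv_monoidAlgebra_trivial m hQ d) (x := (1 : T i) ⊗ₜ[R] (y * a ^ N)) ?_
      have h1 : Ideal.map (Algebra.TensorProduct.includeRight : C →ₐ[R] T i ⊗[R] C) (SGA3b.torsionIdeal R C m) ≤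
          SGA3b.torsionIdeal (T i) (T i ⊗[R] C) m := by
        rw [SGA3b.torsionIdeal, Ideal.map_le_iff_le_comap, Ideal.map_le_iff_le_comap]
        intro c hc
        rw [Ideal.mem_comap, Ideal.mem_comap]
        change (1 : T i) ⊗ₜ[R] SGA3b.powConv R C m c ∈ _
        rw [← Versch53.powConv_baseChange_one_tmul]
        refine Ideal.mem_map_of_mem _ ?_
        rw [RingHom.mem_ker]
        change Coalgebra.counit (R := T i) ((1 : T i) ⊗ₜ[R] c) = 0
        rw [TensorProduct.counit_tmul, show Coalgebra.counit (R := R) c = 0 from hc, zero_smul]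
      exact h1 (Ideal.mem_map_of_mem _ hN)
    refine ⟨K, EquivLike.injective (ρ i).some ?_⟩
    rw [map_zero, ← hK, ← map_pow, ← map_mul]
    rfl
  choose Ki hKi using key
  haveI := Fintype.ofFinite ι
  refine ⟨Finset.univ.sup Ki, hT.eq_zero fun i => ?_⟩
  obtain ⟨d, hd⟩ := Nat.exists_eq_add_of_le (Finset.le_sup (f := Ki) (Finset.mem_univ i))
  rw [hd, pow_add, ← mul_assoc, ← mul_one (1 : T i), ← Algebra.TensorProduct.tmul_mul_tmul, hKi, zero_mul]

section Points

variable {K : Type u} [Field K] {C : Type u} [CommRing C] [HopfAlgebra K C]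

/-- A point as a constant `D`-valued point. -/
def constPt (D : Type u) [CommRing D] [Algebra K D] (h : WithConv (C →ₐ[K] K)) : WithConv (C →ₐ[K] D) :=
  toConv ((Algebra.ofId K D).comp h.ofConv)

theorem constPt_mul (D : Type u) [CommRing D] [Algebra K D] (g h : WithConv (C →ₐ[K] K)) :
    constPt D (g * h) = constPt D g * constPt D h := by
  apply WithConv.ofConv_injective
  exact AlgHom.comp_convMul_distrib _ g h

theorem constPt_one (D : Type u) [CommRing D] [Algebra K D] : constPt D (1 : WithConv (C →ₐ[K] K)) = 1 := by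
  apply WithConv.ofConv_injective
  exact AlgHom.ext fun c => by simp [constPt, AlgHom.convOne_apply, Algebra.ofId_apply]

theorem constPt_pow (D : Type u) [CommRing D] [Algebra K D] (g : WithConv (C →ₐ[K] K)) (n : ℕ) :
    constPt D (g ^ n) = constPt D g ^ n := by
  induction n with
  | zero => rw [pow_zero, pow_zero, constPt_one]
  | succ n ih => rw [pow_succ, pow_succ, constPt_mul, ih]

/-- Translation of functions by a point. -/
def shiftPt (h : WithConv (C →ₐ[K] K)) : C →ₐ[K] C := (constPt C h * toConv (AlgHom.id K C)).ofConv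

theorem comp_shiftPt {D : Type u} [CommRing D] [Algebra K D] (f : C →ₐ[K] D) (h : WithConv (C →ₐ[K] K)) :
    f.comp (shiftPt h) = (constPt D h * toConv f).ofConv := by
  rw [shiftPt, AlgHom.comp_convMul_distrib]
  congr 2
  apply WithConv.ofConv_injective
  exact AlgHom.ext fun c => by simp [constPt, Algebra.ofId_apply]

theorem shiftPt_shiftPt (g h : WithConv (C →ₐ[K] K)) : (shiftPt g).comp (shiftPt h) = shiftPt (h * g) := by
  rw [comp_shiftPt]
  simp only [shiftPt]
  rw [constPt_mul, mul_assoc]

theorem apply_shiftPt (g h : WithConv (C →ₐ[K] K)) (c : C) : g.ofConv (shiftPt h c) = (h * g).ofConv c := by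
  rw [← AlgHom.comp_apply, comp_shiftPt]
  congr 3

theorem dense_of_openSubgroup [IsAlgClosed K] [Coalgebra.IsCocomm K C] [Algebra.FiniteType K C] {M : Type u}
    [CommGroup M] (φ : C →ₐc[K] MonoidAlgebra K M) (hsurj : Function.Surjective φ) (e : C)
    (hker : ∀ x, φ x = 0 ↔ e * x = x) (he : IsIdempotentElem e) : TorsionDenseProp K C := by
  classical
  haveI : Monoid.FG M := by
    haveI : Algebra.FiniteType K (MonoidAlgebra K M) := Algebra.FiniteType.of_surjective (φ : C →ₐ[K] MonoidAlgebra K M) hsurj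
    exact (MonoidAlgebra.finiteType_iff_fg (R := K)).1 inferInstance
  haveI : Group.FG M := Group.fg_iff_monoid_fg.2 inferInstance
  haveI : IsNoetherianRing C := Algebra.FiniteType.isNoetherianRing K C
  have hφe : φ e = 0 := (hker e).2 he
  -- points of the subgroup
  let Ψ : (M →* Kˣ) →* WithConv (C →ₐ[K] K) :=
    { toFun := fun χ => toConv ((MonoidAlgebra.lift K K M ((Units.coeHom K).comp χ)).comp (φ : C →ₐ[K] MonoidAlgebra K M))
      map_one' := by
        apply WithConv.ofConv_injective
        refine AlgHom.ext fun c => ?_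
        change _ = algebraMap K K (Coalgebra.counit (R := K) c)
        rw [Algebra.algebraMap_self, RingHom.id_apply, ← CoalgHomClass.counit_comp_apply φ c]
        change MonoidAlgebra.lift K K M _ (φ c) = _
        generalize φ c = z
        induction z using MonoidAlgebra.induction_linear with
        | zero => simp
        | add u v hu hv => simp only [map_add, hu, hv]
        | single m r => simp
      map_mul' := fun χ χ' => by
        have key : toConv (MonoidAlgebra.lift K K M ((Units.coeHom K).comp (χ * χ'))) =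
            toConv (MonoidAlgebra.lift K K M ((Units.coeHom K).comp χ)) *
              toConv (MonoidAlgebra.lift K K M ((Units.coeHom K).comp χ')) := by
          apply WithConv.ofConv_injective
          refine MonoidAlgebra.algHom_ext (fun m => ?_) (Subsingleton.elim _ _)
          simp [AlgHom.convMul_apply]
        apply WithConv.ofConv_injective
        change (MonoidAlgebra.lift K K M ((Units.coeHom K).comp (χ * χ'))).comp (φ : C →ₐ[K] MonoidAlgebra K M) = _
        rw [show MonoidAlgebra.lift K K M ((Units.coeHom K).comp (χ * χ')) =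
          (toConv (MonoidAlgebra.lift K K M ((Units.coeHom K).comp χ)) *
            toConv (MonoidAlgebra.lift K K M ((Units.coeHom K).comp χ'))).ofConv from congrArg WithConv.ofConv key]
        exact AlgHom.convMul_comp_bialgHom_distrib _ _ φ }
  have hΨe : ∀ χ, (Ψ χ).ofConv e = 0 := fun χ => by
    change MonoidAlgebra.lift K K M _ (φ e) = 0
    rw [hφe, map_zero]
  -- every point of `C` killing `e` comes from a character
  have hΨsurj : ∀ t : WithConv (C →ₐ[K] K), t.ofConv e = 0 → ∃ χ, Ψ χ = t := by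
    intro t ht
    have hle : ∀ x, φ x = 0 → t.ofConv x = 0 := fun x hx => by rw [← (hker x).1 hx, map_mul, ht, zero_mul]
    choose pre hpre using hsurj
    have hwd : ∀ x, t.ofConv (pre (φ x)) = t.ofConv x := fun x => by
      rw [← sub_eq_zero, ← map_sub]
      exact hle _ (by rw [map_sub, hpre, sub_self])
    let χ₀ : M →* K :=
      { toFun := fun m => t.ofConv (pre (MonoidAlgebra.of K M m))
        map_one' := by rw [map_one, show (1 : MonoidAlgebra K M) = φ 1 from (map_one φ).symm, hwd, map_one]
        map_mul' := fun a b => by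
          rw [← map_mul t.ofConv, map_mul, ← hwd (pre _ * pre _), map_mul, hpre, hpre] }
    refine ⟨χ₀.toHomUnits, WithConv.ofConv_injective (AlgHom.ext fun c => ?_)⟩
    change MonoidAlgebra.lift K K M _ (φ c) = t.ofConv c
    rw [← hwd c]
    generalize φ c = z
    induction z using MonoidAlgebra.induction_linear with
    | zero =>
      rw [map_zero, ← map_zero φ, hwd, map_zero]
    | add u v hu hv =>
      rw [map_add, hu, hv, ← map_add, ← hwd (pre u + pre v), map_add, hpre, hpre]
    | single m r =>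
      rw [MonoidAlgebra.lift_single, show MonoidAlgebra.single m r = r • MonoidAlgebra.of K M m by simp,
        show (r • MonoidAlgebra.of K M m) = φ (r • pre (MonoidAlgebra.of K M m)) by rw [map_smul, hpre],
        hwd, map_smul]
      rfl
  -- every point lies in the coset of a torsion point
  have hcoset : ∀ g : WithConv (C →ₐ[K] K), ∃ (h h' : WithConv (C →ₐ[K] K)) (L : ℕ),
      0 < L ∧ h ^ L = 1 ∧ h' * h = 1 ∧ (h' * g).ofConv e = 0 := by
    intro g
    let g' : WithConv (C →ₐ[K] K) := toConv (g.ofConv.comp (HopfAlgebra.antipodeAlgHom K C))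
    have hgg : g' * g = 1 := by
      apply WithConv.ofConv_injective
      have := AlgHom.comp_convMul_distrib g.ofConv (toConv (HopfAlgebra.antipodeAlgHom K C)) (toConv (AlgHom.id K C))
      rw [show toConv (HopfAlgebra.antipodeAlgHom K C) * toConv (AlgHom.id K C) = 1 from AlgHom.antipode_id_cancel] at this
      refine this.symm.trans (AlgHom.ext fun x => ?_)
      simp [AlgHom.convOne_def]
    haveI : Finite {p // p ∈ minimalPrimes C} := (minimalPrimes.finite_of_isNoetherianRing C).to_subtype
    obtain ⟨i, j, hij, hsame⟩ := Finite.exists_ne_map_eq_of_infinite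
      (fun (n : ℕ) (p : {p // p ∈ minimalPrimes C}) => decide (shiftPt (g ^ n) e ∈ p.1))
    have hpow : ∃ N, 0 < N ∧ (g ^ N).ofConv e = 0 := by
      wlog hlt : i < j generalizing i j
      · exact this j i hij.symm hsame.symm (by omega)
      refine ⟨j - i, by omega, ?_⟩
      have heq : shiftPt (g ^ i) e = shiftPt (g ^ j) e := by
        have hi' : IsIdempotentElem (shiftPt (g ^ i) e) := he.map _
        have hj' : IsIdempotentElem (shiftPt (g ^ j) e) := he.map _
        refine sub_eq_zero.1 ?_
        have hd : shiftPt (g ^ i) e - shiftPt (g ^ j) e ∈ nilradical C := by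
          rw [show nilradical C = sInf (minimalPrimes C) from (Ideal.sInf_minimalPrimes (I := (⊥ : Ideal C))).symm]
          refine Ideal.mem_sInf.2 fun {p} hp => ?_
          have hiff : shiftPt (g ^ i) e ∈ p ↔ shiftPt (g ^ j) e ∈ p := by
            simpa using congrFun hsame ⟨p, hp⟩
          haveI : p.IsPrime := Ideal.IsMinimalPrime.isPrime hp
          by_cases hpi : shiftPt (g ^ i) e ∈ p
          · exact sub_mem hpi (hiff.1 hpi)
          · have h1 : ∀ {x : C}, IsIdempotentElem x → x ∉ p → 1 - x ∈ p := fun {x} hx hxp =>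
              ((inferInstance : p.IsPrime).mem_or_mem (show x * (1 - x) ∈ p by rw [mul_sub, mul_one, hx, sub_self]; exact p.zero_mem)).resolve_left hxp
            have h2 := sub_mem (h1 hj' (fun h => hpi (hiff.2 h))) (h1 hi' hpi)
            rwa [sub_sub_sub_cancel_left] at h2
        obtain ⟨n, hn⟩ := mem_nilradical.1 hd
        have h3 : (shiftPt (g ^ i) e - shiftPt (g ^ j) e) ^ 3 = shiftPt (g ^ i) e - shiftPt (g ^ j) e := by
          have ei : shiftPt (g ^ i) e * shiftPt (g ^ i) e = shiftPt (g ^ i) e := hi'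
          have ej : shiftPt (g ^ j) e * shiftPt (g ^ j) e = shiftPt (g ^ j) e := hj'
          linear_combination (shiftPt (g ^ i) e + 1 - 3 * shiftPt (g ^ j) e) * ei +
            (3 * shiftPt (g ^ i) e - shiftPt (g ^ j) e - 1) * ej
        have h4 : ∀ k, (shiftPt (g ^ i) e - shiftPt (g ^ j) e) ^ (2 * k + 1) = shiftPt (g ^ i) e - shiftPt (g ^ j) e := by
          intro k
          induction k with
          | zero => rw [pow_one]
          | succ k ih => rw [show 2 * (k + 1) + 1 = (2 * k + 1) + 2 by ring, pow_add, ih, ← pow_succ', h3]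
        rw [← h4 n]
        exact pow_eq_zero_of_le (by omega) hn
      have h5 := congrArg ((g' ^ i : WithConv (C →ₐ[K] K)).ofConv) heq
      rw [apply_shiftPt, apply_shiftPt, ← mul_pow, show g * g' = 1 by rw [mul_comm, hgg], one_pow,
        show g ^ j * g' ^ i = g ^ (j - i) by
          rw [← Nat.sub_add_cancel hlt.le, pow_add, mul_assoc, ← mul_pow, show g * g' = 1 by rw [mul_comm, hgg],
            one_pow, mul_one, Nat.sub_add_cancel hlt.le]] at h5
      rw [← h5]
      change algebraMap K K (Coalgebra.counit (R := K) e) = 0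
      rw [← CoalgHomClass.counit_comp_apply φ, hφe, map_zero, map_zero]
    obtain ⟨N, hN, hgN⟩ := hpow
    obtain ⟨χ₀, hχ₀⟩ := hΨsurj _ hgN
    obtain ⟨ι, j', _, _, p, hp, ex, ⟨eM⟩⟩ := CommGroup.equiv_free_prod_prod_multiplicative_zmod M
    haveI : ∀ i, NeZero (p i ^ ex i) := fun i => ⟨pow_ne_zero _ (hp i).ne_zero⟩
    let F := (i : ι) → Multiplicative (ZMod (p i ^ ex i))
    let d := Nat.card F
    have hroot : ∀ i : j', ∃ u : Kˣ, u ^ N = χ₀ (eM.symm (Pi.mulSingle i (Multiplicative.ofAdd 1), 1)) := by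
      intro i
      obtain ⟨z, hz⟩ := IsAlgClosed.exists_pow_nat_eq (χ₀ (eM.symm (Pi.mulSingle i (Multiplicative.ofAdd 1), 1)) : K) hN
      have hz0 : z ≠ 0 := fun h0 => by
        rw [h0, zero_pow hN.ne'] at hz
        exact Units.ne_zero _ hz.symm
      exact ⟨Units.mk0 z hz0, Units.ext (by simpa using hz)⟩
    choose α hα using hroot
    let χ : M →* Kˣ :=
      { toFun := fun m => ∏ i, α i ^ Multiplicative.toAdd ((eM m).1 i)
        map_one' := by simp
        map_mul' := fun a b => by simp [zpow_add, Finset.prod_mul_distrib] }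
    have hχ : χ ^ (N * d) = χ₀ ^ d := by
      refine MonoidHom.ext fun m => ?_
      simp only [MonoidHom.pow_apply]
      rw [pow_mul, show χ m ^ N = χ₀ (eM.symm ((eM m).1, 1)) from ?_, ← map_pow χ₀, ← map_pow χ₀]
      · congr 1
        apply eM.injective
        rw [map_pow, map_pow, MulEquiv.apply_symm_apply]
        refine Prod.ext rfl ?_
        simp only [Prod.pow_snd, one_pow]
        exact pow_card_eq_one'.symm
      · have h6 : (eM m).1 = ∏ i : j', (Pi.mulSingle i (Multiplicative.ofAdd (1 : ℤ))) ^ Multiplicative.toAdd ((eM m).1 i) := by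
          funext k
          rw [Finset.prod_apply, Finset.prod_eq_single k]
          · rw [Pi.pow_apply, Pi.mulSingle_eq_same, ← ofAdd_zsmul]; simp
          · intro i _ hik
            rw [Pi.pow_apply, Pi.mulSingle_eq_of_ne hik.symm, one_zpow]
          · simp
        have h7 : (((eM m).1, 1) : (j' → Multiplicative ℤ) × F) =
            ∏ i : j', ((Pi.mulSingle i (Multiplicative.ofAdd (1 : ℤ)), 1) : (j' → Multiplicative ℤ) × F) ^ Multiplicative.toAdd ((eM m).1 i) := by
          refine Prod.ext ?_ ?_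
          · rw [Prod.fst_prod]; exact h6
          · rw [Prod.snd_prod]; simp
        rw [h7, map_prod, map_prod]
        change (∏ i, α i ^ Multiplicative.toAdd ((eM m).1 i)) ^ N = _
        rw [← Finset.prod_pow]
        refine Finset.prod_congr rfl fun i _ => ?_
        rw [map_zpow, map_zpow, ← hα i, ← zpow_natCast, ← zpow_mul, ← zpow_natCast, ← zpow_mul, mul_comm]
    refine ⟨g * Ψ χ⁻¹, Ψ χ * g', N * d, Nat.mul_pos hN Nat.card_pos, ?_, ?_, ?_⟩
    · rw [mul_pow, ← map_pow Ψ, show χ⁻¹ ^ (N * d) = (χ₀ ^ d)⁻¹ by rw [← hχ]; exact MonoidHom.ext fun m => by simp,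
        pow_mul, ← hχ₀, ← map_pow, ← map_mul, show χ₀ ^ d * (χ₀ ^ d)⁻¹ = 1 from MonoidHom.ext fun m => by simp, map_one]
    · calc Ψ χ * g' * (g * Ψ χ⁻¹) = Ψ χ * Ψ χ⁻¹ * (g' * g) := by ac_rfl
        _ = 1 := by rw [hgg, ← map_mul, show χ * χ⁻¹ = 1 from MonoidHom.ext fun m => by simp, map_one, mul_one]
    · rw [mul_assoc, hgg, mul_one]
      exact hΨe χ
  choose h h' L hL hhL hh' hhe using hcoset
  intro y a hya
  let f : WithConv (C →ₐ[K] K) → C := fun g => shiftPt (h' g) e
  have hkill : ∀ g, ∃ N, (1 - f g) * (y * a ^ N) = 0 := by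
    intro g
    let q : C →ₐ[K] MonoidAlgebra K M := (φ : C →ₐ[K] MonoidAlgebra K M).comp (shiftPt (h g))
    obtain ⟨N, hN⟩ := exists_pow_mul_eq_zero_monoidAlgebra (q y) (q a) fun Q _ m hm hQ π => by
      obtain ⟨N, hN⟩ := hya (m * L g) (Nat.mul_pos hm (hL g))
      refine ⟨N, ?_⟩
      rw [← map_pow, ← map_mul]
      let φQ : C →ₐc[K] MonoidAlgebra K Q := (MonoidAlgebra.mapDomainBialgHom K π).comp φ
      change ((φQ : C →ₐ[K] MonoidAlgebra K Q).comp (shiftPt (h g))) (y * a ^ N) = 0
      rw [comp_shiftPt]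
      refine kills_torsion _ (m * L g) ?_ hN
      rw [show toConv (constPt (MonoidAlgebra K Q) (h g) * toConv (φQ : C →ₐ[K] MonoidAlgebra K Q)).ofConv =
          constPt (MonoidAlgebra K Q) (h g) * toConv (φQ : C →ₐ[K] MonoidAlgebra K Q) from rfl, mul_pow, ← constPt_pow,
        mul_comm m (L g), pow_mul, hhL g, one_pow, constPt_one, one_mul, mul_comm (L g) m, pow_mul,
        toConv_bialgHom_pow φQ m (fun d => powConv_monoidAlgebra_trivial m hQ d), one_pow]
    refine ⟨N, ?_⟩
    rw [← map_pow, ← map_mul] at hN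
    have h1 := (hker _).1 hN
    have hid : shiftPt (1 : WithConv (C →ₐ[K] K)) = AlgHom.id K C := by
      rw [shiftPt, constPt_one, one_mul]
    have h3 : shiftPt (h' g) (shiftPt (h g) (y * a ^ N)) = y * a ^ N := by
      rw [← AlgHom.comp_apply, shiftPt_shiftPt, mul_comm (h g) (h' g), hh' g, hid, AlgHom.id_apply]
    have h2 : f g * shiftPt (h' g) (shiftPt (h g) (y * a ^ N)) = shiftPt (h' g) (shiftPt (h g) (y * a ^ N)) :=
      (map_mul (shiftPt (h' g)) _ _).symm.trans (congrArg (shiftPt (h' g)) h1)
    rw [h3] at h2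
    rw [sub_mul, one_mul, h2, sub_self]
  choose Nk hNk using hkill
  have htop : Ideal.span (Set.range fun g => 1 - f g) = ⊤ := by
    by_contra hne
    obtain ⟨m, hm, hle⟩ := Ideal.exists_le_maximal _ hne
    letI : Field (C ⧸ m) := Ideal.Quotient.field m
    haveI : Module.Finite K (C ⧸ m) := finite_of_finite_type_of_isJacobsonRing K (C ⧸ m)
    let e₁ : K ≃ₐ[K] C ⧸ m := AlgEquiv.ofBijective (Algebra.ofId K (C ⧸ m))
      ⟨(algebraMap K (C ⧸ m)).injective, (IsAlgClosed.algebraMap_bijective_of_isIntegral (K := C ⧸ m) (k := K)).2⟩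
    let g : WithConv (C →ₐ[K] K) := toConv ((e₁.symm : C ⧸ m →ₐ[K] K).comp (Ideal.Quotient.mkₐ K m))
    have hmem : 1 - f g ∈ m := hle (Ideal.subset_span ⟨g, rfl⟩)
    have h1 : g.ofConv (1 - f g) = 0 := by
      change e₁.symm (Ideal.Quotient.mk m (1 - f g)) = 0
      rw [Ideal.Quotient.eq_zero_iff_mem.2 hmem, map_zero]
    rw [map_sub, map_one, apply_shiftPt, hhe g, sub_zero] at h1
    exact one_ne_zero h1
  obtain ⟨t, ht, htop'⟩ := (Ideal.span_eq_top_iff_finite _).1 htop
  choose gi hgi using fun x (hx : x ∈ t) => ht hx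
  refine ⟨t.attach.sup fun x => Nk (gi x.1 x.2), ?_⟩
  have hann : Ideal.span (t : Set C) ≤ LinearMap.ker (LinearMap.toSpanSingleton C C (y * a ^ t.attach.sup fun x => Nk (gi x.1 x.2))) := by
    refine Ideal.span_le.2 fun x hx => ?_
    rw [SetLike.mem_coe, LinearMap.mem_ker, LinearMap.toSpanSingleton_apply, smul_eq_mul, ← hgi x hx]
    obtain ⟨d, hd⟩ := Nat.exists_eq_add_of_le (Finset.le_sup (f := fun x : {x // x ∈ t} => Nk (gi x.1 x.2)) (Finset.mem_attach t ⟨x, hx⟩))
    rw [hd, pow_add, ← mul_assoc y, ← mul_assoc (1 - f (gi x hx)), hNk, zero_mul]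
  have h1 : (1 : C) ∈ Ideal.span (t : Set C) := htop' ▸ Submodule.mem_top
  simpa using hann h1

end Points

end Groth.Agent.SGA3b53
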