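import Groth.Agent.SGA3b53.GLDual
import Groth.Agent.SGA3b53.DiagLift
import Groth.Agent.SGA3b53.FlatLift
import Groth.Agent.SGA3b53.DensityApply
import Groth.Agent.SGA3b53.TorsionKer
import Mathlib

/-!
A finite group of multiplicative type over a connected base is isotrivial.
-/

set_option autoImplicit false
set_option linter.unusedSectionVars false
set_option linter.style.haveILetI false
universe u
open TensorProduct

noncomputable section

namespace Groth.Agent.SGA3b53.IsotrivFinite

variable {R : Type u} [CommRing R]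

theorem rank_const [ConnectedSpace (PrimeSpectrum R)] (M : Type u) [AddCommGroup M] [Module R M]
    [Module.FinitePresentation R M] [Module.Flat R M] : ∃ n : ℕ, Module.rankAtStalk (R := R) M = n := by
  obtain ⟨p⟩ := (inferInstance : Nonempty (PrimeSpectrum R))
  exact ⟨Module.rankAtStalk M p, funext fun q =>
    (Module.isLocallyConstant_rankAtStalk (R := R) (M := M)).apply_eq_of_preconnectedSpace q p⟩

/-- The decomposition given by an idempotent. -/
theorem exists_prod_equiv {T : Type u} [CommRing T] [Algebra R T] {e : T} (he : IsIdempotentElem e) :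
    Nonempty (T ≃ₗ[R] (T ⧸ Ideal.span {e}) × (T ⧸ Ideal.span {1 - e})) := by
  let f : T →ₗ[R] (T ⧸ Ideal.span {e}) × (T ⧸ Ideal.span {1 - e}) :=
    ((Ideal.Quotient.mkₐ R (Ideal.span {e})).toLinearMap).prod (Ideal.Quotient.mkₐ R (Ideal.span {1 - e})).toLinearMap
  refine ⟨LinearEquiv.ofBijective f ⟨(injective_iff_map_eq_zero f).2 fun x hx => ?_, fun y => ?_⟩⟩
  · obtain ⟨a, ha⟩ := Ideal.mem_span_singleton'.1 (Ideal.Quotient.eq_zero_iff_mem.1 (congrArg Prod.fst hx))
    obtain ⟨b, hb⟩ := Ideal.mem_span_singleton'.1 (Ideal.Quotient.eq_zero_iff_mem.1 (congrArg Prod.snd hx))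
    have h1 : (1 - e) * x = 0 := by rw [← ha, mul_comm a e, ← mul_assoc, he.one_sub_mul_self, zero_mul]
    have h2 : e * x = 0 := by rw [← hb, mul_comm b, ← mul_assoc, he.mul_one_sub_self, zero_mul]
    linear_combination h1 + h2
  · obtain ⟨a, ha⟩ := Ideal.Quotient.mk_surjective y.1
    obtain ⟨b, hb⟩ := Ideal.Quotient.mk_surjective y.2
    refine ⟨a * (1 - e) + b * e, Prod.ext ?_ ?_⟩
    · refine Eq.trans ?_ ha
      refine (Ideal.Quotient.mk_eq_mk_iff_sub_mem _ _).2 (Ideal.mem_span_singleton'.2 ⟨b - a, by ring⟩)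
    · refine Eq.trans ?_ hb
      refine (Ideal.Quotient.mk_eq_mk_iff_sub_mem _ _).2 (Ideal.mem_span_singleton'.2 ⟨a - b, by ring⟩)

theorem etale_quotient {T : Type u} [CommRing T] [Algebra R T] [Algebra.Etale R T] {e : T}
    (he : IsIdempotentElem e) : Algebra.Etale R (T ⧸ Ideal.span {e}) := by
  haveI : IsLocalization.Away (1 - e) (T ⧸ Ideal.span {e}) :=
    IsLocalization.away_of_isIdempotentElem he.one_sub (Ideal.mk_ker.trans (by rw [sub_sub_cancel]))
      Ideal.Quotient.mk_surjective
  haveI : Algebra.Etale T (T ⧸ Ideal.span {e}) := Algebra.Etale.of_isLocalizationAway (1 - e)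
  exact Algebra.Etale.comp R T (T ⧸ Ideal.span {e})

/-- A finite etale algebra of positive constant rank has a connected factor. -/
theorem exists_connected_factor [ConnectedSpace (PrimeSpectrum R)] (n : ℕ) : ∀ (T : Type u) [CommRing T] [Algebra R T]
    [Algebra.Etale R T] [Module.Finite R T] [Nontrivial T], Module.rankAtStalk (R := R) T = n →
    ∃ (Q : Type u) (_ : CommRing Q) (_ : Algebra R Q) (_ : T →ₐ[R] Q), Algebra.Etale R Q ∧ Module.Finite R Q ∧
      Module.FaithfullyFlat R Q ∧ Nontrivial Q ∧ ∀ e : Q, IsIdempotentElem e → e = 0 ∨ e = 1 := by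
  induction n using Nat.strong_induction_on with
  | _ n ih =>
  intro T _ _ _ _ _ hn
  haveI : Module.FinitePresentation R T := Module.FinitePresentation.of_finite_of_finitePresentation R T
  by_cases hc : ∀ e : T, IsIdempotentElem e → e = 0 ∨ e = 1
  · have hpos : n ≠ 0 := by
      rintro rfl
      rw [Nat.cast_zero, Module.rankAtStalk_eq_zero_iff_subsingleton] at hn
      exact not_subsingleton T hn
    haveI : Module.FaithfullyFlat R T := by
      refine Module.FaithfullyFlat.of_comap_surjective ?_
      rw [← PrimeSpectrum.rankAtStalk_pos_iff_comap_surjective]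
      intro p
      rw [hn]
      simpa using Nat.pos_of_ne_zero hpos
    exact ⟨T, inferInstance, inferInstance, AlgHom.id R T, inferInstance, inferInstance, inferInstance, inferInstance, hc⟩
  push Not at hc
  obtain ⟨e, he, he0, he1⟩ := hc
  let Q₁ := T ⧸ Ideal.span {e}
  let Q₂ := T ⧸ Ideal.span {1 - e}
  haveI : Algebra.Etale R Q₁ := etale_quotient he
  haveI : Algebra.Etale R Q₂ := etale_quotient he.one_sub
  haveI : Module.Finite R Q₁ := Module.Finite.of_surjective (Ideal.Quotient.mkₐ R _).toLinearMap Ideal.Quotient.mk_surjective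
  haveI : Module.Finite R Q₂ := Module.Finite.of_surjective (Ideal.Quotient.mkₐ R _).toLinearMap Ideal.Quotient.mk_surjective
  haveI : Module.FinitePresentation R Q₁ := Module.FinitePresentation.of_finite_of_finitePresentation R Q₁
  haveI : Module.FinitePresentation R Q₂ := Module.FinitePresentation.of_finite_of_finitePresentation R Q₂
  obtain ⟨n₁, h₁⟩ := rank_const (R := R) Q₁
  obtain ⟨n₂, h₂⟩ := rank_const (R := R) Q₂
  have hne : ∀ {f : T}, IsIdempotentElem f → f ≠ 1 → Nontrivial (T ⧸ Ideal.span {f}) := fun {f} hf hf1 =>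
    Ideal.Quotient.nontrivial_iff.2 fun htop => hf1 <| by
      obtain ⟨a, ha⟩ := Ideal.mem_span_singleton'.1 (htop ▸ Submodule.mem_top : (1 : T) ∈ Ideal.span {f})
      calc f = 1 * f := (one_mul f).symm
        _ = a * (f * f) := by rw [← ha, mul_assoc]
        _ = 1 := by rw [hf.eq, ha]
  haveI : Nontrivial Q₁ := hne he he1
  haveI : Nontrivial Q₂ := hne he.one_sub fun h => he0 (sub_eq_self.1 h)
  have hpos : n₂ ≠ 0 := by
    rintro rfl
    rw [Nat.cast_zero, Module.rankAtStalk_eq_zero_iff_subsingleton] at h₂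
    exact not_subsingleton Q₂ h₂
  have hsum : n₁ + n₂ = n := by
    obtain ⟨E⟩ := exists_prod_equiv (R := R) he
    have h := Module.rankAtStalk_eq_of_equiv E
    rw [hn, Module.rankAtStalk_prod, h₁, h₂] at h
    obtain ⟨p⟩ := (inferInstance : Nonempty (PrimeSpectrum R))
    simpa using (congrFun h p).symm
  obtain ⟨Q, _, _, π, hQ⟩ := ih n₁ (by omega) Q₁ h₁
  exact ⟨Q, inferInstance, inferInstance, π.comp (Ideal.Quotient.mkₐ R _), hQ⟩

theorem exists_connected_split [ConnectedSpace (PrimeSpectrum R)] (S : Type u) [CommRing S] [Algebra R S]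
    [Algebra.Etale R S] [Module.Finite R S] :
    ∃ (Q : Type u) (_ : CommRing Q) (_ : Algebra R Q), Algebra.Etale R Q ∧ Module.Finite R Q ∧
      Module.FaithfullyFlat R Q ∧ Nontrivial Q ∧ (∀ e : Q, IsIdempotentElem e → e = 0 ∨ e = 1) ∧
      Algebra.IsFiniteSplit Q (Q ⊗[R] S) := by
  haveI : Module.FinitePresentation R S := Module.FinitePresentation.of_finite_of_finitePresentation R S
  obtain ⟨n, hn⟩ := rank_const (R := R) S
  obtain ⟨T, _, _, hff, hfin, het, hsplit⟩ := Algebra.IsFiniteSplit.exists_tensorProduct_of_etale hn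
  haveI : Nontrivial R := PrimeSpectrum.nonempty_iff_nontrivial.1 inferInstance
  haveI : Nontrivial T := (FaithfulSMul.algebraMap_injective R T).nontrivial
  haveI : Module.FinitePresentation R T := Module.FinitePresentation.of_finite_of_finitePresentation R T
  obtain ⟨m, hm⟩ := rank_const (R := R) T
  obtain ⟨Q, _, _, π, hQ1, hQ2, hQ3, hQ4, hQ5⟩ := exists_connected_factor m T hm
  letI : Algebra T Q := π.toRingHom.toAlgebra
  haveI : IsScalarTower R T Q := IsScalarTower.of_algebraMap_eq fun r => (π.commutes r).symm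
  exact ⟨Q, inferInstance, inferInstance, hQ1, hQ2, hQ3, hQ4, hQ5,
    Algebra.IsFiniteSplit.of_algEquiv (Algebra.TensorProduct.cancelBaseChange R T Q Q S)⟩

variable {A : Type u} [CommRing A] [HopfAlgebra R A] [Coalgebra.IsCocomm R A] [Module.Finite R A] [Module.Projective R A]

theorem isDiag_of_split {Q : Type u} [CommRing Q] [Algebra R Q] [Nontrivial Q]
    (hQ : ∀ e : Q, IsIdempotentElem e → e = 0 ∨ e = 1) {k : ℕ}
    (e : Q ⊗[R] CartDual.D R A ≃ₐ[Q] (Fin k → Q)) : SGA3b.IsDiag Q (Q ⊗[R] A) := by
  classical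
  let F : Fin k → (CartDual.D R A →ₐ[R] Q) := fun i => ((Pi.evalAlgHom Q (fun _ : Fin k => Q) i).comp
    (e : Q ⊗[R] CartDual.D R A →ₐ[Q] (Fin k → Q))).restrictScalars R |>.comp Algebra.TensorProduct.includeRight
  have hF : ∀ i x, F i x = e ((1 : Q) ⊗ₜ[R] x) i := fun i x => rfl
  choose g hg using fun i => (existsUnique_of_point (F i)).exists
  let σ : Fin k → GroupLike Q (Q ⊗[R] A) := fun i => ⟨g i, (hg i).1⟩
  have hpt : ∀ G : CartDual.D R A →ₐ[R] Q, ∃ i, G = F i := by
    intro G
    let G' : Q ⊗[R] CartDual.D R A →ₐ[Q] Q := Algebra.TensorProduct.lift (Algebra.ofId Q Q) G fun _ _ => Commute.all _ _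
    let H : (Fin k → Q) →ₐ[Q] Q := G'.comp (e.symm : (Fin k → Q) →ₐ[Q] Q ⊗[R] CartDual.D R A)
    let δ : Fin k → (Fin k → Q) := fun i => Pi.single i 1
    have hsum : ∑ i, H (δ i) = 1 := by
      rw [← map_sum, ← map_one H]
      congr 1
      funext j
      simp [δ, Finset.sum_apply, Pi.single_apply]
    have hid : ∀ i, IsIdempotentElem (H (δ i)) := fun i => by
      rw [IsIdempotentElem, ← map_mul]
      congr 1
      funext j
      simp [δ, Pi.single_apply]
    obtain ⟨i, hi⟩ : ∃ i, H (δ i) = 1 := by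
      by_contra hcon
      push Not at hcon
      rw [Finset.sum_eq_zero fun i _ => (hQ _ (hid i)).resolve_right (hcon i)] at hsum
      exact zero_ne_one hsum
    have hH : ∀ y, H y = y i := by
      intro y
      have h0 : y * δ i = y i • δ i := by
        funext j
        rcases eq_or_ne j i with rfl | hj <;> simp [δ, *]
      calc H y = H (y * δ i) := by rw [map_mul, hi, mul_one]
        _ = y i := by rw [h0, map_smul, hi, smul_eq_mul, mul_one]
    refine ⟨i, AlgHom.ext fun x => ?_⟩
    rw [hF, ← hH (e ((1 : Q) ⊗ₜ[R] x))]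
    change G x = G' (e.symm (e ((1 : Q) ⊗ₜ[R] x)))
    rw [AlgEquiv.symm_apply_apply]
    simp [G']
  have hσs : Function.Surjective σ := by
    intro u
    obtain ⟨i, hi⟩ := hpt (glPoint u.isGroupLikeElem_val)
    obtain ⟨g₀, -, hu⟩ := existsUnique_of_point (F i)
    refine ⟨i, GroupLike.val_injective ?_⟩
    exact (hu _ (hg i)).trans (hu _ ⟨u.isGroupLikeElem_val, fun x => by rw [← hi, glPoint_apply]⟩).symm
  let L : Q ⊗[R] A → (CartDual.D R A →ₗ[R] Q) := fun z =>
    { toFun := fun x => dext x z, map_add' := fun a b => dext_add a b z, map_smul' := fun c a => dext_smul c a z }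
  have hL : ∀ (z : Q ⊗[R] A) (x : CartDual.D R A),
      dext x z = ∑ i, (L z).liftBaseChange Q (e.symm (Pi.single i 1)) * F i x := by
    intro z x
    have h1 : (1 : Q) ⊗ₜ[R] x = ∑ i, F i x • e.symm (Pi.single i 1) := by
      apply e.injective
      rw [map_sum]
      funext j
      simp [hF, Finset.sum_apply, Pi.single_apply, map_smul]
    have h2 : (L z).liftBaseChange Q ((1 : Q) ⊗ₜ[R] x) = dext x z := by simp [L]
    rw [← h2, h1, map_sum]
    exact Finset.sum_congr rfl fun i _ => by rw [map_smul, smul_eq_mul, mul_comm]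
  have hdual : ∀ (a : Fin k → Q) (x : CartDual.D R A), dext x (∑ i, a i • g i) = ∑ i, a i * F i x := by
    intro a x
    simp [map_sum, map_smul, (hg _).2]
  have hinj : ∀ a : Fin k → Q, ∑ i, a i • g i = 0 → a = 0 := by
    intro a ha
    let Φ : (Fin k → Q) →ₗ[Q] Q := ∑ i, a i • LinearMap.proj i
    have h1 : ∀ t : Q ⊗[R] CartDual.D R A, Φ (e t) = 0 := by
      intro t
      induction t with
      | zero => simp
      | add p q hp hq => rw [map_add, map_add, hp, hq, add_zero]
      | tmul q x =>
        have h2 : Φ (e ((1 : Q) ⊗ₜ[R] x)) = 0 := by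
          simpa [Φ, ← hF, ha] using (hdual a x).symm
        rw [show q ⊗ₜ[R] x = q • ((1 : Q) ⊗ₜ[R] x) by rw [TensorProduct.smul_tmul', smul_eq_mul, mul_one], map_smul,
          map_smul, h2, smul_zero]
    funext i
    have := h1 (e.symm (Pi.single i 1))
    simpa [Φ, Pi.single_apply] using this
  have hσi : Function.Injective σ := by
    intro i j hij
    by_contra hne
    have h := congrFun (hinj (Pi.single i 1 - Pi.single j 1) (by
      have hgij : g i = g j := congrArg GroupLike.val hij
      simp [sub_smul, Finset.sum_sub_distrib, Pi.single_apply, ite_smul, hgij])) i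
    simp [hne] at h
  let τ : Fin k ≃ GroupLike Q (Q ⊗[R] A) := Equiv.ofBijective σ ⟨hσi, hσs⟩
  let ψ : GroupLike Q (Q ⊗[R] A) →* Q ⊗[R] A :=
    { toFun := GroupLike.val, map_one' := rfl, map_mul' := fun _ _ => rfl }
  obtain ⟨θ, hθ⟩ := exists_bialgHom_of_grouplike ψ fun u => u.isGroupLikeElem_val
  refine ⟨GroupLike Q (Q ⊗[R] A), inferInstance, ⟨(BialgEquiv.ofBijective θ ⟨?_, ?_⟩).symm⟩⟩
  · rw [injective_iff_map_eq_zero]
    intro y hy
    haveI : Fintype (GroupLike Q (Q ⊗[R] A)) := Fintype.ofEquiv _ τ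
    have h1 : y = ∑ i, MonoidAlgebra.single (τ i) (y.coeff (τ i)) := by
      rw [Equiv.sum_comp τ fun u => MonoidAlgebra.single u (y.coeff u)]
      exact MonoidAlgebra.ext (Finsupp.ext fun u => by
        simp [MonoidAlgebra.coeff_sum])
    rw [h1, map_sum] at hy
    simp only [hθ] at hy
    have h2 := hinj (fun i => y.coeff (τ i)) hy
    rw [h1]
    exact Finset.sum_eq_zero fun i _ => by rw [show y.coeff (τ i) = 0 from congrFun h2 i, MonoidAlgebra.single_zero]
  · intro z
    refine ⟨∑ i, MonoidAlgebra.single (τ i) ((L z).liftBaseChange Q (e.symm (Pi.single i 1))), ?_⟩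
    rw [map_sum]
    simp only [hθ]
    refine dext_injective fun x => ?_
    exact (hdual _ x).trans (hL z x).symm

theorem isIsotrivial_of_etale_dual [ConnectedSpace (PrimeSpectrum R)] (h : Algebra.Etale R (CartDual.D R A)) :
    SGA3b.IsIsotrivial R A := by
  obtain ⟨Q, _, _, h1, h2, h3, h4, h5, h6⟩ := exists_connected_split (R := R) (CartDual.D R A)
  obtain ⟨k, ⟨e⟩⟩ := h6.nonempty_algEquiv_fun
  exact ⟨Q, inferInstance, inferInstance, h1, h2, h3, isDiag_of_split h5 e⟩

theorem projective_of_isMultType {B : Type u} [CommRing B] [HopfAlgebra R B] [Module.Finite R B]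
    (h : SGA3b.IsMultType R B) : Module.Projective R B := by
  haveI := flat_of_isMultType_global h
  obtain ⟨ι, _, T, _, _, hT, hd⟩ := exists_finite_cover h
  obtain ⟨k, π, hπ⟩ := Module.Finite.exists_fin' R B
  have hK : Module.Finite R (LinearMap.ker π) := by
    refine finite_of_cover hT _ fun i => ?_
    haveI := hT.flat i
    obtain ⟨M, _, ⟨ρ⟩⟩ := hd i
    haveI : Module.Free (T i) (T i ⊗[R] B) := Module.Free.of_equiv ρ.symm.toLinearEquiv
    haveI : Module.FinitePresentation (T i) (T i ⊗[R] B) := Module.finitePresentation_of_projective (T i) _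
    have hfg := Module.FinitePresentation.fg_ker (π.baseChange (T i)) (LinearMap.lTensor_surjective (T i) hπ)
    have hinj : Function.Injective ((LinearMap.ker π).subtype.baseChange (T i)) :=
      Module.Flat.lTensor_preserves_injective_linearMap (M := T i) (LinearMap.ker π).subtype Subtype.val_injective
    have hrange : LinearMap.range ((LinearMap.ker π).subtype.baseChange (T i)) = LinearMap.ker (π.baseChange (T i)) := by
      ext x
      exact ((lTensor_exact (R := R) (T i) (LinearMap.exact_subtype_ker_map π) hπ) x).symm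
    haveI : Module.Finite (T i) (LinearMap.range ((LinearMap.ker π).subtype.baseChange (T i))) := by
      rw [hrange]
      exact Module.Finite.iff_fg.2 hfg
    exact Module.Finite.equiv (LinearEquiv.ofInjective _ hinj).symm
  haveI : Module.FinitePresentation R B := Module.finitePresentation_of_surjective π hπ (Module.Finite.iff_fg.1 hK)
  exact Module.Flat.projective_of_finitePresentation

end Groth.Agent.SGA3b53.IsotrivFinite
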