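import Groth.Agent.SGA3b53.SplitField
import Mathlib

/-!
A group of multiplicative type and finite type over a normal domain is isotrivial.
-/

set_option autoImplicit false
set_option linter.unusedSectionVars false
set_option linter.style.haveILetI false
universe u
open TensorProduct Matrix

noncomputable section

namespace Groth.Agent.SGA3b53.Normal

section Points

variable {K : Type u} [Field K] {L : Type u} [Field L] [Algebra K L] [Module.Finite K L] [Algebra.IsSeparable K L]

/-- Enough points with values in a finite etale algebra split a separable extension. -/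
theorem exists_points (W : Type u) [CommRing W] [Algebra K W] [Algebra.Etale K W]
    (hW : ∀ (m : Ideal W) [m.IsMaximal],
      letI : Field (W ⧸ m) := Ideal.Quotient.field m
      ∀ (σ : L →ₐ[K] AlgebraicClosure (W ⧸ m)) (x : L), σ x ∈ Set.range (algebraMap (W ⧸ m) (AlgebraicClosure (W ⧸ m)))) :
    ∃ x : Fin (Module.finrank K L) → (L →ₐ[K] W),
      IsUnit (Matrix.of fun j k => x j (Module.finBasis K L k)).det := by
  classical
  haveI : IsReduced W := Algebra.FormallyUnramified.isReduced_of_field K W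
  haveI : Module.Finite K W := Algebra.FormallyUnramified.finite_of_free K W
  haveI : IsArtinianRing W := isArtinian_of_tower K inferInstance
  letI : ∀ m : MaximalSpectrum W, Field (W ⧸ m.asIdeal) := fun m =>
    haveI := m.isMaximal
    Ideal.Quotient.field m.asIdeal
  let n := Module.finrank K L
  let b := Module.finBasis K L
  have hF : ∀ m : MaximalSpectrum W, ∃ e : Fin n → (L →ₐ[K] W ⧸ m.asIdeal), Function.Injective e := by
    intro m
    let F := W ⧸ m.asIdeal
    let Ω := AlgebraicClosure F
    let i := IsScalarTower.toAlgHom K F Ω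
    let en : Fin n ≃ (L →ₐ[K] Ω) := (Fintype.equivFinOfCardEq (AlgHom.card K L Ω)).symm
    have hr : ∀ j, (en j).range ≤ i.range := fun j => by
      rintro _ ⟨x, rfl⟩
      exact hW m.asIdeal (en j) x
    let e : Fin n → (L →ₐ[K] F) := fun j => ((AlgEquiv.ofInjective i (FaithfulSMul.algebraMap_injective F Ω)).symm.toAlgHom).comp
        ((Subalgebra.inclusion (hr j)).comp (en j).rangeRestrict)
    refine ⟨e, fun j j' hjj => en.injective (AlgHom.ext fun x => ?_)⟩
    have h1 : ∀ j, i (e j x) = en j x := fun j => by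
      exact congrArg Subtype.val ((AlgEquiv.ofInjective i (FaithfulSMul.algebraMap_injective F Ω)).apply_symm_apply
        ⟨en j x, hr j ⟨x, rfl⟩⟩)
    rw [← h1, ← h1, hjj]
  choose e he using hF
  let E : W ≃ₐ[K] (∀ m : MaximalSpectrum W, W ⧸ m.asIdeal) := (IsArtinianRing.equivPi W).restrictScalars K
  let x : Fin n → (L →ₐ[K] W) := fun j => (E.symm : (∀ m : MaximalSpectrum W, W ⧸ m.asIdeal) →ₐ[K] W).comp
    (AlgHom.pi fun m => e m j)
  refine ⟨x, ?_⟩
  by_contra hu
  obtain ⟨p, hp, hdp⟩ := exists_max_ideal_of_mem_nonunits (mem_nonunits_iff.2 hu)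
  let m : MaximalSpectrum W := ⟨p, hp⟩
  have hx : ∀ j y, Ideal.Quotient.mk p (x j y) = e m j y := fun j y => by
    have h1 : E (x j y) m = e m j y := congrFun (E.apply_symm_apply (fun m => e m j y)) m
    rw [← h1]
    rfl
  have hdet : (Matrix.of fun j k => e m j (b k)).det = 0 := by
    have h1 : (Ideal.Quotient.mk p) (Matrix.of fun j k => x j (b k)).det = 0 := Ideal.Quotient.eq_zero_iff_mem.2 hdp
    rw [RingHom.map_det] at h1
    rw [← h1]
    congr 1
    ext j k
    simp [hx]
  obtain ⟨v, hv, hv0⟩ := Matrix.exists_vecMul_eq_zero_iff.2 hdet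
  apply hv
  have hli := (linearIndependent_toLinearMap K L (W ⧸ m.asIdeal)).comp (e m) (he m)
  refine funext fun j => Fintype.linearIndependent_iff.1 hli v ?_ j
  refine b.ext fun k => ?_
  have h2 := congrFun hv0 k
  simpa [Matrix.vecMul, dotProduct, LinearMap.sum_apply] using h2

end Points

section Closure

variable {R : Type u} [CommRing R] [IsDomain R] [IsIntegrallyClosed R] {K : Type u} [Field K] [Algebra R K] [IsFractionRing R K]
variable {L : Type u} [Field L] [Algebra K L] [Algebra R L] [IsScalarTower R K L] [Module.Finite K L]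

/-- The evaluation of `T ⊗ L` at the points. -/
def evalPoints (T : Type u) [CommRing T] [Algebra R T] {n : ℕ} (x : Fin n → (L →ₐ[R] T ⊗[R] K)) :
    T ⊗[R] L →ₐ[T] (Fin n → T ⊗[R] K) :=
  Algebra.TensorProduct.lift (Algebra.ofId T (Fin n → T ⊗[R] K)) (AlgHom.pi x) fun _ _ => Commute.all _ _

theorem evalPoints_tmul (T : Type u) [CommRing T] [Algebra R T] {n : ℕ} (x : Fin n → (L →ₐ[R] T ⊗[R] K)) (t : T) (l : L)
    (j : Fin n) : evalPoints T x (t ⊗ₜ[R] l) j = algebraMap T (T ⊗[R] K) t * x j l := by
  rw [evalPoints, Algebra.TensorProduct.lift_tmul]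
  rfl

theorem bijective_of_det {W : Type u} [CommRing W] {B : Type u} [CommRing B] {n : ℕ} (Φ : B →+* (Fin n → W))
    (κ : W →+* B) (β : Fin n → B) (M : Matrix (Fin n) (Fin n) W) (hκ : ∀ w j, Φ (κ w) j = w)
    (hβ : ∀ k j, Φ (β k) j = M j k) (hdet : IsUnit M.det) (hspan : ∀ z : B, ∃ w : Fin n → W, ∑ k, κ (w k) * β k = z) :
    Function.Bijective Φ := by
  classical
  have hM : Function.Bijective (M.mulVec) :=
    ⟨fun u v huv => by
      have h1 := congrArg (fun y => M⁻¹ *ᵥ y) huv
      simpa [Matrix.mulVec_mulVec, Matrix.nonsing_inv_mul M hdet] using h1,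
      fun y => ⟨M⁻¹ *ᵥ y, by rw [Matrix.mulVec_mulVec, Matrix.mul_nonsing_inv M hdet, Matrix.one_mulVec]⟩⟩
  have hΦΓ : ∀ w : Fin n → W, Φ (∑ k, κ (w k) * β k) = M *ᵥ w := fun w => by
    funext j
    rw [map_sum, Finset.sum_apply]
    simp only [map_mul, Pi.mul_apply, hκ, hβ, Matrix.mulVec, dotProduct]
    exact Finset.sum_congr rfl fun k _ => mul_comm _ _
  refine ⟨fun z z' hzz => ?_, fun w => ?_⟩
  · obtain ⟨w, rfl⟩ := hspan z
    obtain ⟨w', rfl⟩ := hspan z'
    have h1 : M *ᵥ w = M *ᵥ w' := (hΦΓ w).symm.trans (hzz.trans (hΦΓ w'))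
    rw [hM.1 h1]
  · obtain ⟨v, hv⟩ := hM.2 w
    exact ⟨_, (hΦΓ v).trans hv⟩

theorem span_points (T : Type u) [CommRing T] [Algebra R T] {n : ℕ} (b : Module.Basis (Fin n) K L) (z : T ⊗[R] L) :
    ∃ w : Fin n → T ⊗[R] K,
      ∑ k, Algebra.TensorProduct.map (AlgHom.id T T) (IsScalarTower.toAlgHom R K L) (w k) * ((1 : T) ⊗ₜ[R] b k) = z := by
  induction z with
  | zero => exact ⟨0, Finset.sum_eq_zero fun k _ => by rw [Pi.zero_apply, map_zero, zero_mul]⟩
  | add a c ha hc =>
    obtain ⟨u, hu⟩ := ha
    obtain ⟨v, hv⟩ := hc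
    refine ⟨u + v, ?_⟩
    simp only [Pi.add_apply, map_add, add_mul, Finset.sum_add_distrib]
    rw [hu, hv]
  | tmul t l =>
    refine ⟨fun k => t ⊗ₜ[R] b.repr l k, ?_⟩
    conv_rhs => rw [← b.sum_repr l, TensorProduct.tmul_sum]
    refine Finset.sum_congr rfl fun k _ => ?_
    rw [Algebra.smul_def, Algebra.TensorProduct.map_tmul, Algebra.TensorProduct.tmul_mul_tmul, mul_one]
    rfl

theorem evalPoints_kappa (T : Type u) [CommRing T] [Algebra R T] {n : ℕ} (x : Fin n → (L →ₐ[R] T ⊗[R] K))
    (hx : ∀ j (k : K), x j (algebraMap K L k) = (1 : T) ⊗ₜ[R] k) (w : T ⊗[R] K) (j : Fin n) :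
    evalPoints T x (Algebra.TensorProduct.map (AlgHom.id T T) (IsScalarTower.toAlgHom R K L) w) j = w := by
  induction w with
  | zero => rw [map_zero, map_zero, Pi.zero_apply]
  | add a b ha hb => rw [map_add, map_add, Pi.add_apply, ha, hb]
  | tmul t k =>
    rw [Algebra.TensorProduct.map_tmul, IsScalarTower.coe_toAlgHom', AlgHom.id_apply, evalPoints_tmul, hx,
      Algebra.TensorProduct.algebraMap_apply, Algebra.TensorProduct.tmul_mul_tmul, one_mul, mul_one]
    rfl

theorem evalPoints_bijective (T : Type u) [CommRing T] [Algebra R T]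
    (x : Fin (Module.finrank K L) → (L →ₐ[R] T ⊗[R] K))
    (hx : ∀ j (k : K), x j (algebraMap K L k) = (1 : T) ⊗ₜ[R] k)
    (hdet : IsUnit (Matrix.of fun j k => x j (Module.finBasis K L k)).det) :
    Function.Bijective (evalPoints T x) :=
  bijective_of_det (evalPoints T x : T ⊗[R] L →+* (Fin (Module.finrank K L) → T ⊗[R] K))
    (Algebra.TensorProduct.map (AlgHom.id T T) (IsScalarTower.toAlgHom R K L) : T ⊗[R] K →+* T ⊗[R] L)
    (fun k => (1 : T) ⊗ₜ[R] Module.finBasis K L k) _ (evalPoints_kappa T x hx)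
    (fun k j => (evalPoints_tmul T x 1 _ j).trans (by rw [map_one, one_mul]; rfl)) hdet
    (span_points T (Module.finBasis K L))

/-- The integral closure splits over a chart on which the extension splits. -/
theorem exists_split_closure (T : Type u) [CommRing T] [Algebra R T] [Algebra.Smooth R T]
    (x : Fin (Module.finrank K L) → (L →ₐ[R] T ⊗[R] K))
    (hx : ∀ j (k : K), x j (algebraMap K L k) = (1 : T) ⊗ₜ[R] k)
    (hdet : IsUnit (Matrix.of fun j k => x j (Module.finBasis K L k)).det) :
    Nonempty (T ⊗[R] integralClosure R L ≃ₐ[T] (Fin (Module.finrank K L) → T)) := by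
  classical
  let n := Module.finrank K L
  let W := T ⊗[R] K
  let Φ : T ⊗[R] L →ₐ[T] (Fin n → W) := evalPoints T x
  have hΦ : Function.Bijective Φ := evalPoints_bijective T x hx hdet
  have hinj : Function.Injective (algebraMap T W) :=
    Algebra.TensorProduct.includeLeft_injective (S := T) (FaithfulSMul.algebraMap_injective R K)
  have hy : ∀ j (s : integralClosure R L), ∃ t : T, algebraMap T W t = x j s := fun j s => by
    obtain ⟨t, ht⟩ := eq_tmul_one_of_isIntegral K T ((s.2.map (x j)).tower_top (A := T))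
    exact ⟨t, ht.symm⟩
  choose y hy using hy
  let Y : integralClosure R L →ₐ[R] (Fin n → T) :=
    { toFun := fun s j => y j s
      map_one' := funext fun j => hinj (by rw [hy, Pi.one_apply, map_one, OneMemClass.coe_one, map_one])
      map_mul' := fun a c => funext fun j => hinj (by simp [hy])
      map_zero' := funext fun j => hinj (by rw [hy, Pi.zero_apply, map_zero, ZeroMemClass.coe_zero, map_zero])
      map_add' := fun a c => funext fun j => hinj (by simp [hy])
      commutes' := fun r => funext fun j => hinj (by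
        rw [hy, Pi.algebraMap_apply, ← IsScalarTower.algebraMap_apply]
        exact (x j).commutes r) }
  let Ψ : T ⊗[R] integralClosure R L →ₐ[T] (Fin n → T) :=
    Algebra.TensorProduct.lift (Algebra.ofId T (Fin n → T)) Y fun _ _ => Commute.all _ _
  let incl : T ⊗[R] integralClosure R L →ₐ[T] T ⊗[R] L :=
    Algebra.TensorProduct.map (AlgHom.id T T) (integralClosure R L).val
  have hcomm : ∀ z j, algebraMap T W (Ψ z j) = Φ (incl z) j := fun z j => by
    induction z with
    | zero => simp
    | add a c ha hc => simp only [map_add, Pi.add_apply, ha, hc]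
    | tmul t s =>
      change algebraMap T W (algebraMap T (Fin n → T) t j * y j s) = evalPoints T x (t ⊗ₜ[R] (s : L)) j
      rw [map_mul, hy, evalPoints_tmul]
      rfl
  have hincl : Function.Injective incl :=
    Module.Flat.lTensor_preserves_injective_linearMap (M := T) (integralClosure R L).val.toLinearMap Subtype.val_injective
  refine ⟨AlgEquiv.ofBijective Ψ ⟨fun z z' hzz => hincl (hΦ.1 (funext fun j => ?_)), fun w => ?_⟩⟩
  · rw [← hcomm, ← hcomm, hzz]
  · obtain ⟨z, hz⟩ := hΦ.2 fun j => algebraMap T W (w j)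
    have hint : IsIntegral T z := by
      apply (isIntegral_algHom_iff Φ hΦ.1).1
      rw [hz]
      exact (Algebra.IsIntegral.isIntegral (R := T) w).map
        (AlgHom.pi fun j => (Algebra.ofId T W).comp (Pi.evalAlgHom T (fun _ : Fin n => T) j))
    obtain ⟨z', hz'⟩ := (TensorProduct.toIntegralClosure_bijective_of_smooth (R := R) (S := T) (B := L)).2 ⟨z, hint⟩
    refine ⟨z', funext fun j => hinj ?_⟩
    rw [hcomm, show incl z' = z from congrArg Subtype.val hz', hz]

end Closure

variable {R : Type u} [CommRing R] [IsDomain R] [IsIntegrallyClosed R] {A : Type u} [CommRing A] [HopfAlgebra R A]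

/-- A group of multiplicative type and finite type over a normal domain is isotrivial. -/
theorem isIsotrivial_of_normal (hft : Algebra.FiniteType R A) (h : SGA3b.IsMultType R A) :
    SGA3b.IsIsotrivial R A := by
  classical
  let K := FractionRing R
  obtain ⟨L, _, _, _, _, hfin, hsep, hLd, hL⟩ := exists_splitting_field (K := K) hft h
  obtain ⟨ι, _, Ti, _, _, het, hcov, hd⟩ := exists_etale_cover_diag hft h
  haveI := het
  let T := ∀ i, Ti i
  haveI : Module.FaithfullyFlat R T := Module.FaithfullyFlat.of_comap_surjective fun p => by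
    obtain ⟨i, q, hq⟩ := hcov.exists_lift p
    exact ⟨q.comap (Pi.evalRingHom Ti i), by rw [← PrimeSpectrum.comap_comp_apply, ← hq]; rfl⟩
  letI : Algebra K (T ⊗[R] K) := Algebra.TensorProduct.rightAlgebra
  haveI : IsScalarTower R K (T ⊗[R] K) := IsScalarTower.of_algebraMap_eq fun r => by
    change algebraMap R (T ⊗[R] K) r = (1 : T) ⊗ₜ[R] algebraMap R K r
    rw [Algebra.TensorProduct.algebraMap_apply, Algebra.algebraMap_eq_smul_one, TensorProduct.smul_tmul,
      Algebra.algebraMap_eq_smul_one]
  haveI : Algebra.Etale K (T ⊗[R] K) := Algebra.Etale.of_equiv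
    (AlgEquiv.ofRingEquiv (f := (Algebra.TensorProduct.comm R K T).toRingEquiv) fun k => rfl)
  obtain ⟨x, hx⟩ := exists_points (L := L) (T ⊗[R] K) fun m hm σ => by
    haveI := hm
    letI : Field ((T ⊗[R] K) ⧸ m) := Ideal.Quotient.field m
    refine hL _ ?_ σ
    haveI : (m.comap (Algebra.TensorProduct.includeLeft : T →ₐ[R] T ⊗[R] K)).IsPrime := Ideal.IsPrime.comap _
    obtain ⟨⟨i, q⟩, hq⟩ := (PrimeSpectrum.sigmaToPi_bijective Ti).2
      ⟨m.comap (Algebra.TensorProduct.includeLeft : T →ₐ[R] T ⊗[R] K), inferInstance⟩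
    obtain ⟨M, _, ⟨ρ⟩⟩ := hd i
    have hle : RingHom.ker (Pi.evalRingHom Ti i) ≤
        RingHom.ker ((Ideal.Quotient.mk m).comp ((Algebra.TensorProduct.includeLeft : T →ₐ[R] T ⊗[R] K) : T →+* T ⊗[R] K)) := by
      intro t ht
      rw [RingHom.mem_ker, RingHom.comp_apply, Ideal.Quotient.eq_zero_iff_mem]
      have h1 : t ∈ (PrimeSpectrum.sigmaToPi Ti ⟨i, q⟩).asIdeal := by
        change t i ∈ q.asIdeal
        rw [show t i = 0 from ht]
        exact q.asIdeal.zero_mem
      rw [hq] at h1
      exact h1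
    have hs : Function.Surjective (Pi.evalRingHom Ti i) := fun t => ⟨Pi.single i t, Pi.single_eq_same i t⟩
    let f : Ti i →+* (T ⊗[R] K) ⧸ m := (Pi.evalRingHom Ti i).liftOfSurjective hs ⟨_, hle⟩
    have hf : ∀ t : T, f (t i) = Ideal.Quotient.mk m (t ⊗ₜ[R] (1 : K)) := fun t =>
      RingHom.liftOfRightInverse_comp_apply _ _ _ ⟨_, hle⟩ t
    let g : Ti i →ₐ[R] (T ⊗[R] K) ⧸ m := AlgHom.mk f fun r => by
      change f (algebraMap R (Ti i) r) = _
      rw [show algebraMap R (Ti i) r = algebraMap R T r i from rfl, hf]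
      rfl
    obtain ⟨ρ', -⟩ := exists_split_map g ρ
    exact ⟨M, inferInstance, ⟨ρ'⟩⟩
  obtain ⟨e⟩ := exists_split_closure T (fun j => (x j).restrictScalars R)
    (fun j k => (x j).commutes k) hx
  let S := integralClosure R L
  haveI : Algebra.Etale T (T ⊗[R] S) := Algebra.Etale.of_equiv e.symm
  haveI : Algebra.Etale R S := Algebra.Etale.of_etale_tensorProduct_of_faithfullyFlat T
  haveI : Module.Finite T (T ⊗[R] S) := Module.Finite.equiv e.symm.toLinearEquiv
  haveI : Module.Finite R S := Module.Finite.of_finite_tensorProduct_of_faithfullyFlat T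
  have hRL : Function.Injective (algebraMap R L) := by
    rw [IsScalarTower.algebraMap_eq R K L]
    exact (algebraMap K L).injective.comp (FaithfulSMul.algebraMap_injective R K)
  have hRS : Function.Injective (algebraMap R S) := fun a c hac => hRL (congrArg Subtype.val hac)
  haveI : Module.FaithfullyFlat R S := Module.FaithfullyFlat.of_comap_surjective
    ((PrimeSpectrum.comap_surjective_iff_injective_of_finite).2 hRS)
  haveI : IsFractionRing S L := integralClosure.isFractionRing_of_finite_extension K L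
  haveI : IsIntegrallyClosed S := integralClosure.isIntegrallyClosedOfFiniteExtension K
  refine ⟨S, inferInstance, inferInstance, inferInstance, inferInstance, inferInstance, ?_⟩
  exact isDiag_of_frac L inferInstance (isMultType_baseChange S h) (isDiag_of_equiv (cancelBC R S L A).symm hLd)

end Groth.Agent.SGA3b53.Normal
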