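import Groth.Agent.SGA3b53.MultBC
import Groth.Agent.SGA3b53.DiagLift
import Groth.Agent.Ind91.Lift
import Mathlib

/-!
Lifting splitting etale extensions along nil ideals.
-/

set_option autoImplicit false
set_option linter.unusedSectionVars false
universe u v
open TensorProduct

noncomputable section

namespace Groth.Agent.SGA3b53

variable {R : Type u} [CommRing R] {A : Type u} [CommRing A] [HopfAlgebra R A]

theorem exists_split_baseChange (L : Type u) [CommRing L] [Algebra R L] (L' : Type u) [CommRing L'] [Algebra R L']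
    [Algebra L L'] [IsScalarTower R L L'] (S : Type u) [CommRing S] [Algebra L S] [Algebra R S] [IsScalarTower R L S]
    [Algebra.Etale L S] [Module.FaithfullyFlat L S] (hd : SGA3b.IsDiag S (S ⊗[R] A)) :
    ∃ (S' : Type u) (_ : CommRing S') (_ : Algebra L' S') (_ : Algebra R S') (_ : IsScalarTower R L' S'),
      Algebra.Etale L' S' ∧ Module.FaithfullyFlat L' S' ∧ SGA3b.IsDiag S' (S' ⊗[R] A) := by
  letI : Algebra S (L' ⊗[L] S) := Algebra.TensorProduct.rightAlgebra
  haveI : IsScalarTower R S (L' ⊗[L] S) := IsScalarTower.of_algebraMap_eq fun r => by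
    rw [IsScalarTower.algebraMap_apply R L (L' ⊗[L] S), IsScalarTower.algebraMap_apply R L S]
    exact IsScalarTower.algebraMap_apply L S (L' ⊗[L] S) _
  exact ⟨L' ⊗[L] S, inferInstance, inferInstance, inferInstance, inferInstance, inferInstance, inferInstance,
    isDiag_tower S (L' ⊗[L] S) hd⟩

theorem exists_etale_split_lift (K : Ideal R) (hK : ∀ x ∈ K, IsNilpotent x) (h : SGA3b.IsMultType R A)
    (S : Type u) [CommRing S] [Algebra (R ⧸ K) S] [Algebra R S] [IsScalarTower R (R ⧸ K) S]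
    [Algebra.Etale (R ⧸ K) S] [Module.FaithfullyFlat (R ⧸ K) S] (hd : SGA3b.IsDiag S (S ⊗[R] A)) :
    ∃ (W : Type u) (_ : CommRing W) (_ : Algebra R W), Algebra.Etale R W ∧ Module.FaithfullyFlat R W ∧
      (Module.Finite (R ⧸ K) S → Module.Finite R W) ∧ SGA3b.IsDiag W (W ⊗[R] A) := by
  obtain ⟨W, _, _, π, hW, hπ, hker⟩ := Groth.Agent.Ind91.exists_etale_lift R K S
  have hnil : ∀ x ∈ RingHom.ker π, IsNilpotent x := by
    intro x hx
    rw [hker] at hx
    exact mem_nilradical.1 ((Ideal.map_le_iff_le_comap.2 fun a ha => mem_nilradical.2 ((hK a ha).map _)) hx)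
  refine ⟨W, inferInstance, inferInstance, hW, ?_, fun hfin => ?_, ?_⟩
  · refine Module.FaithfullyFlat.of_comap_surjective fun p => ?_
    have hp : K ≤ p.asIdeal := fun x hx => nilradical_le_prime p.asIdeal (mem_nilradical.2 (hK x hx))
    obtain ⟨p', hp'⟩ : p ∈ Set.range (PrimeSpectrum.comap (Ideal.Quotient.mk K)) := by
      rw [range_comap_of_surjective _ _ Ideal.Quotient.mk_surjective]
      simpa [Ideal.mk_ker] using hp
    obtain ⟨Q, hQ⟩ := PrimeSpectrum.comap_surjective_of_faithfullyFlat (A := R ⧸ K) (B := S) p'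
    refine ⟨Q.comap (π : W →+* S), ?_⟩
    rw [← hp', ← hQ, ← PrimeSpectrum.comap_comp_apply, ← PrimeSpectrum.comap_comp_apply]
    congr 1
    refine RingHom.ext fun r => ?_
    exact (π.commutes r).trans (IsScalarTower.algebraMap_apply R (R ⧸ K) S r)
  · haveI := hfin
    haveI : Module.Finite R S := Module.Finite.trans (R ⧸ K) S
    haveI : Algebra.IsIntegral R W := ⟨fun x => by
      obtain ⟨p, hp, hpx⟩ := Algebra.IsIntegral.isIntegral (R := R) (π x)
      have h1 : Polynomial.aeval (π x) p = 0 := hpx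
      rw [Polynomial.aeval_algHom_apply] at h1
      obtain ⟨n, hn⟩ := hnil _ (RingHom.mem_ker.2 h1)
      exact ⟨p ^ n, hp.pow n, by rw [← Polynomial.aeval_def, map_pow, hn]⟩⟩
    exact Algebra.IsIntegral.finite
  · refine isDiag_of_isDiag_quotient (RingHom.ker π) hnil (isMultType_baseChange W h) ?_
    let e : W ⧸ RingHom.ker π ≃+* S := RingHom.quotientKerEquivOfSurjective (f := (π : W →+* S)) hπ
    letI : Algebra S (W ⧸ RingHom.ker π) := (e.symm : S →+* W ⧸ RingHom.ker π).toAlgebra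
    haveI : IsScalarTower R S (W ⧸ RingHom.ker π) := IsScalarTower.of_algebraMap_eq fun r => by
      change _ = e.symm _
      rw [RingEquiv.eq_symm_apply]
      exact π.commutes r
    exact isDiag_of_equiv (cancelBC R W (W ⧸ RingHom.ker π) A).symm (isDiag_tower S (W ⧸ RingHom.ker π) hd)

theorem isIsotrivial_of_mod_nil (I : Ideal R) (hI : ∀ x ∈ I, IsNilpotent x) (h : SGA3b.IsMultType R A)
    (h0 : SGA3b.IsIsotrivial (R ⧸ I) ((R ⧸ I) ⊗[R] A)) : SGA3b.IsIsotrivial R A := by
  obtain ⟨S, _, _, het, hfin, hff, hd⟩ := h0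
  letI : Algebra R S := ((algebraMap (R ⧸ I) S).comp (Ideal.Quotient.mk I)).toAlgebra
  haveI : IsScalarTower R (R ⧸ I) S := IsScalarTower.of_algebraMap_eq fun _ => rfl
  obtain ⟨W, _, _, hW1, hW2, hW3, hW4⟩ := exists_etale_split_lift I hI h S
    (isDiag_of_equiv (cancelBC R (R ⧸ I) S A) hd)
  exact ⟨W, inferInstance, inferInstance, hW1, hW3 hfin, hW2, hW4⟩

theorem isQuasiIsotrivial_of_mod_nil (I : Ideal R) (hI : ∀ x ∈ I, IsNilpotent x) (h : SGA3b.IsMultType R A)
    (h0 : SGA3b.IsQuasiIsotrivial (R ⧸ I) ((R ⧸ I) ⊗[R] A)) : SGA3b.IsQuasiIsotrivial R A := by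
  obtain ⟨s, hs, hf⟩ := h0
  refine ⟨Ideal.Quotient.mk I ⁻¹' s, ?_, fun f hfs => ?_⟩
  · by_contra hne
    obtain ⟨m, hm, hle⟩ := Ideal.exists_le_maximal _ hne
    have hIm : I ≤ m := fun x hx => nilradical_le_prime m (mem_nilradical.2 (hI x hx))
    have h1 : Ideal.span s ≤ m.map (Ideal.Quotient.mk I) := by
      refine Ideal.span_le.2 fun y hy => ?_
      obtain ⟨x, rfl⟩ := Ideal.Quotient.mk_surjective y
      exact Ideal.mem_map_of_mem _ (hle (Ideal.subset_span hy))
    have h2 : (1 : R) ∈ m := by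
      have h3 : (Ideal.Quotient.mk I) 1 ∈ m.map (Ideal.Quotient.mk I) := by
        rw [map_one]
        exact h1 (hs ▸ Submodule.mem_top)
      rw [← Ideal.mem_comap, Ideal.comap_map_of_surjective _ Ideal.Quotient.mk_surjective] at h3
      rw [← RingHom.ker_eq_comap_bot, Ideal.mk_ker, sup_eq_left.2 hIm] at h3
      exact h3
    exact hm.ne_top ((Ideal.eq_top_iff_one _).2 h2)
  · obtain ⟨S, _, _, het, hff, hd⟩ := hf _ hfs
    let Rf := Localization.Away f
    let L := Localization.Away (Ideal.Quotient.mk I f)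
    let K : Ideal Rf := I.map (algebraMap R Rf)
    have hK : ∀ x ∈ K, IsNilpotent x := fun x hx =>
      mem_nilradical.1 ((Ideal.map_le_iff_le_comap.2 fun a ha => mem_nilradical.2 ((hI a ha).map _)) hx)
    letI : Algebra (R ⧸ I) (Rf ⧸ K) := (Ideal.quotientMap K (algebraMap R Rf) Ideal.le_comap_map).toAlgebra
    haveI : IsScalarTower R (R ⧸ I) (Rf ⧸ K) := IsScalarTower.of_algebraMap_eq fun _ => rfl
    have hu : IsUnit (algebraMap (R ⧸ I) (Rf ⧸ K) (Ideal.Quotient.mk I f)) :=
      (IsLocalization.Away.algebraMap_isUnit (S := Rf) f).map (Ideal.Quotient.mk K)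
    let ψ : L →+* Rf ⧸ K := IsLocalization.Away.lift (Ideal.Quotient.mk I f) hu
    letI : Algebra L (Rf ⧸ K) := ψ.toAlgebra
    haveI : IsScalarTower (R ⧸ I) L (Rf ⧸ K) :=
      IsScalarTower.of_algebraMap_eq fun r => (IsLocalization.Away.lift_eq _ hu r).symm
    letI : Algebra (R ⧸ I) S := ((algebraMap L S).comp (algebraMap (R ⧸ I) L)).toAlgebra
    haveI : IsScalarTower (R ⧸ I) L S := IsScalarTower.of_algebraMap_eq fun _ => rfl
    letI : Algebra R S := ((algebraMap L S).comp (algebraMap R L)).toAlgebra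
    haveI : IsScalarTower R L S := IsScalarTower.of_algebraMap_eq fun _ => rfl
    haveI : IsScalarTower R L (Rf ⧸ K) := IsScalarTower.of_algebraMap_eq fun r => by
      rw [IsScalarTower.algebraMap_apply R (R ⧸ I) L, ← IsScalarTower.algebraMap_apply (R ⧸ I) L (Rf ⧸ K)]
      rfl
    have hdR : SGA3b.IsDiag S (S ⊗[R] A) := by
      have h1 : SGA3b.IsDiag S (S ⊗[L] (L ⊗[R] A)) :=
        isDiag_of_equiv (congrBC S (cancelBC R (R ⧸ I) L A)) hd
      exact isDiag_of_equiv (cancelBC R L S A) h1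
    obtain ⟨S', _, _, _, _, hS1, hS2, hd'⟩ := exists_split_baseChange L (Rf ⧸ K) S hdR
    letI : Algebra Rf S' := ((algebraMap (Rf ⧸ K) S').comp (Ideal.Quotient.mk K)).toAlgebra
    haveI : IsScalarTower Rf (Rf ⧸ K) S' := ⟨fun r x z => by
      obtain ⟨x, rfl⟩ := Ideal.Quotient.mk_surjective x
      rw [show r • Ideal.Quotient.mk K x = Ideal.Quotient.mk K r * Ideal.Quotient.mk K x from rfl,
        show ∀ w : S', r • w = algebraMap (Rf ⧸ K) S' (Ideal.Quotient.mk K r) * w from fun _ => rfl]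
      simp only [Algebra.smul_def, map_mul, mul_assoc]⟩
    haveI : IsScalarTower R Rf S' := IsScalarTower.of_algebraMap_eq fun r =>
      IsScalarTower.algebraMap_apply R (Rf ⧸ K) S' r
    obtain ⟨W, _, _, hW1, hW2, -, hW4⟩ := exists_etale_split_lift K hK (isMultType_baseChange Rf h) S'
      (isDiag_of_equiv (cancelBC R Rf S' A).symm hd')
    exact ⟨W, inferInstance, inferInstance, hW1, hW2, hW4⟩

end Groth.Agent.SGA3b53
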