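import Groth.Agent.SGA3b53.TypeCover
import Mathlib

/-!
The character group seen by a homomorphism out of a diagonalisable group over a local ring.
-/

set_option autoImplicit false
set_option linter.unusedSectionVars false
set_option linter.style.haveILetI false
universe u v w
open TensorProduct

noncomputable section

namespace Groth.Agent.SGA3b53

variable {T : Type u} [CommRing T] {C : Type u} [CommRing C] [HopfAlgebra T C]

/-- Antipodes commute with bialgebra maps. -/
theorem map_antipode {B : Type u} [CommRing B] [HopfAlgebra T B] (φ : C →ₐc[T] B) (a : C) :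
    φ (HopfAlgebraStruct.antipode (R := T) a) = HopfAlgebraStruct.antipode (R := T) (φ a) := by
  have h1 : WithConv.toConv ((φ : C →ₐ[T] B).comp (HopfAlgebra.antipodeAlgHom T C)) *
      WithConv.toConv (φ : C →ₐ[T] B) = 1 := by
    apply WithConv.ofConv_injective
    have := AlgHom.comp_convMul_distrib (φ : C →ₐ[T] B)
      (WithConv.toConv (HopfAlgebra.antipodeAlgHom T C)) (WithConv.toConv (AlgHom.id T C))
    rw [show WithConv.toConv (HopfAlgebra.antipodeAlgHom T C) * WithConv.toConv (AlgHom.id T C) = 1 from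
      AlgHom.antipode_id_cancel] at this
    refine this.symm.trans (AlgHom.ext fun x => ?_)
    simp only [AlgHom.convOne_def, AlgHom.comp_apply]
    exact (φ : C →ₐ[T] B).commutes _
  have h2 : WithConv.toConv (φ : C →ₐ[T] B) *
      WithConv.toConv ((HopfAlgebra.antipodeAlgHom T B).comp (φ : C →ₐ[T] B)) = 1 := by
    apply WithConv.ofConv_injective
    have := AlgHom.convMul_comp_bialgHom_distrib (WithConv.toConv (AlgHom.id T B))
      (WithConv.toConv (HopfAlgebra.antipodeAlgHom T B)) φ
    rw [show WithConv.toConv (AlgHom.id T B) * WithConv.toConv (HopfAlgebra.antipodeAlgHom T B) = 1 from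
      mul_eq_one_comm.1 AlgHom.antipode_id_cancel] at this
    refine this.symm.trans (AlgHom.ext fun x => ?_)
    simp [AlgHom.convOne_def]
  exact DFunLike.congr_fun (congrArg WithConv.ofConv (left_inv_eq_right_inv h1 h2)) a

variable {M : Type u} [CommGroup M] (φ : C →ₐc[T] MonoidAlgebra T M)

/-- The characters in the image of `φ`. -/
def charGroup : Subgroup M where
  carrier := {m | ∃ c, φ c = MonoidAlgebra.single m 1}
  one_mem' := ⟨1, by rw [map_one, MonoidAlgebra.one_def]⟩
  mul_mem' := by
    rintro a b ⟨c, hc⟩ ⟨d, hd⟩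
    exact ⟨c * d, by rw [map_mul, hc, hd, MonoidAlgebra.single_mul_single, mul_one]⟩
  inv_mem' := by
    rintro a ⟨c, hc⟩
    refine ⟨HopfAlgebraStruct.antipode (R := T) c, ?_⟩
    rw [map_antipode, hc]
    simp

theorem mem_charGroup {m : M} : m ∈ charGroup φ ↔ ∃ c, φ c = MonoidAlgebra.single m 1 := Iff.rfl

theorem exists_eq_smul_single (c : C) (m : M) : ∃ c', φ c' = MonoidAlgebra.single m ((φ c).coeff m) := by
  classical
  let L : MonoidAlgebra T M ⊗[T] MonoidAlgebra T M →ₗ[T] MonoidAlgebra T M :=
    (TensorProduct.rid T _).toLinearMap ∘ₗ (coef (T := T) m).lTensor _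
  let L' : C ⊗[T] C →ₗ[T] C :=
    (TensorProduct.rid T _).toLinearMap ∘ₗ ((coef (T := T) m).comp (φ : C →ₗ[T] MonoidAlgebra T M)).lTensor _
  refine ⟨L' (Coalgebra.comul (R := T) c), ?_⟩
  have h1 : ∀ z : C ⊗[T] C, φ (L' z) = L (TensorProduct.map (φ : C →ₗ[T] MonoidAlgebra T M) (φ : C →ₗ[T] MonoidAlgebra T M) z) := by
    intro z
    induction z with
    | zero => simp
    | add a b ha hb => simp only [map_add, ha, hb]
    | tmul a b => simp [L, L', map_smul]
  rw [h1, show TensorProduct.map (φ : C →ₗ[T] MonoidAlgebra T M) (φ : C →ₗ[T] MonoidAlgebra T M)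
    (Coalgebra.comul (R := T) c) = Coalgebra.comul (R := T) (φ c) from CoalgHomClass.map_comp_comul_apply φ c]
  have h2 : ∀ y : MonoidAlgebra T M, L (Coalgebra.comul (R := T) y) = MonoidAlgebra.single m (y.coeff m) := by
    intro y
    induction y using MonoidAlgebra.induction_linear with
    | zero => simp
    | add f g hf hg => simp only [map_add, hf, hg, MonoidAlgebra.coeff_add, Finsupp.add_apply, MonoidAlgebra.single_add]
    | single k r =>
      by_cases hk : k = m
      · subst hk
        simp [L]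
      · simp [L, Finsupp.single_apply, hk]
  exact h2 _

theorem mem_charGroup_of_isUnit {c : C} {m : M} (h : IsUnit ((φ c).coeff m)) : m ∈ charGroup φ := by
  obtain ⟨c', hc'⟩ := exists_eq_smul_single φ c m
  obtain ⟨u, hu⟩ := h
  refine ⟨(↑u⁻¹ : T) • c', ?_⟩
  rw [map_smul, hc', MonoidAlgebra.smul_single, smul_eq_mul, ← hu, Units.inv_mul]

theorem coeff_mem_of_notMem [IsLocalRing T] {c : C} {m : M} (h : m ∉ charGroup φ) :
    (φ c).coeff m ∈ IsLocalRing.maximalIdeal T := by
  rw [IsLocalRing.mem_maximalIdeal, mem_nonunits_iff]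
  exact fun hu => h (mem_charGroup_of_isUnit φ hu)

theorem surjective_of_charGroup_eq_top (h : charGroup φ = ⊤) : Function.Surjective φ := by
  intro y
  induction y using MonoidAlgebra.induction_linear with
  | zero => exact ⟨0, map_zero _⟩
  | add f g hf hg =>
    obtain ⟨a, ha⟩ := hf
    obtain ⟨b, hb⟩ := hg
    exact ⟨a + b, by rw [map_add, ha, hb]⟩
  | single m r =>
    obtain ⟨c, hc⟩ : m ∈ charGroup φ := h ▸ Subgroup.mem_top m
    exact ⟨r • c, by rw [map_smul, hc, MonoidAlgebra.smul_single, smul_eq_mul, mul_one]⟩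

variable {R : Type u} [CommRing R] {A : Type u} [CommRing A] [HopfAlgebra R A]

/-- A group of multiplicative type is split by a cover consisting of local rings. -/
theorem exists_local_cover (h : SGA3b.IsMultType R A) :
    ∃ (ι : Type u) (L : ι → Type u) (_ : ∀ i, CommRing (L i)) (_ : ∀ i, Algebra R (L i)) (_ : ∀ i, IsLocalRing (L i)),
      IsCover R L ∧ ∀ i, SGA3b.IsDiag (L i) (L i ⊗[R] A) := by
  obtain ⟨ι, T, _, _, hT, hd⟩ := exists_cover h
  refine ⟨(i : ι) × PrimeSpectrum (T i), fun p => Localization.AtPrime p.2.asIdeal, inferInstance, inferInstance,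
    inferInstance, ⟨fun p => ?_, fun P => ?_⟩, fun p => isDiag_tower (T p.1) _ (hd p.1)⟩
  · haveI := hT.flat p.1
    exact Module.Flat.trans R (T p.1) _
  · obtain ⟨i, q, hq⟩ := hT.exists_lift P
    refine ⟨⟨i, q⟩, ⟨IsLocalRing.maximalIdeal _, inferInstance⟩, ?_⟩
    rw [IsScalarTower.algebraMap_eq R (T i) (Localization.AtPrime q.asIdeal), PrimeSpectrum.comap_comp_apply]
    rw [← hq]
    congr 1
    exact PrimeSpectrum.ext (Localization.AtPrime.under_maximalIdeal)

end Groth.Agent.SGA3b53
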