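import Groth.Agent.SGA3b53.QuotEquiv
import Groth.Agent.SGA3b53.CharGroup
import Groth.Agent.SGA3b53.Rigidity
import Mathlib

/-!
Kernels of homomorphisms out of groups of multiplicative type.
-/

set_option autoImplicit false
set_option linter.unusedSectionVars false
set_option linter.style.haveILetI false
universe u v w
open TensorProduct

noncomputable section

namespace Groth.Agent.SGA3b53

/-- Rigidity at a local base for a split source. -/
theorem eq_unit_local_diag {T : Type u} [CommRing T] [IsLocalRing T] {D : Type u} [CommRing D] [HopfAlgebra T D]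
    [Algebra.FiniteType T D] {M : Type u} [CommGroup M] (χ : D →ₐc[T] MonoidAlgebra T M)
    (hs : ∀ d m, (χ d - algebraMap T _ (Coalgebra.counit (R := T) d)).coeff m ∈ IsLocalRing.maximalIdeal T) (d : D) :
    χ d = algebraMap T _ (Coalgebra.counit (R := T) d) := by
  let ρ := monoidAlgebraBC T T M
  have hco : ∀ m (x : MonoidAlgebra T M), coord ρ m x = x.coeff m := fun m x => by
    rw [coord_apply, monoidAlgebraBC_one_tmul, Algebra.algebraMap_self, RingHom.id_apply]
  let Sv : Set T := Set.range fun z : M × D => coord ρ z.1 (χ z.2 - algebraMap T _ (Coalgebra.counit (R := T) z.2))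
  have hd : ∀ m c, coord ρ m (χ c - algebraMap T _ (Coalgebra.counit (R := T) c)) ∈ Ideal.span Sv :=
    fun m c => Ideal.subset_span ⟨(m, c), rfl⟩
  have hfg : (Ideal.span Sv).FG := by
    obtain ⟨S, hS1, hS2⟩ := exists_finset_span (χ : D →ₐ[T] MonoidAlgebra T M)
      ((Algebra.ofId T (MonoidAlgebra T M)).comp (Bialgebra.counitAlgHom T D))
    refine ⟨S, le_antisymm (Ideal.span_le.2 fun x hx => ?_) (Ideal.span_le.2 ?_)⟩
    · obtain ⟨c, m, rfl⟩ := hS1 x hx
      have := hd m c
      rw [hco] at this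
      simpa [Algebra.ofId_apply] using this
    · rintro _ ⟨⟨m, c⟩, rfl⟩
      have := hS2 c m
      change coord ρ m _ ∈ _
      rw [hco]
      simpa [Algebra.ofId_apply] using this
  have h0 : Ideal.span Sv = ⊥ := by
    refine span_eq_bot_of_sq hfg (Ideal.span_le.2 ?_) ?_
    · rintro _ ⟨⟨m, c⟩, rfl⟩
      change coord ρ m _ ∈ _
      rw [hco]
      exact hs c m
    · rintro _ ⟨⟨m, c⟩, rfl⟩
      exact coord_congr_unit_sq ρ χ _ hd m c
  refine sub_eq_zero.1 (MonoidAlgebra.ext (Finsupp.ext fun m => ?_))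
  have h1 := hd m d
  rw [h0, Ideal.mem_bot, hco] at h1
  simpa using h1

variable {R : Type u} [CommRing R] {A : Type u} [CommRing A] [HopfAlgebra R A]
variable {C : Type u} [CommRing C] [HopfAlgebra R C]

theorem sum_lift_congr' {L P : Type u} [CommRing L] [CommRing P] [Algebra L P] {M : Type u} [CommGroup M]
    (F G : M →* P) (y : MonoidAlgebra L M) (h : ∀ m, F m = G m ∨ algebraMap L P (y.coeff m) = 0) :
    MonoidAlgebra.lift L P M F y = MonoidAlgebra.lift L P M G y := by
  rw [MonoidAlgebra.lift_apply, MonoidAlgebra.lift_apply]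
  refine Finset.sum_congr rfl fun m _ => ?_
  rcases h m with h1 | h1
  · simp only [h1]
  · simp only [Algebra.smul_def, h1, zero_mul]

theorem lift_one_eq_counit {T P : Type u} [CommRing T] [CommRing P] [Algebra T P] {M : Type u} [CommGroup M]
    (y : MonoidAlgebra T M) : MonoidAlgebra.lift T P M 1 y = algebraMap T P (Coalgebra.counit (R := T) y) := by
  induction y using MonoidAlgebra.induction_linear with
  | zero => simp
  | add f g hf hg => simp only [map_add, hf, hg]
  | single m r => simp [Algebra.algebraMap_eq_smul_one]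

theorem isMultType_kernel (h : SGA3b.IsMultType R A) (hC : Algebra.FiniteType R C) (φ : C →ₐc[R] A)
    (J : Ideal A) [J.IsHopfIdeal R] (hJ : J = Ideal.map φ (RingHom.ker (Bialgebra.counitAlgHom R C))) :
    SGA3b.IsMultType R (A ⧸ J) := by
  classical
  obtain ⟨ι, _, T, _, _, hT, hd⟩ := exists_finite_cover h
  obtain ⟨S, hS⟩ := Algebra.FiniteType.out (R := R) (A := C)
  suffices key : ∀ (i : ι) (q : PrimeSpectrum (T i)), ∃ f, f ∉ q.asIdeal ∧
      SGA3b.IsDiag (Localization.Away f) (Localization.Away f ⊗[R] (A ⧸ J)) by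
    choose f hf hdiag using key
    have hspan : ∀ i, Ideal.span (Set.range (f i)) = ⊤ := fun i => by
      by_contra hne
      obtain ⟨m, hm, hle⟩ := Ideal.exists_le_maximal _ hne
      exact hf i ⟨m, hm.isPrime⟩ (hle (Ideal.subset_span ⟨_, rfl⟩))
    choose s hs1 hs2 using fun i => (Ideal.span_eq_top_iff_finite _).1 (hspan i)
    choose pre hpre using fun (i : ι) (g : T i) (hg : g ∈ (s i : Set (T i))) => hs1 i hg
    let U : ((i : ι) × (s i : Set (T i))) → Type u := fun p => Localization.Away (f p.1 (pre p.1 p.2.1 p.2.2))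
    haveI : Finite ((i : ι) × (s i : Set (T i))) := Finite.instSigma
    refine isMultType_of_cover (T := U) ⟨fun p => ?_, fun P => ?_⟩ fun p => hdiag _ _
    · haveI := hT.flat p.1
      exact Module.Flat.trans R (T p.1) _
    · obtain ⟨i, q, hq⟩ := hT.exists_lift P
      obtain ⟨g, hg, hgq⟩ : ∃ g ∈ (s i : Set (T i)), g ∉ q.asIdeal := by
        by_contra hc
        push Not at hc
        exact q.isPrime.ne_top (top_le_iff.1 (hs2 i ▸ Ideal.span_le.2 hc))
      obtain ⟨Q, hQ⟩ : q ∈ Set.range (PrimeSpectrum.comap (algebraMap (T i) (U ⟨i, g, hg⟩))) := by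
        rw [PrimeSpectrum.localization_away_comap_range (U ⟨i, g, hg⟩) (f i (pre i g hg))]
        rw [hpre]
        exact hgq
      refine ⟨⟨i, g, hg⟩, Q, ?_⟩
      rw [← hq, ← hQ, IsScalarTower.algebraMap_eq R (T i) (U ⟨i, g, hg⟩), PrimeSpectrum.comap_comp_apply]
  intro i q
  obtain ⟨M, _, ⟨ρ⟩⟩ := hd i
  let α : C → MonoidAlgebra (T i) M := fun c => ρ ((1 : T i) ⊗ₜ[R] φ c)
  let F₀ : Finset M := (S.biUnion fun c => (α c).coeff.support).filter fun m => ∃ c ∈ S, (α c).coeff m ∉ q.asIdeal
  choose c₀ hc₀ hc₀q using fun m : {m // m ∈ F₀} => (Finset.mem_filter.1 m.2).2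
  let N := Subgroup.closure (F₀ : Set M)
  let L := Localization.AtPrime q.asIdeal
  obtain ⟨ρL, hρL⟩ := exists_split_map (IsScalarTower.toAlgHom R (T i) L) ρ
  let χ : L ⊗[R] C →ₐc[L] MonoidAlgebra L (M ⧸ N) :=
    ((MonoidAlgebra.mapDomainBialgHom L (QuotientGroup.mk' N)).comp
      (ρL : L ⊗[R] A →ₐc[L] MonoidAlgebra L M)).comp (Bialgebra.TensorProduct.map (BialgHom.id L L) φ)
  have hα : ∀ c : C, χ ((1 : L) ⊗ₜ[R] c) = MonoidAlgebra.mapDomainBialgHom L (QuotientGroup.mk' N)
      (MonoidAlgebra.mapRingHom M (algebraMap (T i) L) (α c)) := by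
    intro c
    have h1 := hρL ((1 : T i) ⊗ₜ[R] φ c)
    rw [Algebra.TensorProduct.map_tmul, map_one, AlgHom.id_apply] at h1
    change MonoidAlgebra.mapDomainBialgHom L (QuotientGroup.mk' N) (ρL ((1 : L) ⊗ₜ[R] φ c)) = _
    rw [h1]
    rfl
  let κ := IsLocalRing.ResidueField L
  let red : MonoidAlgebra L (M ⧸ N) →ₐ[L] MonoidAlgebra κ (M ⧸ N) :=
    MonoidAlgebra.lift L (MonoidAlgebra κ (M ⧸ N)) (M ⧸ N) (MonoidAlgebra.of κ (M ⧸ N))
  have hred : ∀ y m, (red y).coeff m = IsLocalRing.residue L (y.coeff m) := by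
    intro y m
    induction y using MonoidAlgebra.induction_linear with
    | zero => simp
    | add f g hf hg => simp only [map_add, MonoidAlgebra.coeff_add, Finsupp.add_apply, hf, hg]
    | single k r =>
      simp only [red, MonoidAlgebra.lift_single, MonoidAlgebra.of_apply, MonoidAlgebra.coeff_smul, Finsupp.smul_apply,
        MonoidAlgebra.coeff_single, Finsupp.single_apply]
      by_cases hk : k = m
      · subst hk
        simp [Algebra.smul_def]
        rfl
      · simp [hk]
  have hmod : red.comp (χ : L ⊗[R] C →ₐ[L] MonoidAlgebra L (M ⧸ N)) =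
      (Algebra.ofId L _).comp (Bialgebra.counitAlgHom L (L ⊗[R] C)) := by
    refine Algebra.TensorProduct.ext (Subsingleton.elim _ _) (AlgHom.ext_of_adjoin_eq_top hS fun c hc => ?_)
    change red (χ ((1 : L) ⊗ₜ[R] c)) = algebraMap L _ (Coalgebra.counit (R := L) ((1 : L) ⊗ₜ[R] c))
    rw [← CoalgHomClass.counit_comp_apply χ, hα]
    have h1 : ∀ y : MonoidAlgebra L M, red (MonoidAlgebra.mapDomainBialgHom L (QuotientGroup.mk' N) y) =
        MonoidAlgebra.lift L (MonoidAlgebra κ (M ⧸ N)) M ((MonoidAlgebra.of κ (M ⧸ N)).comp (QuotientGroup.mk' N)) y := by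
      intro y
      induction y using MonoidAlgebra.induction_linear with
      | zero => simp
      | add f g hf hg => simp only [map_add, hf, hg]
      | single m r => simp [red]
    rw [h1, CoalgHomClass.counit_comp_apply, ← lift_one_eq_counit]
    refine sum_lift_congr' _ _ _ fun m => ?_
    by_cases hm : m ∈ N
    · left
      simp only [MonoidHom.comp_apply, MonoidHom.one_apply]
      rw [show QuotientGroup.mk' N m = 1 from (QuotientGroup.eq_one_iff m).2 hm, map_one]
    · right
      have hq : (α c).coeff m ∈ q.asIdeal := by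
        by_contra hq
        refine hm (Subgroup.subset_closure (Finset.mem_coe.2 (Finset.mem_filter.2 ⟨Finset.mem_biUnion.2
          ⟨c, hc, Finsupp.mem_support_iff.2 fun h0 => hq (h0 ▸ q.asIdeal.zero_mem)⟩, c, hc, hq⟩)))
      rw [show (MonoidAlgebra.mapRingHom M (algebraMap (T i) L) (α c)).coeff m = algebraMap (T i) L ((α c).coeff m) by simp,
        IsScalarTower.algebraMap_apply L κ (MonoidAlgebra κ (M ⧸ N)), IsLocalRing.ResidueField.algebraMap_eq]
      rw [show IsLocalRing.residue L (algebraMap (T i) L ((α c).coeff m)) = 0 from Ideal.Quotient.eq_zero_iff_mem.2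
        ((IsLocalization.AtPrime.to_map_mem_maximal_iff L q.asIdeal _).2 hq), map_zero]
  have hunit : ∀ z, χ z = algebraMap L _ (Coalgebra.counit (R := L) z) := by
    refine eq_unit_local_diag χ fun d m => Ideal.Quotient.eq_zero_iff_mem.1 ?_
    change IsLocalRing.residue L _ = 0
    rw [← hred, map_sub]
    have h1 := DFunLike.congr_fun hmod d
    change red (χ d) = algebraMap L _ (Coalgebra.counit (R := L) d) at h1
    rw [h1, AlgHom.commutes, sub_self]
    simp
  have hmd : ∀ {U : Type u} [CommRing U] [Algebra (T i) U] (y : MonoidAlgebra (T i) M) (n : M ⧸ N),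
      algebraMap (T i) U ((MonoidAlgebra.mapDomainBialgHom (T i) (QuotientGroup.mk' N) y).coeff n) =
        (MonoidAlgebra.mapDomainBialgHom U (QuotientGroup.mk' N) (MonoidAlgebra.mapRingHom M (algebraMap (T i) U) y)).coeff n := by
    intro U _ _ y n
    induction y using MonoidAlgebra.induction_linear with
    | zero => simp
    | add f g hf hg => simp only [map_add, MonoidAlgebra.coeff_add, Finsupp.add_apply, hf, hg]
    | single m r =>
      simp only [MonoidAlgebra.mapRingHom_single, MonoidAlgebra.mapDomainBialgHom_single, MonoidAlgebra.coeff_single,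
        Finsupp.single_apply]
      split_ifs <;> simp
  let z : C → MonoidAlgebra (T i) (M ⧸ N) := fun c =>
    MonoidAlgebra.mapDomainBialgHom (T i) (QuotientGroup.mk' N) (α c) -
      algebraMap (T i) _ (algebraMap R (T i) (Coalgebra.counit (R := R) c))
  have hz : ∀ c n, ∃ g, g ∉ q.asIdeal ∧ g * (z c).coeff n = 0 := by
    intro c n
    have h1 : algebraMap (T i) L ((z c).coeff n) = 0 := by
      have h2 := hunit ((1 : L) ⊗ₜ[R] c)
      rw [hα, TensorProduct.counit_tmul, CommSemiring.counit_apply, Algebra.smul_def, mul_one] at h2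
      simp only [z, MonoidAlgebra.coeff_sub, Finsupp.sub_apply, map_sub, hmd]
      rw [h2, sub_eq_zero]
      simp only [MonoidAlgebra.coe_algebraMap, Function.comp_apply, MonoidAlgebra.coeff_single, Finsupp.single_apply]
      split_ifs <;> simp [← IsScalarTower.algebraMap_apply]
    obtain ⟨⟨g, hg⟩, hg'⟩ := (IsLocalization.map_eq_zero_iff q.asIdeal.primeCompl L _).1 h1
    exact ⟨g, hg, hg'⟩
  choose g hgq hg using hz
  let f : T i := (∏ m : {m // m ∈ F₀}, (α (c₀ m)).coeff m.1) * ∏ c ∈ S, ∏ n ∈ (z c).coeff.support, g c n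
  have hfq : f ∉ q.asIdeal := by
    haveI := q.isPrime
    refine Ideal.IsPrime.mul_notMem ‹_› ?_ ?_
    · rw [Ideal.IsPrime.prod_mem_iff]
      push Not
      exact fun m _ => hc₀q m
    · rw [Ideal.IsPrime.prod_mem_iff]
      push Not
      intro c _
      rw [Ideal.IsPrime.prod_mem_iff]
      push Not
      exact fun n _ => hgq c n
  refine ⟨f, hfq, ?_⟩
  let T' := Localization.Away f
  have hfu : IsUnit (algebraMap (T i) T' f) := IsLocalization.Away.algebraMap_isUnit f
  obtain ⟨ρ', hρ'⟩ := exists_split_map (IsScalarTower.toAlgHom R (T i) T') ρ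
  have hρ'' : ∀ c : C, ρ' ((1 : T') ⊗ₜ[R] φ c) = MonoidAlgebra.mapRingHom M (algebraMap (T i) T') (α c) := by
    intro c
    have h1 := hρ' ((1 : T i) ⊗ₜ[R] φ c)
    rw [Algebra.TensorProduct.map_tmul, map_one, AlgHom.id_apply] at h1
    exact h1
  let φ' : T' ⊗[R] C →ₐc[T'] MonoidAlgebra T' M :=
    (ρ' : T' ⊗[R] A →ₐc[T'] MonoidAlgebra T' M).comp (Bialgebra.TensorProduct.map (BialgHom.id T' T') φ)
  have hN : N ≤ charGroup φ' := (Subgroup.closure_le _).2 fun m hm => by
    refine mem_charGroup_of_isUnit φ' (c := (1 : T') ⊗ₜ[R] c₀ ⟨m, hm⟩) ?_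
    change IsUnit ((ρ' ((1 : T') ⊗ₜ[R] φ (c₀ ⟨m, hm⟩))).coeff m)
    rw [hρ'']
    rw [show (MonoidAlgebra.mapRingHom M (algebraMap (T i) T') (α (c₀ ⟨m, hm⟩))).coeff m =
      algebraMap (T i) T' ((α (c₀ ⟨m, hm⟩)).coeff m) by simp]
    exact isUnit_of_dvd_unit (map_dvd _ (dvd_mul_of_dvd_left (Finset.dvd_prod_of_mem (fun m : {m // m ∈ F₀} => (α (c₀ m)).coeff m.1) (Finset.mem_univ ⟨m, hm⟩)) _)) hfu
  have hφJ : ∀ c : C, Ideal.Quotient.mk J (φ c) = algebraMap R (A ⧸ J) (Coalgebra.counit (R := R) c) := by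
    intro c
    have h1 : c - algebraMap R C (Coalgebra.counit (R := R) c) ∈ RingHom.ker (Bialgebra.counitAlgHom R C) := by
      rw [RingHom.mem_ker, map_sub, AlgHom.commutes, sub_eq_zero]
      rfl
    have h2 : φ (c - algebraMap R C (Coalgebra.counit (R := R) c)) ∈ J := hJ ▸ Ideal.mem_map_of_mem _ h1
    rw [map_sub, show φ (algebraMap R C (Coalgebra.counit (R := R) c)) = algebraMap R A (Coalgebra.counit (R := R) c) from
      AlgHomClass.commutes φ _] at h2
    exact Ideal.Quotient.eq.2 h2
  suffices H : Nonempty (MonoidAlgebra T' (M ⧸ N) ≃ₐc[T'] T' ⊗[R] (A ⧸ J)) by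
    obtain ⟨e⟩ := H
    exact ⟨_, inferInstance, ⟨e.symm⟩⟩
  refine exists_quotient_equiv ρ' N J (fun l hl => ?_) (fun a ha => ?_)
  · obtain ⟨w, hw⟩ := hN hl
    have h1 : ρ'.symm (MonoidAlgebra.single l 1) = Bialgebra.TensorProduct.map (BialgHom.id T' T') φ w := by
      rw [← hw]
      exact ρ'.symm_apply_apply _
    rw [h1]
    have h2 : ∀ v : T' ⊗[R] C, Bialgebra.TensorProduct.map (BialgHom.id T' T') (Bialgebra.Quotient.mkBialgHom (R := R) J)
        (Bialgebra.TensorProduct.map (BialgHom.id T' T') φ v) = algebraMap T' _ (Coalgebra.counit (R := T') v) := by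
      intro v
      induction v with
      | zero => simp
      | add a b ha hb => simp only [map_add, ha, hb]
      | tmul t c =>
        simp only [Bialgebra.TensorProduct.map_tmul, BialgHom.id_apply, Bialgebra.Quotient.mkBialgHom_apply, hφJ,
          TensorProduct.counit_tmul, CommSemiring.counit_apply]
        rw [Algebra.algebraMap_eq_smul_one, TensorProduct.tmul_smul, TensorProduct.smul_tmul',
          Algebra.TensorProduct.algebraMap_apply, Algebra.algebraMap_self, RingHom.id_apply]
    rw [h2, ← CoalgHomClass.counit_comp_apply φ', hw]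
    simp [Algebra.TensorProduct.one_def]
  · let Pz : C →ₐ[R] MonoidAlgebra T' (M ⧸ N) :=
      (((MonoidAlgebra.mapDomainBialgHom T' (QuotientGroup.mk' N) : MonoidAlgebra T' M →ₐ[T'] MonoidAlgebra T' (M ⧸ N)).comp
        (φ' : T' ⊗[R] C →ₐ[T'] MonoidAlgebra T' M)).restrictScalars R).comp Algebra.TensorProduct.includeRight
    have hPz : Pz = (Algebra.ofId R _).comp (Bialgebra.counitAlgHom R C) := by
      refine AlgHom.ext_of_adjoin_eq_top hS fun c hc => ?_
      change MonoidAlgebra.mapDomainBialgHom T' (QuotientGroup.mk' N) (ρ' ((1 : T') ⊗ₜ[R] φ c)) =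
        algebraMap R _ (Coalgebra.counit (R := R) c)
      rw [hρ'']
      refine MonoidAlgebra.ext (Finsupp.ext fun n => ?_)
      rw [← hmd, ← sub_eq_zero]
      have h1 : algebraMap (T i) T' ((z c).coeff n) = 0 := by
        by_cases hn : (z c).coeff n = 0
        · rw [hn, map_zero]
        have hdvd : g c n ∣ f := dvd_mul_of_dvd_right ((Finset.dvd_prod_of_mem _ (Finsupp.mem_support_iff.2 hn)).trans
          (Finset.dvd_prod_of_mem (fun c => ∏ n ∈ (z c).coeff.support, g c n) hc)) _
        exact (isUnit_of_dvd_unit (map_dvd _ hdvd) hfu).mul_right_eq_zero.1 (by rw [← map_mul, hg, map_zero])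
      refine Eq.trans ?_ h1
      simp only [z, MonoidAlgebra.coeff_sub, Finsupp.sub_apply, map_sub]
      congr 1
      simp only [MonoidAlgebra.coe_algebraMap, Function.comp_apply, MonoidAlgebra.coeff_single, Finsupp.single_apply]
      split_ifs <;> simp [← IsScalarTower.algebraMap_apply]
    have hle : J ≤ RingHom.ker ((((MonoidAlgebra.mapDomainBialgHom T' (QuotientGroup.mk' N) :
        MonoidAlgebra T' M →ₐ[T'] MonoidAlgebra T' (M ⧸ N)).comp (ρ' : T' ⊗[R] A →ₐ[T'] MonoidAlgebra T' M)).restrictScalars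
          R).comp Algebra.TensorProduct.includeRight) := by
      rw [hJ, Ideal.map_le_iff_le_comap]
      intro c hc
      rw [Ideal.mem_comap, RingHom.mem_ker]
      refine (DFunLike.congr_fun hPz c).trans ?_
      change algebraMap R _ (Bialgebra.counitAlgHom R C c) = 0
      rw [RingHom.mem_ker.1 hc, map_zero]
    exact hle ha

end Groth.Agent.SGA3b53
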