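import Groth.Agent.SGA3b53.UnitLocus
import Groth.Agent.SGA3b53.DiagLift
import Mathlib

/-!
Groups of multiplicative type generated by characters over a connected base.
-/

set_option autoImplicit false
set_option linter.unusedSectionVars false
set_option linter.style.haveILetI false
universe u v w
open TensorProduct

noncomputable section

namespace Groth.Agent.SGA3b53

theorem smul_eq_smul_single {T : Type u} [CommRing T] {M : Type u} [CommGroup M] {x : MonoidAlgebra T M}
    (hx : IsGroupLikeElem T x) (f : T) (k : M) (h : f * x.coeff k = f) : f • x = MonoidAlgebra.single k f := by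
  classical
  refine MonoidAlgebra.ext (Finsupp.ext fun m => ?_)
  simp only [MonoidAlgebra.coeff_smul, Finsupp.smul_apply, MonoidAlgebra.coeff_single, Finsupp.single_apply,
    smul_eq_mul]
  by_cases hm : k = m
  · subst hm; simpa using h
  · rw [if_neg hm, ← h, mul_assoc, grouplike_coeff_mul hx, if_neg hm, mul_zero]

variable {R : Type u} [CommRing R] {B : Type u} [CommRing B] [HopfAlgebra R B]

theorem isDiag_of_generators [Nontrivial R] (hconn : ∀ e : R, IsIdempotentElem e → e = 0 ∨ e = 1)
    (h : SGA3b.IsMultType R B) {M : Type u} [CommGroup M] (π : MonoidAlgebra R M →ₐc[R] B)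
    (hπ : Function.Surjective π) : SGA3b.IsDiag R B := by
  let φ : M →* B := ((π : MonoidAlgebra R M →ₐ[R] B) : MonoidAlgebra R M →* B).comp (MonoidAlgebra.of R M)
  have hφ : ∀ m, IsGroupLikeElem R (φ m) := fun m => (MonoidAlgebra.isGroupLikeElem_of (R := R) m).map π
  let φ' : M →* Bˣ := φ.toHomUnits
  let N := M ⧸ φ'.ker
  let ψ : N →* B := (Units.coeHom B).comp (QuotientGroup.kerLift φ')
  have hψi : Function.Injective ψ := fun a b hab => QuotientGroup.kerLift_injective φ' (Units.ext hab)
  have hψ : ∀ n, IsGroupLikeElem R (ψ n) := by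
    intro n
    obtain ⟨m, rfl⟩ := QuotientGroup.mk_surjective n
    exact hφ m
  obtain ⟨θ, hθ⟩ := exists_bialgHom_of_grouplike ψ hψ
  refine ⟨N, inferInstance, ⟨(BialgEquiv.ofBijective θ ⟨?_, ?_⟩).symm⟩⟩
  swap
  · intro b
    obtain ⟨x, rfl⟩ := hπ b
    induction x using MonoidAlgebra.induction_linear with
    | zero => exact ⟨0, by simp⟩
    | add f g hf hg =>
      obtain ⟨a, ha⟩ := hf
      obtain ⟨c, hc⟩ := hg
      exact ⟨a + c, by rw [map_add, map_add, ha, hc]⟩
    | single m r =>
      refine ⟨MonoidAlgebra.single (QuotientGroup.mk m : N) r, ?_⟩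
      rw [hθ, show MonoidAlgebra.single m r = r • MonoidAlgebra.of R M m by simp, map_smul]
      rfl
  obtain ⟨ι, T, _, _, hT, hd⟩ := exists_cover h
  rw [injective_iff_map_eq_zero]
  intro x hx
  refine MonoidAlgebra.ext (Finsupp.ext fun n => hT.eq_zero fun i => ?_)
  obtain ⟨P, _, ⟨ρ⟩⟩ := hd i
  apply (TensorProduct.rid R (T i)).injective
  rw [TensorProduct.rid_tmul, map_zero, Algebra.smul_def, mul_one]
  let X : N → MonoidAlgebra (T i) P := fun n => ρ ((1 : T i) ⊗ₜ ψ n)
  have hX : ∀ n, IsGroupLikeElem (T i) (X n) := fun n => (isGroupLike_one_tmul (hψ n)).map ρ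
  have hXm : ∀ a b, X (a * b) = X a * X b := fun a b => by
    simp only [X, map_mul, ← map_mul ρ, Algebra.TensorProduct.tmul_mul_tmul, mul_one]
  have horth : ∀ a b, a ≠ b → ∀ k, (X a).coeff k * (X b).coeff k = 0 := by
    intro a b hab k
    obtain ⟨e, hei, he1, he2⟩ := exists_unit_locus h (hψ (a * b⁻¹))
    rcases hconn e hei with h0 | h0
    · have h1 : (X (a * b⁻¹)).coeff 1 = 0 := by rw [← he2 ρ, h0, map_zero]
      let f := (X a).coeff k * (X b).coeff k
      have hfa : f * (X a).coeff k = f := by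
        rw [mul_comm (f : T i), ← mul_assoc, (grouplike_coeff_idem (hX a) k).eq]
      have hfb : f * (X b).coeff k = f := by rw [mul_assoc, (grouplike_coeff_idem (hX b) k).eq]
      have h2 : f • X a = f • X b := by
        rw [smul_eq_smul_single (hX a) f k hfa, smul_eq_smul_single (hX b) f k hfb]
      have h3 : f • X (a * b⁻¹) = f • (1 : MonoidAlgebra (T i) P) := by
        rw [hXm, ← smul_mul_assoc, h2, smul_mul_assoc, ← hXm, mul_inv_cancel]
        simp [X, ← Algebra.TensorProduct.one_def]
      have h4 := congrArg (fun z : MonoidAlgebra (T i) P => z.coeff 1) h3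
      simp only [MonoidAlgebra.coeff_smul, Finsupp.smul_apply, h1, smul_eq_mul, mul_zero] at h4
      simpa [MonoidAlgebra.one_def] using h4.symm
    · rw [h0, one_smul, one_smul, ← map_one ψ] at he1
      exact absurd (mul_inv_eq_one.1 (hψi he1)) hab
  have hz : ∀ k, (x.coeff.sum fun a r => algebraMap R (T i) r * (X a).coeff k) = 0 := by
    intro k
    have h1 : ∀ y : MonoidAlgebra R N, (ρ ((1 : T i) ⊗ₜ θ y)).coeff k =
        y.coeff.sum fun a r => algebraMap R (T i) r * (X a).coeff k := by
      intro y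
      conv_lhs => rw [← y.sum_coeff_single]
      simp only [Finsupp.sum, map_sum, TensorProduct.tmul_sum, hθ, MonoidAlgebra.coeff_sum, Finsupp.finsetSum_apply]
      refine Finset.sum_congr rfl fun a _ => ?_
      rw [TensorProduct.tmul_smul, ← algebraMap_smul (T i) _ ((1 : T i) ⊗ₜ[R] ψ a), map_smul,
        MonoidAlgebra.coeff_smul, Finsupp.smul_apply, smul_eq_mul]
    rw [← h1, hx]
    simp
  have hk : ∀ k, algebraMap R (T i) (x.coeff n) * (X n).coeff k = 0 := by
    intro k
    classical
    have h1 := congrArg (· * (X n).coeff k) (hz k)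
    simp only [Finsupp.sum, Finset.sum_mul, zero_mul] at h1
    rw [Finset.sum_eq_single n] at h1
    · rwa [mul_assoc, (grouplike_coeff_idem (hX n) k).eq] at h1
    · intro a _ ha
      rw [mul_assoc, horth a n ha, mul_zero]
    · intro hn
      rw [Finsupp.notMem_support_iff.1 hn, map_zero, zero_mul, zero_mul]
  have h1 : ∑ k ∈ (X n).coeff.support, algebraMap R (T i) (x.coeff n) * (X n).coeff k = 0 :=
    Finset.sum_eq_zero fun k _ => hk k
  have h2 := (hX n).counit_eq_one
  rw [counit_eq_sum, Finsupp.sum] at h2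
  rwa [← Finset.mul_sum, h2, mul_one] at h1

theorem subgroup_isDiag_of_connected {A : Type u} [CommRing A] [HopfAlgebra R A] [Nontrivial R]
    (hconn : ∀ e : R, IsIdempotentElem e → e = 0 ∨ e = 1) (hG : SGA3b.IsDiag R A) (J : Ideal A) [J.IsHopfIdeal R]
    (hH : SGA3b.IsMultType R (A ⧸ J)) : SGA3b.IsDiag R (A ⧸ J) := by
  obtain ⟨M, _, ⟨ρ⟩⟩ := hG
  exact isDiag_of_generators hconn hH
    ((Bialgebra.Quotient.mkBialgHom (R := R) J).comp (ρ.symm : MonoidAlgebra R M →ₐc[R] A))
    ((Ideal.Quotient.mk_surjective).comp (EquivLike.surjective ρ.symm))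

end Groth.Agent.SGA3b53
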