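import Groth.Agent.SGA3b53.InfNbhdMain

/-!
# Noetherian models of a smooth algebra with a section
-/

set_option autoImplicit false
universe u

open TensorProduct

namespace Groth.Agent.SGA3b53.InfNbhd

/-- Enlarge a model so that it contains a given section and given elements. -/
theorem exists_model_step {A0 R B B0 : Type u} [CommRing A0] [IsNoetherianRing A0] [CommRing R]
    [Algebra A0 R] [CommRing B] [Algebra R B] [CommRing B0] [Algebra A0 B0] [Algebra.Smooth A0 B0]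
    (Φ₀ : R ⊗[A0] B0 ≃ₐ[R] B) (e : B →ₐ[R] R) (G : Finset B) :
    ∃ (R1 : Type u) (_ : CommRing R1) (_ : IsNoetherianRing R1) (_ : Algebra R1 R)
      (B1 : Type u) (_ : CommRing B1) (_ : Algebra R1 B1) (_ : Algebra.Smooth R1 B1)
      (Φ : R ⊗[R1] B1 ≃ₐ[R] B) (e1 : B1 →ₐ[R1] R1),
      (∀ b, algebraMap R1 R (e1 b) = e (Φ (1 ⊗ₜ[R1] b))) ∧ ∀ j ∈ G, ∃ b, Φ (1 ⊗ₜ[R1] b) = j := by
  classical
  obtain ⟨gens, hgens⟩ := Algebra.FiniteType.out (R := A0) (A := B0)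
  choose T hT using fun j : B => TensorProduct.exists_finset (Φ₀.symm j)
  let f : B0 →ₐ[A0] R :=
    ((e.comp Φ₀.toAlgHom).restrictScalars A0).comp Algebra.TensorProduct.includeRight
  let S : Finset R := gens.image f ∪ G.biUnion fun j => (T j).image Prod.fst
  let A1 : Subalgebra A0 R := Algebra.adjoin A0 (S : Set R)
  have : Algebra.FiniteType A0 A1 := (Subalgebra.fg_iff_finiteType _).1 (Subalgebra.fg_adjoin_finset S)
  have : IsNoetherianRing A1 := Algebra.FiniteType.isNoetherianRing A0 _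
  have hS : ∀ r ∈ S, r ∈ A1 := fun r hr => Algebra.subset_adjoin hr
  have hf : ∀ b, f b ∈ A1 := fun b => by
    have hb : b ∈ Algebra.adjoin A0 (gens : Set B0) := by rw [hgens]; trivial
    have hle : Algebra.adjoin A0 (gens : Set B0) ≤ A1.comap f := Algebra.adjoin_le fun g hg =>
      hS _ (Finset.mem_union_left _ (Finset.mem_image_of_mem f hg))
    exact hle hb
  let Φ : R ⊗[A1] (A1 ⊗[A0] B0) ≃ₐ[R] B :=
    (Algebra.TensorProduct.cancelBaseChange A0 A1 R R B0).trans Φ₀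
  let e1 : A1 ⊗[A0] B0 →ₐ[A1] A1 :=
    Algebra.TensorProduct.lift (AlgHom.id A1 A1) (f.codRestrict A1 hf) fun _ _ => .all _ _
  have hΦ : ∀ (a : A1) (b : B0), Φ (1 ⊗ₜ[A1] (a ⊗ₜ[A0] b)) = Φ₀ ((a : R) ⊗ₜ[A0] b) := fun a b => by
    simp [Φ, Algebra.smul_def]
  refine ⟨A1, inferInstance, inferInstance, inferInstance, A1 ⊗[A0] B0, inferInstance,
    inferInstance, inferInstance, Φ, e1, fun b => ?_, fun j hj => ?_⟩
  · induction b using TensorProduct.induction_on with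
    | zero => simp
    | add x y hx hy => rw [map_add, map_add, tmul_add, map_add, map_add, hx, hy]
    | tmul a b =>
      rw [hΦ]
      rw [show (a : R) ⊗ₜ[A0] b = (a : R) • ((1 : R) ⊗ₜ[A0] b) by simp [smul_tmul'], map_smul, map_smul]
      simp [e1, f]
  · refine ⟨∑ p ∈ (T j).attach, (⟨p.1.1, hS _ (Finset.mem_union_right _ (Finset.mem_biUnion.2
      ⟨j, hj, Finset.mem_image_of_mem _ p.2⟩))⟩ : A1) ⊗ₜ[A0] p.1.2, ?_⟩
    rw [tmul_sum, map_sum]
    simp only [hΦ]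
    rw [← map_sum, Finset.sum_attach (T j) (fun p => p.1 ⊗ₜ[A0] p.2), ← hT j,
      AlgEquiv.apply_symm_apply]

theorem exists_model {R B : Type u} [CommRing R] [CommRing B] [Algebra R B] [Algebra.Smooth R B]
    (e : B →ₐ[R] R) (G : Finset B) :
    ∃ (R1 : Type u) (_ : CommRing R1) (_ : IsNoetherianRing R1) (_ : Algebra R1 R)
      (B1 : Type u) (_ : CommRing B1) (_ : Algebra R1 B1) (_ : Algebra.Smooth R1 B1)
      (Φ : R ⊗[R1] B1 ≃ₐ[R] B) (e1 : B1 →ₐ[R1] R1),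
      (∀ b, algebraMap R1 R (e1 b) = e (Φ (1 ⊗ₜ[R1] b))) ∧ ∀ j ∈ G, ∃ b, Φ (1 ⊗ₜ[R1] b) = j := by
  obtain ⟨A₀, B₀, _, _, hfg, hsm, ⟨Φ₀⟩⟩ := Algebra.Smooth.exists_subalgebra_fg ℤ R B
  have : Algebra.FiniteType ℤ A₀ := (Subalgebra.fg_iff_finiteType _).1 hfg
  have : IsNoetherianRing A₀ := Algebra.FiniteType.isNoetherianRing ℤ _
  exact exists_model_step Φ₀.symm e G

/-- Transfer of the infinitesimal condition to the model. -/
theorem vanish_model {R1 R B B1 : Type u} [CommRing R1] [CommRing R] [Algebra R1 R] [CommRing B]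
    [Algebra R B] [CommRing B1] [Algebra R1 B1] (Φ : R ⊗[R1] B1 ≃ₐ[R] B) (e : B →ₐ[R] R)
    (e1 : B1 →ₐ[R1] R1) (he : ∀ b, algebraMap R1 R (e1 b) = e (Φ (1 ⊗ₜ[R1] b))) (n : ℕ)
    (R' : Type u) [CommRing R'] [Algebra R R'] [Algebra R1 R'] [IsScalarTower R1 R R'] (x : B1)
    (h : (1 : R') ⊗ₜ[R] Ideal.Quotient.mk (RingHom.ker e ^ (n + 1)) (Φ (1 ⊗ₜ[R1] x)) = 0) :
    (1 : R') ⊗ₜ[R1] Ideal.Quotient.mk (RingHom.ker e1 ^ (n + 1)) x = 0 := by
  let M := B1 ⧸ RingHom.ker e1 ^ (n + 1)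
  let g : B1 →ₐ[R1] R' ⊗[R1] M :=
    Algebra.TensorProduct.includeRight.comp (Ideal.Quotient.mkₐ R1 _)
  let F₀ : R ⊗[R1] B1 →ₐ[R] R' ⊗[R1] M :=
    Algebra.TensorProduct.lift (Algebra.ofId R _) g fun _ _ => .all _ _
  let F : B →ₐ[R] R' ⊗[R1] M := F₀.comp Φ.symm.toAlgHom
  let N : Ideal (R' ⊗[R1] M) := (RingHom.ker e1).map g
  have hN : N ^ (n + 1) = ⊥ := by
    rw [← Ideal.map_pow, Ideal.map_eq_bot_iff_le_ker]
    intro b hb
    rw [RingHom.mem_ker]
    simp [g, M, Ideal.Quotient.mkₐ_eq_mk, Ideal.Quotient.eq_zero_iff_mem.2 hb]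
  have key : ∀ w, F₀ w - algebraMap R _ (e (Φ w)) ∈ N := fun w => by
    induction w using TensorProduct.induction_on with
    | zero => simp
    | add u v hu hv =>
      rw [map_add, map_add Φ, map_add e, map_add (algebraMap R (R' ⊗[R1] M)), add_sub_add_comm]
      exact add_mem hu hv
    | tmul r b =>
      rw [show r ⊗ₜ[R1] b = algebraMap R (R ⊗[R1] B1) r * ((1 : R) ⊗ₜ[R1] b) by simp,
        map_mul, map_mul Φ, map_mul e, map_mul (algebraMap R (R' ⊗[R1] M)), AlgHom.commutes,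
        AlgEquiv.commutes, AlgHom.commutes, Algebra.algebraMap_self, RingHom.id_apply, ← mul_sub]
      refine Ideal.mul_mem_left _ _ ?_
      have hmem : g (b - algebraMap R1 B1 (e1 b)) ∈ N := Ideal.mem_map_of_mem g (by simp)
      rw [map_sub, g.commutes] at hmem
      rwa [← he, ← IsScalarTower.algebraMap_apply, show F₀ (1 ⊗ₜ[R1] b) = g b by simp [F₀]]
  have hker : RingHom.ker e ≤ N.comap F := fun b hb => by
    have := key (Φ.symm b)
    rwa [Φ.apply_symm_apply, show e b = 0 from hb, map_zero, sub_zero] at this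
  have hF : ∀ b ∈ RingHom.ker e ^ (n + 1), F b = 0 := fun b hb => by
    have h' := (Ideal.pow_right_mono hker (n + 1)).trans (Ideal.le_comap_pow F (n + 1)) hb
    rwa [Ideal.mem_comap, hN, Ideal.mem_bot] at h'
  let L : R' ⊗[R] (B ⧸ RingHom.ker e ^ (n + 1)) →ₐ[R'] R' ⊗[R1] M :=
    Algebra.TensorProduct.lift (Algebra.ofId R' _) (Ideal.Quotient.liftₐ _ F hF) fun _ _ => .all _ _
  have := congrArg L h
  simpa [L, F, F₀, g, M, Ideal.Quotient.mkₐ_eq_mk] using this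

end Groth.Agent.SGA3b53.InfNbhd
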