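import Mathlib

/-!
A formal homomorphism from a diagonalisable group to an affine group over an adically complete
Noetherian ring is algebraic.
-/

set_option autoImplicit false
set_option linter.unusedSectionVars false
set_option linter.style.haveILetI false
universe u v w
open TensorProduct

noncomputable section

namespace Groth.Agent.SGA3b53

section MonoidAlgebra

variable {R : Type u} [CommRing R] {M : Type u} [CommGroup M]

open scoped Classical in
theorem repr_comul_monoidAlgebra (z : MonoidAlgebra R M) (a c : M) :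
    ((MonoidAlgebra.basis M R).tensorProduct (MonoidAlgebra.basis M R)).repr (Coalgebra.comul (R := R) z) (a, c) =
      if a = c then z.coeff a else 0 := by
  induction z using MonoidAlgebra.induction_linear with
  | zero => simp
  | add x y hx hy =>
    simp only [map_add, Finsupp.add_apply, hx, hy, MonoidAlgebra.coeff_add]
    by_cases h : a = c <;> simp [h]
  | single m r =>
    rw [MonoidAlgebra.comul_single, CommSemiring.comul_apply, TensorProduct.map_tmul,
      Module.Basis.tensorProduct_repr_tmul_apply]
    simp only [MonoidAlgebra.basis, MonoidAlgebra.lsingle_apply, MonoidAlgebra.coeffLinearEquiv_apply,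
      MonoidAlgebra.coeff_single, Finsupp.single_apply, smul_eq_mul]
    by_cases ha : m = a
    · subst ha
      by_cases hc : m = c <;> simp [hc]
    · by_cases hc : m = c
      · subst hc; simp [ha, Ne.symm ha]
      · simp [ha, hc]

theorem counit_monoidAlgebra (z : MonoidAlgebra R M) :
    Coalgebra.counit (R := R) z = z.coeff.sum fun _ r => r := by
  induction z using MonoidAlgebra.induction_linear with
  | zero => simp
  | add x y hx hy => rw [map_add, hx, hy, MonoidAlgebra.coeff_add, Finsupp.sum_add_index' (fun _ => rfl) fun _ _ _ => rfl]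
  | single m r => simp

end MonoidAlgebra

variable {R : Type u} [CommRing R] {C : Type u} [CommRing C] [HopfAlgebra R C] {M : Type u} [CommGroup M]

theorem mk_pow_ext (I : Ideal R) [IsHausdorff I R] {x y : R}
    (h : ∀ k, Ideal.Quotient.mk (I ^ k) x = Ideal.Quotient.mk (I ^ k) y) : x = y := by
  rw [IsHausdorff.eq_iff_smodEq (I := I)]
  intro k
  rw [SModEq.sub_mem, smul_eq_mul, Ideal.mul_top, ← Ideal.Quotient.eq_zero_iff_mem, map_sub, h k, sub_self]

theorem monoidAlgebra_ext_pow (I : Ideal R) [IsHausdorff I R] {x y : MonoidAlgebra R M}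
    (h : ∀ k, MonoidAlgebra.mapRingHom M (Ideal.Quotient.mk (I ^ k)) x =
      MonoidAlgebra.mapRingHom M (Ideal.Quotient.mk (I ^ k)) y) : x = y :=
  MonoidAlgebra.ext (Finsupp.ext fun m => mk_pow_ext I fun k => by
    simpa using congrArg (fun z => z.coeff m) (h k))

/-- A compatible system of homomorphisms into group algebras over the quotients by powers of `I` comes from
one homomorphism. -/
theorem exists_algebraization [IsNoetherianRing R] (I : Ideal R) [IsAdicComplete I R]
    (g : ∀ k : ℕ, ((R ⧸ I ^ k) ⊗[R] C) →ₐc[R ⧸ I ^ k] MonoidAlgebra (R ⧸ I ^ k) M)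
    (hg : ∀ k (c : C) (m : M), Ideal.Quotient.factor (Ideal.pow_le_pow_right (Nat.le_succ k))
      ((g (k + 1) ((1 : R ⧸ I ^ (k + 1)) ⊗ₜ[R] c)).coeff m) = (g k ((1 : R ⧸ I ^ k) ⊗ₜ[R] c)).coeff m) :
    ∃ φ : C →ₐc[R] MonoidAlgebra R M, ∀ k c,
      MonoidAlgebra.mapRingHom M (Ideal.Quotient.mk (I ^ k)) (φ c) = g k ((1 : R ⧸ I ^ k) ⊗ₜ[R] c) := by
  classical
  choose lift hlift using fun k => Ideal.Quotient.mk_surjective (I := I ^ k)
  let a : C → M → ℕ → R := fun c m k => lift k ((g k ((1 : R ⧸ I ^ k) ⊗ₜ[R] c)).coeff m)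
  have hcauchy : ∀ c m {k n}, k ≤ n → Ideal.Quotient.mk (I ^ k) (a c m n) = (g k ((1 : R ⧸ I ^ k) ⊗ₜ[R] c)).coeff m := by
    intro c m k n hkn
    induction hkn using Nat.decreasingInduction with
    | self => exact hlift _ _
    | of_succ j _ ih => rw [← hg j c m, ← ih, Ideal.Quotient.factor_mk]
  choose v hv using fun c m => IsPrecomplete.prec' (I := I) (a c m) fun {k n} hkn => by
    rw [SModEq.sub_mem, smul_eq_mul, Ideal.mul_top, ← Ideal.Quotient.eq_zero_iff_mem, map_sub, hcauchy c m hkn,
      hcauchy c m le_rfl, sub_self]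
  have hvk : ∀ c m k, Ideal.Quotient.mk (I ^ k) (v c m) = (g k ((1 : R ⧸ I ^ k) ⊗ₜ[R] c)).coeff m := by
    intro c m k
    have h1 := hv c m k
    rw [SModEq.sub_mem, smul_eq_mul, Ideal.mul_top, ← Ideal.Quotient.eq_zero_iff_mem, map_sub, sub_eq_zero,
      hcauchy c m le_rfl] at h1
    exact h1.symm
  have horth : ∀ (c : C) (r : Coalgebra.Repr R c (ι := C × C)) m n,
      ∑ i ∈ r.index, v (r.left i) m * v (r.right i) n = if m = n then v c m else 0 := by
    intro c r m n
    refine mk_pow_ext I fun k => ?_
    rw [apply_ite (Ideal.Quotient.mk (I ^ k)), map_zero, map_sum]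
    simp only [map_mul, hvk]
    rw [← repr_comul_monoidAlgebra (R := R ⧸ I ^ k), ← CoalgHomClass.map_comp_comul_apply, TensorProduct.comul_tmul,
      CommSemiring.comul_apply, ← r.eq]
    simp only [TensorProduct.tmul_sum, map_sum, AlgebraTensorModule.tensorTensorTensorComm_tmul, TensorProduct.map_tmul,
      Finsupp.finsetSum_apply, Module.Basis.tensorProduct_repr_tmul_apply, smul_eq_mul]
    refine Finset.sum_congr rfl fun i _ => ?_
    rw [mul_comm]
    rfl
  have hsupp : ∀ c, (Function.support (v c)).Finite := by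
    intro c
    let r : Coalgebra.Repr R c (ι := C × C) := Coalgebra.Repr.arbitrary R c
    let w : M → (r.index → R) := fun m i => v (r.right i) m
    obtain ⟨F, hF, hspan⟩ := (Submodule.fg_span_iff_fg_span_finset_subset (R := R) (Set.range w)).1 (IsNoetherian.noetherian (R := R) (M := r.index → R) _)
    choose j hj using fun x (hx : x ∈ F) => hF hx
    refine (Finset.finite_toSet (F.attach.image fun x => j x.1 x.2)).subset fun p hp => ?_
    by_contra hpF
    apply hp
    have h1 : w p ∈ Submodule.span R (F : Set (r.index → R)) := hspan ▸ Submodule.subset_span ⟨p, rfl⟩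
    have h2 : ∀ y ∈ Submodule.span R (F : Set (r.index → R)), ∑ i, v (r.left i.1) p * y i = 0 := by
      intro y hy
      induction hy using Submodule.span_induction with
      | mem y hy =>
        rw [← hj y hy]
        have h3 : p ≠ j y hy := fun h => hpF (Finset.mem_coe.2 (Finset.mem_image.2 ⟨⟨y, hy⟩, Finset.mem_attach _ _, h.symm⟩))
        simp only [w]
        rw [Finset.sum_coe_sort r.index fun i => v (r.left i) p * v (r.right i) (j y hy), horth c r p (j y hy), if_neg h3]
      | zero => simp
      | add y z _ _ hy hz => simp only [Pi.add_apply, mul_add, Finset.sum_add_distrib, hy, hz, add_zero]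
      | smul s y _ hy => simp only [Pi.smul_apply, smul_eq_mul, mul_left_comm _ s, ← Finset.mul_sum, hy, mul_zero]
    have h4 := h2 _ h1
    simp only [w] at h4
    rw [Finset.sum_coe_sort r.index fun i => v (r.left i) p * v (r.right i) p, horth c r p p, if_pos rfl] at h4
    exact h4
  let f : C → MonoidAlgebra R M := fun c => MonoidAlgebra.ofCoeff (Finsupp.ofSupportFinite (v c) (hsupp c))
  have hf : ∀ k c, MonoidAlgebra.mapRingHom M (Ideal.Quotient.mk (I ^ k)) (f c) = g k ((1 : R ⧸ I ^ k) ⊗ₜ[R] c) := by
    intro k c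
    refine MonoidAlgebra.ext (Finsupp.ext fun m => ?_)
    simp [f, hvk, Finsupp.ofSupportFinite_coe]
  let φ : C →ₐ[R] MonoidAlgebra R M :=
    { toFun := f
      map_one' := monoidAlgebra_ext_pow I fun k => by rw [hf, map_one, ← Algebra.TensorProduct.one_def, map_one]
      map_mul' := fun x y => monoidAlgebra_ext_pow I fun k => by
        rw [hf, map_mul, hf, hf, ← map_mul, Algebra.TensorProduct.tmul_mul_tmul, one_mul]
      map_zero' := monoidAlgebra_ext_pow I fun k => by rw [hf, map_zero, tmul_zero, map_zero]
      map_add' := fun x y => monoidAlgebra_ext_pow I fun k => by rw [hf, map_add, hf, hf, tmul_add, map_add]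
      commutes' := fun r => monoidAlgebra_ext_pow I fun k => by
        rw [hf, Algebra.algebraMap_eq_smul_one, tmul_smul, ← algebraMap_smul (R ⧸ I ^ k) r, ← Algebra.TensorProduct.one_def,
          map_smul, map_one]
        refine MonoidAlgebra.ext (Finsupp.ext fun m => ?_)
        by_cases hm : (1 : M) = m
        · subst hm; simp [MonoidAlgebra.one_def, Algebra.smul_def]
        · simp [Ne.symm hm, MonoidAlgebra.one_def, Algebra.smul_def] }
  refine ⟨BialgHom.ofAlgHom φ (AlgHom.ext fun c => mk_pow_ext I fun k => ?_) (AlgHom.ext fun c => ?_), hf⟩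
  · change Ideal.Quotient.mk (I ^ k) (Coalgebra.counit (R := R) (f c)) = _
    have h1 := congrArg (Coalgebra.counit (R := R ⧸ I ^ k)) (hf k c)
    rw [CoalgHomClass.counit_comp_apply (g k) ((1 : R ⧸ I ^ k) ⊗ₜ[R] c), TensorProduct.counit_tmul, CommSemiring.counit_apply, Algebra.smul_def, mul_one] at h1
    change _ = Ideal.Quotient.mk (I ^ k) (Coalgebra.counit (R := R) c)
    rw [← Ideal.Quotient.algebraMap_eq, ← h1, Ideal.Quotient.algebraMap_eq]
    generalize f c = z
    induction z using MonoidAlgebra.induction_linear with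
    | zero => simp
    | add x y hx hy => simp only [map_add, hx, hy]
    | single m s => simp
  · change TensorProduct.map φ.toLinearMap φ.toLinearMap (Coalgebra.comul (R := R) c) = Coalgebra.comul (R := R) (f c)
    apply ((MonoidAlgebra.basis M R).tensorProduct (MonoidAlgebra.basis M R)).repr.injective
    refine Finsupp.ext fun ⟨a, b⟩ => ?_
    let r : Coalgebra.Repr R c (ι := C × C) := Coalgebra.Repr.arbitrary R c
    rw [repr_comul_monoidAlgebra, ← r.eq, map_sum, map_sum, Finsupp.finsetSum_apply]
    have h1 : ∀ i, ((MonoidAlgebra.basis M R).tensorProduct (MonoidAlgebra.basis M R)).repr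
        (TensorProduct.map φ.toLinearMap φ.toLinearMap (r.left i ⊗ₜ[R] r.right i)) (a, b) = v (r.left i) a * v (r.right i) b := by
      intro i
      rw [TensorProduct.map_tmul, Module.Basis.tensorProduct_repr_tmul_apply, smul_eq_mul, mul_comm]
      rfl
    rw [Finset.sum_congr rfl fun i _ => h1 i, horth c r a b]
    rfl

end Groth.Agent.SGA3b53
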