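import Groth.Agent.SGA3b53.HomLift
import Groth.Agent.SGA3b53.FormalEtale
import Groth.Agent.SGA3b53.Algebraize
import Mathlib

/-!
Descent and algebraisation of homomorphisms into groups of multiplicative type.
-/

set_option autoImplicit false
set_option linter.unusedSectionVars false
set_option linter.style.haveILetI false
universe u v w
open TensorProduct

noncomputable section

namespace Groth.Agent.SGA3b53

namespace HomLift

variable {R : Type u} [CommRing R] {B : Type u} [CommRing B] [HopfAlgebra R B] {C : Type u} [CommRing C]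
  [HopfAlgebra R C]

/-- Descent of homomorphisms. -/
theorem exists_of_local {ι : Type u} [Finite ι] {T : ι → Type u} [∀ i, CommRing (T i)] [∀ i, Algebra R (T i)]
    (hT : IsCover R T) (θ : ∀ i, T i ⊗[R] C →ₐc[T i] T i ⊗[R] B)
    (hglue : ∀ c i j,
      Algebra.TensorProduct.map (Algebra.TensorProduct.includeLeft : T j →ₐ[R] T j ⊗[R] T i) (AlgHom.id R B)
          (θ j ((1 : T j) ⊗ₜ[R] c)) =
        Algebra.TensorProduct.map (Algebra.TensorProduct.includeRight : T i →ₐ[R] T j ⊗[R] T i) (AlgHom.id R B)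
          (θ i ((1 : T i) ⊗ₜ[R] c))) :
    ∃ φ : C →ₐc[R] B, ∀ i c, θ i ((1 : T i) ⊗ₜ[R] c) = (1 : T i) ⊗ₜ[R] φ c := by
  let y : C → ∀ i, T i ⊗[R] B := fun c i => θ i ((1 : T i) ⊗ₜ[R] c)
  have hg : ∀ c i j, ((TensorProduct.mk R (T j) (T i)).flip 1).rTensor B (y c j) =
      ((TensorProduct.mk R (T j) (T i)) 1).rTensor B (y c i) := by
    intro c i j
    have hL : ∀ z : T j ⊗[R] B, ((TensorProduct.mk R (T j) (T i)).flip 1).rTensor B z =
        Algebra.TensorProduct.map (Algebra.TensorProduct.includeLeft : T j →ₐ[R] T j ⊗[R] T i) (AlgHom.id R B) z := fun z => by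
      induction z with
      | zero => simp
      | add a b ha hb => simp only [map_add, ha, hb]
      | tmul t a => rfl
    have hR : ∀ z : T i ⊗[R] B, ((TensorProduct.mk R (T j) (T i)) 1).rTensor B z =
        Algebra.TensorProduct.map (Algebra.TensorProduct.includeRight : T i →ₐ[R] T j ⊗[R] T i) (AlgHom.id R B) z := fun z => by
      induction z with
      | zero => simp
      | add a b ha hb => simp only [map_add, ha, hb]
      | tmul t a => rfl
    rw [hL, hR]
    exact hglue c i j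
  choose x hx using fun c => hT.descend (y c) (hg c)
  have huniq : ∀ a b : B, (∀ i, (1 : T i) ⊗ₜ[R] a = (1 : T i) ⊗ₜ[R] b) → a = b := fun a b h =>
    sub_eq_zero.1 (hT.eq_zero fun i => by rw [tmul_sub, h i, sub_self])
  let φ' : C →ₐ[R] B :=
    { toFun := x
      map_one' := huniq _ _ fun i => by
        rw [hx]
        simp only [y]
        rw [← Algebra.TensorProduct.one_def, map_one, Algebra.TensorProduct.one_def]
      map_mul' := fun a b => huniq _ _ fun i => by
        rw [hx]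
        simp only [y]
        rw [show (1 : T i) ⊗ₜ[R] (a * b) = (1 : T i) ⊗ₜ[R] a * (1 : T i) ⊗ₜ[R] b by simp, map_mul,
          show θ i ((1 : T i) ⊗ₜ[R] a) = (1 : T i) ⊗ₜ[R] x a from (hx a i).symm,
          show θ i ((1 : T i) ⊗ₜ[R] b) = (1 : T i) ⊗ₜ[R] x b from (hx b i).symm,
          Algebra.TensorProduct.tmul_mul_tmul, one_mul]
      map_zero' := huniq _ _ fun i => by rw [hx]; simp [y]
      map_add' := fun a b => huniq _ _ fun i => by rw [hx, tmul_add, hx, hx]; simp [y, tmul_add]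
      commutes' := fun r => huniq _ _ fun i => by
        rw [hx]
        simp only [y]
        rw [Algebra.algebraMap_eq_smul_one (R := R) (A := C), Algebra.algebraMap_eq_smul_one (R := R) (A := B), tmul_smul,
          tmul_smul, ← Algebra.TensorProduct.one_def, ← Algebra.TensorProduct.one_def, ← algebraMap_smul (T i) r (1 : T i ⊗[R] C),
          map_smul, map_one, algebraMap_smul] }
  have hxθ : ∀ i c, θ i ((1 : T i) ⊗ₜ[R] c) = (1 : T i) ⊗ₜ[R] φ' c := fun i c => (hx c i).symm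
  have hcounit : ∀ c, Coalgebra.counit (R := R) (φ' c) = Coalgebra.counit (R := R) c := fun c =>
    sub_eq_zero.1 (hT.eq_zero fun i => by
      have h1 : algebraMap R (T i) (Coalgebra.counit (R := R) (φ' c)) = algebraMap R (T i) (Coalgebra.counit (R := R) c) := by
        rw [← DLift.counit_one_tmul, ← DLift.counit_one_tmul, ← hxθ]
        exact CoalgHomClass.counit_comp_apply (θ i) _
      apply (TensorProduct.rid R (T i)).injective
      rw [map_zero, TensorProduct.rid_tmul, ← Algebra.algebraMap_eq_smul_one, map_sub, h1, sub_self])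
  have hcomul : ∀ c, Coalgebra.comul (R := R) (φ' c) = Algebra.TensorProduct.map φ' φ' (Coalgebra.comul (R := R) c) := fun c =>
    sub_eq_zero.1 (hT.eq_zero fun i => by
      refine (map_sub (TensorProduct.mk R (T i) (B ⊗[R] B) 1) _ _).trans (sub_eq_zero.2 ?_)
      apply (Model.eT (AlgEquiv.refl : T i ⊗[R] B ≃ₐ[T i] _) AlgEquiv.refl).injective
      simp only [TensorProduct.mk_apply]
      rw [← DLift.comul_one_tmul, ← hxθ, ← CoalgHomClass.map_comp_comul_apply (θ i), DLift.comul_one_tmul]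
      generalize Coalgebra.comul (R := R) c = w
      induction w with
      | zero => simp
      | add a b ha hb => simp only [tmul_add, map_add, ha, hb]
      | tmul p q => simp [Model.eT_tmul, hxθ])
  exact ⟨BialgHom.ofAlgHom φ' (AlgHom.ext hcounit) (AlgHom.ext fun c => (hcomul c).symm), hxθ⟩

theorem map_map_id {P Q S : Type u} [CommRing P] [Algebra R P] [CommRing Q] [Algebra R Q] [CommRing S] [Algebra R S]
    {X : Type u} [CommRing X] [Algebra R X] (g : Q →ₐ[R] S) (f : P →ₐ[R] Q) (z : P ⊗[R] X) :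
    Algebra.TensorProduct.map g (AlgHom.id R X) (Algebra.TensorProduct.map f (AlgHom.id R X) z) =
      Algebra.TensorProduct.map (g.comp f) (AlgHom.id R X) z := by
  induction z with
  | zero => simp
  | add a b ha hb => simp only [map_add, ha, hb]
  | tmul p x => simp

/-- A compatible system of homomorphisms into an isotrivial group of multiplicative type comes from one homomorphism. -/
theorem exists_algebraization_hom [IsNoetherianRing R] (I : Ideal R) [IsAdicComplete I R] (hB : SGA3b.IsIsotrivial R B)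
    (g : ∀ k : ℕ, ((R ⧸ I ^ k) ⊗[R] C) →ₐc[R ⧸ I ^ k] ((R ⧸ I ^ k) ⊗[R] B))
    (hg : ∀ k (c : C), Algebra.TensorProduct.map (Ideal.Quotient.factorₐ R (Ideal.pow_le_pow_right (Nat.le_succ k)))
        (AlgHom.id R B) (g (k + 1) ((1 : R ⧸ I ^ (k + 1)) ⊗ₜ[R] c)) = g k ((1 : R ⧸ I ^ k) ⊗ₜ[R] c)) :
    ∃ φ : C →ₐc[R] B, ∀ k c, g k ((1 : R ⧸ I ^ k) ⊗ₜ[R] c) = (1 : R ⧸ I ^ k) ⊗ₜ[R] φ c := by
  obtain ⟨W, _, _, hW1, hW2, hW3, N, _, ⟨ρ⟩⟩ := hB
  let IW := I.map (algebraMap R W)
  haveI : IsNoetherianRing W := IsNoetherianRing.of_finite R W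
  haveI : IsAdicComplete IW W := isAdicComplete_map_of_finite I W
  let f : ∀ k, (R ⧸ I ^ k) →ₐ[R] W ⧸ IW ^ k := fun k => Ideal.Quotient.liftₐ (I ^ k) (Algebra.ofId R _) fun a ha => by
    rw [Algebra.ofId_apply, IsScalarTower.algebraMap_apply R W (W ⧸ IW ^ k), Ideal.Quotient.algebraMap_eq,
      Ideal.Quotient.eq_zero_iff_mem, ← Ideal.map_pow]
    exact Ideal.mem_map_of_mem _ ha
  let t : ∀ k, W →ₐ[R] W ⧸ IW ^ k := fun k => Ideal.Quotient.mkₐ R (IW ^ k)
  choose gW hgW using fun k => exists_hom_map (f k) (g k)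
  have hgW1 : ∀ k c, gW k ((1 : W ⧸ IW ^ k) ⊗ₜ[R] c) =
      Algebra.TensorProduct.map (f k) (AlgHom.id R B) (g k ((1 : R ⧸ I ^ k) ⊗ₜ[R] c)) := fun k c => by
    rw [← hgW, Algebra.TensorProduct.map_tmul, map_one]
    rfl
  choose ρ' hρ' using fun k => exists_split_map (t k) ρ
  let G : ∀ k, ((W ⧸ IW ^ k) ⊗[W] (W ⊗[R] C)) →ₐc[W ⧸ IW ^ k] MonoidAlgebra (W ⧸ IW ^ k) N := fun k =>
    (ρ' k : (W ⧸ IW ^ k) ⊗[R] B →ₐc[W ⧸ IW ^ k] MonoidAlgebra (W ⧸ IW ^ k) N).comp
      ((gW k).comp (cancelBC R W (W ⧸ IW ^ k) C : (W ⧸ IW ^ k) ⊗[W] (W ⊗[R] C) →ₐc[W ⧸ IW ^ k] (W ⧸ IW ^ k) ⊗[R] C))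
  have hG : ∀ k w c, G k ((1 : W ⧸ IW ^ k) ⊗ₜ[W] (w ⊗ₜ[R] c)) =
      Ideal.Quotient.mk (IW ^ k) w • ρ' k (Algebra.TensorProduct.map (f k) (AlgHom.id R B) (g k ((1 : R ⧸ I ^ k) ⊗ₜ[R] c))) := by
    intro k w c
    change ρ' k (gW k (cancelBC R W (W ⧸ IW ^ k) C _)) = _
    rw [cancelBC_tmul, show (w • (1 : W ⧸ IW ^ k)) ⊗ₜ[R] c = Ideal.Quotient.mk (IW ^ k) w • ((1 : W ⧸ IW ^ k) ⊗ₜ[R] c) by
      rw [TensorProduct.smul_tmul', Algebra.smul_def]; rfl, map_smul, map_smul, hgW1]
  have hcompat : ∀ k (x : W ⊗[R] C),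
      MonoidAlgebra.mapRingHom N (Ideal.Quotient.factor (Ideal.pow_le_pow_right (I := IW) (Nat.le_succ k)))
        (G (k + 1) ((1 : W ⧸ IW ^ (k + 1)) ⊗ₜ[W] x)) = G k ((1 : W ⧸ IW ^ k) ⊗ₜ[W] x) := by
    intro k x
    let F : (W ⧸ IW ^ (k + 1)) →ₐ[R] W ⧸ IW ^ k := Ideal.Quotient.factorₐ R (Ideal.pow_le_pow_right (Nat.le_succ k))
    have hρF : ∀ z, MonoidAlgebra.mapRingHom N (F : (W ⧸ IW ^ (k + 1)) →+* W ⧸ IW ^ k) (ρ' (k + 1) z) =
        ρ' k (Algebra.TensorProduct.map F (AlgHom.id R B) z) := by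
      intro z
      obtain ⟨z, rfl⟩ : ∃ y, Algebra.TensorProduct.map (t (k + 1)) (AlgHom.id R B) y = z :=
        LinearMap.rTensor_surjective B (g := (t (k + 1)).toLinearMap) Ideal.Quotient.mk_surjective z
      rw [hρ', map_map_id, show F.comp (t (k + 1)) = t k from rfl, hρ']
      refine MonoidAlgebra.ext (Finsupp.ext fun m => ?_)
      simp only [MonoidAlgebra.coeff_mapRingHom]
      rfl
    induction x with
    | zero => simp
    | add a b ha hb => simp only [tmul_add, map_add, ha, hb]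
    | tmul w c =>
      rw [hG, hG, Algebra.smul_def, Algebra.smul_def, map_mul]
      congr 1
      · simp
      · refine (hρF _).trans ?_
        rw [map_map_id, ← hg k c, map_map_id,
          show F.comp (f (k + 1)) = (f k).comp (Ideal.Quotient.factorₐ R (Ideal.pow_le_pow_right (Nat.le_succ k))) from
            AlgHom.ext fun r => by
              obtain ⟨r, rfl⟩ := Ideal.Quotient.mk_surjective r
              rfl]
  obtain ⟨φW, hφW⟩ := exists_algebraization IW G fun k x m => by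
    rw [← hcompat k x, MonoidAlgebra.coeff_mapRingHom]
  let θ : W ⊗[R] C →ₐc[W] W ⊗[R] B := (ρ.symm : MonoidAlgebra W N →ₐc[W] W ⊗[R] B).comp φW
  have hθ : ∀ k c, Algebra.TensorProduct.map (t k) (AlgHom.id R B) (θ ((1 : W) ⊗ₜ[R] c)) =
      Algebra.TensorProduct.map (f k) (AlgHom.id R B) (g k ((1 : R ⧸ I ^ k) ⊗ₜ[R] c)) := by
    intro k c
    apply EquivLike.injective (ρ' k)
    rw [hρ', show ρ (θ ((1 : W) ⊗ₜ[R] c)) = φW ((1 : W) ⊗ₜ[R] c) from ρ.apply_symm_apply _]
    refine Eq.trans ?_ ((hφW k _).trans ((hG k 1 c).trans (by rw [map_one, one_smul])))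
    rfl
  have hT : IsCover R (fun _ : PUnit.{u+1} => W) :=
    ⟨fun _ => inferInstance, fun p => ⟨PUnit.unit, PrimeSpectrum.comap_surjective_of_faithfullyFlat p⟩⟩
  let U := W ⊗[R] W
  let IU := I.map (algebraMap R U)
  haveI : IsNoetherianRing U := IsNoetherianRing.of_finite R U
  haveI : IsAdicComplete IU U := isAdicComplete_map_of_finite I U
  let L : W →ₐ[R] U := Algebra.TensorProduct.includeLeft
  let Rg : W →ₐ[R] U := Algebra.TensorProduct.includeRight
  obtain ⟨N', _, ⟨ρU⟩⟩ : SGA3b.IsDiag U (U ⊗[R] B) := DLift.isDiag_of_algHom L ⟨N, inferInstance, ⟨ρ⟩⟩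
  have hglue : ∀ c, Algebra.TensorProduct.map L (AlgHom.id R B) (θ ((1 : W) ⊗ₜ[R] c)) =
      Algebra.TensorProduct.map Rg (AlgHom.id R B) (θ ((1 : W) ⊗ₜ[R] c)) := by
    intro c
    apply EquivLike.injective ρU
    refine monoidAlgebra_ext_pow IU fun k => ?_
    obtain ⟨ρk, hρk⟩ := exists_split_map (Ideal.Quotient.mkₐ R (IU ^ k)) ρU
    have hmap : ∀ h : W →ₐ[R] U, MonoidAlgebra.mapRingHom N' (Ideal.Quotient.mk (IU ^ k))
        (ρU (Algebra.TensorProduct.map h (AlgHom.id R B) (θ ((1 : W) ⊗ₜ[R] c)))) =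
        ρk (Algebra.TensorProduct.map (Ideal.Quotient.liftₐ (I ^ k) (Algebra.ofId R _) fun a ha => by
            rw [Algebra.ofId_apply, IsScalarTower.algebraMap_apply R U (U ⧸ IU ^ k), Ideal.Quotient.algebraMap_eq,
              Ideal.Quotient.eq_zero_iff_mem, ← Ideal.map_pow]
            exact Ideal.mem_map_of_mem _ ha) (AlgHom.id R B) (g k ((1 : R ⧸ I ^ k) ⊗ₜ[R] c))) := by
      intro h
      let h' : (W ⧸ IW ^ k) →ₐ[R] U ⧸ IU ^ k := Ideal.Quotient.liftₐ (IW ^ k) ((Ideal.Quotient.mkₐ R (IU ^ k)).comp h) fun a ha => by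
        rw [AlgHom.comp_apply, Ideal.Quotient.mkₐ_eq_mk, Ideal.Quotient.eq_zero_iff_mem]
        rw [← Ideal.map_pow] at ha ⊢
        refine (Ideal.map_le_iff_le_comap (K := Ideal.comap (h : W →+* U) ((I ^ k).map (algebraMap R U)))).2 ?_ ha
        intro r hr
        rw [Ideal.mem_comap, Ideal.mem_comap, RingHom.coe_coe, AlgHom.commutes]
        exact Ideal.mem_map_of_mem _ hr
      have h1 := congrArg (fun z => ρk (Algebra.TensorProduct.map h' (AlgHom.id R B) z)) (hθ k c)
      rw [map_map_id, map_map_id, show h'.comp (t k) = (Ideal.Quotient.mkₐ R (IU ^ k)).comp h from rfl, ← map_map_id, hρk] at h1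
      refine Eq.trans ?_ (h1.trans ?_)
      · rfl
      · congr 3
        refine AlgHom.ext fun r => ?_
        obtain ⟨r, rfl⟩ := Ideal.Quotient.mk_surjective r
        exact (h'.commutes r).trans rfl
    rw [hmap, hmap]
  obtain ⟨φ, hφ⟩ := exists_of_local hT (fun _ => θ) fun c _ _ => hglue c
  refine ⟨φ, fun k c => ?_⟩
  letI : Algebra (R ⧸ I ^ k) (W ⧸ IW ^ k) := (f k).toRingHom.toAlgebra
  haveI : IsScalarTower R (R ⧸ I ^ k) (W ⧸ IW ^ k) := IsScalarTower.of_algebraMap_eq fun r => ((f k).commutes r).symm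
  have hinj : Function.Injective (Algebra.TensorProduct.map (f k) (AlgHom.id R B)) := by
    intro a b hab
    have hcv : IsCover (R ⧸ I ^ k) (fun _ : PUnit.{u+1} => DLift.red (I ^ k) W) := DLift.isCover_red (I := I ^ k) hT
    refine sub_eq_zero.1 (hcv.eq_zero fun _ => ?_)
    rw [tmul_sub, sub_eq_zero]
    let e : (W ⧸ IW ^ k) →ₐ[R] DLift.red (I ^ k) W := (Ideal.quotientEquivAlgOfEq R (Ideal.map_pow _ I k).symm).toAlgHom
    have h2 := congrArg (Algebra.TensorProduct.map e (AlgHom.id R B)) hab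
    rw [map_map_id, map_map_id] at h2
    apply (Algebra.TensorProduct.cancelBaseChange R (R ⧸ I ^ k) (DLift.red (I ^ k) W) (DLift.red (I ^ k) W) B).injective
    have hc : ∀ z : (R ⧸ I ^ k) ⊗[R] B, Algebra.TensorProduct.cancelBaseChange R (R ⧸ I ^ k) (DLift.red (I ^ k) W)
        (DLift.red (I ^ k) W) B ((1 : DLift.red (I ^ k) W) ⊗ₜ[R ⧸ I ^ k] z) =
          Algebra.TensorProduct.map (e.comp (f k)) (AlgHom.id R B) z := fun z => by
      induction z with
      | zero => simp
      | add a b ha hb => simp only [map_add, tmul_add, ha, hb]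
      | tmul r b =>
        obtain ⟨r, rfl⟩ := Ideal.Quotient.mk_surjective r
        rw [Algebra.TensorProduct.cancelBaseChange_tmul, Algebra.smul_def, mul_one, Algebra.TensorProduct.map_tmul]
        congr 1
    rw [hc, hc]
    exact h2
  apply hinj
  rw [← hθ, hφ PUnit.unit c, Algebra.TensorProduct.map_tmul, Algebra.TensorProduct.map_tmul, map_one, map_one]

end HomLift

end Groth.Agent.SGA3b53
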