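import Groth.Agent.SGA3b53.NilHom
import Groth.Agent.SGA3b53.HomDescend
import Groth.Agent.SGA3b53.QuasiIso
import Mathlib

/-!
Homomorphisms into groups which are of multiplicative type modulo the ideal of an adically complete ring.
-/

set_option autoImplicit false
set_option linter.unusedSectionVars false
set_option linter.style.haveILetI false
universe u v w
open TensorProduct

noncomputable section

namespace Groth.Agent.SGA3b53

namespace HomLift

variable {R : Type u} [CommRing R]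

theorem exists_etale_cover {A : Type u} [CommRing A] [HopfAlgebra R A] (h : SGA3b.IsQuasiIsotrivial R A) :
    ∃ (ι : Type u) (_ : Finite ι) (T : ι → Type u) (_ : ∀ i, CommRing (T i)) (_ : ∀ i, Algebra R (T i)),
      IsCover R T ∧ (∀ i, Algebra.Etale R (T i)) ∧ ∀ i, SGA3b.IsDiag (T i) (T i ⊗[R] A) := by
  obtain ⟨s, hs, hf⟩ := h
  obtain ⟨t, hts, ht⟩ := (Ideal.span_eq_top_iff_finite s).1 hs
  have h1 : ∀ f : (t : Set R), ∃ (S : Type u) (_ : CommRing S) (_ : Algebra R S), Algebra.Etale R S ∧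
      (∀ p : PrimeSpectrum R, f.1 ∉ p.asIdeal → ∃ q : PrimeSpectrum S, q.comap (algebraMap R S) = p) ∧
      SGA3b.IsDiag S (S ⊗[R] A) := by
    intro f
    obtain ⟨S, _, algS, het, hff, hd⟩ := hf f.1 (hts f.2)
    let L := Localization.Away f.1
    letI : Algebra R S := ((algebraMap L S).comp (algebraMap R L)).toAlgebra
    haveI : IsScalarTower R L S := IsScalarTower.of_algebraMap_eq fun _ => rfl
    haveI : Algebra.Etale R L := Algebra.Etale.of_isLocalizationAway f.1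
    refine ⟨S, inferInstance, inferInstance, Algebra.Etale.comp R L S, fun p hp => ?_, isDiag_of_equiv (cancelBC R L S A) hd⟩
    obtain ⟨P, hP⟩ : p ∈ Set.range (PrimeSpectrum.comap (algebraMap R L)) := by
      rw [PrimeSpectrum.localization_away_comap_range L f.1]; exact hp
    obtain ⟨Q, hQ⟩ := PrimeSpectrum.comap_surjective_of_faithfullyFlat (A := L) (B := S) P
    refine ⟨Q, ?_⟩
    rw [← hP, ← hQ, ← PrimeSpectrum.comap_comp_apply]
    rfl
  choose T _ _ het hlift hd using h1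
  refine ⟨(t : Set R), t.finite_toSet.to_subtype, T, inferInstance, inferInstance, ⟨fun i => ?_, fun p => ?_⟩, het, hd⟩
  · haveI := het i
    infer_instance
  · obtain ⟨f, hft, hfp⟩ : ∃ f ∈ (t : Set R), f ∉ p.asIdeal := by
      by_contra hc
      push Not at hc
      exact p.isPrime.ne_top (top_le_iff.1 (ht ▸ Ideal.span_le.2 hc))
    obtain ⟨q, hq⟩ := hlift ⟨f, hft⟩ p hfp
    exact ⟨⟨f, hft⟩, q, hq⟩

theorem isCover_baseChange (L : Type u) [CommRing L] [Algebra R L] {κ : Type u} {S : κ → Type u} [∀ j, CommRing (S j)]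
    [∀ j, Algebra R (S j)] (hS : IsCover R S) : IsCover L (fun j => L ⊗[R] S j) where
  flat j := by
    haveI := hS.flat j
    infer_instance
  exists_lift p := by
    let K := p.asIdeal.ResidueField
    obtain ⟨j, hj⟩ : ∃ j, (1 : S j) ⊗ₜ[R] (1 : K) ≠ 0 := by
      by_contra hc
      push Not at hc
      exact one_ne_zero (hS.eq_zero (M := K) hc)
    haveI : Nontrivial (K ⊗[R] S j) := by
      refine ⟨⟨(1 : K) ⊗ₜ[R] (1 : S j), 0, fun h => hj ?_⟩⟩
      simpa using congrArg (TensorProduct.comm R K (S j)) h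
    obtain ⟨Q⟩ : Nonempty (PrimeSpectrum (K ⊗[R] S j)) := inferInstance
    let h : L ⊗[R] S j →ₐ[R] K ⊗[R] S j :=
      Algebra.TensorProduct.map (IsScalarTower.toAlgHom R L K) (AlgHom.id R (S j))
    refine ⟨j, Q.comap (h : L ⊗[R] S j →+* K ⊗[R] S j), ?_⟩
    have hQ : (Q.comap (Algebra.TensorProduct.includeLeftRingHom : K →+* K ⊗[R] S j)).asIdeal = ⊥ :=
      (Ideal.eq_bot_or_top _).resolve_right (PrimeSpectrum.isPrime _).ne_top
    refine PrimeSpectrum.ext ?_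
    rw [PrimeSpectrum.comap_asIdeal, PrimeSpectrum.comap_asIdeal, Ideal.comap_comap,
      show (h : L ⊗[R] S j →+* K ⊗[R] S j).comp (algebraMap L (L ⊗[R] S j)) =
        (Algebra.TensorProduct.includeLeftRingHom : K →+* K ⊗[R] S j).comp (algebraMap L K) from RingHom.ext fun l => by
        change h (l ⊗ₜ[R] (1 : S j)) = _
        simp [h],
      ← Ideal.comap_comap, ← PrimeSpectrum.comap_asIdeal, hQ, ← RingHom.ker_eq_comap_bot, Ideal.ker_algebraMap_residueField]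

theorem isQuasiIsotrivial_baseChange (L : Type u) [CommRing L] [Algebra R L] {A : Type u} [CommRing A] [HopfAlgebra R A]
    (h : SGA3b.IsQuasiIsotrivial R A) : SGA3b.IsQuasiIsotrivial L (L ⊗[R] A) := by
  obtain ⟨ι, _, T, _, _, hT, het, hd⟩ := exists_etale_cover h
  haveI : ∀ i, Algebra.Etale R (T i) := het
  refine isQuasiIsotrivial_of_cover (T := fun i => L ⊗[R] T i) (fun i => inferInstance) (isCover_baseChange L hT) fun i => ?_
  exact isDiag_of_equiv (cancelBC R L (L ⊗[R] T i) A).symm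
    (DLift.isDiag_of_algHom (Algebra.TensorProduct.includeRight : T i →ₐ[R] L ⊗[R] T i) (hd i))

variable {B : Type u} [CommRing B] [HopfAlgebra R B] {C : Type u} [CommRing C] [HopfAlgebra R C]

theorem map_map_id' {X : Type u} [CommRing X] [Algebra R X] {P Q S : Type u} [CommRing P] [Algebra R P] [CommRing Q]
    [Algebra R Q] [CommRing S] [Algebra R S] (g : Q →ₐ[R] S) (f : P →ₐ[R] Q) (h : P →ₐ[R] S) (hgf : g.comp f = h)
    (z : P ⊗[R] X) :
    Algebra.TensorProduct.map g (AlgHom.id R X) (Algebra.TensorProduct.map f (AlgHom.id R X) z) =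
      Algebra.TensorProduct.map h (AlgHom.id R X) z := by
  rw [map_map_id, hgf]

theorem bijective_of_adicComplete [IsNoetherianRing R] (I : Ideal R) [IsAdicComplete I R] (hB : SGA3b.IsIsotrivial R B)
    (hflat : ∀ k, Module.Flat (R ⧸ I ^ k) ((R ⧸ I ^ k) ⊗[R] C))
    (h0 : SGA3b.IsQuasiIsotrivial (R ⧸ I) ((R ⧸ I) ⊗[R] C)) :
    (∀ φ ψ : C →ₐc[R] B, (∀ c, (1 : R ⧸ I) ⊗ₜ[R] φ c = (1 : R ⧸ I) ⊗ₜ[R] ψ c) → φ = ψ) ∧
    (∀ φ₀ : ((R ⧸ I) ⊗[R] C) →ₐc[R ⧸ I] ((R ⧸ I) ⊗[R] B),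
      ∃ φ : C →ₐc[R] B, ∀ c, φ₀ ((1 : R ⧸ I) ⊗ₜ[R] c) = (1 : R ⧸ I) ⊗ₜ[R] φ c) := by
  have hle : ∀ k, I ^ (k + 1) ≤ I := fun k => Ideal.pow_le_self (Nat.succ_ne_zero k)
  let q : ∀ k, (R ⧸ I ^ (k + 1)) →ₐ[R] R ⧸ I := fun k => Ideal.Quotient.factorₐ R (hle k)
  have hqs : ∀ k, Function.Surjective (q k) := fun k x => by
    obtain ⟨r, rfl⟩ := Ideal.Quotient.mk_surjective x
    exact ⟨Ideal.Quotient.mk _ r, rfl⟩
  have hker : ∀ k, RingHom.ker (q k : (R ⧸ I ^ (k + 1)) →+* R ⧸ I) = I.map (Ideal.Quotient.mk (I ^ (k + 1))) := fun k =>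
    Ideal.Quotient.factor_ker (hle k)
  have hq : ∀ k, IsNilpotent (RingHom.ker (q k : (R ⧸ I ^ (k + 1)) →+* R ⧸ I)) := fun k => by
    refine ⟨k + 1, ?_⟩
    rw [hker, ← Ideal.map_pow, Ideal.map_quotient_self]
    rfl
  have hlev : ∀ k, SGA3b.IsMultType (R ⧸ I ^ (k + 1)) ((R ⧸ I ^ (k + 1)) ⊗[R] B) ∧
      SGA3b.IsMultType (R ⧸ I ^ (k + 1)) ((R ⧸ I ^ (k + 1)) ⊗[R] C) := by
    intro k
    refine ⟨isMultType_baseChange _ (isMultType_of_isIsotrivial hB), isMultType_of_isQuasiIsotrivial ?_⟩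
    let K := R ⧸ I ^ (k + 1)
    haveI : Module.Flat K (K ⊗[R] C) := hflat (k + 1)
    let J : Ideal K := RingHom.ker (q k : K →+* R ⧸ I)
    refine isQuasiIsotrivial_of_flat_mod_nilpotent J (hq k) ?_
    let f : (R ⧸ I) →ₐ[R] K ⧸ J := Ideal.Quotient.liftₐ I (Algebra.ofId R _) fun a ha => by
      rw [Algebra.ofId_apply, IsScalarTower.algebraMap_apply R K (K ⧸ J), Ideal.Quotient.algebraMap_eq,
        Ideal.Quotient.eq_zero_iff_mem, RingHom.mem_ker]
      exact Ideal.Quotient.eq_zero_iff_mem.2 ha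
    letI : Algebra (R ⧸ I) (K ⧸ J) := f.toRingHom.toAlgebra
    haveI : IsScalarTower R (R ⧸ I) (K ⧸ J) := IsScalarTower.of_algebraMap_eq fun r => (f.commutes r).symm
    obtain ⟨ι, _, T, _, _, hT, het, hd⟩ := exists_etale_cover (isQuasiIsotrivial_baseChange (K ⧸ J) h0)
    exact isQuasiIsotrivial_of_cover het hT fun i => isDiag_of_equiv
      (congrBC (T i) ((cancelBC R (R ⧸ I) (K ⧸ J) C).trans (cancelBC R K (K ⧸ J) C).symm)) (hd i)
  have hbij := fun k => bijective_of_surjective (q k) (hqs k) (hq k) (hlev k).1 (hlev k).2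
  constructor
  · intro φ ψ h
    refine eq_of_adicComplete I hB φ ψ fun n c => mem_smul_top_of_one_tmul _ ?_
    have h1 := (hbij n).1 (Bialgebra.TensorProduct.map (BialgHom.id _ _) φ) (Bialgebra.TensorProduct.map (BialgHom.id _ _) ψ)
      fun c => by
        change Algebra.TensorProduct.map (q n) (AlgHom.id R B) ((1 : R ⧸ I ^ (n + 1)) ⊗ₜ[R] φ c) =
          Algebra.TensorProduct.map (q n) (AlgHom.id R B) ((1 : R ⧸ I ^ (n + 1)) ⊗ₜ[R] ψ c)
        rw [Algebra.TensorProduct.map_tmul, Algebra.TensorProduct.map_tmul, map_one]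
        exact h c
    rw [tmul_sub, sub_eq_zero]
    exact DFunLike.congr_fun h1 ((1 : R ⧸ I ^ (n + 1)) ⊗ₜ[R] c)
  intro φ₀
  choose Φ hΦ using fun k => (hbij k).2 φ₀
  let t : ∀ k, (R ⧸ I ^ (k + 1)) →ₐ[R] R ⧸ I ^ k := fun k => Ideal.Quotient.factorₐ R (Ideal.pow_le_pow_right (Nat.le_succ k))
  choose g hg using fun k => exists_hom_map (t k) (Φ k)
  have hg1 : ∀ k c, g k ((1 : R ⧸ I ^ k) ⊗ₜ[R] c) =
      Algebra.TensorProduct.map (t k) (AlgHom.id R B) (Φ k ((1 : R ⧸ I ^ (k + 1)) ⊗ₜ[R] c)) := fun k c => by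
    rw [← hg, Algebra.TensorProduct.map_tmul, map_one]
    rfl
  have hred : ∀ k c, Algebra.TensorProduct.map (q k) (AlgHom.id R B) (g (k + 1) ((1 : R ⧸ I ^ (k + 1)) ⊗ₜ[R] c)) =
      φ₀ ((1 : R ⧸ I) ⊗ₜ[R] c) := fun k c => by
    rw [hg1, map_map_id' (q k) (t (k + 1)) (q (k + 1)) (AlgHom.ext fun x => by
      obtain ⟨r, rfl⟩ := Ideal.Quotient.mk_surjective x
      rfl)]
    exact hΦ (k + 1) c
  have hstep : ∀ k, g (k + 1) = Φ k := fun k => (hbij k).1 _ _ fun c => (hred k c).trans (hΦ k c).symm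
  obtain ⟨φ, hφ⟩ := exists_algebraization_hom I hB g fun k c => by
    rw [hstep k, hg1]
  refine ⟨φ, fun c => ?_⟩
  have h1 := hred 0 c
  rw [hφ, Algebra.TensorProduct.map_tmul, map_one] at h1
  exact h1.symm

end HomLift

end Groth.Agent.SGA3b53
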