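import Groth.Agent.SGA3b53.SmoothLiftStep
import Groth.Agent.SGA3b53.AdicHom
import Mathlib

/-!
Lifting homomorphisms from groups of multiplicative type to smooth groups.
-/

set_option autoImplicit false
set_option linter.unusedSectionVars false
set_option linter.style.haveILetI false
universe u v w
open TensorProduct

noncomputable section

namespace Groth.Agent.SGA3b53

namespace SmoothLift

variable {R : Type u} [CommRing R] {B : Type u} [CommRing B] [HopfAlgebra R B] {C : Type u} [CommRing C] [HopfAlgebra R C]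

theorem map_id_comm {P Q : Type u} [CommRing P] [Algebra R P] [CommRing Q] [Algebra R Q] {X Y : Type u} [CommRing X]
    [Algebra R X] [CommRing Y] [Algebra R Y] (f : P →ₐ[R] Q) (a : X →ₐ[R] Y) (z : P ⊗[R] X) :
    Algebra.TensorProduct.map (AlgHom.id R Q) a (Algebra.TensorProduct.map f (AlgHom.id R X) z) =
      Algebra.TensorProduct.map f (AlgHom.id R Y) (Algebra.TensorProduct.map (AlgHom.id R P) a z) := by
  induction z with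
  | zero => simp
  | add a b ha hb => simp only [map_add, ha, hb]
  | tmul p x => simp

/-- Lifting along a surjection with square-zero kernel, relative to `α`. -/
theorem exists_lift_rel_surjective [Algebra.Smooth R C] {K K₀ : Type u} [CommRing K] [Algebra R K] [CommRing K₀]
    [Algebra R K₀] (q : K →ₐ[R] K₀) (hq : Function.Surjective q) (hn : RingHom.ker (q : K →+* K₀) ^ 2 = ⊥)
    {A₂ : Type u} [CommRing A₂] [HopfAlgebra R A₂] (hB : SGA3b.IsMultType R B) (h₂ : SGA3b.IsMultType R A₂)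
    (α : A₂ →ₐc[R] B) (β : C →ₐc[R] B) (φ₀ : K₀ ⊗[R] C →ₐc[K₀] K₀ ⊗[R] A₂)
    (h0 : ∀ c, Algebra.TensorProduct.map (AlgHom.id R K₀) (α : A₂ →ₐ[R] B) (φ₀ ((1 : K₀) ⊗ₜ[R] c)) = (1 : K₀) ⊗ₜ[R] β c) :
    ∃ φ : K ⊗[R] C →ₐc[K] K ⊗[R] A₂,
      (∀ c, Algebra.TensorProduct.map q (AlgHom.id R A₂) (φ ((1 : K) ⊗ₜ[R] c)) = φ₀ ((1 : K₀) ⊗ₜ[R] c)) ∧
      ∀ c, Algebra.TensorProduct.map (AlgHom.id R K) (α : A₂ →ₐ[R] B) (φ ((1 : K) ⊗ₜ[R] c)) = (1 : K) ⊗ₜ[R] β c := by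
  let J := RingHom.ker (q : K →+* K₀)
  let σ : (K ⧸ J) ≃ₐ[R] K₀ := Ideal.quotientKerAlgEquivOfSurjective (f := q) hq
  have hcan : ∀ {X : Type u} [CommRing X] [HopfAlgebra R X] (z : K ⊗[R] X),
      cancelBC R K (K ⧸ J) X ((1 : K ⧸ J) ⊗ₜ[K] z) = Algebra.TensorProduct.map (Ideal.Quotient.mkₐ R J) (AlgHom.id R X) z := by
    intro X _ _ z
    induction z with
    | zero => simp
    | add a b ha hb => simp only [map_add, tmul_add, ha, hb]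
    | tmul k x =>
      rw [cancelBC_tmul, Algebra.smul_def, mul_one]
      rfl
  let αK : K ⊗[R] A₂ →ₐc[K] K ⊗[R] B := Bialgebra.TensorProduct.map (BialgHom.id K K) α
  let βK : K ⊗[R] C →ₐc[K] K ⊗[R] B := Bialgebra.TensorProduct.map (BialgHom.id K K) β
  have hαK : ∀ z, αK z = Algebra.TensorProduct.map (AlgHom.id R K) (α : A₂ →ₐ[R] B) z := fun z => by
    induction z with
    | zero => simp
    | add a b ha hb => simp only [map_add, ha, hb]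
    | tmul k x => rfl
  obtain ⟨g', hg'⟩ := HomLift.exists_hom_map (σ.symm : K₀ →ₐ[R] K ⧸ J) φ₀
  let φ₁ : (K ⧸ J) ⊗[K] (K ⊗[R] C) →ₐc[K ⧸ J] (K ⧸ J) ⊗[K] (K ⊗[R] A₂) :=
    ((cancelBC R K (K ⧸ J) A₂).symm : (K ⧸ J) ⊗[R] A₂ →ₐc[K ⧸ J] (K ⧸ J) ⊗[K] (K ⊗[R] A₂)).comp
      (g'.comp (cancelBC R K (K ⧸ J) C : (K ⧸ J) ⊗[K] (K ⊗[R] C) →ₐc[K ⧸ J] (K ⧸ J) ⊗[R] C))
  have hφ₁ : ∀ c, cancelBC R K (K ⧸ J) A₂ (φ₁ ((1 : K ⧸ J) ⊗ₜ[K] ((1 : K) ⊗ₜ[R] c))) =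
      Algebra.TensorProduct.map (σ.symm : K₀ →ₐ[R] K ⧸ J) (AlgHom.id R A₂) (φ₀ ((1 : K₀) ⊗ₜ[R] c)) := fun c => by
    rw [show φ₁ ((1 : K ⧸ J) ⊗ₜ[K] ((1 : K) ⊗ₜ[R] c)) =
      (cancelBC R K (K ⧸ J) A₂).symm (g' (cancelBC R K (K ⧸ J) C ((1 : K ⧸ J) ⊗ₜ[K] ((1 : K) ⊗ₜ[R] c)))) from rfl,
      show ∀ w, cancelBC R K (K ⧸ J) A₂ ((cancelBC R K (K ⧸ J) A₂).symm w) = w from
        fun w => (cancelBC R K (K ⧸ J) A₂).apply_symm_apply w, hcan, ← hg']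
    simp
  have hcomm : ∀ z : (K ⧸ J) ⊗[K] (K ⊗[R] A₂), cancelBC R K (K ⧸ J) B
      (Algebra.TensorProduct.map (AlgHom.id (K ⧸ J) (K ⧸ J)) (αK : K ⊗[R] A₂ →ₐ[K] K ⊗[R] B) z) =
      Algebra.TensorProduct.map (AlgHom.id R (K ⧸ J)) (α : A₂ →ₐ[R] B) (cancelBC R K (K ⧸ J) A₂ z) := by
    intro z
    induction z with
    | zero => simp
    | add a b ha hb => simp only [map_add, ha, hb]
    | tmul r w =>
      induction w with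
      | zero => simp
      | add a b ha hb => simp only [map_add, tmul_add, ha, hb]
      | tmul k x => simp [αK, cancelBC_tmul]
  have h01 : ∀ z : K ⊗[R] C,
      Algebra.TensorProduct.map (AlgHom.id (K ⧸ J) (K ⧸ J)) (αK : K ⊗[R] A₂ →ₐ[K] K ⊗[R] B)
        (φ₁ ((1 : K ⧸ J) ⊗ₜ[K] z)) = (1 : K ⧸ J) ⊗ₜ[K] βK z := by
    intro z
    induction z with
    | zero => simp
    | add a b ha hb => simp only [tmul_add, map_add, ha, hb]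
    | tmul k c =>
      rw [show k ⊗ₜ[R] c = k • ((1 : K) ⊗ₜ[R] c) by rw [smul_tmul', smul_eq_mul, mul_one], map_smul βK, tmul_smul,
        tmul_smul, ← algebraMap_smul (K ⧸ J) k, map_smul φ₁, map_smul, ← algebraMap_smul (K ⧸ J) k]
      refine congrArg _ ?_
      apply EquivLike.injective (cancelBC R K (K ⧸ J) B)
      rw [hcomm, hφ₁, map_id_comm, h0, hcan]
      simp [βK]
  haveI : Algebra.Smooth K (K ⊗[R] C) := inferInstance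
  obtain ⟨φ, hφ, hαφ⟩ := exists_lift_rel (R := K) (J := J) (B := K ⊗[R] B) (C := K ⊗[R] C) (A₂ := K ⊗[R] A₂) hn
    (isMultType_baseChange K hB) (isMultType_baseChange K h₂) αK βK φ₁ h01
  refine ⟨φ, fun c => ?_, fun c => ?_⟩
  · have h1 := congrArg (cancelBC R K (K ⧸ J) A₂) (hφ ((1 : K) ⊗ₜ[R] c))
    rw [hφ₁, hcan] at h1
    have h3 := congrArg (Algebra.TensorProduct.map (σ : (K ⧸ J) →ₐ[R] K₀) (AlgHom.id R A₂)) h1
    rw [HomLift.map_map_id' (σ : (K ⧸ J) →ₐ[R] K₀) (σ.symm : K₀ →ₐ[R] K ⧸ J) (AlgHom.id R K₀)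
        (AlgHom.ext fun x => σ.apply_symm_apply x),
      HomLift.map_map_id' (σ : (K ⧸ J) →ₐ[R] K₀) (Ideal.Quotient.mkₐ R J) q rfl,
      Algebra.TensorProduct.map_id, AlgHom.id_apply] at h3
    exact h3.symm
  · rw [← hαK, hαφ]
    simp [βK]

/-- Lifting along a surjection with square-zero kernel. -/
theorem exists_lift_surjective [Algebra.Smooth R C] {K K₀ : Type u} [CommRing K] [Algebra R K] [CommRing K₀]
    [Algebra R K₀] (q : K →ₐ[R] K₀) (hq : Function.Surjective q) (hn : RingHom.ker (q : K →+* K₀) ^ 2 = ⊥)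
    (hB : SGA3b.IsMultType R B) (φ₀ : K₀ ⊗[R] C →ₐc[K₀] K₀ ⊗[R] B) :
    ∃ φ : K ⊗[R] C →ₐc[K] K ⊗[R] B,
      ∀ c, Algebra.TensorProduct.map q (AlgHom.id R B) (φ ((1 : K) ⊗ₜ[R] c)) = φ₀ ((1 : K₀) ⊗ₜ[R] c) := by
  let J := RingHom.ker (q : K →+* K₀)
  let σ : (K ⧸ J) ≃ₐ[R] K₀ := Ideal.quotientKerAlgEquivOfSurjective (f := q) hq
  have hcan : ∀ {X : Type u} [CommRing X] [HopfAlgebra R X] (z : K ⊗[R] X),
      cancelBC R K (K ⧸ J) X ((1 : K ⧸ J) ⊗ₜ[K] z) = Algebra.TensorProduct.map (Ideal.Quotient.mkₐ R J) (AlgHom.id R X) z := by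
    intro X _ _ z
    induction z with
    | zero => simp
    | add a b ha hb => simp only [map_add, tmul_add, ha, hb]
    | tmul k x =>
      rw [cancelBC_tmul, Algebra.smul_def, mul_one]
      rfl
  obtain ⟨g', hg'⟩ := HomLift.exists_hom_map (σ.symm : K₀ →ₐ[R] K ⧸ J) φ₀
  let φ₁ : (K ⧸ J) ⊗[K] (K ⊗[R] C) →ₐc[K ⧸ J] (K ⧸ J) ⊗[K] (K ⊗[R] B) :=
    ((cancelBC R K (K ⧸ J) B).symm : (K ⧸ J) ⊗[R] B →ₐc[K ⧸ J] (K ⧸ J) ⊗[K] (K ⊗[R] B)).comp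
      (g'.comp (cancelBC R K (K ⧸ J) C : (K ⧸ J) ⊗[K] (K ⊗[R] C) →ₐc[K ⧸ J] (K ⧸ J) ⊗[R] C))
  obtain ⟨φ, hφ⟩ := exists_lift (R := K) (J := J) (B := K ⊗[R] B) (C := K ⊗[R] C) hn (isMultType_baseChange K hB) φ₁
  refine ⟨φ, fun c => ?_⟩
  have h1 := congrArg (cancelBC R K (K ⧸ J) B) (hφ ((1 : K) ⊗ₜ[R] c))
  rw [hcan, show φ₁ ((1 : K ⧸ J) ⊗ₜ[K] ((1 : K) ⊗ₜ[R] c)) =
      (cancelBC R K (K ⧸ J) B).symm (g' (cancelBC R K (K ⧸ J) C ((1 : K ⧸ J) ⊗ₜ[K] ((1 : K) ⊗ₜ[R] c)))) from rfl,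
    show ∀ w, cancelBC R K (K ⧸ J) B ((cancelBC R K (K ⧸ J) B).symm w) = w from
      fun w => (cancelBC R K (K ⧸ J) B).apply_symm_apply w, hcan, Algebra.TensorProduct.map_tmul, map_one] at h1
  have h2 := hg' ((1 : K₀) ⊗ₜ[R] c)
  rw [Algebra.TensorProduct.map_tmul, map_one] at h2
  rw [h2] at h1
  have h3 := congrArg (Algebra.TensorProduct.map (σ : (K ⧸ J) →ₐ[R] K₀) (AlgHom.id R B)) h1
  rw [HomLift.map_map_id' (σ : (K ⧸ J) →ₐ[R] K₀) (σ.symm : K₀ →ₐ[R] K ⧸ J) (AlgHom.id R K₀)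
      (AlgHom.ext fun x => σ.apply_symm_apply x),
    HomLift.map_map_id' (σ : (K ⧸ J) →ₐ[R] K₀) (Ideal.Quotient.mkₐ R J) q rfl,
    Algebra.TensorProduct.map_id, AlgHom.id_apply] at h3
  exact h3.symm

/-- The transition maps. -/
def trans (I : Ideal R) (k : ℕ) : (R ⧸ I ^ (k + 1)) →ₐ[R] R ⧸ I ^ k :=
  Ideal.Quotient.factorₐ R (Ideal.pow_le_pow_right (Nat.le_succ k))

theorem trans_surjective (I : Ideal R) (k : ℕ) : Function.Surjective (trans I k) := fun x => by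
  obtain ⟨r, rfl⟩ := Ideal.Quotient.mk_surjective x
  exact ⟨Ideal.Quotient.mk _ r, rfl⟩

theorem trans_ker_sq (I : Ideal R) (k : ℕ) (hk : 1 ≤ k) :
    RingHom.ker (trans I k : (R ⧸ I ^ (k + 1)) →+* R ⧸ I ^ k) ^ 2 = ⊥ := by
  rw [show RingHom.ker (trans I k : (R ⧸ I ^ (k + 1)) →+* R ⧸ I ^ k) = (I ^ k).map (Ideal.Quotient.mk (I ^ (k + 1))) from
    Ideal.Quotient.factor_ker (Ideal.pow_le_pow_right (Nat.le_succ k)), ← Ideal.map_pow, Ideal.map_eq_bot_iff_le_ker,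
    Ideal.mk_ker, ← pow_mul]
  exact Ideal.pow_le_pow_right (by omega)

theorem factor_comp (I : Ideal R) (k : ℕ) :
    (Ideal.Quotient.factorₐ R (Ideal.pow_le_self (Nat.succ_ne_zero k) : I ^ (k + 1) ≤ I)).comp (trans I (k + 1)) =
      Ideal.Quotient.factorₐ R (Ideal.pow_le_self (Nat.succ_ne_zero (k + 1)) : I ^ (k + 1 + 1) ≤ I) :=
  AlgHom.ext fun x => by
    obtain ⟨r, rfl⟩ := Ideal.Quotient.mk_surjective x
    rfl

theorem exists_base (I : Ideal R) (φ₀ : ((R ⧸ I) ⊗[R] C) →ₐc[R ⧸ I] ((R ⧸ I) ⊗[R] B)) :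
    ∃ φ : (R ⧸ I ^ 1) ⊗[R] C →ₐc[R ⧸ I ^ 1] (R ⧸ I ^ 1) ⊗[R] B, ∀ c,
      φ ((1 : R ⧸ I ^ 1) ⊗ₜ[R] c) = Algebra.TensorProduct.map
        (Ideal.Quotient.factorₐ R ((pow_one I).ge : I ≤ I ^ 1)) (AlgHom.id R B) (φ₀ ((1 : R ⧸ I) ⊗ₜ[R] c)) := by
  obtain ⟨φ, hφ⟩ := HomLift.exists_hom_map (Ideal.Quotient.factorₐ R ((pow_one I).ge : I ≤ I ^ 1)) φ₀
  refine ⟨φ, fun c => ?_⟩
  rw [← hφ, Algebra.TensorProduct.map_tmul, map_one]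
  rfl

/-- A compatible system of lifts. -/
theorem exists_system [Algebra.Smooth R C] (I : Ideal R) (hB : SGA3b.IsMultType R B)
    (φ₀ : ((R ⧸ I) ⊗[R] C) →ₐc[R ⧸ I] ((R ⧸ I) ⊗[R] B)) :
    ∃ Φ : ∀ k, (R ⧸ I ^ (k + 1)) ⊗[R] C →ₐc[R ⧸ I ^ (k + 1)] (R ⧸ I ^ (k + 1)) ⊗[R] B,
      (∀ k c, Algebra.TensorProduct.map (trans I (k + 1)) (AlgHom.id R B) (Φ (k + 1) ((1 : R ⧸ I ^ (k + 1 + 1)) ⊗ₜ[R] c)) =
        Φ k ((1 : R ⧸ I ^ (k + 1)) ⊗ₜ[R] c)) ∧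
      ∀ k c, Algebra.TensorProduct.map (Ideal.Quotient.factorₐ R (Ideal.pow_le_self (Nat.succ_ne_zero k) : I ^ (k + 1) ≤ I))
        (AlgHom.id R B) (Φ k ((1 : R ⧸ I ^ (k + 1)) ⊗ₜ[R] c)) = φ₀ ((1 : R ⧸ I) ⊗ₜ[R] c) := by
  choose next hnext using fun (k : ℕ) (φ : (R ⧸ I ^ (k + 1)) ⊗[R] C →ₐc[R ⧸ I ^ (k + 1)] (R ⧸ I ^ (k + 1)) ⊗[R] B) =>
    exists_lift_surjective (trans I (k + 1)) (trans_surjective I (k + 1)) (trans_ker_sq I (k + 1) (by omega)) hB φ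
  obtain ⟨φ1, hφ1⟩ := exists_base I φ₀
  let Φ : ∀ k, (R ⧸ I ^ (k + 1)) ⊗[R] C →ₐc[R ⧸ I ^ (k + 1)] (R ⧸ I ^ (k + 1)) ⊗[R] B := fun k => Nat.rec φ1 next k
  refine ⟨Φ, fun k c => hnext k (Φ k) c, fun k => ?_⟩
  induction k with
  | zero =>
    intro c
    rw [show Φ 0 = φ1 from rfl, hφ1, HomLift.map_map_id' _ _ (AlgHom.id R (R ⧸ I)) (AlgHom.ext fun x => by
      obtain ⟨r, rfl⟩ := Ideal.Quotient.mk_surjective x
      rfl), Algebra.TensorProduct.map_id, AlgHom.id_apply]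
  | succ k ih =>
    intro c
    rw [← ih c, ← hnext k (Φ k) c, HomLift.map_map_id' _ _ _ (factor_comp I k)]

/-- A compatible system of relative lifts. -/
theorem exists_system_rel [Algebra.Smooth R C] (I : Ideal R) {A₂ : Type u} [CommRing A₂] [HopfAlgebra R A₂]
    (hB : SGA3b.IsMultType R B) (h₂ : SGA3b.IsMultType R A₂) (α : A₂ →ₐc[R] B) (β : C →ₐc[R] B)
    (φ₀ : ((R ⧸ I) ⊗[R] C) →ₐc[R ⧸ I] ((R ⧸ I) ⊗[R] A₂))
    (h0 : ∀ c, Algebra.TensorProduct.map (AlgHom.id R (R ⧸ I)) (α : A₂ →ₐ[R] B) (φ₀ ((1 : R ⧸ I) ⊗ₜ[R] c)) =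
      (1 : R ⧸ I) ⊗ₜ[R] β c) (k : ℕ) :
    ∃ φ : (R ⧸ I ^ (k + 1)) ⊗[R] C →ₐc[R ⧸ I ^ (k + 1)] (R ⧸ I ^ (k + 1)) ⊗[R] A₂,
      (∀ c, Algebra.TensorProduct.map (Ideal.Quotient.factorₐ R (Ideal.pow_le_self (Nat.succ_ne_zero k) : I ^ (k + 1) ≤ I))
        (AlgHom.id R A₂) (φ ((1 : R ⧸ I ^ (k + 1)) ⊗ₜ[R] c)) = φ₀ ((1 : R ⧸ I) ⊗ₜ[R] c)) ∧
      ∀ c, Algebra.TensorProduct.map (AlgHom.id R (R ⧸ I ^ (k + 1))) (α : A₂ →ₐ[R] B) (φ ((1 : R ⧸ I ^ (k + 1)) ⊗ₜ[R] c)) =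
        (1 : R ⧸ I ^ (k + 1)) ⊗ₜ[R] β c := by
  induction k with
  | zero =>
    obtain ⟨φ1, hφ1⟩ := exists_base I φ₀
    refine ⟨φ1, fun c => ?_, fun c => ?_⟩
    · rw [hφ1, HomLift.map_map_id' _ _ (AlgHom.id R (R ⧸ I)) (AlgHom.ext fun x => by
        obtain ⟨r, rfl⟩ := Ideal.Quotient.mk_surjective x
        rfl), Algebra.TensorProduct.map_id, AlgHom.id_apply]
    · rw [hφ1, map_id_comm, h0, Algebra.TensorProduct.map_tmul, map_one]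
      rfl
  | succ k ih =>
    obtain ⟨φ, hφ, hαφ⟩ := ih
    obtain ⟨ψ, hψ, hαψ⟩ := exists_lift_rel_surjective (trans I (k + 1)) (trans_surjective I (k + 1))
      (trans_ker_sq I (k + 1) (by omega)) hB h₂ α β φ hαφ
    exact ⟨ψ, fun c => by rw [← hφ c, ← hψ c, HomLift.map_map_id' _ _ _ (factor_comp I k)], hαψ⟩

theorem exists_of_bot {S : Type u} [CommRing S] [Algebra R S] (Ψ : S →ₐ[R] R) (φ : S ⊗[R] C →ₐc[S] S ⊗[R] B) :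
    ∃ ψ : C →ₐc[R] B, ∀ c, (1 : R) ⊗ₜ[R] ψ c = Algebra.TensorProduct.map Ψ (AlgHom.id R B) (φ ((1 : S) ⊗ₜ[R] c)) := by
  obtain ⟨φA, hφA⟩ := HomLift.exists_hom_map Ψ φ
  obtain ⟨ψ, hψ⟩ := HomLift.exists_of_local (R := R) (B := B) (C := C) (T := fun _ : PUnit.{u+1} => R)
    ⟨fun _ => inferInstance, fun p => ⟨PUnit.unit, p, by rw [Algebra.algebraMap_self]; rfl⟩⟩ (fun _ => φA) fun c _ _ => by
      rw [show (Algebra.TensorProduct.includeLeft : R →ₐ[R] R ⊗[R] R) = Algebra.TensorProduct.includeRight from Subsingleton.elim _ _]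
  refine ⟨ψ, fun c => ?_⟩
  rw [← hψ PUnit.unit c, ← hφA, Algebra.TensorProduct.map_tmul, map_one]
  rfl

/-- Lifting modulo a nilpotent ideal. -/
theorem exists_lift_nilpotent [Algebra.Smooth R C] {I : Ideal R} (hI : IsNilpotent I) (hB : SGA3b.IsMultType R B)
    (φ₀ : ((R ⧸ I) ⊗[R] C) →ₐc[R ⧸ I] ((R ⧸ I) ⊗[R] B)) :
    ∃ φ : C →ₐc[R] B, ∀ c, φ₀ ((1 : R ⧸ I) ⊗ₜ[R] c) = (1 : R ⧸ I) ⊗ₜ[R] φ c := by
  obtain ⟨N, hN⟩ := hI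
  have hbot : I ^ (N + 1) = ⊥ := le_bot_iff.1 ((Ideal.pow_le_pow_right (Nat.le_succ N)).trans hN.le)
  obtain ⟨Φ, -, hΦ⟩ := exists_system I hB φ₀
  let Ψ : (R ⧸ I ^ (N + 1)) →ₐ[R] R := Ideal.Quotient.liftₐ _ (AlgHom.id R R) fun a ha => by
    rw [hbot, Ideal.mem_bot] at ha
    simp [ha]
  obtain ⟨ψ, hψ⟩ := exists_of_bot Ψ (Φ N)
  refine ⟨ψ, fun c => ?_⟩
  have h1 := congrArg (Algebra.TensorProduct.map (Algebra.ofId R (R ⧸ I)) (AlgHom.id R B)) (hψ c)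
  rw [Algebra.TensorProduct.map_tmul, map_one, HomLift.map_map_id' _ _
    (Ideal.Quotient.factorₐ R (Ideal.pow_le_self (Nat.succ_ne_zero N) : I ^ (N + 1) ≤ I)) (AlgHom.ext fun x => by
      obtain ⟨r, rfl⟩ := Ideal.Quotient.mk_surjective x
      rfl), hΦ] at h1
  exact h1.symm

/-- Lifting over an adically complete ring. -/
theorem exists_lift_adicComplete [Algebra.Smooth R C] [IsNoetherianRing R] (I : Ideal R) [IsAdicComplete I R]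
    (hB : SGA3b.IsIsotrivial R B) (φ₀ : ((R ⧸ I) ⊗[R] C) →ₐc[R ⧸ I] ((R ⧸ I) ⊗[R] B)) :
    ∃ φ : C →ₐc[R] B, ∀ c, φ₀ ((1 : R ⧸ I) ⊗ₜ[R] c) = (1 : R ⧸ I) ⊗ₜ[R] φ c := by
  obtain ⟨Φ, hcomp, hΦ⟩ := exists_system I (isMultType_of_isIsotrivial hB) φ₀
  choose g hg using fun k => HomLift.exists_hom_map (trans I k) (Φ k)
  have hg1 : ∀ k c, g k ((1 : R ⧸ I ^ k) ⊗ₜ[R] c) =
      Algebra.TensorProduct.map (trans I k) (AlgHom.id R B) (Φ k ((1 : R ⧸ I ^ (k + 1)) ⊗ₜ[R] c)) := fun k c => by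
    rw [← hg, Algebra.TensorProduct.map_tmul, map_one]
    rfl
  have hsucc : ∀ k c, g (k + 1) ((1 : R ⧸ I ^ (k + 1)) ⊗ₜ[R] c) = Φ k ((1 : R ⧸ I ^ (k + 1)) ⊗ₜ[R] c) := fun k c => by
    rw [hg1, hcomp]
  obtain ⟨φ, hφ⟩ := HomLift.exists_algebraization_hom I hB g fun k c => by
    rw [hsucc, hg1]
    rfl
  refine ⟨φ, fun c => ?_⟩
  rw [← hΦ 0 c, ← hsucc 0 c, hφ, Algebra.TensorProduct.map_tmul, map_one]
  rfl

/-- Relative lifting modulo a nilpotent ideal. -/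
theorem exists_lift_rel_nilpotent [Algebra.Smooth R C] {I : Ideal R} (hI : IsNilpotent I) {A₂ : Type u} [CommRing A₂]
    [HopfAlgebra R A₂] (hB : SGA3b.IsMultType R B) (h₂ : SGA3b.IsMultType R A₂) (α : A₂ →ₐc[R] B) (β : C →ₐc[R] B)
    (γ₀ : ((R ⧸ I) ⊗[R] C) →ₐc[R ⧸ I] ((R ⧸ I) ⊗[R] A₂))
    (h0 : ∀ c, Algebra.TensorProduct.map (AlgHom.id (R ⧸ I) (R ⧸ I)) (α : A₂ →ₐ[R] B) (γ₀ ((1 : R ⧸ I) ⊗ₜ[R] c)) =
      (1 : R ⧸ I) ⊗ₜ[R] β c) :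
    ∃ γ : C →ₐc[R] A₂, (∀ c, γ₀ ((1 : R ⧸ I) ⊗ₜ[R] c) = (1 : R ⧸ I) ⊗ₜ[R] γ c) ∧ ∀ c, α (γ c) = β c := by
  obtain ⟨N, hN⟩ := hI
  have hbot : I ^ (N + 1) = ⊥ := le_bot_iff.1 ((Ideal.pow_le_pow_right (Nat.le_succ N)).trans hN.le)
  have h0' : ∀ z : (R ⧸ I) ⊗[R] A₂, Algebra.TensorProduct.map (AlgHom.id (R ⧸ I) (R ⧸ I)) (α : A₂ →ₐ[R] B) z =
      Algebra.TensorProduct.map (AlgHom.id R (R ⧸ I)) (α : A₂ →ₐ[R] B) z := fun z => by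
    induction z with
    | zero => simp
    | add a b ha hb => simp only [map_add, ha, hb]
    | tmul r x => rfl
  obtain ⟨Φ, hΦ, hαΦ⟩ := exists_system_rel I hB h₂ α β γ₀ (fun c => (h0' _).symm.trans (h0 c)) N
  let Ψ : (R ⧸ I ^ (N + 1)) →ₐ[R] R := Ideal.Quotient.liftₐ _ (AlgHom.id R R) fun a ha => by
    rw [hbot, Ideal.mem_bot] at ha
    simp [ha]
  obtain ⟨ψ, hψ⟩ := exists_of_bot Ψ Φ
  refine ⟨ψ, fun c => ?_, fun c => ?_⟩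
  · have h1 := congrArg (Algebra.TensorProduct.map (Algebra.ofId R (R ⧸ I)) (AlgHom.id R A₂)) (hψ c)
    rw [Algebra.TensorProduct.map_tmul, map_one, HomLift.map_map_id' _ _
      (Ideal.Quotient.factorₐ R (Ideal.pow_le_self (Nat.succ_ne_zero N) : I ^ (N + 1) ≤ I)) (AlgHom.ext fun x => by
        obtain ⟨r, rfl⟩ := Ideal.Quotient.mk_surjective x
        rfl), hΦ] at h1
    exact h1.symm
  · have h1 := congrArg (Algebra.TensorProduct.map (AlgHom.id R R) (α : A₂ →ₐ[R] B)) (hψ c)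
    rw [map_id_comm, hαΦ, Algebra.TensorProduct.map_tmul, Algebra.TensorProduct.map_tmul, map_one] at h1
    exact (TensorProduct.lid R B).symm.injective h1

end SmoothLift

end Groth.Agent.SGA3b53
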