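import Groth.Agent.SGA3b53.CharGroup
import Mathlib

/-!
Monomorphisms out of groups of multiplicative type are closed immersions.
-/

set_option autoImplicit false
set_option linter.unusedSectionVars false
set_option linter.style.haveILetI false
universe u v w
open TensorProduct

noncomputable section

namespace Groth.Agent.SGA3b53

theorem sum_lift_congr {L P : Type u} [CommRing L] [CommRing P] [Algebra L P] {M : Type u} [CommGroup M]
    (F G : M →* P) (y : MonoidAlgebra L M) (h : ∀ m, F m = G m ∨ algebraMap L P (y.coeff m) = 0) :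
    MonoidAlgebra.lift L P M F y = MonoidAlgebra.lift L P M G y := by
  rw [MonoidAlgebra.lift_apply, MonoidAlgebra.lift_apply]
  refine Finset.sum_congr rfl fun m _ => ?_
  rcases h m with h1 | h1
  · simp only [h1]
  · simp only [Algebra.smul_def, h1, zero_mul]

variable {R : Type u} [CommRing R] {A : Type u} [CommRing A] [HopfAlgebra R A]
variable {C : Type u} [CommRing C] [HopfAlgebra R C]

theorem surjective_of_mono (h : SGA3b.IsMultType R A) (φ : C →ₐc[R] A)
    (hmono : ∀ (T : Type u) [CommRing T] [Algebra R T],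
      Function.Injective (fun x : A →ₐ[R] T => x.comp (φ : C →ₐ[R] A))) :
    Function.Surjective φ := by
  obtain ⟨ι, L, _, _, _, hL, hd⟩ := exists_local_cover h
  refine hL.surjective (φ : C →ₗ[R] A) fun i => ?_
  obtain ⟨M, _, ⟨ρ⟩⟩ := hd i
  let φL : L i ⊗[R] C →ₐc[L i] MonoidAlgebra (L i) M :=
    (ρ : L i ⊗[R] A →ₐc[L i] MonoidAlgebra (L i) M).comp (Bialgebra.TensorProduct.map (BialgHom.id (L i) (L i)) φ)
  suffices hs : Function.Surjective φL by
    intro y
    obtain ⟨z, hz⟩ := hs (ρ y)
    exact ⟨z, EquivLike.injective ρ (Eq.trans (by change ρ _ = ρ _; congr 1) hz)⟩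
  refine surjective_of_charGroup_eq_top φL (eq_top_iff.2 fun m _ => ?_)
  by_contra hm
  let κ := IsLocalRing.ResidueField (L i)
  let P := MonoidAlgebra κ (M ⧸ charGroup φL)
  let F : M →* P := (MonoidAlgebra.of κ (M ⧸ charGroup φL)).comp (QuotientGroup.mk' (charGroup φL))
  let x : (M →* P) → (A →ₐ[R] P) := fun G =>
    (((MonoidAlgebra.lift (L i) P M G).comp (ρ : L i ⊗[R] A →ₐ[L i] MonoidAlgebra (L i) M)).restrictScalars R).comp
      Algebra.TensorProduct.includeRight
  have hx : (x F).comp (φ : C →ₐ[R] A) = (x 1).comp (φ : C →ₐ[R] A) := by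
    refine AlgHom.ext fun c => ?_
    refine sum_lift_congr F 1 (φL ((1 : L i) ⊗ₜ[R] c)) fun k => ?_
    by_cases hk : k ∈ charGroup φL
    · left
      simp only [F, MonoidHom.comp_apply, MonoidHom.one_apply]
      rw [show QuotientGroup.mk' (charGroup φL) k = 1 from (QuotientGroup.eq_one_iff k).2 hk, map_one]
    · right
      rw [IsScalarTower.algebraMap_apply (L i) κ P, IsLocalRing.ResidueField.algebraMap_eq,
        show IsLocalRing.residue (L i) ((φL ((1 : L i) ⊗ₜ[R] c)).coeff k) = 0 from
          Ideal.Quotient.eq_zero_iff_mem.2 (coeff_mem_of_notMem φL hk), map_zero]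
  have h1 := hmono P hx
  have h2 : ∀ z : L i ⊗[R] A, MonoidAlgebra.lift (L i) P M F (ρ z) = MonoidAlgebra.lift (L i) P M 1 (ρ z) := by
    intro z
    induction z with
    | zero => simp
    | add a b ha hb => simp only [map_add, ha, hb]
    | tmul t a =>
      rw [show t ⊗ₜ[R] a = t • ((1 : L i) ⊗ₜ[R] a) by rw [TensorProduct.smul_tmul', smul_eq_mul, mul_one]]
      simp only [map_smul]
      exact congrArg (t • ·) (DFunLike.congr_fun h1 a)
  have h3 := h2 (ρ.symm (MonoidAlgebra.of (L i) M m))
  rw [show ρ (ρ.symm (MonoidAlgebra.of (L i) M m)) = MonoidAlgebra.of (L i) M m from ρ.apply_symm_apply _,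
    MonoidAlgebra.lift_of, MonoidAlgebra.lift_of] at h3
  exact hm ((QuotientGroup.eq_one_iff m).1 (MonoidAlgebra.of_injective (R := κ) (h3.trans (map_one _).symm)))

end Groth.Agent.SGA3b53
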