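import Groth.Agent.SGA3b53.DiagSystem
import Mathlib

/-!
Over an adically complete Noetherian base, a group with diagonalisable reduction contains a
clopen diagonalisable subgroup.
-/

set_option autoImplicit false
set_option linter.unusedSectionVars false
set_option linter.style.haveILetI false
universe u v w
open TensorProduct

noncomputable section

namespace Groth.Agent.SGA3b53

variable {R : Type u} [CommRing R] {C : Type u} [CommRing C] [HopfAlgebra R C] {M : Type u} [CommGroup M]

open scoped Classical in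
theorem coeff_comul_monoidAlgebra (m : M) (z : MonoidAlgebra R M) :
    TensorProduct.rid R (MonoidAlgebra R M)
      (((MonoidAlgebra.basis M R).coord m).lTensor (MonoidAlgebra R M) (Coalgebra.comul (R := R) z)) =
      MonoidAlgebra.single m (z.coeff m) := by
  induction z using MonoidAlgebra.induction_linear with
  | zero => simp
  | add x y hx hy => simp only [map_add, hx, hy, MonoidAlgebra.coeff_add, Finsupp.add_apply, MonoidAlgebra.single_add]
  | single a r =>
    rw [MonoidAlgebra.comul_single, CommSemiring.comul_apply, TensorProduct.map_tmul, LinearMap.lTensor_tmul,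
      TensorProduct.rid_tmul, Module.Basis.coord_apply]
    simp only [MonoidAlgebra.basis, MonoidAlgebra.lsingle_apply, MonoidAlgebra.coeffLinearEquiv_apply,
      MonoidAlgebra.coeff_single, Finsupp.single_apply]
    by_cases ha : a = m
    · subst ha; simp
    · simp [ha]

theorem mem_smul_top_of_tmul_eq_zero (J : Ideal R) {x : C} (h : (1 : R ⧸ J) ⊗ₜ[R] x = 0) :
    x ∈ J • (⊤ : Submodule R C) := by
  have h1 := congrArg (TensorProduct.quotTensorEquivQuotSMul C J) h
  rw [map_zero, ← map_one (Ideal.Quotient.mk J), TensorProduct.quotTensorEquivQuotSMul_mk_tmul, one_smul] at h1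
  exact (Submodule.Quotient.mk_eq_zero _).1 h1

section Translate

variable (φ : C →ₐ[R] MonoidAlgebra R M)

/-- Translation by a point. -/
def translate : MonoidAlgebra R M ⊗[R] C →ₐ[MonoidAlgebra R M] MonoidAlgebra R M ⊗[R] C :=
  Algebra.TensorProduct.lift (Algebra.ofId _ _)
    ((Algebra.TensorProduct.map φ (AlgHom.id R C)).comp (Bialgebra.comulAlgHom R C)) fun _ _ => Commute.all _ _

theorem translate_one_tmul (c : C) : translate φ ((1 : MonoidAlgebra R M) ⊗ₜ[R] c) =
    Algebra.TensorProduct.map φ (AlgHom.id R C) (Coalgebra.comul (R := R) c) := by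
  rw [translate, Algebra.TensorProduct.lift_tmul, map_one, one_mul]
  rfl

theorem translate_tmul (z : MonoidAlgebra R M) (c : C) : translate φ (z ⊗ₜ[R] c) =
    z • Algebra.TensorProduct.map φ (AlgHom.id R C) (Coalgebra.comul (R := R) c) := by
  rw [← translate_one_tmul, ← map_smul, TensorProduct.smul_tmul', smul_eq_mul, mul_one]

theorem translate_inverse (ψ : C →ₐ[R] MonoidAlgebra R M)
    (h : ∀ c : C, LinearMap.mul' R (MonoidAlgebra R M) (TensorProduct.map φ.toLinearMap ψ.toLinearMap (Coalgebra.comul (R := R) c)) =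
      algebraMap R (MonoidAlgebra R M) (Coalgebra.counit (R := R) c)) (c : C) :
    translate ψ (translate φ ((1 : MonoidAlgebra R M) ⊗ₜ[R] c)) = (1 : MonoidAlgebra R M) ⊗ₜ[R] c := by
  let G := MonoidAlgebra R M
  let Ψ : C ⊗[R] (C ⊗[R] C) →ₗ[R] G ⊗[R] C :=
    (LinearMap.mul' R G).rTensor C ∘ₗ (TensorProduct.assoc R G G C).symm.toLinearMap ∘ₗ
      TensorProduct.map φ.toLinearMap (TensorProduct.map ψ.toLinearMap LinearMap.id)
  have h1 : ∀ w : C ⊗[R] C, translate ψ (Algebra.TensorProduct.map φ (AlgHom.id R C) w) =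
      Ψ ((Coalgebra.comul (R := R) (A := C)).lTensor C w) := by
    intro w
    induction w with
    | zero => simp
    | add a b ha hb => simp only [map_add, ha, hb]
    | tmul a b =>
      rw [Algebra.TensorProduct.map_tmul, LinearMap.lTensor_tmul, AlgHom.id_apply, translate_tmul]
      generalize Coalgebra.comul (R := R) b = v
      induction v with
      | zero => simp
      | add p q hp hq => simp only [map_add, tmul_add, smul_add, hp, hq]
      | tmul p q => simp [Ψ, G, TensorProduct.smul_tmul']
  have h2 : ∀ w : (C ⊗[R] C) ⊗[R] C, Ψ (TensorProduct.assoc R C C C w) =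
      ((LinearMap.mul' R G) ∘ₗ TensorProduct.map φ.toLinearMap ψ.toLinearMap).rTensor C w := by
    intro w
    induction w with
    | zero => simp
    | add a b ha hb => simp only [map_add, ha, hb]
    | tmul v q =>
      induction v with
      | zero => simp
      | add a b ha hb => simp only [map_add, add_tmul, ha, hb]
      | tmul a b => simp [Ψ, G]
  rw [translate_one_tmul, h1, ← Coalgebra.coassoc_apply, h2, ← LinearMap.rTensor_comp_apply]
  have h3 : ((LinearMap.mul' R G) ∘ₗ TensorProduct.map φ.toLinearMap ψ.toLinearMap) ∘ₗ (Coalgebra.comul (R := R) (A := C)) =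
      (Algebra.linearMap R G) ∘ₗ (Coalgebra.counit (R := R) (A := C)) := LinearMap.ext fun a => h a
  rw [h3, LinearMap.rTensor_comp_apply, Coalgebra.rTensor_counit_comul, LinearMap.rTensor_tmul, Algebra.linearMap_apply,
    map_one]

end Translate

/-- The clopen diagonalisable subgroup. -/
theorem exists_clopen_diag [IsNoetherianRing R] (I : Ideal R) [IsAdicComplete I R] [Algebra.FiniteType R C]
    (hflat : ∀ k, Module.Flat (R ⧸ I ^ k) ((R ⧸ I ^ k) ⊗[R] C))
    (ρ1 : (R ⧸ I) ⊗[R] C ≃ₐc[R ⧸ I] MonoidAlgebra (R ⧸ I) M) :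
    ∃ (φ : C →ₐc[R] MonoidAlgebra R M) (e : C), Function.Surjective φ ∧ IsIdempotentElem e ∧
      e ∈ Ideal.map (algebraMap R C) I ∧ (∀ x, φ x = 0 ↔ e * x = x) ∧
      ∀ x, (∀ k, x ∈ Ideal.map (algebraMap R C) (I ^ k)) ↔ φ x = 0 := by
  classical
  obtain ⟨φ, ρ, hρ⟩ := exists_formal_diag I hflat ρ1
  have hjac : I ≤ (⊥ : Ideal R).jacobson := IsAdicComplete.le_jacobson_bot I
  have hI1 : I ^ (0 + 1) = I := pow_one I
  -- surjectivity
  have hsingle : ∀ m c, MonoidAlgebra.single m ((φ c).coeff m) ∈ (φ : C →ₐ[R] MonoidAlgebra R M).range := by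
    intro m c
    refine ⟨TensorProduct.rid R C (((MonoidAlgebra.basis M R).coord m ∘ₗ (φ : C →ₗ[R] MonoidAlgebra R M)).lTensor C
      (Coalgebra.comul (R := R) c)), ?_⟩
    have h1 : ∀ w : C ⊗[R] C, φ (TensorProduct.rid R C (((MonoidAlgebra.basis M R).coord m ∘ₗ (φ : C →ₗ[R] MonoidAlgebra R M)).lTensor C w)) =
        TensorProduct.rid R _ (((MonoidAlgebra.basis M R).coord m).lTensor _ (TensorProduct.map (φ : C →ₗ[R] MonoidAlgebra R M) (φ : C →ₗ[R] MonoidAlgebra R M) w)) := by
      intro w
      induction w with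
      | zero => simp
      | add a b ha hb => simp only [map_add, ha, hb]
      | tmul a b => simp
    change φ _ = _
    rw [h1, show TensorProduct.map (φ : C →ₗ[R] MonoidAlgebra R M) (φ : C →ₗ[R] MonoidAlgebra R M) (Coalgebra.comul (R := R) c) =
      Coalgebra.comul (R := R) (φ c) from CoalgHomClass.map_comp_comul_apply φ c]
    exact coeff_comul_monoidAlgebra m (φ c)
  have hof : ∀ m, MonoidAlgebra.of R M m ∈ (φ : C →ₐ[R] MonoidAlgebra R M).range := by
    intro m
    obtain ⟨w, hw⟩ : ∃ w, ρ 0 w = MonoidAlgebra.of _ M m := ⟨(ρ 0).symm _, (ρ 0).apply_symm_apply _⟩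
    obtain ⟨c, rfl⟩ := TensorProduct.mk_surjective R C (R ⧸ I ^ (0 + 1)) Ideal.Quotient.mk_surjective w
    have h1 := congrArg (fun z => MonoidAlgebra.coeff z m) ((hρ 0 c).trans hw)
    simp only [MonoidAlgebra.coeff_mapRingHom, MonoidAlgebra.of_apply, MonoidAlgebra.coeff_single, Finsupp.single_eq_same] at h1
    have h2 : Ideal.Quotient.mk (I ^ (0 + 1)) ((φ c).coeff m) = 1 := h1
    have hu : IsUnit ((φ c).coeff m) := by
      have h3 : 1 - (φ c).coeff m ∈ (⊥ : Ideal R).jacobson := hjac (Ideal.pow_le_self Nat.one_ne_zero (by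
        rw [← Ideal.Quotient.eq_zero_iff_mem, map_sub, map_one, h2, sub_self]))
      simpa using Ideal.mem_jacobson_bot.1 h3 (-1)
    have h4 : MonoidAlgebra.of R M m = hu.unit⁻¹.val • MonoidAlgebra.single m ((φ c).coeff m) := by
      simp [MonoidAlgebra.smul_single]
    rw [h4]
    exact Subalgebra.smul_mem _ (hsingle m c) _
  have hsurj : Function.Surjective φ := by
    intro y
    induction y using MonoidAlgebra.induction_linear with
    | zero => exact ⟨0, map_zero _⟩
    | add a b ha hb =>
      obtain ⟨x, rfl⟩ := ha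
      obtain ⟨x', rfl⟩ := hb
      exact ⟨x + x', map_add _ _ _⟩
    | single m s =>
      obtain ⟨x, hx⟩ := hof m
      exact ⟨s • x, by rw [map_smul, show φ x = _ from hx]; simp⟩
  -- the kernel
  let K : Ideal C := RingHom.ker (φ : C →ₐ[R] MonoidAlgebra R M)
  have hK : ∀ {x}, x ∈ K ↔ φ x = 0 := fun {x} => RingHom.mem_ker
  let IC : Ideal C := Ideal.map (algebraMap R C) I
  have hKI : ∀ x ∈ K, x ∈ I • (⊤ : Submodule R C) := by
    intro x hx
    have h1 := hρ 0 x
    rw [hK.1 hx, map_zero] at h1
    have h2 := mem_smul_top_of_tmul_eq_zero (I ^ (0 + 1)) ((map_eq_zero_iff (ρ 0) (EquivLike.injective (ρ 0))).1 h1.symm)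
    rwa [hI1] at h2
  choose pre hpre using fun m => hsurj (MonoidAlgebra.of R M m)
  let s : MonoidAlgebra R M →ₗ[R] C := (MonoidAlgebra.basis M R).constr R pre
  let P : C →ₗ[R] C := LinearMap.id - s ∘ₗ (φ : C →ₗ[R] MonoidAlgebra R M)
  have hs : (φ : C →ₗ[R] MonoidAlgebra R M) ∘ₗ s = LinearMap.id :=
    (MonoidAlgebra.basis M R).ext fun m => by
      rw [LinearMap.comp_apply, show s (MonoidAlgebra.basis M R m) = pre m from Module.Basis.constr_basis _ _ _ _, LinearMap.id_apply]
      exact (hpre m).trans (by simp)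
  have hP : ∀ x, P x ∈ K := fun x => by
    rw [hK]
    have h1 := LinearMap.congr_fun hs (φ x)
    simp only [LinearMap.comp_apply, LinearMap.id_apply] at h1
    change φ (x - s (φ x)) = 0
    rw [map_sub, sub_eq_zero]
    exact h1.symm
  have hKIK : K ≤ IC • K := by
    intro x hx
    have h1 : x = P x := by
      change x = x - s (φ x)
      rw [hK.1 hx, map_zero, sub_zero]
    rw [h1]
    have h2 : ∀ y ∈ I • (⊤ : Submodule R C), P y ∈ IC • K := by
      intro y hy
      refine Submodule.smul_induction_on hy (fun i hi z _ => ?_) (fun a b ha hb => ?_)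
      · rw [map_smul, ← algebraMap_smul C i (P z)]
        exact Submodule.smul_mem_smul (Ideal.mem_map_of_mem (algebraMap R C) hi) (hP z)
      · rw [map_add]; exact add_mem ha hb
    exact h2 x (hKI x hx)
  haveI : IsNoetherianRing C := Algebra.FiniteType.isNoetherianRing R C
  obtain ⟨r, hr, hrK⟩ := Submodule.exists_sub_one_mem_and_smul_eq_zero_of_fg_of_le_smul IC K (IsNoetherian.noetherian K) hKIK
  -- normalise at the identity
  let εr := Coalgebra.counit (R := R) r
  have hεu : IsUnit εr := by
    have h1 : Bialgebra.counitAlgHom R C (r - 1) ∈ I := by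
      have h2 : Ideal.map (Bialgebra.counitAlgHom R C : C →+* R) IC ≤ I := by
        rw [Ideal.map_map]
        refine Ideal.map_le_iff_le_comap.2 fun a ha => ?_
        rw [Ideal.mem_comap]
        change Bialgebra.counitAlgHom R C (algebraMap R C a) ∈ I
        rw [AlgHom.commutes]
        exact ha
      exact h2 (Ideal.mem_map_of_mem _ hr)
    rw [map_sub, map_one] at h1
    have h3 := Ideal.mem_jacobson_bot.1 (hjac h1) 1
    rw [mul_one, sub_add_cancel] at h3
    exact h3
  let j := algebraMap R C hεu.unit⁻¹.val * r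
  have hjK : ∀ k ∈ K, j * k = 0 := fun k hk => by
    rw [mul_assoc, show r * k = 0 from hrK k hk, mul_zero]
  have hεj : Bialgebra.counitAlgHom R C j = 1 := by
    rw [map_mul, AlgHom.commutes]
    exact hεu.val_inv_mul
  -- translate to all points
  let G := MonoidAlgebra R M
  let φn : C →ₐ[R] G := (φ : C →ₐ[R] G).comp (HopfAlgebra.antipodeAlgHom R C)
  let x := translate φn ((1 : G) ⊗ₜ[R] j)
  have hinv : ∀ c, LinearMap.mul' R G (TensorProduct.map (φ : C →ₐ[R] G).toLinearMap φn.toLinearMap (Coalgebra.comul (R := R) c)) =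
      algebraMap R G (Coalgebra.counit (R := R) c) := by
    intro c
    rw [← AlgHom.commutes (φ : C →ₐ[R] G), ← HopfAlgebra.mul_antipode_lTensor_comul_apply (R := R) c]
    generalize Coalgebra.comul (R := R) c = w
    induction w with
    | zero => simp
    | add a b ha hb => simp only [map_add, ha, hb]
    | tmul a b => simp [φn, G]
  have hxK : ∀ k ∈ K, x * ((1 : G) ⊗ₜ[R] k) = 0 := by
    intro k hk
    rw [← translate_inverse (φ : C →ₐ[R] G) φn hinv k, ← map_mul]
    have h0 : ((φ : C →ₐ[R] G).toLinearMap).lTensor G (translate (φ : C →ₐ[R] G) ((1 : G) ⊗ₜ[R] k)) = 0 := by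
      rw [translate_one_tmul]
      have h2 : ∀ w : C ⊗[R] C, ((φ : C →ₐ[R] G).toLinearMap).lTensor G (Algebra.TensorProduct.map (φ : C →ₐ[R] G) (AlgHom.id R C) w) =
          TensorProduct.map (φ : C →ₗ[R] G) (φ : C →ₗ[R] G) w := by
        intro w
        induction w with
        | zero => simp
        | add a b ha hb => simp only [map_add, ha, hb]
        | tmul a b => simp
      rw [h2, show TensorProduct.map (φ : C →ₗ[R] G) (φ : C →ₗ[R] G) (Coalgebra.comul (R := R) k) =
        Coalgebra.comul (R := R) (φ k) from CoalgHomClass.map_comp_comul_apply φ k, hK.1 hk, map_zero]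
    obtain ⟨w, hw⟩ := ((lTensor_exact G (LinearMap.exact_subtype_ker_map (φ : C →ₐ[R] G).toLinearMap) hsurj) _).1 h0
    rw [← hw, show ((1 : G) ⊗ₜ[R] j) * (LinearMap.ker (φ : C →ₐ[R] G).toLinearMap).subtype.lTensor G w = 0 from ?_, map_zero]
    clear hw
    induction w with
    | zero => simp
    | add a b ha hb => rw [map_add, mul_add, ha, hb, add_zero]
    | tmul a b =>
      rw [LinearMap.lTensor_tmul, Algebra.TensorProduct.tmul_mul_tmul, Submodule.subtype_apply, hjK _ (hK.2 b.2), tmul_zero]
  have hσx : Algebra.TensorProduct.productMap (AlgHom.id R G) (φ : C →ₐ[R] G) x = 1 := by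
    rw [show x = _ from translate_one_tmul φn j]
    have h2 : ∀ w : C ⊗[R] C, Algebra.TensorProduct.productMap (AlgHom.id R G) (φ : C →ₐ[R] G)
        (Algebra.TensorProduct.map φn (AlgHom.id R C) w) = φ (LinearMap.mul' R C ((HopfAlgebra.antipode R).rTensor C w)) := by
      intro w
      induction w with
      | zero => simp
      | add a b ha hb => simp only [map_add, ha, hb]
      | tmul a b => simp [φn, G]
    rw [h2, HopfAlgebra.mul_antipode_rTensor_comul_apply, show Coalgebra.counit (R := R) j = 1 from hεj, map_one, map_one]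
  obtain ⟨cf, hcf⟩ := TensorProduct.eq_repr_basis_left (MonoidAlgebra.basis M R) x
  let j0 : C := cf.sum fun m c => pre m * c
  have hj0 : φ j0 = 1 := by
    rw [← hσx, ← hcf, map_finsuppSum, map_finsuppSum]
    refine Finsupp.sum_congr fun m _ => ?_
    rw [map_mul, hpre, Algebra.TensorProduct.productMap_apply_tmul]
    rfl
  have hcfK : ∀ m, ∀ k ∈ K, cf m * k = 0 := by
    intro m k hk
    have h1 := congrArg (fun z => TensorProduct.lid R C (((MonoidAlgebra.basis M R).coord m).rTensor C z))
      (hxK k hk)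
    simp only [map_zero] at h1
    rw [← h1, ← hcf, Finsupp.sum, Finset.sum_mul, map_sum, map_sum, Finset.sum_eq_single m]
    · rw [Algebra.TensorProduct.tmul_mul_tmul, mul_one, LinearMap.rTensor_tmul, TensorProduct.lid_tmul,
        Module.Basis.coord_apply, Module.Basis.repr_self, Finsupp.single_eq_same, one_smul]
    · intro p _ hp
      rw [Algebra.TensorProduct.tmul_mul_tmul, mul_one, LinearMap.rTensor_tmul, TensorProduct.lid_tmul,
        Module.Basis.coord_apply, Module.Basis.repr_self, Finsupp.single_eq_of_ne' hp, zero_smul]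
    · intro h
      rw [Finsupp.notMem_support_iff.1 h, tmul_zero, zero_mul, map_zero, map_zero]
  have hj0K : ∀ k ∈ K, j0 * k = 0 := fun k hk => by
    simp only [j0, Finsupp.sum, Finset.sum_mul]
    exact Finset.sum_eq_zero fun m _ => by rw [mul_assoc, hcfK m k hk, mul_zero]
  let e := 1 - j0
  have he : e ∈ K := hK.2 (by rw [map_sub, map_one, hj0, sub_self])
  have heK : ∀ k ∈ K, e * k = k := fun k hk => by rw [sub_mul, one_mul, hj0K k hk, sub_zero]
  have heI : e ∈ IC := by
    have h1 := hKI e he
    rw [Ideal.smul_top_eq_map] at h1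
    exact h1
  have hidem : IsIdempotentElem e := heK e he
  refine ⟨φ, e, hsurj, hidem, heI, fun y => ⟨fun hy => heK y (hK.2 hy), fun hy => ?_⟩, fun y => ⟨fun hy => ?_, fun hy k => ?_⟩⟩
  · rw [← hy, map_mul, hK.1 he, zero_mul]
  · refine monoidAlgebra_ext_pow I fun k => ?_
    rw [map_zero]
    have h1 : Ideal.map (algebraMap R C) (I ^ (k + 1)) ≤
        RingHom.ker ((MonoidAlgebra.mapRingHom M (Ideal.Quotient.mk (I ^ k))).comp (φ : C →ₐ[R] MonoidAlgebra R M).toRingHom) := by
      refine Ideal.map_le_iff_le_comap.2 fun a ha => ?_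
      rw [Ideal.mem_comap, RingHom.mem_ker]
      change MonoidAlgebra.mapRingHom M (Ideal.Quotient.mk (I ^ k)) (φ (algebraMap R C a)) = 0
      rw [AlgHomClass.commutes]
      refine MonoidAlgebra.ext (Finsupp.ext fun m => ?_)
      simp only [MonoidAlgebra.coeff_mapRingHom, MonoidAlgebra.coe_algebraMap, Function.comp_apply,
        MonoidAlgebra.coeff_single, Algebra.algebraMap_self, RingHom.id_apply]
      by_cases hm : (1 : M) = m
      · subst hm
        simp [Ideal.Quotient.eq_zero_iff_mem.2 (Ideal.pow_le_pow_right (Nat.le_succ k) ha)]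
      · simp [Ne.symm hm]
    exact h1 (hy (k + 1))
  · rw [← heK y (hK.2 hy), Ideal.map_pow]
    refine Ideal.mul_mem_right _ _ ?_
    rcases k with _ | k
    · simp
    · rw [← hidem.pow_succ_eq k]
      exact Ideal.pow_mem_pow heI _

end Groth.Agent.SGA3b53
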