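import Groth.Agent.SGA3b53.Deligne
import Groth.Agent.SGA3b53.Density
import Groth.Agent.SGA3b53.Clopen
import Mathlib

/-!
A commutative group of finite presentation with killed fibres is killed by an integer.
-/

set_option autoImplicit false
set_option linter.unusedSectionVars false
set_option linter.style.haveILetI false
universe u
open TensorProduct WithConv Topology

noncomputable section

namespace Groth.Agent.SGA3b53.Killed

variable {R : Type u} [CommRing R] {C : Type u} [CommRing C] [HopfAlgebra R C]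

variable (R C) in
/-- The augmentation ideal. -/
def aug : Ideal C := RingHom.ker (Bialgebra.counitAlgHom R C)

theorem mem_aug {a : C} : a ∈ aug R C ↔ Coalgebra.counit (R := R) a = 0 := Iff.rfl

theorem counit_powConv (n : ℕ) (a : C) :
    Coalgebra.counit (R := R) (SGA3b.powConv R C n a) = Coalgebra.counit (R := R) a := by
  have h1 : toConv (Bialgebra.counitAlgHom R C) = (1 : WithConv (C →ₐ[R] R)) :=
    WithConv.ext (AlgHom.ext fun c => by simp [AlgHom.convOne_apply])
  refine AlgHom.congr_fun (show (Bialgebra.counitAlgHom R C).comp (SGA3b.powConv R C n) = Bialgebra.counitAlgHom R C from ?_) a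
  rw [comp_powConv, h1, one_pow, ← h1]

theorem powConv_mul (m n : ℕ) : SGA3b.powConv R C (m * n) = (SGA3b.powConv R C m).comp (SGA3b.powConv R C n) := by
  rw [comp_powConv, show toConv (SGA3b.powConv R C m) = toConv (AlgHom.id R C) ^ m from rfl, ← pow_mul]
  rfl

theorem powConv_mem_aug (n : ℕ) {a : C} (ha : a ∈ aug R C) : SGA3b.powConv R C n a ∈ aug R C := by
  rw [mem_aug, counit_powConv]; exact ha

/-- The power maps are multiplication by the integer on the cotangent space. -/
theorem powConv_sub_nsmul_mem {a : C} (ha : a ∈ aug R C) (n : ℕ) :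
    SGA3b.powConv R C n a - n • a ∈ aug R C ^ 2 := by
  induction n generalizing a with
  | zero =>
    rw [powConv_zero, show Coalgebra.counit (R := R) a = 0 from ha, map_zero, zero_smul, sub_zero]
    exact zero_mem _
  | succ n ih =>
    let L := Algebra.TensorProduct.lift (SGA3b.powConv R C n) (AlgHom.id R C) (fun _ _ => Commute.all _ _)
    let p : C → C := fun x => x - algebraMap R C (Coalgebra.counit (R := R) x)
    have hp : ∀ x, p x ∈ aug R C := fun x => by simp [p, mem_aug]
    have h1 : ∀ z : C ⊗[R] C, L z - SGA3b.powConv R C n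
          (TensorProduct.rid R C ((Coalgebra.counit (R := R) (A := C)).lTensor C z))
        - TensorProduct.lid R C ((Coalgebra.counit (R := R) (A := C)).rTensor C z)
        + algebraMap R C (TensorProduct.lid R R (TensorProduct.map (Coalgebra.counit (R := R) (A := C)) (Coalgebra.counit (R := R) (A := C)) z))
        ∈ aug R C ^ 2 := by
      intro z
      induction z with
      | zero => simp
      | add x y hx hy =>
        simp only [map_add]
        convert add_mem hx hy using 1
        ring
      | tmul x y =>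
        have h2 : SGA3b.powConv R C n (p x) * p y ∈ aug R C ^ 2 := by
          rw [pow_two]; exact Ideal.mul_mem_mul (powConv_mem_aug n (hp x)) (hp y)
        convert h2 using 1
        simp only [p, L, LinearMap.lTensor_tmul, LinearMap.rTensor_tmul, TensorProduct.rid_tmul, TensorProduct.lid_tmul,
          TensorProduct.map_tmul, Algebra.TensorProduct.lift_tmul, AlgHom.id_apply, map_sub, AlgHom.commutes,
          smul_eq_mul, map_mul, Algebra.smul_def]
        ring
    have hsum : TensorProduct.lid R R (TensorProduct.map (Coalgebra.counit (R := R) (A := C)) (Coalgebra.counit (R := R) (A := C))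
        (Coalgebra.comul (R := R) a)) = 0 := by
      rw [← LinearMap.lTensor_comp_rTensor, LinearMap.comp_apply, Coalgebra.rTensor_counit_comul, LinearMap.lTensor_tmul,
        TensorProduct.lid_tmul, one_smul]
      exact ha
    have h3 := h1 (Coalgebra.comul (R := R) a)
    rw [hsum, map_zero, add_zero, Coalgebra.lTensor_counit_comul, Coalgebra.rTensor_counit_comul, TensorProduct.rid_tmul,
      TensorProduct.lid_tmul, one_smul] at h3
    rw [powConv_succ]
    convert add_mem h3 (ih ha) using 1
    rw [succ_nsmul]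
    ring

/-- An element which dies in a fibre dies on a constructible neighbourhood. -/
theorem exists_nhd_zero (p : PrimeSpectrum R) (g : C) (h : (1 : p.asIdeal.ResidueField) ⊗ₜ[R] g = 0) :
    ∃ (f : R) (s : Finset R), f ∉ p.asIdeal ∧ ↑s ⊆ (p.asIdeal : Set R) ∧
      ∀ q : PrimeSpectrum R, f ∉ q.asIdeal → ↑s ⊆ (q.asIdeal : Set R) → (1 : q.asIdeal.ResidueField) ⊗ₜ[R] g = 0 := by
  classical
  let K := p.asIdeal.ResidueField
  let R₀ := R ⧸ p.asIdeal
  let m : R₀ ⊗[R] C →ₗ[R₀] K ⊗[R] C :=
    ((AlgebraTensorModule.cancelBaseChange R R₀ K K C).restrictScalars R₀).toLinearMap ∘ₗ TensorProduct.mk R₀ K (R₀ ⊗[R] C) 1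
  haveI : IsLocalizedModule (nonZeroDivisors R₀) (TensorProduct.mk R₀ K (R₀ ⊗[R] C) 1) :=
    (isLocalizedModule_iff_isBaseChange (nonZeroDivisors R₀) K _).2 (TensorProduct.isBaseChange R₀ (R₀ ⊗[R] C) K)
  haveI : IsLocalizedModule (nonZeroDivisors R₀) m := IsLocalizedModule.of_linearEquiv _ _ _
  have h0 : m ((1 : R₀) ⊗ₜ[R] g) = 0 := by simpa [m] using h
  obtain ⟨c, hc⟩ := (IsLocalizedModule.eq_zero_iff (nonZeroDivisors R₀) m).1 h0
  obtain ⟨f, hf⟩ := Ideal.Quotient.mk_surjective (c : R₀)
  have hfp : f ∉ p.asIdeal := fun hmem =>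
    nonZeroDivisors.ne_zero c.2 (by rw [← hf]; exact Ideal.Quotient.eq_zero_iff_mem.2 hmem)
  have hfg : f • g ∈ p.asIdeal • (⊤ : Submodule R C) := by
    refine mem_smul_top_of_tmul_eq_zero p.asIdeal ?_
    rw [TensorProduct.tmul_smul, ← algebraMap_smul R₀ f ((1 : R₀) ⊗ₜ[R] g), Ideal.Quotient.algebraMap_eq, hf]
    exact hc
  have hs : ∃ s : Finset R, ↑s ⊆ (p.asIdeal : Set R) ∧ f • g ∈ Ideal.span (s : Set R) • (⊤ : Submodule R C) := by
    obtain ⟨y, hy⟩ : ∃ y, y = f • g := ⟨_, rfl⟩
    rw [← hy] at hfg ⊢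
    clear hy
    induction hfg using Submodule.smul_induction_on' with
    | smul r hr n hn =>
      exact ⟨{r}, by simpa using hr,
        Submodule.smul_mem_smul (Ideal.subset_span (Finset.mem_coe.2 (Finset.mem_singleton_self r))) hn⟩
    | add x hx y hy ihx ihy =>
      obtain ⟨s, hs, hx'⟩ := ihx
      obtain ⟨t, ht, hy'⟩ := ihy
      refine ⟨s ∪ t, by simp [hs, ht], add_mem ?_ ?_⟩
      · exact Submodule.smul_mono_left (Ideal.span_mono (by simp)) hx'
      · exact Submodule.smul_mono_left (Ideal.span_mono (by simp)) hy'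
  obtain ⟨s, hs, hs'⟩ := hs
  refine ⟨f, s, hfp, hs, fun q hfq hsq => ?_⟩
  have h1 : (1 : q.asIdeal.ResidueField) ⊗ₜ[R] (f • g) = 0 := by
    obtain ⟨y, hy⟩ : ∃ y, y = f • g := ⟨_, rfl⟩
    rw [← hy] at hs' ⊢
    clear hy
    induction hs' using Submodule.smul_induction_on' with
    | smul r hr n hn =>
      rw [← TensorProduct.smul_tmul, ← Algebra.algebraMap_eq_smul_one,
        Ideal.algebraMap_residueField_eq_zero.2 (Ideal.span_le.2 hsq hr), TensorProduct.zero_tmul]
    | add x hx y hy ihx ihy => rw [TensorProduct.tmul_add, ihx, ihy, add_zero]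
  rw [TensorProduct.tmul_smul, ← algebraMap_smul q.asIdeal.ResidueField f ((1 : q.asIdeal.ResidueField) ⊗ₜ[R] g)] at h1
  exact (smul_eq_zero.1 h1).resolve_left fun h2 => hfq (Ideal.algebraMap_residueField_eq_zero.1 h2)

variable (R C) in
/-- The fibre at a point is killed by `n`. -/
def FibreKilled (n : ℕ) (p : PrimeSpectrum R) : Prop :=
  ∀ a ∈ aug R C, (1 : p.asIdeal.ResidueField) ⊗ₜ[R] SGA3b.powConv R C n a = 0

theorem FibreKilled.of_dvd {n N : ℕ} {p : PrimeSpectrum R} (h : FibreKilled R C n p) (hd : n ∣ N) :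
    FibreKilled R C N p := fun a ha => by
  obtain ⟨m, rfl⟩ := hd
  rw [powConv_mul, AlgHom.comp_apply]
  exact h _ (powConv_mem_aug m ha)

theorem fg_aug [Algebra.FinitePresentation R C] : (aug R C).FG :=
  Algebra.FinitePresentation.ker_fG_of_surjective (Bialgebra.counitAlgHom R C)
    fun r => ⟨algebraMap R C r, by simp⟩

theorem aug_eq_span [Algebra.FinitePresentation R C] {n : ℕ} {G : Finset C} (hG : Ideal.span (G : Set C) = aug R C) {p : PrimeSpectrum R}
    (h : ∀ g ∈ G, (1 : p.asIdeal.ResidueField) ⊗ₜ[R] SGA3b.powConv R C n g = 0) : FibreKilled R C n p := by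
  intro a ha
  rw [← hG] at ha
  induction ha using Submodule.span_induction with
  | mem g hg => exact h g hg
  | zero => simp
  | add x y _ _ hx hy => rw [map_add, TensorProduct.tmul_add, hx, hy, add_zero]
  | smul c x _ hx =>
    rw [smul_eq_mul, map_mul, show (1 : p.asIdeal.ResidueField) ⊗ₜ[R] (SGA3b.powConv R C n c * SGA3b.powConv R C n x) =
      ((1 : p.asIdeal.ResidueField) ⊗ₜ[R] SGA3b.powConv R C n c) * ((1 : p.asIdeal.ResidueField) ⊗ₜ[R] SGA3b.powConv R C n x) by
        rw [Algebra.TensorProduct.tmul_mul_tmul, one_mul], hx, mul_zero]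

theorem exists_uniform [Algebra.FinitePresentation R C] (h : ∀ p, ∃ n, 0 < n ∧ FibreKilled R C n p) :
    ∃ N, 0 < N ∧ ∀ p, FibreKilled R C N p := by
  classical
  obtain ⟨G, hG⟩ := fg_aug (R := R) (C := C)
  choose n hn hkill using h
  have h1 : ∀ p : PrimeSpectrum R, ∀ g : G, ∃ (f : R) (s : Finset R), f ∉ p.asIdeal ∧ ↑s ⊆ (p.asIdeal : Set R) ∧
      ∀ q : PrimeSpectrum R, f ∉ q.asIdeal → ↑s ⊆ (q.asIdeal : Set R) →
        (1 : q.asIdeal.ResidueField) ⊗ₜ[R] SGA3b.powConv R C (n p) g.1 = 0 := fun p g =>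
    exists_nhd_zero p _ (hkill p g.1 (hG ▸ Submodule.subset_span g.2))
  choose f s hf hs hW using h1
  let ft := fun p => ∏ g, f p g
  let st := fun p => Finset.univ.biUnion (s p)
  let W : PrimeSpectrum R → Set (PrimeSpectrum R) := fun p =>
    (PrimeSpectrum.basicOpen (ft p) : Set (PrimeSpectrum R)) ∩ PrimeSpectrum.zeroLocus (st p : Set R)
  have hopen : ∀ p, IsOpen[constructibleTopology (PrimeSpectrum R)] (W p) := by
    intro p
    refine @IsOpen.inter _ (constructibleTopology (PrimeSpectrum R)) _ _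
      ((PrimeSpectrum.isCompact_basicOpen (ft p)).isOpen_constructibleTopology_of_isOpen (PrimeSpectrum.basicOpen (ft p)).isOpen)
      (IsCompact.isOpen_constructibleTopology_of_isClosed ?_ (PrimeSpectrum.isClosed_zeroLocus _))
    rw [show (PrimeSpectrum.zeroLocus (st p : Set R))ᶜ = ⋃ r ∈ st p, (PrimeSpectrum.basicOpen r : Set (PrimeSpectrum R)) by
      ext q; simp [PrimeSpectrum.mem_zeroLocus, Set.subset_def]]
    exact (st p).isCompact_biUnion fun r _ => PrimeSpectrum.isCompact_basicOpen r
  have hmem : ∀ p, p ∈ W p := fun p => ⟨fun hmem => by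
      obtain ⟨g, -, hg⟩ := (p.isPrime.prod_mem_iff).1 hmem
      exact hf p g hg,
    fun r hr => by
      obtain ⟨g, -, hg⟩ := Finset.mem_biUnion.1 (Finset.mem_coe.1 hr)
      exact hs p g hg⟩
  obtain ⟨t, ht⟩ := (isCompact_univ (X := WithConstructibleTopology (PrimeSpectrum R))).elim_finite_subcover
    (fun p => WithTopology.ofTopology ⁻¹' W p)
    (fun p => by rw [WithConstructibleTopology.isOpen_iff]; exact hopen p)
    (fun p _ => Set.mem_iUnion.2 ⟨p.ofTopology, hmem _⟩)
  refine ⟨∏ p ∈ t, n p, Finset.prod_pos fun p _ => hn p, fun q => ?_⟩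
  obtain ⟨p, hp⟩ := Set.mem_iUnion.1 (ht (Set.mem_univ (WithTopology.toTopology _ q)))
  obtain ⟨hpt, hq⟩ := Set.mem_iUnion.1 hp
  obtain ⟨hq1, hq2⟩ : q ∈ W p := hq
  refine (aug_eq_span hG fun g hg => hW p ⟨g, hg⟩ q (fun hmem => hq1 ?_) fun r hr => hq2 ?_).of_dvd
    (Finset.dvd_prod_of_mem n hpt)
  · exact q.asIdeal.mem_of_dvd (Finset.dvd_prod_of_mem _ (Finset.mem_univ _)) hmem
  · exact Finset.mem_coe.2 (Finset.mem_biUnion.2 ⟨_, Finset.mem_univ _, hr⟩)

theorem mem_nilradical {g : C} (h : ∀ p : PrimeSpectrum R, (1 : p.asIdeal.ResidueField) ⊗ₜ[R] g = 0) : g ∈ nilradical C := by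
  rw [_root_.mem_nilradical, nilpotent_iff_mem_prime]
  intro P hP
  let p : PrimeSpectrum R := (⟨P, hP⟩ : PrimeSpectrum C).comap (algebraMap R C)
  let φ : p.asIdeal.ResidueField →ₐ[R] (Ideal.ResidueField P) := Ideal.ResidueField.mapₐ p.asIdeal P (Algebra.ofId R C) rfl
  have h1 := congrArg (Algebra.TensorProduct.lift φ (IsScalarTower.toAlgHom R C (Ideal.ResidueField P)) fun _ _ => Commute.all _ _) (h p)
  rw [map_zero, Algebra.TensorProduct.lift_tmul, map_one, one_mul] at h1
  exact Ideal.algebraMap_residueField_eq_zero.1 h1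

/-- A group of finite presentation with killed fibres is killed. -/
theorem exists_killed [Algebra.FinitePresentation R C] (h : ∀ p, ∃ n, 0 < n ∧ FibreKilled R C n p) :
    ∃ n, 0 < n ∧ ∀ c : C, SGA3b.powConv R C n c = algebraMap R C (Coalgebra.counit (R := R) c) := by
  classical
  obtain ⟨N, hN, hkill⟩ := exists_uniform h
  let I := aug R C
  let J : Ideal C := I.map (SGA3b.powConv R C N)
  have hJfg : J.FG := (fg_aug (R := R) (C := C)).map _
  have hJnil : J ≤ nilradical C := Ideal.map_le_iff_le_comap.2 fun a ha =>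
    mem_nilradical fun p => hkill p a ha
  obtain ⟨k, hk⟩ := (Ideal.FG.isNilpotent_iff_le_nilradical hJfg).2 hJnil
  let S : Submodule R C := (I ^ 2).restrictScalars R ⊔ R ∙ (1 : C)
  haveI : Module.Finite R (C ⧸ S) := by
    obtain ⟨G, hG⟩ := fg_aug (R := R) (C := C)
    refine ⟨⟨G.image (Submodule.Quotient.mk (p := S)), eq_top_iff.2 fun y _ => ?_⟩⟩
    obtain ⟨c, rfl⟩ := Submodule.Quotient.mk_surjective S y
    have hc : c - algebraMap R C (Coalgebra.counit (R := R) c) ∈ Ideal.span (G : Set C) := by
      rw [show Ideal.span (G : Set C) = aug R C from hG]; simp [mem_aug]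
    rw [show Submodule.Quotient.mk (p := S) c = Submodule.Quotient.mk (c - algebraMap R C (Coalgebra.counit (R := R) c)) from
      (Submodule.Quotient.eq S).2 (Submodule.mem_sup_right (by
        rw [sub_sub_cancel, Algebra.algebraMap_eq_smul_one]; exact Submodule.smul_mem _ _ (Submodule.mem_span_singleton_self 1)))]
    generalize c - algebraMap R C (Coalgebra.counit (R := R) c) = x at hc
    induction hc using Submodule.span_induction with
    | mem g hg => exact Submodule.subset_span (Finset.mem_coe.2 (Finset.mem_image_of_mem _ hg))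
    | zero => exact Submodule.zero_mem _
    | add x y _ _ hx hy => rw [Submodule.Quotient.mk_add]; exact Submodule.add_mem _ hx hy
    | smul d x hx' hx =>
      have hxI : x ∈ aug R C := by
        rw [← show Ideal.span (G : Set C) = aug R C from hG]; exact hx'
      rw [show Submodule.Quotient.mk (p := S) (d • x) = Coalgebra.counit (R := R) d • Submodule.Quotient.mk x from
        (Submodule.Quotient.eq S).2 (Submodule.mem_sup_left (show d * x - Coalgebra.counit (R := R) d • x ∈ I ^ 2 by
          rw [Algebra.smul_def, ← sub_mul, pow_two]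
          exact Ideal.mul_mem_mul (show _ ∈ aug R C by simp [mem_aug]) hxI))]
      exact Submodule.smul_mem _ _ hx
  have hrad : (N : R) ∈ (Module.annihilator R (C ⧸ S)).radical := by
    rw [Ideal.radical_eq_sInf]
    refine Submodule.mem_sInf.2 fun (P : Ideal R) hP => ?_
    by_contra hNP
    haveI := hP.2
    have hsub : Subsingleton (Ideal.ResidueField P ⊗[R] (C ⧸ S)) := subsingleton_of_forall_eq 0 fun z => by
      induction z with
      | zero => rfl
      | add x y hx hy => rw [hx, hy, add_zero]
      | tmul c y =>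
        obtain ⟨x, rfl⟩ := Submodule.Quotient.mk_surjective S y
        let a := x - algebraMap R C (Coalgebra.counit (R := R) x)
        have ha : a ∈ I := show _ ∈ aug R C by simp [a, mem_aug]
        have h1 : Submodule.Quotient.mk (p := S) (SGA3b.powConv R C N a) = (N : R) • Submodule.Quotient.mk x := by
          rw [← Submodule.Quotient.mk_smul]
          refine (Submodule.Quotient.eq S).2 ?_
          rw [show SGA3b.powConv R C N a - (N : R) • x = (SGA3b.powConv R C N a - N • a) + (N : R) • (-algebraMap R C (Coalgebra.counit (R := R) x)) by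
            simp only [a, ← Nat.cast_smul_eq_nsmul R, smul_sub, smul_neg]; abel]
          refine add_mem (Submodule.mem_sup_left (powConv_sub_nsmul_mem ha N)) (Submodule.mem_sup_right ?_)
          rw [Algebra.algebraMap_eq_smul_one, ← neg_smul, smul_smul]
          exact Submodule.smul_mem _ _ (Submodule.mem_span_singleton_self 1)
        have h2 := congrArg (S.mkQ.lTensor (Ideal.ResidueField P)) (hkill ⟨P, hP.2⟩ a ha)
        rw [map_zero, LinearMap.lTensor_tmul, Submodule.mkQ_apply, h1, ← TensorProduct.smul_tmul,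
          ← Algebra.algebraMap_eq_smul_one] at h2
        have h3 := congrArg (fun w => (c / algebraMap R (Ideal.ResidueField P) (N : R)) • w) h2
        simp only [TensorProduct.smul_tmul', smul_eq_mul, smul_zero] at h3
        rwa [div_mul_cancel₀ c fun h0 => hNP (Ideal.algebraMap_residueField_eq_zero.1 h0)] at h3
    have hns : (⟨P, hP.2⟩ : PrimeSpectrum R) ∉ Module.support R (C ⧸ S) := by
      rw [Module.mem_support_iff_nontrivial_residueField_tensorProduct, not_nontrivial_iff_subsingleton]
      exact hsub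
    exact hns (Module.mem_support_iff_of_finite.2 hP.1)
  obtain ⟨e, he⟩ := hrad
  let M := N ^ e
  have hM : ∀ a ∈ I, SGA3b.powConv R C M a ∈ I ^ 2 := fun a ha => by
    have h1 : (M : R) • a ∈ S := by
      rw [← Submodule.Quotient.mk_eq_zero S, Submodule.Quotient.mk_smul, show (M : R) = (N : R) ^ e by simp [M]]
      exact Module.mem_annihilator.1 he _
    obtain ⟨u, hu, v, hv, huv⟩ := Submodule.mem_sup.1 h1
    obtain ⟨r, rfl⟩ := Submodule.mem_span_singleton.1 hv
    have hr : r = 0 := by
      have h2 := congrArg (Coalgebra.counit (R := R)) huv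
      rw [map_add, map_smul, map_smul, show Coalgebra.counit (R := R) u = 0 from (Ideal.pow_le_self two_ne_zero : I ^ 2 ≤ I) hu,
        show Coalgebra.counit (R := R) a = 0 from ha, Bialgebra.counit_one] at h2
      simpa using h2
    rw [hr, zero_smul, add_zero] at huv
    have h3 := add_mem (powConv_sub_nsmul_mem ha M) (huv ▸ hu : (M : R) • a ∈ I ^ 2)
    rwa [Nat.cast_smul_eq_nsmul, sub_add_cancel] at h3
  have hpow : ∀ j, ∀ a ∈ I, SGA3b.powConv R C (M ^ j) a ∈ I ^ (2 ^ j) := by
    intro j
    induction j with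
    | zero =>
      intro a ha
      rw [pow_zero M, pow_zero, show SGA3b.powConv R C 1 = AlgHom.id R C by simp [SGA3b.powConv], pow_one]
      exact ha
    | succ j ih =>
      intro a ha
      rw [pow_succ' M j, powConv_mul, AlgHom.comp_apply, pow_succ' 2 j, pow_mul]
      have hle : (I ^ (2 ^ j)).map (SGA3b.powConv R C M) ≤ (I ^ 2) ^ (2 ^ j) := by
        rw [Ideal.map_pow]
        exact Ideal.pow_right_mono (Ideal.map_le_iff_le_comap.2 hM) _
      exact hle (Ideal.mem_map_of_mem _ (ih a ha))
  refine ⟨N * M ^ k, Nat.mul_pos hN (pow_pos (pow_pos hN e) k), fun c => ?_⟩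
  have hc : c - algebraMap R C (Coalgebra.counit (R := R) c) ∈ I := show _ ∈ aug R C by simp [mem_aug]
  have h1 : SGA3b.powConv R C (N * M ^ k) (c - algebraMap R C (Coalgebra.counit (R := R) c)) = 0 := by
    rw [powConv_mul, AlgHom.comp_apply]
    have h2 : SGA3b.powConv R C N (SGA3b.powConv R C (M ^ k) (c - algebraMap R C (Coalgebra.counit (R := R) c))) ∈ J ^ (2 ^ k) := by
      rw [← Ideal.map_pow]
      exact Ideal.mem_map_of_mem _ (hpow k _ hc)
    have h4 : J ^ (2 ^ k) = ⊥ := le_bot_iff.1 ((Ideal.pow_le_pow_right Nat.lt_two_pow_self.le).trans hk.le)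
    rwa [h4, Ideal.mem_bot] at h2
  rwa [map_sub, AlgHom.commutes, sub_eq_zero] at h1

/-- A quasi-finite commutative group of finite presentation is killed by an integer. -/
theorem exists_killed_of_quasiFinite [Coalgebra.IsCocomm R C] [Algebra.FinitePresentation R C] [Algebra.QuasiFinite R C] :
    ∃ n, 0 < n ∧ ∀ c : C, SGA3b.powConv R C n c = algebraMap R C (Coalgebra.counit (R := R) c) := by
  refine exists_killed fun p => ?_
  let K := p.asIdeal.ResidueField
  haveI : Module.Finite K (K ⊗[R] C) := Algebra.QuasiFinite.finite_fiber p.asIdeal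
  haveI : Nontrivial (K ⊗[R] C) := RingHom.domain_nontrivial (Bialgebra.counitAlgHom K (K ⊗[R] C) : K ⊗[R] C →+* K)
  refine ⟨Module.finrank K (K ⊗[R] C), Module.finrank_pos, fun a ha => ?_⟩
  rw [← Versch53.powConv_baseChange_one_tmul, Deligne.powConv_finrank, TensorProduct.counit_tmul,
    show Coalgebra.counit (R := R) a = 0 from ha]
  simp

end Groth.Agent.SGA3b53.Killed
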