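import Groth.Agent.SGA3b53.FieldQuot
import Groth.Agent.SGA3b53.Rigidity
import Groth.Agent.SGA3b53.FiniteIff
import Mathlib

/-!
A closed subgroup with trivial closed fibre is trivial.
-/

set_option autoImplicit false
set_option linter.unusedSectionVars false
set_option linter.style.haveILetI false
universe u v w
open TensorProduct

noncomputable section

namespace Groth.Agent.SGA3b53

theorem exists_finite_nontrivial_quotient {M : Type u} [CommGroup M] [Group.FG M] (N : Subgroup M) (hN : N ≠ ⊤) :
    ∃ L : Subgroup M, N ≤ L ∧ L ≠ ⊤ ∧ Finite (M ⧸ L) := by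
  by_cases hfin : Finite (M ⧸ N)
  · exact ⟨N, le_rfl, hN, hfin⟩
  refine ⟨N ⊔ (powMonoidHom 2 : M →* M).range, le_sup_left, fun htop => hfin ?_, ?_⟩
  · haveI : Module.Finite ℤ (Additive (M ⧸ N)) := Module.Finite.iff_addGroup_fg.2 inferInstance
    have hle : (⊤ : Submodule ℤ (Additive (M ⧸ N))) ≤ Ideal.span {(2 : ℤ)} • ⊤ := by
      intro x _
      obtain ⟨m, rfl⟩ : ∃ m : M, Additive.ofMul (QuotientGroup.mk m : M ⧸ N) = x := by
        obtain ⟨m, hm⟩ := QuotientGroup.mk_surjective (s := N) (Additive.toMul x)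
        exact ⟨m, Additive.toMul.injective hm⟩
      obtain ⟨a, ha, _, ⟨b, rfl⟩, hab⟩ := Subgroup.mem_sup.1 (htop ▸ Subgroup.mem_top m)
      rw [← hab, powMonoidHom_apply, QuotientGroup.mk_mul, (QuotientGroup.eq_one_iff a).2 ha, one_mul,
        QuotientGroup.mk_pow, ofMul_pow, ← natCast_zsmul]
      exact Submodule.smul_mem_smul (Ideal.mem_span_singleton_self _) Submodule.mem_top
    obtain ⟨r, hr, hr0⟩ := Submodule.exists_sub_one_mem_and_smul_eq_zero_of_fg_of_le_smul _ _ Module.Finite.fg_top hle
    have hrne : r ≠ 0 := by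
      rintro rfl
      rw [Ideal.mem_span_singleton] at hr
      omega
    refine CommGroup.finite_of_fg_isMulTorsion _ fun x => isOfFinOrder_iff_zpow_eq_one.2 ⟨r, hrne, ?_⟩
    exact Additive.ofMul.injective (hr0 (Additive.ofMul x) Submodule.mem_top)
  · refine CommGroup.finite_of_fg_isMulTorsion _ fun x => isOfFinOrder_iff_pow_eq_one.2 ⟨2, two_pos, ?_⟩
    obtain ⟨m, rfl⟩ := QuotientGroup.mk_surjective x
    rw [← QuotientGroup.mk_pow, QuotientGroup.eq_one_iff]
    exact Subgroup.mem_sup_right ⟨m, rfl⟩

variable {R : Type u} [CommRing R] {A : Type u} [CommRing A] [HopfAlgebra R A]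

/-- The characters trivial on a closed subgroup of a diagonalisable group over a field cut it out. -/
theorem exists_chars_field {K : Type u} [Field K] [Algebra R K] {M : Type u} [CommGroup M]
    (ρ : K ⊗[R] A ≃ₐc[K] MonoidAlgebra K M) (J : Ideal A) [J.IsHopfIdeal R] :
    ∃ N : Subgroup M,
      (∀ j ∈ J, MonoidAlgebra.mapDomainBialgHom K (QuotientGroup.mk' N) (ρ ((1 : K) ⊗ₜ[R] j)) = 0) ∧
      (N = ⊤ → ∀ m, Bialgebra.TensorProduct.map (BialgHom.id K K) (Bialgebra.Quotient.mkBialgHom (R := R) J)
        (ρ.symm (MonoidAlgebra.single m 1)) = 1) := by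
  let π : MonoidAlgebra K M →ₐc[K] K ⊗[R] (A ⧸ J) :=
    (Bialgebra.TensorProduct.map (BialgHom.id K K) (Bialgebra.Quotient.mkBialgHom (R := R) J)).comp
      (ρ.symm : MonoidAlgebra K M →ₐc[K] K ⊗[R] A)
  let φ : M →* K ⊗[R] (A ⧸ J) :=
    ((π : MonoidAlgebra K M →ₐ[K] K ⊗[R] (A ⧸ J)) : MonoidAlgebra K M →* K ⊗[R] (A ⧸ J)).comp (MonoidAlgebra.of K M)
  have hφ : ∀ m, IsGroupLikeElem K (φ m) := fun m => (MonoidAlgebra.isGroupLikeElem_of (R := K) m).map π
  let φ' : M →* (K ⊗[R] (A ⧸ J))ˣ := φ.toHomUnits
  let ψ : M ⧸ φ'.ker →* K ⊗[R] (A ⧸ J) := (Units.coeHom _).comp (QuotientGroup.kerLift φ')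
  have hψi : Function.Injective ψ := fun a b h => QuotientGroup.kerLift_injective φ' (Units.ext h)
  have hψ : ∀ n, IsGroupLikeElem K (ψ n) := by
    intro n
    obtain ⟨m, rfl⟩ := QuotientGroup.mk_surjective n
    exact hφ m
  have hπ : ∀ y, π y = MonoidAlgebra.lift K (K ⊗[R] (A ⧸ J)) _ ψ
      (MonoidAlgebra.mapDomainBialgHom K (QuotientGroup.mk' φ'.ker) y) := by
    intro y
    induction y using MonoidAlgebra.induction_linear with
    | zero => simp
    | add f g hf hg => simp only [map_add, hf, hg]
    | single m r =>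
      rw [MonoidAlgebra.mapDomainBialgHom_single, MonoidAlgebra.lift_single,
        show MonoidAlgebra.single m r = r • MonoidAlgebra.of K M m by simp, map_smul]
      rfl
  refine ⟨φ'.ker, fun j hj => ?_, fun htop m => ?_⟩
  · have h1 := hπ (ρ ((1 : K) ⊗ₜ[R] j))
    have h2 : π (ρ ((1 : K) ⊗ₜ[R] j)) = 0 := by
      change Bialgebra.TensorProduct.map (BialgHom.id K K) (Bialgebra.Quotient.mkBialgHom (R := R) J)
        (ρ.symm (ρ ((1 : K) ⊗ₜ[R] j))) = 0
      rw [show ρ.symm (ρ ((1 : K) ⊗ₜ[R] j)) = (1 : K) ⊗ₜ[R] j from ρ.symm_apply_apply _]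
      simp [Ideal.Quotient.eq_zero_iff_mem.2 hj]
    rw [h2] at h1
    have hli : LinearIndependent K ψ :=
      (linearIndep_groupLikeVal (R := K) (A := K ⊗[R] (A ⧸ J))).comp (fun n => (⟨ψ n, hψ n⟩ : GroupLike K _))
        fun a b h => hψi (congrArg GroupLike.val h)
    refine MonoidAlgebra.ext ?_
    rw [MonoidAlgebra.coeff_zero]
    refine linearIndependent_iff.1 hli _ ?_
    rw [Finsupp.linearCombination_apply]
    rw [MonoidAlgebra.lift_apply] at h1
    exact h1.symm
  · exact congrArg Units.val (MonoidHom.mem_ker.1 (htop ▸ Subgroup.mem_top m : m ∈ φ'.ker))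

theorem eq_augIdeal_of_fibre_trivial [IsLocalRing R] (hft : Algebra.FiniteType R A) (h : SGA3b.IsMultType R A)
    (J : Ideal A) [J.IsHopfIdeal R]
    (hs : J ⊔ (IsLocalRing.maximalIdeal R).map (algebraMap R A) =
      RingHom.ker (Bialgebra.counitAlgHom R A) ⊔ (IsLocalRing.maximalIdeal R).map (algebraMap R A)) :
    J = RingHom.ker (Bialgebra.counitAlgHom R A) := by
  classical
  have hJε : J ≤ RingHom.ker (Bialgebra.counitAlgHom R A) := fun j hj =>
    Submodule.IsCoideal.counit_eq_zero (R := R) (I := J.restrictScalars R) hj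
  have hcA : ∀ {a : A}, a ∈ RingHom.ker (Bialgebra.counitAlgHom R A) → Coalgebra.counit (R := R) a = 0 :=
    fun {a} ha => ha

  -- the augmentation ideal is contained in `J + 𝔪 · (augmentation ideal)`
  have hkey : RingHom.ker (Bialgebra.counitAlgHom R A) ≤
      J ⊔ (IsLocalRing.maximalIdeal R).map (algebraMap R A) * RingHom.ker (Bialgebra.counitAlgHom R A) := by
    intro x hx
    obtain ⟨j, hj, y, hy, rfl⟩ := Submodule.mem_sup.1 (hs.ge (Ideal.mem_sup_left hx) :
      x ∈ J ⊔ (IsLocalRing.maximalIdeal R).map (algebraMap R A))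
    refine Submodule.add_mem_sup hj ?_
    have hy0 : Bialgebra.counitAlgHom R A y = 0 := by
      have := RingHom.mem_ker.1 hx
      rwa [map_add, RingHom.mem_ker.1 (hJε hj), zero_add] at this
    have h1 : ∀ z ∈ (IsLocalRing.maximalIdeal R).map (algebraMap R A),
        z - algebraMap R A (Bialgebra.counitAlgHom R A z) ∈
          (IsLocalRing.maximalIdeal R).map (algebraMap R A) * RingHom.ker (Bialgebra.counitAlgHom R A) := by
      intro z hz
      have hz' := mem_smul_top_of_mem_map _ hz
      refine Submodule.smul_induction_on hz' (fun r hr a _ => ?_) (fun a b ha hb => ?_)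
      · rw [map_smul, smul_eq_mul, map_mul, Algebra.smul_def, ← mul_sub]
        refine Ideal.mul_mem_mul (Ideal.mem_map_of_mem _ hr) ?_
        rw [RingHom.mem_ker, map_sub, AlgHom.commutes, sub_eq_zero]
        rfl
      · rw [map_add, map_add, add_sub_add_comm]
        exact add_mem ha hb
    have := h1 y hy
    rwa [hy0, map_zero, sub_zero] at this
  obtain ⟨T, _, _, _, hff, hle, M, _, ⟨ρ⟩⟩ := exists_local_split h
  haveI : Monoid.FG M := monoidFG_of_finiteType ρ
  haveI : Group.FG M := Group.fg_iff_monoid_fg.2 inferInstance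
  let Φ : A →ₐ[R] MonoidAlgebra T M := toMA ρ
  let I : Ideal (MonoidAlgebra T M) := RingHom.ker (Bialgebra.counitAlgHom T (MonoidAlgebra T M))
  let J' : Ideal (MonoidAlgebra T M) := J.map Φ
  have hJ'I : J' ≤ I := Ideal.map_le_iff_le_comap.2 fun j hj => by
    rw [Ideal.mem_comap, RingHom.mem_ker]
    change Coalgebra.counit (R := T) (ρ ((1 : T) ⊗ₜ[R] j)) = 0
    rw [CoalgHomClass.counit_comp_apply, TensorProduct.counit_tmul, CommSemiring.counit_apply,
      hcA (hJε hj), zero_smul]
  have hIgen : I ≤ (RingHom.ker (Bialgebra.counitAlgHom R A)).map Φ := by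
    intro y hy
    obtain ⟨z, rfl⟩ : ∃ z, ρ z = y := ⟨ρ.symm y, ρ.apply_symm_apply y⟩
    have h1 : ∀ z : T ⊗[R] A, ρ (z - algebraMap T _ (Coalgebra.counit (R := T) z)) ∈
        (RingHom.ker (Bialgebra.counitAlgHom R A)).map Φ := by
      intro z
      induction z with
      | zero => simp
      | add a b ha hb =>
        rw [map_add, map_add, add_sub_add_comm, map_add]
        exact add_mem ha hb
      | tmul t a =>
        have h2 : t ⊗ₜ[R] a - algebraMap T _ (Coalgebra.counit (R := T) (t ⊗ₜ[R] a)) =
            t • ((1 : T) ⊗ₜ[R] (a - algebraMap R A (Bialgebra.counitAlgHom R A a))) := by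
          rw [TensorProduct.counit_tmul, CommSemiring.counit_apply, tmul_sub, smul_sub, TensorProduct.smul_tmul',
            TensorProduct.smul_tmul', smul_eq_mul, mul_one, Algebra.algebraMap_eq_smul_one (R := R),
            TensorProduct.tmul_smul, TensorProduct.smul_tmul', Algebra.TensorProduct.algebraMap_apply]
          rfl
        rw [h2, map_smul]
        refine Submodule.smul_of_tower_mem _ t (Ideal.mem_map_of_mem Φ ?_)
        rw [RingHom.mem_ker, map_sub, AlgHom.commutes]
        exact sub_self _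
    have hy' : Coalgebra.counit (R := T) z = 0 := by
      have := RingHom.mem_ker.1 hy
      change Coalgebra.counit (R := T) (ρ z) = 0 at this
      rwa [CoalgHomClass.counit_comp_apply] at this
    simpa [hy'] using h1 z
  have hkey' : I ≤ J' ⊔ (IsLocalRing.maximalIdeal T).map (algebraMap T (MonoidAlgebra T M)) * I := by
    refine hIgen.trans ((Ideal.map_mono hkey).trans ?_)
    rw [Ideal.map_sup, Ideal.map_mul]
    refine sup_le le_sup_left (le_sup_of_le_right (Ideal.mul_mono ?_ ?_))
    · rw [Ideal.map_le_iff_le_comap, Ideal.map_le_iff_le_comap]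
      intro r hr
      rw [Ideal.mem_comap, Ideal.mem_comap, AlgHom.commutes, IsScalarTower.algebraMap_apply R T (MonoidAlgebra T M)]
      exact Ideal.mem_map_of_mem _ (hle (Ideal.mem_map_of_mem _ hr))
    · refine Ideal.map_le_iff_le_comap.2 fun a ha => ?_
      rw [Ideal.mem_comap, RingHom.mem_ker]
      change Coalgebra.counit (R := T) (ρ ((1 : T) ⊗ₜ[R] a)) = 0
      rw [CoalgHomClass.counit_comp_apply, TensorProduct.counit_tmul, CommSemiring.counit_apply,
        hcA ha, zero_smul]
  -- on finite quotients the subgroup is trivial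
  have hfinite : ∀ (L : Subgroup M), Finite (M ⧸ L) → ∀ m : M,
      MonoidAlgebra.mapDomainBialgHom T (QuotientGroup.mk' L) (MonoidAlgebra.single m 1) - 1 ∈
        J'.map (MonoidAlgebra.mapDomainBialgHom T (QuotientGroup.mk' L) : MonoidAlgebra T M →ₐ[T] MonoidAlgebra T (M ⧸ L)) := by
    intro L _ m
    let p : MonoidAlgebra T M →ₐ[T] MonoidAlgebra T (M ⧸ L) :=
      (MonoidAlgebra.mapDomainBialgHom T (QuotientGroup.mk' L) : MonoidAlgebra T M →ₐ[T] MonoidAlgebra T (M ⧸ L))
    haveI : Module.Finite T (MonoidAlgebra T (M ⧸ L)) := Module.Finite.of_basis (MonoidAlgebra.basis _ T)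
    let IQ := I.map p
    have h1 : IQ ≤ J'.map p ⊔ (IsLocalRing.maximalIdeal T).map (algebraMap T _) * IQ := by
      refine (Ideal.map_mono hkey').trans ?_
      rw [Ideal.map_sup, Ideal.map_mul]
      refine sup_le_sup_left (Ideal.mul_mono ?_ le_rfl) _
      rw [Ideal.map_le_iff_le_comap, Ideal.map_le_iff_le_comap]
      intro t ht
      rw [Ideal.mem_comap, Ideal.mem_comap, AlgHom.commutes]
      exact Ideal.mem_map_of_mem _ ht
    let Cq := MonoidAlgebra T (M ⧸ L) ⧸ J'.map p
    let W : Submodule T Cq := (IQ.map (Ideal.Quotient.mk (J'.map p))).restrictScalars T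
    haveI : Module.Finite T Cq := Module.Finite.of_surjective (Ideal.Quotient.mkₐ T (J'.map p)).toLinearMap Ideal.Quotient.mk_surjective
    let prj : MonoidAlgebra T (M ⧸ L) →ₗ[T] MonoidAlgebra T (M ⧸ L) :=
      LinearMap.id - (Algebra.linearMap T _).comp (Coalgebra.counit (R := T))
    have hIQ : IQ.restrictScalars T = LinearMap.range prj := by
      have hI : IQ = RingHom.ker (Bialgebra.counitAlgHom T (MonoidAlgebra T (M ⧸ L))) := by
        refine le_antisymm (Ideal.map_le_iff_le_comap.2 fun y hy => ?_) fun y hy => ?_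
        · rw [Ideal.mem_comap, RingHom.mem_ker]
          change Coalgebra.counit (R := T) (MonoidAlgebra.mapDomainBialgHom T (QuotientGroup.mk' L) y) = 0
          rw [CoalgHomClass.counit_comp_apply]
          exact hy
        · obtain ⟨x, rfl⟩ : ∃ x, p x = y := by
            clear hy
            induction y using MonoidAlgebra.induction_linear with
            | zero => exact ⟨0, map_zero p⟩
            | add f g hf hg =>
              obtain ⟨a, rfl⟩ := hf
              obtain ⟨b, rfl⟩ := hg
              exact ⟨a + b, map_add p a b⟩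
            | single k r =>
              obtain ⟨k, rfl⟩ := QuotientGroup.mk_surjective k
              exact ⟨MonoidAlgebra.single k r, by simp [p]⟩
          refine Ideal.mem_map_of_mem _ (RingHom.mem_ker.2 ?_)
          have := RingHom.mem_ker.1 hy
          change Coalgebra.counit (R := T) (MonoidAlgebra.mapDomainBialgHom T (QuotientGroup.mk' L) x) = 0 at this
          rwa [CoalgHomClass.counit_comp_apply] at this
      refine le_antisymm ?_ ?_
      · intro y hy
        refine ⟨y, ?_⟩
        rw [Submodule.restrictScalars_mem, hI] at hy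
        simp only [prj, LinearMap.sub_apply, LinearMap.id_apply, LinearMap.comp_apply, Algebra.linearMap_apply]
        rw [show Coalgebra.counit (R := T) y = 0 from hy, map_zero, sub_zero]
      · rintro _ ⟨y, rfl⟩
        rw [Submodule.restrictScalars_mem, hI, RingHom.mem_ker]
        simp only [prj, LinearMap.sub_apply, LinearMap.id_apply, LinearMap.comp_apply, Algebra.linearMap_apply, map_sub,
          AlgHom.commutes]
        exact sub_self _
    have hWfg : W.FG := by
      have : W = (IQ.restrictScalars T).map (Ideal.Quotient.mkₐ T (J'.map p)).toLinearMap := by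
        ext y
        simp only [W, Submodule.restrictScalars_mem, Submodule.mem_map,
          Ideal.mem_map_iff_of_surjective _ Ideal.Quotient.mk_surjective]
        rfl
      rw [this, hIQ, LinearMap.range_eq_map]
      exact (Module.Finite.fg_top.map _).map _
    have hW : W ≤ IsLocalRing.maximalIdeal T • W := by
      intro y hy
      simp only [W, Submodule.restrictScalars_mem] at hy
      have h4 := Ideal.map_mono (f := Ideal.Quotient.mk (J'.map p)) h1 hy
      rw [Ideal.map_sup, Ideal.map_quotient_self, bot_sup_eq, Ideal.map_mul] at h4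
      refine Submodule.mul_induction_on h4 (fun a ha b hb => ?_) (fun a b ha hb => add_mem ha hb)
      rw [Ideal.map_map] at ha
      refine (show a * b ∈ IsLocalRing.maximalIdeal T • W from ?_)
      induction ha using Submodule.span_induction with
      | mem x hx =>
        obtain ⟨t, ht, rfl⟩ := hx
        have h5 : (Ideal.Quotient.mk (J'.map p)).comp (algebraMap T _) t * b = t • b := (Algebra.smul_def t b).symm
        rw [h5]
        exact Submodule.smul_mem_smul ht (show b ∈ W from hb)
      | zero => rw [zero_mul]; exact zero_mem _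
      | add x y _ _ hx hy => rw [add_mul]; exact add_mem hx hy
      | smul c x _ hx =>
        rw [smul_eq_mul, mul_assoc]
        refine Submodule.smul_induction_on hx (fun t ht w hw => ?_) (fun u v hu hv => ?_)
        · rw [mul_smul_comm]
          exact Submodule.smul_mem_smul ht (show c * w ∈ W from Ideal.mul_mem_left _ c (hw : w ∈ IQ.map _))
        · rw [mul_add]; exact add_mem hu hv
    have hW0 := Submodule.eq_bot_of_le_smul_of_le_jacobson_bot _ W hWfg hW (IsLocalRing.maximalIdeal_le_jacobson ⊥)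
    refine Ideal.Quotient.eq_zero_iff_mem.1 ((Submodule.eq_bot_iff W).1 hW0 _ ?_)
    refine Ideal.mem_map_of_mem _ ?_
    have h2 : MonoidAlgebra.single m (1 : T) - 1 ∈ I := by
      rw [RingHom.mem_ker, map_sub, map_one, sub_eq_zero]
      simp
    have h3 := Ideal.mem_map_of_mem p h2
    rwa [map_sub, map_one] at h3
  -- hence at every point of the subgroup
  have hpoint : ∀ (P : Ideal (MonoidAlgebra T M)), P.IsMaximal → J' ≤ P → I ≤ P := by
    intro P hP hJP
    let K := MonoidAlgebra T M ⧸ P
    letI : Field K := Ideal.Quotient.field P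
    obtain ⟨ρK, hρK⟩ := exists_split_map (IsScalarTower.toAlgHom R T K) ρ
    obtain ⟨N, hN, hNtop⟩ := exists_chars_field ρK J
    have hN' : N = ⊤ := by
      by_contra hne
      obtain ⟨L, hNL, hL, hLfin⟩ := exists_finite_nontrivial_quotient N hne
      obtain ⟨m, hm⟩ : ∃ m, m ∉ L := by
        by_contra hc
        push Not at hc
        exact hL (eq_top_iff.2 fun x _ => hc x)
      let G : MonoidAlgebra T (M ⧸ L) →ₐ[T] MonoidAlgebra K (M ⧸ L) :=
        MonoidAlgebra.lift T (MonoidAlgebra K (M ⧸ L)) (M ⧸ L) (MonoidAlgebra.of K (M ⧸ L))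
      let pL : MonoidAlgebra T M →ₐ[T] MonoidAlgebra T (M ⧸ L) :=
        (MonoidAlgebra.mapDomainBialgHom T (QuotientGroup.mk' L) : MonoidAlgebra T M →ₐ[T] MonoidAlgebra T (M ⧸ L))
      have h1 : ∀ y : MonoidAlgebra T M, G (pL y) = MonoidAlgebra.mapDomainBialgHom K
          (QuotientGroup.map N L (MonoidHom.id M) hNL)
          (MonoidAlgebra.mapDomainBialgHom K (QuotientGroup.mk' N) (MonoidAlgebra.mapRingHom M (algebraMap T K) y)) := by
        intro y
        induction y using MonoidAlgebra.induction_linear with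
        | zero => simp
        | add f g hf hg => simp only [map_add, hf, hg]
        | single k r => simp [G, pL, MonoidAlgebra.smul_single, Algebra.smul_def]
      have hG : J'.map pL ≤ RingHom.ker G := by
        rw [Ideal.map_le_iff_le_comap, Ideal.map_le_iff_le_comap]
        intro j hj
        rw [Ideal.mem_comap, Ideal.mem_comap, RingHom.mem_ker]
        have h2 := hρK ((1 : T) ⊗ₜ[R] j)
        rw [Algebra.TensorProduct.map_tmul, map_one, AlgHom.id_apply] at h2
        refine (h1 _).trans ?_
        change MonoidAlgebra.mapDomainBialgHom K _ (MonoidAlgebra.mapDomainBialgHom K (QuotientGroup.mk' N)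
          (MonoidAlgebra.mapRingHom M ((IsScalarTower.toAlgHom R T K : T →ₐ[R] K) : T →+* K) (ρ ((1 : T) ⊗ₜ[R] j)))) = 0
        rw [← h2, hN j hj, map_zero]
      have h3 := RingHom.mem_ker.1 (hG (hfinite L hLfin m))
      refine hm ((QuotientGroup.eq_one_iff m).1 (MonoidAlgebra.of_injective (R := K) ?_))
      rw [map_sub, map_one, sub_eq_zero] at h3
      rw [map_one, ← h3]
      simp [G]
    -- the point of the subgroup at `P`
    let x₀ : A →ₐ[R] K := (Ideal.Quotient.mkₐ R P).comp Φ
    let x₁ : A ⧸ J →ₐ[R] K := Ideal.Quotient.liftₐ J x₀ fun j hj =>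
      Ideal.Quotient.eq_zero_iff_mem.2 (hJP (Ideal.mem_map_of_mem Φ hj))
    let X : K ⊗[R] (A ⧸ J) →ₐ[K] K := Algebra.TensorProduct.lift (Algebra.ofId K K) x₁ fun _ _ => Commute.all _ _
    have hX : ∀ z : T ⊗[R] A, X (Bialgebra.TensorProduct.map (BialgHom.id K K) (Bialgebra.Quotient.mkBialgHom (R := R) J)
        (Algebra.TensorProduct.map (IsScalarTower.toAlgHom R T K) (AlgHom.id R A) z)) = Ideal.Quotient.mk P (ρ z) := by
      intro z
      induction z with
      | zero => simp
      | add a b ha hb => simp only [map_add, ha, hb]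
      | tmul t a =>
        rw [show t ⊗ₜ[R] a = t • ((1 : T) ⊗ₜ[R] a) by rw [TensorProduct.smul_tmul', smul_eq_mul, mul_one], map_smul ρ,
          TensorProduct.smul_tmul', smul_eq_mul, mul_one]
        simp [X, x₁, x₀, Φ, Algebra.smul_def, IsScalarTower.algebraMap_apply T (MonoidAlgebra T M) K]
        exact Or.inl rfl
    have hone : ∀ m : M, Ideal.Quotient.mk P (MonoidAlgebra.single m 1) = 1 := by
      intro m
      have h1 := hX (ρ.symm (MonoidAlgebra.single m 1))
      rw [show ρ (ρ.symm (MonoidAlgebra.single m 1)) = MonoidAlgebra.single m 1 from ρ.apply_symm_apply _] at h1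
      rw [← h1]
      have h2 : Algebra.TensorProduct.map (IsScalarTower.toAlgHom R T K) (AlgHom.id R A) (ρ.symm (MonoidAlgebra.single m 1)) =
          ρK.symm (MonoidAlgebra.single m 1) := by
        apply EquivLike.injective ρK
        rw [hρK, show ρK (ρK.symm (MonoidAlgebra.single m 1)) = MonoidAlgebra.single m 1 from ρK.apply_symm_apply _,
          show ρ (ρ.symm (MonoidAlgebra.single m 1)) = MonoidAlgebra.single m 1 from ρ.apply_symm_apply _]
        simp
      rw [h2, hNtop hN' m, map_one]
    intro y hy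
    rw [← Ideal.Quotient.eq_zero_iff_mem]
    have h1 : ∀ z : MonoidAlgebra T M, Ideal.Quotient.mk P z =
        Ideal.Quotient.mk P (algebraMap T _ (Coalgebra.counit (R := T) z)) := by
      intro z
      induction z using MonoidAlgebra.induction_linear with
      | zero => simp
      | add f g hf hg => simp only [map_add, hf, hg]
      | single k r =>
        rw [show MonoidAlgebra.single k r = algebraMap T _ r * MonoidAlgebra.single k 1 by simp, map_mul, hone, mul_one]
        simp
    rw [h1, show Coalgebra.counit (R := T) y = 0 from hy, map_zero, map_zero]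
  -- Nakayama
  have hIfg : I.FG := by
    haveI : Algebra.FiniteType T (MonoidAlgebra T M) := inferInstance
    obtain ⟨S, hS⟩ := Algebra.FiniteType.out (R := T) (A := MonoidAlgebra T M)
    refine ⟨S.image fun g => g - algebraMap T _ (Coalgebra.counit (R := T) g), le_antisymm (Ideal.span_le.2 ?_) ?_⟩
    · intro x hx
      obtain ⟨g, -, rfl⟩ := Finset.mem_image.1 (Finset.mem_coe.1 hx)
      rw [SetLike.mem_coe, RingHom.mem_ker, map_sub, AlgHom.commutes]
      exact sub_self _
    · intro y hy
      let Sp : Ideal (MonoidAlgebra T M) := Ideal.span (S.image fun g => g - algebraMap T _ (Coalgebra.counit (R := T) g) : Finset _)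
      have h1 : Ideal.Quotient.mkₐ T Sp = (Algebra.ofId T _).comp (Bialgebra.counitAlgHom T (MonoidAlgebra T M)) :=
        AlgHom.ext_of_adjoin_eq_top hS fun g hg =>
          Ideal.Quotient.eq.2 (Ideal.subset_span (Finset.mem_coe.2 (Finset.mem_image.2 ⟨g, hg, rfl⟩)))
      refine Ideal.Quotient.eq_zero_iff_mem.1 ((DFunLike.congr_fun h1 y).trans ?_)
      rw [AlgHom.comp_apply, RingHom.mem_ker.1 hy, map_zero]
  let q := Ideal.Quotient.mk J'
  have hI0 : I.map q = ⊥ := by
    refine Submodule.eq_bot_of_le_smul_of_le_jacobson_bot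
      (((IsLocalRing.maximalIdeal T).map (algebraMap T (MonoidAlgebra T M))).map q) _ (hIfg.map q) ?_ ?_
    · have h1 := Ideal.map_mono (f := q) hkey'
      rw [Ideal.map_sup, Ideal.map_quotient_self, bot_sup_eq, Ideal.map_mul] at h1
      exact h1
    · rw [Ideal.jacobson, le_sInf_iff]
      rintro P ⟨-, hP⟩
      haveI : (P.comap q).IsMaximal := Ideal.comap_isMaximal_of_surjective q Ideal.Quotient.mk_surjective
      have hJP : J' ≤ P.comap q := fun j hj => by
        rw [Ideal.mem_comap, show q j = 0 from Ideal.Quotient.eq_zero_iff_mem.2 hj]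
        exact P.zero_mem
      have hIP := hpoint _ inferInstance hJP
      rw [Ideal.map_le_iff_le_comap, Ideal.map_le_iff_le_comap]
      intro t ht
      rw [Ideal.mem_comap]
      by_contra hne
      obtain ⟨y, z, hz, hyz⟩ := (inferInstance : (P.comap q).IsMaximal).exists_inv hne
      have hεy : y * algebraMap T _ t - 1 ∈ P.comap q := by
        rw [← hyz, sub_add_cancel_left]
        exact neg_mem hz
      have h2 : algebraMap T (MonoidAlgebra T M) (Coalgebra.counit (R := T) y * t - 1) ∈ P.comap q := by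
        have h3 : y - algebraMap T _ (Coalgebra.counit (R := T) y) ∈ P.comap q := hIP (by
          rw [RingHom.mem_ker, map_sub, AlgHom.commutes]
          exact sub_self _)
        have h4 := sub_mem hεy (Ideal.mul_mem_right (algebraMap T _ t) _ h3)
        rw [map_sub, map_mul, map_one]
        convert h4 using 1
        ring
      have hu : IsUnit (Coalgebra.counit (R := T) y * t - 1) := by
        refine IsLocalRing.notMem_maximalIdeal.1 fun h5 => ?_
        have h6 := sub_mem (Ideal.mul_mem_left _ (Coalgebra.counit (R := T) y) ht) h5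
        rw [sub_sub_cancel] at h6
        exact (IsLocalRing.maximalIdeal.isMaximal T).ne_top ((Ideal.eq_top_iff_one _).2 h6)
      exact (inferInstance : (P.comap q).IsMaximal).ne_top (Ideal.eq_top_of_isUnit_mem _ h2 (hu.map _))
  have hIJ : I ≤ J' := by
    intro y hy
    rw [← Ideal.Quotient.eq_zero_iff_mem]
    exact (Submodule.eq_bot_iff _).1 hI0 _ (Ideal.mem_map_of_mem q hy)
  -- descend
  refine le_antisymm hJε fun a ha => ?_
  rw [← Ideal.Quotient.eq_zero_iff_mem]
  refine Module.FaithfullyFlat.tensorProduct_mk_injective (A := R) (B := T) (A ⧸ J) ?_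
  change (1 : T) ⊗ₜ[R] Ideal.Quotient.mk J a = (1 : T) ⊗ₜ[R] (0 : A ⧸ J)
  rw [tmul_zero]
  let π : MonoidAlgebra T M →ₐ[T] T ⊗[R] (A ⧸ J) :=
    (Algebra.TensorProduct.map (AlgHom.id T T) (Ideal.Quotient.mkₐ R J)).comp
      (ρ.symm : MonoidAlgebra T M →ₐ[T] T ⊗[R] A)
  have hπ : J' ≤ RingHom.ker π := Ideal.map_le_iff_le_comap.2 fun j hj => by
    rw [Ideal.mem_comap, RingHom.mem_ker]
    change Algebra.TensorProduct.map (AlgHom.id T T) (Ideal.Quotient.mkₐ R J) (ρ.symm (ρ ((1 : T) ⊗ₜ[R] j))) = 0
    rw [show ρ.symm (ρ ((1 : T) ⊗ₜ[R] j)) = (1 : T) ⊗ₜ[R] j from ρ.symm_apply_apply _]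
    simp [Ideal.Quotient.eq_zero_iff_mem.2 hj]
  have h1 := hπ (hIJ (show Φ a ∈ I by
    rw [RingHom.mem_ker]
    change Coalgebra.counit (R := T) (ρ ((1 : T) ⊗ₜ[R] a)) = 0
    rw [CoalgHomClass.counit_comp_apply, TensorProduct.counit_tmul, CommSemiring.counit_apply, hcA ha, zero_smul]))
  rw [RingHom.mem_ker] at h1
  change Algebra.TensorProduct.map (AlgHom.id T T) (Ideal.Quotient.mkₐ R J) (ρ.symm (ρ ((1 : T) ⊗ₜ[R] a))) = 0 at h1
  rw [show ρ.symm (ρ ((1 : T) ⊗ₜ[R] a)) = (1 : T) ⊗ₜ[R] a from ρ.symm_apply_apply _] at h1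
  simpa using h1

end Groth.Agent.SGA3b53
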