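import Groth.Agent.SGA3b53.DiagLiftApply
import Groth.Agent.SGA3b53.SepLift
import Mathlib

/-!
Lifting finite groups of multiplicative type over henselian local rings.
-/

set_option autoImplicit false
set_option linter.unusedSectionVars false
set_option linter.style.haveILetI false
universe u v w
open TensorProduct

noncomputable section

namespace Groth.Agent.SGA3b53

namespace DLift

variable {R : Type u} [CommRing R]

theorem rigid_of_henselian [HenselianLocalRing R] {ι : Type u} (T : ι → Type u) [∀ i, CommRing (T i)]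
    [∀ i, Algebra R (T i)] [∀ i, Module.Finite R (T i)] : Rigid (IsLocalRing.maximalIdeal R) T := by
  have hh : ∀ (U : Type u) [CommRing U] [Algebra R U] [Module.Finite R U],
      HenselianRing U ((IsLocalRing.maximalIdeal R).map (algebraMap R U)) := fun U _ _ _ => by
    haveI : Algebra.IsIntegral R U := Algebra.IsIntegral.of_finite R U
    exact Henz21.henselianRing_of_isIntegral (IsLocalRing.maximalIdeal R) U
  refine ⟨fun i => ?_, fun i j => ?_, fun i j l => ?_, fun i j e he => ?_⟩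
  · haveI := hh (T i)
    exact HenselianRing.jac
  · haveI := hh (T i ⊗[R] T j)
    exact HenselianRing.jac
  · haveI := hh (T i ⊗[R] (T j ⊗[R] T l))
    exact HenselianRing.jac
  · haveI := hh (T i ⊗[R] T j)
    exact exists_idem_lift_henselian ((IsLocalRing.maximalIdeal R).map (algebraMap R (T i ⊗[R] T j))) e he

theorem exists_lift_finite [HenselianLocalRing R] {C₀ : Type u} [CommRing C₀]
    [HopfAlgebra (R ⧸ IsLocalRing.maximalIdeal R) C₀] [Module.Finite (R ⧸ IsLocalRing.maximalIdeal R) C₀]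
    (h₀ : SGA3b.IsMultType (R ⧸ IsLocalRing.maximalIdeal R) C₀) :
    ∃ (C : Type u) (_ : CommRing C) (_ : HopfAlgebra R C), Module.Finite R C ∧ SGA3b.IsIsotrivial R C ∧
      Nonempty (((R ⧸ IsLocalRing.maximalIdeal R) ⊗[R] C) ≃ₐc[R ⧸ IsLocalRing.maximalIdeal R] C₀) := by
  let k := R ⧸ IsLocalRing.maximalIdeal R
  letI : Field k := Ideal.Quotient.field _
  obtain ⟨k', _, _, hfin, hsep, M, _, -, ⟨ρ⟩⟩ := isotrivial_of_field (K := k) (A := C₀) inferInstance h₀
  letI : Algebra R k' := ((algebraMap k k').comp (algebraMap R k)).toAlgebra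
  haveI : IsScalarTower R k k' := IsScalarTower.of_algebraMap_eq fun _ => rfl
  obtain ⟨R', _, _, _, het, hfR, hff, hmR, π, hπs, hπk⟩ := exists_etale_local_lift (R := R) k'
  let e₀ : (R' ⧸ RingHom.ker (π : R' →+* k')) ≃ₐ[R] k' := Ideal.quotientKerAlgEquivOfSurjective (f := π) hπs
  let σ₀ : k' →ₐ[R] red (IsLocalRing.maximalIdeal R) R' :=
    (Ideal.quotientEquivAlgOfEq R (hπk.trans hmR.symm)).toAlgHom.comp e₀.symm.toAlgHom
  let σ : k' →ₐ[k] red (IsLocalRing.maximalIdeal R) R' := AlgHom.extendScalarsOfSurjective Ideal.Quotient.mk_surjective σ₀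
  have hd : SGA3b.IsDiag (red (IsLocalRing.maximalIdeal R) R') (red (IsLocalRing.maximalIdeal R) R' ⊗[k] C₀) :=
    isDiag_of_algHom σ ⟨M, inferInstance, ⟨ρ⟩⟩
  have hT : IsCover R (fun _ : PUnit.{u+1} => R') :=
    ⟨fun _ => inferInstance, fun p => ⟨PUnit.unit, PrimeSpectrum.comap_surjective_of_faithfullyFlat p⟩⟩
  obtain ⟨C, _, _, hC, ⟨χ⟩⟩ := exists_lift hT (rigid_of_henselian _) fun _ => hd
  obtain ⟨N, _, ⟨ρC⟩⟩ := hC PUnit.unit
  let Rr := red (IsLocalRing.maximalIdeal R) R'
  haveI : Nontrivial Rr := Ideal.Quotient.nontrivial_iff.2 (by rw [hmR]; exact (IsLocalRing.maximalIdeal.isMaximal R').ne_top)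
  let E : Rr ⊗[k] C₀ ≃ₐc[Rr] MonoidAlgebra Rr N :=
    ((((congrBC Rr χ).symm).trans (cancelBC R k Rr C)).trans (cancelBC R R' Rr C).symm).trans
      ((congrBC Rr ρC).trans (monoidAlgebraBC R' Rr N))
  haveI : Module.Finite Rr (MonoidAlgebra Rr N) := Module.Finite.equiv E.toLinearEquiv
  haveI : Finite N := Module.Finite.finite_basis (MonoidAlgebra.basis N Rr)
  haveI : Module.Finite R' (MonoidAlgebra R' N) := Module.Finite.of_basis (MonoidAlgebra.basis N R')
  haveI : Module.Finite R' (R' ⊗[R] C) := Module.Finite.equiv ρC.symm.toLinearEquiv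
  exact ⟨C, inferInstance, inferInstance, Module.Finite.of_finite_tensorProduct_of_faithfullyFlat R',
    ⟨R', inferInstance, inferInstance, het, hfR, hff, ⟨N, inferInstance, ⟨ρC⟩⟩⟩, ⟨χ⟩⟩

end DLift

end Groth.Agent.SGA3b53
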