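import Groth.Agent.SGA3b53.HomLift
import Groth.Agent.SGA3b53.HenselianLift
import Mathlib

/-!
Homomorphisms of finite type groups of multiplicative type over henselian local rings.
-/

set_option autoImplicit false
set_option linter.unusedSectionVars false
set_option linter.style.haveILetI false
universe u v w
open TensorProduct

noncomputable section

namespace Groth.Agent.SGA3b53

namespace HomLift

theorem exists_common_split {R : Type u} [CommRing R] {B C : Type u} [CommRing B] [HopfAlgebra R B] [CommRing C]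
    [HopfAlgebra R C] (hB : SGA3b.IsIsotrivial R B) (hC : SGA3b.IsIsotrivial R C) :
    ∃ (T : Type u) (_ : CommRing T) (_ : Algebra R T), Algebra.Etale R T ∧ Module.Finite R T ∧ Module.FaithfullyFlat R T ∧
      SGA3b.IsDiag T (T ⊗[R] B) ∧ SGA3b.IsDiag T (T ⊗[R] C) := by
  obtain ⟨S, _, _, hS1, hS2, hS3, hSd⟩ := hB
  obtain ⟨S', _, _, hS'1, hS'2, hS'3, hS'd⟩ := hC
  haveI : Algebra.Etale R (S ⊗[R] S') := Algebra.Etale.comp R S (S ⊗[R] S')
  haveI : Module.Finite R (S ⊗[R] S') := Module.Finite.trans S (S ⊗[R] S')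
  haveI : Module.FaithfullyFlat R (S ⊗[R] S') := Module.FaithfullyFlat.trans R S (S ⊗[R] S')
  exact ⟨S ⊗[R] S', inferInstance, inferInstance, inferInstance, inferInstance, inferInstance,
    DLift.isDiag_of_algHom (Algebra.TensorProduct.includeLeft : S →ₐ[R] S ⊗[R] S') hSd,
    DLift.isDiag_of_algHom (Algebra.TensorProduct.includeRight : S' →ₐ[R] S ⊗[R] S') hS'd⟩

theorem bijective_of_henselian {R : Type u} [CommRing R] [HenselianLocalRing R] {B C : Type u} [CommRing B]
    [HopfAlgebra R B] [CommRing C] [HopfAlgebra R C] (hBf : Algebra.FiniteType R B) (hB : SGA3b.IsMultType R B)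
    (hCf : Algebra.FiniteType R C) (hC : SGA3b.IsMultType R C) :
    (∀ φ ψ : C →ₐc[R] B, (∀ c, (1 : R ⧸ IsLocalRing.maximalIdeal R) ⊗ₜ[R] φ c =
        (1 : R ⧸ IsLocalRing.maximalIdeal R) ⊗ₜ[R] ψ c) → φ = ψ) ∧
    (∀ φ₀ : ((R ⧸ IsLocalRing.maximalIdeal R) ⊗[R] C) →ₐc[R ⧸ IsLocalRing.maximalIdeal R]
        ((R ⧸ IsLocalRing.maximalIdeal R) ⊗[R] B),
      ∃ φ : C →ₐc[R] B, ∀ c, φ₀ ((1 : R ⧸ IsLocalRing.maximalIdeal R) ⊗ₜ[R] c) =
        (1 : R ⧸ IsLocalRing.maximalIdeal R) ⊗ₜ[R] φ c) := by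
  obtain ⟨T, _, _, het, hfin, hff, hdB, hdC⟩ :=
    exists_common_split (isIsotrivial_of_henselian hBf hB) (isIsotrivial_of_henselian hCf hC)
  have hT : IsCover R (fun _ : PUnit.{u+1} => T) :=
    ⟨fun _ => inferInstance, fun p => ⟨PUnit.unit, PrimeSpectrum.comap_surjective_of_faithfullyFlat p⟩⟩
  have hr := DLift.rigid_of_henselian (R := R) (fun _ : PUnit.{u+1} => T)
  refine ⟨fun φ ψ h => eq_of_reduction hT hr.jac₁ (fun _ => hdC) (fun _ => hdB) φ ψ h,
    fun φ₀ => exists_hom_lift hT hr.jac₁ hr.jac₂ (fun _ e he => ?_) (fun _ => hdC) (fun _ => hdB) φ₀⟩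
  haveI : Algebra.IsIntegral R T := Algebra.IsIntegral.of_finite R T
  haveI := Henz21.henselianRing_of_isIntegral (IsLocalRing.maximalIdeal R) T
  exact DLift.exists_idem_lift_henselian ((IsLocalRing.maximalIdeal R).map (algebraMap R T)) e he

end HomLift

end Groth.Agent.SGA3b53
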