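import Groth.Agent.SGA3b53.Cover
import Groth.Agent.SGA3b53.CharGroup
import Groth.Agent.SGA3b53.PowConv
import Mathlib

/-!
Hopf ideals of kernels; cocommutativity of groups of multiplicative type.
-/

set_option autoImplicit false
set_option linter.unusedSectionVars false
set_option linter.style.haveILetI false
universe u v w
open TensorProduct

noncomputable section

namespace Groth.Agent.SGA3b53

variable {R : Type u} [CommRing R] {A : Type u} [CommRing A] [HopfAlgebra R A]

theorem isHopfIdeal_span' (s : Set A) (h0 : ∀ x ∈ s, Coalgebra.counit (R := R) x = 0)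
    (hΔ : ∀ x ∈ s, Algebra.TensorProduct.map (Ideal.Quotient.mkₐ R (Ideal.span s))
      (Ideal.Quotient.mkₐ R (Ideal.span s)) (Coalgebra.comul (R := R) x) = 0)
    (hS : ∀ x ∈ s, HopfAlgebraStruct.antipode (R := R) x ∈ Ideal.span s) :
    (Ideal.span s).IsHopfIdeal R := by
  refine { counit_eq_zero := ?_, map_mkQ_comul_eq_zero := ?_, antipode_mem := ?_ }
  · intro x hx
    have h : Ideal.span s ≤ RingHom.ker (Bialgebra.counitAlgHom R A) := Ideal.span_le.2 fun y hy => h0 y hy
    exact h hx
  · intro x hx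
    have h : Ideal.span s ≤ RingHom.ker ((Algebra.TensorProduct.map (Ideal.Quotient.mkₐ R (Ideal.span s))
      (Ideal.Quotient.mkₐ R (Ideal.span s))).comp (Bialgebra.comulAlgHom R A)) :=
      Ideal.span_le.2 fun y hy => hΔ y hy
    exact h hx
  · intro x hx
    have h : Ideal.span s ≤ (Ideal.span s).comap (HopfAlgebra.antipodeAlgHom R A) :=
      Ideal.span_le.2 fun y hy => hS y hy
    exact h hx

/-- The ideal of the kernel of a homomorphism is a Hopf ideal. -/
theorem isHopfIdeal_map_aug {C : Type u} [CommRing C] [HopfAlgebra R C] (φ : C →ₐc[R] A) :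
    (Ideal.map φ (RingHom.ker (Bialgebra.counitAlgHom R C))).IsHopfIdeal R := by
  refine isHopfIdeal_span' _ ?_ ?_ ?_
  · rintro _ ⟨x, hx, rfl⟩
    rw [CoalgHomClass.counit_comp_apply]
    exact hx
  · rintro _ ⟨x, hx, rfl⟩
    let I : Ideal A := Ideal.span (φ '' (RingHom.ker (Bialgebra.counitAlgHom R C) : Set C))
    change Algebra.TensorProduct.map (Ideal.Quotient.mkₐ R I) (Ideal.Quotient.mkₐ R I) (Coalgebra.comul (R := R) (φ x)) = 0
    let q : C →ₐ[R] A ⧸ I := (Ideal.Quotient.mkₐ R I).comp (φ : C →ₐ[R] A)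
    have hq : ∀ y, q y = algebraMap R (A ⧸ I) (Coalgebra.counit (R := R) y) := by
      intro y
      refine sub_eq_zero.1 ?_
      rw [← AlgHom.commutes q, ← map_sub]
      refine Ideal.Quotient.eq_zero_iff_mem.2 (Ideal.subset_span ⟨_, ?_, rfl⟩)
      rw [SetLike.mem_coe, RingHom.mem_ker, map_sub, AlgHom.commutes]
      exact sub_self _
    have h1 : ∀ z : C ⊗[R] C, Algebra.TensorProduct.map (Ideal.Quotient.mkₐ R I) (Ideal.Quotient.mkₐ R I)
        (TensorProduct.map (φ : C →ₗ[R] A) (φ : C →ₗ[R] A) z) =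
        algebraMap R _ (Coalgebra.counit (R := R) z) := by
      intro z
      induction z with
      | zero => simp
      | add a b ha hb => simp only [map_add, ha, hb]
      | tmul a b =>
        simp only [TensorProduct.map_tmul, Algebra.TensorProduct.map_tmul]
        change q a ⊗ₜ[R] q b = _
        rw [hq, hq, TensorProduct.counit_tmul]
        simp [Algebra.algebraMap_eq_smul_one, TensorProduct.smul_tmul', TensorProduct.tmul_smul, smul_smul, mul_comm,
          Algebra.TensorProduct.one_def]
    have h2 : ∀ z : C ⊗[R] C, Coalgebra.counit (R := R) z =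
        Coalgebra.counit (R := R) (TensorProduct.lid R C ((Coalgebra.counit (R := R) (A := C)).rTensor C z)) := by
      intro z
      induction z with
      | zero => simp
      | add a b ha hb => simp only [map_add, ha, hb]
      | tmul a b => simp [mul_comm]
    rw [show Coalgebra.comul (R := R) (φ x) = TensorProduct.map (φ : C →ₗ[R] A) (φ : C →ₗ[R] A)
      (Coalgebra.comul (R := R) x) from (CoalgHomClass.map_comp_comul_apply φ x).symm, h1, h2,
      Coalgebra.rTensor_counit_comul, TensorProduct.lid_tmul, one_smul,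
      show Coalgebra.counit (R := R) x = 0 from hx, map_zero]
  · rintro _ ⟨x, hx, rfl⟩
    rw [← map_antipode]
    refine Ideal.subset_span ⟨_, ?_, rfl⟩
    rw [SetLike.mem_coe, RingHom.mem_ker]
    exact (HopfAlgebra.counit_antipode x).trans hx

theorem isHopfIdeal_torsionIdeal [Coalgebra.IsCocomm R A] (n : ℕ) : (SGA3b.torsionIdeal R A n).IsHopfIdeal R := by
  let P : A →ₐc[R] A := ((WithConv.toConv (BialgHom.id R A)) ^ n).ofConv
  have hP : (P : A →ₐ[R] A) = SGA3b.powConv R A n :=
    congrArg WithConv.ofConv (BialgHom.toAlgHom_convPow (WithConv.toConv (BialgHom.id R A)) n)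
  have h : SGA3b.torsionIdeal R A n = Ideal.map P (RingHom.ker (Bialgebra.counitAlgHom R A)) := by
    rw [SGA3b.torsionIdeal, ← hP]
    rfl
  rw [h]
  exact isHopfIdeal_map_aug P

theorem isCocomm_monoidAlgebra {M : Type u} [CommMonoid M] (x : MonoidAlgebra R M) :
    TensorProduct.comm R _ _ (Coalgebra.comul (R := R) x) = Coalgebra.comul (R := R) x := by
  induction x using MonoidAlgebra.induction_linear with
  | zero => simp
  | add f g hf hg => simp only [map_add, hf, hg]
  | single m r =>
    rw [show MonoidAlgebra.single m r = r • MonoidAlgebra.single m (1 : R) by simp, map_smul, map_smul]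
    congr 1
    simp

/-- Groups of multiplicative type are commutative. -/
theorem isCocomm_of_isMultType (h : SGA3b.IsMultType R A) : Coalgebra.IsCocomm R A := by
  obtain ⟨ι, T, _, _, hT, hd⟩ := exists_cover h
  refine ⟨LinearMap.ext fun a => sub_eq_zero.1 (hT.eq_zero fun i => ?_)⟩
  obtain ⟨M, _, ⟨ρ⟩⟩ := hd i
  rw [tmul_sub, sub_eq_zero]
  let κ : T i ⊗[R] (A ⊗[R] A) ≃ₗ[T i] (T i ⊗[R] A) ⊗[T i] (T i ⊗[R] A) :=
    AlgebraTensorModule.distribBaseChange R (T i) A A
  apply κ.injective
  have key : ∀ z : A ⊗[R] A, κ ((1 : T i) ⊗ₜ[R] z) =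
      AlgebraTensorModule.tensorTensorTensorComm R (T i) R (T i) (T i) (T i) A A
        (((1 : T i) ⊗ₜ[T i] (1 : T i)) ⊗ₜ[R] z) := by
    intro z
    induction z with
    | zero => simp
    | add a b ha hb => simp only [tmul_add, map_add, ha, hb]
    | tmul b c => simp [κ]
  have hcm : ∀ z : A ⊗[R] A, κ ((1 : T i) ⊗ₜ[R] TensorProduct.comm R A A z) =
      TensorProduct.comm (T i) _ _ (κ ((1 : T i) ⊗ₜ[R] z)) := by
    intro z
    induction z with
    | zero => simp
    | add a b ha hb => simp only [tmul_add, map_add, ha, hb]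
    | tmul b c => simp [κ]
  have hcomul : Coalgebra.comul (R := T i) ((1 : T i) ⊗ₜ[R] a) = κ ((1 : T i) ⊗ₜ[R] Coalgebra.comul (R := R) a) := by
    rw [TensorProduct.comul_tmul, CommSemiring.comul_apply, key]
  rw [LinearMap.comp_apply]
  change κ ((1 : T i) ⊗ₜ[R] TensorProduct.comm R A A (Coalgebra.comul (R := R) a)) = _
  rw [hcm, ← hcomul]
  have hinj : Function.Injective (TensorProduct.congr ρ.toLinearEquiv ρ.toLinearEquiv) := LinearEquiv.injective _
  apply hinj
  have h1 : ∀ z, TensorProduct.congr ρ.toLinearEquiv ρ.toLinearEquiv (TensorProduct.comm (T i) _ _ z) =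
      TensorProduct.comm (T i) _ _ (TensorProduct.congr ρ.toLinearEquiv ρ.toLinearEquiv z) := by
    intro z
    induction z with
    | zero => simp
    | add a b ha hb => simp only [map_add, ha, hb]
    | tmul b c => simp
  rw [h1]
  have h2 : TensorProduct.congr ρ.toLinearEquiv ρ.toLinearEquiv (Coalgebra.comul (R := T i) ((1 : T i) ⊗ₜ[R] a)) =
      Coalgebra.comul (R := T i) (ρ ((1 : T i) ⊗ₜ[R] a)) := CoalgHomClass.map_comp_comul_apply ρ _
  rw [h2, isCocomm_monoidAlgebra]

end Groth.Agent.SGA3b53
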