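import Groth.Agent.SGA3b53.DiagLift
import Mathlib

/-!
Closed subgroups of diagonalisable groups given by subgroups of the character group.
-/

set_option autoImplicit false
set_option linter.unusedSectionVars false
set_option linter.style.haveILetI false
universe u v w
open TensorProduct

noncomputable section

namespace Groth.Agent.SGA3b53

variable {R : Type u} [CommRing R] {A : Type u} [CommRing A] [HopfAlgebra R A]

/-- The closed subgroup cut out by a subgroup `L` of characters is `D(M/L)`. -/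
theorem exists_quotient_equiv {T : Type u} [CommRing T] [Algebra R T] {M : Type u} [CommGroup M]
    (ρ : T ⊗[R] A ≃ₐc[T] MonoidAlgebra T M) (L : Subgroup M) (J : Ideal A) [J.IsHopfIdeal R]
    (hone : ∀ l ∈ L, Bialgebra.TensorProduct.map (BialgHom.id T T) (Bialgebra.Quotient.mkBialgHom (R := R) J)
      (ρ.symm (MonoidAlgebra.single l 1)) = 1)
    (hJ : ∀ a ∈ J, MonoidAlgebra.mapDomainBialgHom T (QuotientGroup.mk' L) (ρ ((1 : T) ⊗ₜ[R] a)) = 0) :
    Nonempty (MonoidAlgebra T (M ⧸ L) ≃ₐc[T] T ⊗[R] (A ⧸ J)) := by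
  let N := M ⧸ L
  let q : T ⊗[R] A →ₐc[T] T ⊗[R] (A ⧸ J) :=
    Bialgebra.TensorProduct.map (BialgHom.id T T) (Bialgebra.Quotient.mkBialgHom (R := R) J)
  have hq : Function.Surjective q := by
    intro y
    induction y with
    | zero => exact ⟨0, by simp⟩
    | add a b ha hb =>
      obtain ⟨a', rfl⟩ := ha
      obtain ⟨b', rfl⟩ := hb
      exact ⟨a' + b', map_add _ _ _⟩
    | tmul t a =>
      obtain ⟨a, rfl⟩ := Ideal.Quotient.mk_surjective a
      exact ⟨t ⊗ₜ a, by simp [q]⟩
  let g : M →* T ⊗[R] (A ⧸ J) :=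
    ((q : T ⊗[R] A →ₐ[T] T ⊗[R] (A ⧸ J)) : T ⊗[R] A →* T ⊗[R] (A ⧸ J)).comp
      ((MonoidHomClass.toMonoidHom ρ.symm).comp (MonoidAlgebra.of T M))
  have hg : ∀ m, IsGroupLikeElem T (g m) := fun m =>
    ((MonoidAlgebra.isGroupLikeElem_of (R := T) m).map ρ.symm).map q
  have hker : L ≤ g.ker := fun l hl => hone l hl
  let γ : N →* T ⊗[R] (A ⧸ J) := QuotientGroup.lift _ g hker
  have hγ : ∀ x, IsGroupLikeElem T (γ x) := by
    intro x
    obtain ⟨m, rfl⟩ := QuotientGroup.mk_surjective x
    exact hg m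
  obtain ⟨θ, hθ⟩ := exists_bialgHom_of_grouplike γ hγ
  let π : T ⊗[R] A →ₐc[T] MonoidAlgebra T N :=
    (MonoidAlgebra.mapDomainBialgHom T (QuotientGroup.mk' L)).comp
      (ρ : T ⊗[R] A →ₐc[T] MonoidAlgebra T M)
  let π₀ : A →ₐ[R] MonoidAlgebra T N :=
    ((π : T ⊗[R] A →ₐ[T] MonoidAlgebra T N).restrictScalars R).comp Algebra.TensorProduct.includeRight
  have hπ₀ : ∀ a ∈ J, π₀ a = 0 := hJ
  let ψ : T ⊗[R] (A ⧸ J) →ₐ[T] MonoidAlgebra T N :=
    Algebra.TensorProduct.lift (Algebra.ofId T _) (Ideal.Quotient.liftₐ J π₀ hπ₀) fun _ _ => Commute.all _ _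
  have hψ : ∀ x, ψ (q x) = π x := by
    intro x
    induction x with
    | zero => simp
    | add a b ha hb => simp only [map_add, ha, hb]
    | tmul t a =>
      rw [show t ⊗ₜ[R] a = t • ((1 : T) ⊗ₜ[R] a) by rw [TensorProduct.smul_tmul', smul_eq_mul, mul_one], map_smul,
        map_smul, map_smul]
      congr 1
      simp [q, ψ, π₀, ← MonoidAlgebra.one_def]
  have hπsurj : ∀ z : MonoidAlgebra T M, θ (π (ρ.symm z)) = q (ρ.symm z) := by
    intro z
    change θ (MonoidAlgebra.mapDomainBialgHom T (QuotientGroup.mk' L)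
      (ρ (ρ.symm z))) = _
    rw [show ρ (ρ.symm z) = z from ρ.apply_symm_apply z]
    induction z using MonoidAlgebra.induction_linear with
    | zero => simp
    | add f g hf hg => simp only [map_add, hf, hg]
    | single m r =>
      rw [MonoidAlgebra.mapDomainBialgHom_single, hθ, show MonoidAlgebra.single m r = r • MonoidAlgebra.of T M m by simp,
        map_smul, map_smul]
      rfl
  refine ⟨BialgEquiv.ofBijective θ ⟨Function.LeftInverse.injective (g := ψ) fun x => ?_, fun y => ?_⟩⟩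
  · induction x using MonoidAlgebra.induction_linear with
    | zero => simp
    | add f g hf hg => simp only [map_add, hf, hg]
    | single x r =>
      obtain ⟨m, rfl⟩ := QuotientGroup.mk_surjective x
      rw [hθ, map_smul]
      change r • ψ (q (ρ.symm (MonoidAlgebra.of T M m))) = _
      rw [hψ]
      change r • MonoidAlgebra.mapDomainBialgHom T _ (ρ (ρ.symm (MonoidAlgebra.of T M m))) = _
      rw [show ρ (ρ.symm (MonoidAlgebra.of T M m)) = MonoidAlgebra.of T M m from ρ.apply_symm_apply _]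
      simp
      rfl
  · obtain ⟨x, rfl⟩ := hq y
    refine ⟨π x, ?_⟩
    have h := hπsurj (ρ x)
    rwa [show ρ.symm (ρ x) = x from ρ.symm_apply_apply x] at h

end Groth.Agent.SGA3b53
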