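import Groth.Agent.SGA3b53.Clopen
import Groth.Agent.SGA3b53.FormalEtale
import Groth.Agent.SGA3b53.HopfKer
import Groth.Agent.SGA3b53.QuotEquiv
import Mathlib

/-!
The clopen isotrivial subgroup over an adically complete Noetherian base.
-/

set_option autoImplicit false
set_option linter.unusedSectionVars false
set_option linter.style.haveILetI false
universe u v w
open TensorProduct

noncomputable section

namespace Groth.Agent.SGA3b53

variable {R : Type u} [CommRing R] {C : Type u} [CommRing C] [HopfAlgebra R C]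

theorem flat_levels (I : Ideal R) (hflat : ∀ k, Module.Flat (R ⧸ I ^ k) ((R ⧸ I ^ k) ⊗[R] C)) (W : Type u)
    [CommRing W] [Algebra R W] (k : ℕ) :
    Module.Flat (W ⧸ I.map (algebraMap R W) ^ k) ((W ⧸ I.map (algebraMap R W) ^ k) ⊗[W] (W ⊗[R] C)) := by
  let Q := W ⧸ I.map (algebraMap R W) ^ k
  letI : Algebra (R ⧸ I ^ k) Q := (Ideal.quotientMap (I.map (algebraMap R W) ^ k) (algebraMap R W) (by
    rw [← Ideal.map_pow]
    exact Ideal.le_comap_map)).toAlgebra
  haveI : IsScalarTower R (R ⧸ I ^ k) Q := IsScalarTower.of_algebraMap_eq fun _ => rfl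
  haveI := hflat k
  haveI : Module.Flat Q (Q ⊗[R ⧸ I ^ k] ((R ⧸ I ^ k) ⊗[R] C)) := inferInstance
  exact Module.Flat.of_linearEquiv (((cancelBC R (R ⧸ I ^ k) Q C).trans (cancelBC R W Q C).symm).toLinearEquiv).symm

theorem map_pow_map {W : Type u} [CommRing W] [Algebra R W] (I : Ideal R) (k : ℕ) :
    Ideal.map (algebraMap W (W ⊗[R] C)) (I.map (algebraMap R W) ^ k) =
      Ideal.map (algebraMap R (W ⊗[R] C)) (I ^ k) := by
  rw [← Ideal.map_pow, Ideal.map_map, ← IsScalarTower.algebraMap_eq]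

/-- The defining idempotent is characterised after any further base change. -/
theorem idem_mul_eq {W U : Type u} [CommRing W] [Algebra R W] [CommRing U] [Algebra R U] (g : W →ₐ[R] U) (I : Ideal R)
    [IsHausdorff (I.map (algebraMap R U)) U] {M : Type u} [CommGroup M] (φ : W ⊗[R] C →ₐc[W] MonoidAlgebra W M)
    (hsurj : Function.Surjective φ) (e : W ⊗[R] C) (hker : ∀ x, φ x = 0 ↔ e * x = x)
    {x : U ⊗[R] C} (hx : ∀ k, x ∈ Ideal.map (algebraMap R (U ⊗[R] C)) (I ^ k)) :
    Algebra.TensorProduct.map g (AlgHom.id R C) e * x = x := by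
  letI : Algebra W U := g.toRingHom.toAlgebra
  haveI : IsScalarTower R W U := IsScalarTower.of_algebraMap_eq fun r => (g.commutes r).symm
  let Φ : U ⊗[W] (W ⊗[R] C) →ₐ[W] U ⊗[W] MonoidAlgebra W M :=
    Algebra.TensorProduct.map (AlgHom.id W U) (φ : W ⊗[R] C →ₐ[W] MonoidAlgebra W M)
  obtain ⟨y, rfl⟩ : ∃ y, cancelBC R W U C y = x := ⟨(cancelBC R W U C).symm x, (cancelBC R W U C).apply_symm_apply x⟩
  have hΦ : Φ y = 0 := by
    apply EquivLike.injective (monoidAlgebraBC W U M)
    rw [map_zero]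
    refine monoidAlgebra_ext_pow (I.map (algebraMap R U)) fun k => ?_
    rw [map_zero]
    let f : U ⊗[R] C →+* MonoidAlgebra (U ⧸ I.map (algebraMap R U) ^ k) M :=
      ((MonoidAlgebra.mapRingHom M (Ideal.Quotient.mk (I.map (algebraMap R U) ^ k))).comp
        ((monoidAlgebraBC W U M : U ⊗[W] MonoidAlgebra W M →+* MonoidAlgebra U M))).comp
        (Φ.toRingHom.comp ((cancelBC R W U C).symm : U ⊗[R] C →+* U ⊗[W] (W ⊗[R] C)))
    have h1 : Ideal.map (algebraMap R (U ⊗[R] C)) (I ^ k) ≤ RingHom.ker f := by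
      refine Ideal.map_le_iff_le_comap.2 fun a ha => ?_
      rw [Ideal.mem_comap, RingHom.mem_ker]
      change MonoidAlgebra.mapRingHom M _ (monoidAlgebraBC W U M (Φ ((cancelBC R W U C).symm (algebraMap R (U ⊗[R] C) a)))) = 0
      rw [show (cancelBC R W U C).symm (algebraMap R (U ⊗[R] C) a) = algebraMap R (U ⊗[W] (W ⊗[R] C)) a by
          rw [IsScalarTower.algebraMap_apply R U (U ⊗[R] C), IsScalarTower.algebraMap_apply R U (U ⊗[W] (W ⊗[R] C))]
          exact AlgHomClass.commutes (cancelBC R W U C).symm _,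
        IsScalarTower.algebraMap_apply R U (U ⊗[W] (W ⊗[R] C)), Algebra.TensorProduct.algebraMap_apply,
        show Φ ((algebraMap U U) (algebraMap R U a) ⊗ₜ[W] 1) = algebraMap U (U ⊗[W] MonoidAlgebra W M) (algebraMap R U a) by simp [Φ],
        show monoidAlgebraBC W U M (algebraMap U _ (algebraMap R U a)) = algebraMap U (MonoidAlgebra U M) (algebraMap R U a) from
          AlgHomClass.commutes (monoidAlgebraBC W U M) _]
      refine MonoidAlgebra.ext (Finsupp.ext fun m => ?_)
      have ha' : Ideal.Quotient.mk (I.map (algebraMap R U) ^ k) (algebraMap R U a) = 0 := by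
        rw [Ideal.Quotient.eq_zero_iff_mem, ← Ideal.map_pow]
        exact Ideal.mem_map_of_mem _ ha
      by_cases hm : (1 : M) = m
      · subst hm; simp [ha']
      · simp [Ne.symm hm]
    have h2 := h1 (hx k)
    rw [RingHom.mem_ker] at h2
    change MonoidAlgebra.mapRingHom M _ (monoidAlgebraBC W U M (Φ ((cancelBC R W U C).symm (cancelBC R W U C y)))) = 0 at h2
    rwa [show (cancelBC R W U C).symm (cancelBC R W U C y) = y from (cancelBC R W U C).symm_apply_apply y] at h2
  have hker' : RingHom.ker Φ = (RingHom.ker (φ : W ⊗[R] C →ₐ[W] MonoidAlgebra W M)).map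
      (Algebra.TensorProduct.includeRight : W ⊗[R] C →ₐ[W] U ⊗[W] (W ⊗[R] C)) :=
    Algebra.TensorProduct.lTensor_ker _ hsurj
  have h3 : y ∈ (RingHom.ker (φ : W ⊗[R] C →ₐ[W] MonoidAlgebra W M)).map
      (Algebra.TensorProduct.includeRight : W ⊗[R] C →ₐ[W] U ⊗[W] (W ⊗[R] C)) := hker' ▸ hΦ
  have hsub : ∀ w, φ w = 0 → ((1 : U) ⊗ₜ[W] e) * ((1 : U) ⊗ₜ[W] w) = (1 : U) ⊗ₜ[W] w := fun w hw => by
    rw [Algebra.TensorProduct.tmul_mul_tmul, one_mul, (hker w).1 hw]
  have h4 : ((1 : U) ⊗ₜ[W] e) * y = y := by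
    clear hΦ hx
    induction h3 using Submodule.span_induction with
    | mem z hz =>
      obtain ⟨w, hw, rfl⟩ := hz
      exact hsub w hw
    | zero => rw [mul_zero]
    | add a b _ _ ha hb => rw [mul_add, ha, hb]
    | smul a b _ hb => rw [smul_eq_mul, mul_left_comm, hb]
  have h5 : cancelBC R W U C ((1 : U) ⊗ₜ[W] e) = Algebra.TensorProduct.map g (AlgHom.id R C) e := by
    clear hker hsub h3 h4 hker'
    induction e with
    | zero => simp
    | add a b ha hb => simp only [map_add, tmul_add, ha, hb]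
    | tmul t c =>
      rw [cancelBC_tmul, Algebra.smul_def, mul_one, Algebra.TensorProduct.map_tmul]
      rfl
  rw [← h5, ← map_mul, h4]

theorem map_idem_mem {W U : Type u} [CommRing W] [Algebra R W] [CommRing U] [Algebra R U] (g : W →ₐ[R] U) (I : Ideal R)
    {e : W ⊗[R] C} (k : ℕ) (hk : e ∈ Ideal.map (algebraMap R (W ⊗[R] C)) (I ^ k)) :
    Algebra.TensorProduct.map g (AlgHom.id R C) e ∈ Ideal.map (algebraMap R (U ⊗[R] C)) (I ^ k) := by
  have h1 := Ideal.mem_map_of_mem (Algebra.TensorProduct.map g (AlgHom.id R C)).toRingHom hk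
  rw [Ideal.map_map, show (Algebra.TensorProduct.map g (AlgHom.id R C)).toRingHom.comp (algebraMap R (W ⊗[R] C)) =
    algebraMap R (U ⊗[R] C) from RingHom.ext (Algebra.TensorProduct.map g (AlgHom.id R C)).commutes] at h1
  exact h1

/-- The clopen isotrivial subgroup. -/
theorem exists_clopen_isotrivial [IsNoetherianRing R] (I : Ideal R) [IsAdicComplete I R] [Algebra.FiniteType R C]
    (hflat : ∀ k, Module.Flat (R ⧸ I ^ k) ((R ⧸ I ^ k) ⊗[R] C))
    (h0 : SGA3b.IsIsotrivial (R ⧸ I) ((R ⧸ I) ⊗[R] C)) :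
    ∃ e : C, IsIdempotentElem e ∧ e ∈ Ideal.map (algebraMap R C) I ∧
      ∃ _ : (Ideal.span {e}).IsHopfIdeal R, SGA3b.IsIsotrivial R (C ⧸ Ideal.span {e}) := by
  obtain ⟨S, _, _, hS1, hS2, hS3, M, _, ⟨ρS⟩⟩ := h0
  obtain ⟨W, _, _, hW1, hW2, hW3, ⟨eW⟩⟩ := exists_finite_etale_cover_lift I S
  let IW := I.map (algebraMap R W)
  haveI : IsNoetherianRing W := IsNoetherianRing.of_finite R W
  haveI : IsAdicComplete IW W := isAdicComplete_map_of_finite I W
  -- the splitting modulo `I`
  letI : Algebra (R ⧸ I) (W ⧸ IW) := (Ideal.quotientMap IW (algebraMap R W) Ideal.le_comap_map).toAlgebra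
  haveI : IsScalarTower R (R ⧸ I) (W ⧸ IW) := IsScalarTower.of_algebraMap_eq fun _ => rfl
  let ω : (R ⧸ I) ⊗[R] W →ₐ[R ⧸ I] W ⧸ IW :=
    Algebra.TensorProduct.lift (Algebra.ofId _ _) (Ideal.Quotient.mkₐ R IW) fun _ _ => Commute.all _ _
  let s : S →ₐ[R ⧸ I] W ⧸ IW := ω.comp (eW.symm : S →ₐ[R ⧸ I] (R ⧸ I) ⊗[R] W)
  letI : Algebra S (W ⧸ IW) := s.toRingHom.toAlgebra
  haveI : IsScalarTower (R ⧸ I) S (W ⧸ IW) := IsScalarTower.of_algebraMap_eq fun r => (s.commutes r).symm
  obtain ⟨M', _, ⟨ρ1⟩⟩ : SGA3b.IsDiag (W ⧸ IW) ((W ⧸ IW) ⊗[W] (W ⊗[R] C)) :=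
    isDiag_of_equiv (cancelBC R W (W ⧸ IW) C).symm (isDiag_of_equiv (cancelBC R (R ⧸ I) (W ⧸ IW) C)
      (isDiag_tower S (W ⧸ IW) ⟨M, inferInstance, ⟨ρS⟩⟩))
  obtain ⟨φ, e, hsurj, hidem, heI, hker, hinter⟩ := exists_clopen_diag IW (flat_levels I hflat W) ρ1
  have heall : ∀ k, e ∈ Ideal.map (algebraMap R (W ⊗[R] C)) (I ^ k) := fun k => by
    have h1 := (hinter e).2 ((hker e).2 hidem) k
    rwa [map_pow_map] at h1
  -- descent of the idempotent
  let U := W ⊗[R] W
  haveI : IsNoetherianRing U := IsNoetherianRing.of_finite R U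
  haveI : IsAdicComplete (I.map (algebraMap R U)) U := isAdicComplete_map_of_finite I U
  let gl : W →ₐ[R] U := Algebra.TensorProduct.includeLeft
  let gr : W →ₐ[R] U := Algebra.TensorProduct.includeRight
  have hagree : Algebra.TensorProduct.map gl (AlgHom.id R C) e = Algebra.TensorProduct.map gr (AlgHom.id R C) e := by
    have h1 := idem_mul_eq gl I φ hsurj e hker (fun k => map_idem_mem gr I k (heall k))
    have h2 := idem_mul_eq gr I φ hsurj e hker (fun k => map_idem_mem gl I k (heall k))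
    rw [← h2, mul_comm, h1]
  have hT : IsCover R (fun _ : PUnit.{u+1} => W) :=
    ⟨fun _ => inferInstance, fun p => ⟨PUnit.unit, PrimeSpectrum.comap_surjective_of_faithfullyFlat p⟩⟩
  obtain ⟨e₀, he₀⟩ := hT.descend (fun _ => e) (fun _ _ => by
    have e1 : ∀ z : W ⊗[R] C, ((TensorProduct.mk R W W).flip 1).rTensor C z =
        Algebra.TensorProduct.map gl (AlgHom.id R C) z := fun z => by
      induction z with
      | zero => simp
      | add a b ha hb => simp only [map_add, ha, hb]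
      | tmul t a => rfl
    have e2 : ∀ z : W ⊗[R] C, ((TensorProduct.mk R W W) 1).rTensor C z =
        Algebra.TensorProduct.map gr (AlgHom.id R C) z := fun z => by
      induction z with
      | zero => simp
      | add a b ha hb => simp only [map_add, ha, hb]
      | tmul t a => rfl
    rw [e1, e2, hagree])
  have he₀' : (1 : W) ⊗ₜ[R] e₀ = e := he₀ PUnit.unit
  have hinj : ∀ {N : Type u} [AddCommGroup N] [Module R N] {a b : N}, (1 : W) ⊗ₜ[R] a = (1 : W) ⊗ₜ[R] b → a = b :=
    fun {N} _ _ {a b} hab => sub_eq_zero.1 (hT.eq_zero fun _ => by rw [tmul_sub, hab, sub_self])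
  have hidem₀ : IsIdempotentElem e₀ := hinj (N := C) (by
    rw [← one_mul (1 : W), ← Algebra.TensorProduct.tmul_mul_tmul, one_mul, he₀']
    exact hidem)
  have heI₀ : e₀ ∈ Ideal.map (algebraMap R C) I := by
    rw [← Ideal.Quotient.eq_zero_iff_mem]
    refine hinj (N := C ⧸ Ideal.map (algebraMap R C) I) ?_
    let f := Algebra.TensorProduct.map (AlgHom.id R W) (Ideal.Quotient.mkₐ R (Ideal.map (algebraMap R C) I))
    have h1 : Ideal.map (algebraMap R (W ⊗[R] C)) I ≤ RingHom.ker f := Ideal.map_le_iff_le_comap.2 fun a ha => by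
      rw [Ideal.mem_comap, RingHom.mem_ker, AlgHom.commutes, Algebra.algebraMap_eq_smul_one, Algebra.TensorProduct.one_def,
        ← TensorProduct.tmul_smul, ← Algebra.algebraMap_eq_smul_one,
        IsScalarTower.algebraMap_apply R C (C ⧸ Ideal.map (algebraMap R C) I), Ideal.Quotient.algebraMap_eq,
        Ideal.Quotient.eq_zero_iff_mem.2 (Ideal.mem_map_of_mem _ ha), tmul_zero]
    have h2 := h1 (by simpa using heall 1)
    rw [RingHom.mem_ker, ← he₀', Algebra.TensorProduct.map_tmul] at h2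
    rw [tmul_zero]
    exact h2
  -- the subgroup
  let J : Ideal C := Ideal.span {e₀}
  have hφe : φ e = 0 := (hker e).2 hidem
  haveI hJ : J.IsHopfIdeal R := by
    refine isHopfIdeal_span' {e₀} ?_ ?_ ?_ <;> rintro x rfl
    · have h1 := CoalgHomClass.counit_comp_apply φ ((1 : W) ⊗ₜ[R] x)
      rw [he₀', hφe, map_zero, ← he₀', TensorProduct.counit_tmul, CommSemiring.counit_apply, eq_comm] at h1
      exact hinj (N := R) ((TensorProduct.rid R W).injective (by simpa using h1))
    · refine hinj (N := (C ⧸ Ideal.span {x}) ⊗[R] (C ⧸ Ideal.span {x})) ?_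
      rw [tmul_zero]
      let Q := C ⧸ Ideal.span {x}
      let q : W ⊗[R] C →ₐ[W] W ⊗[R] Q := Algebra.TensorProduct.map (AlgHom.id W W) (Ideal.Quotient.mkₐ R (Ideal.span {x}))
      apply (AlgebraTensorModule.distribBaseChange R W Q Q).injective
      rw [map_zero]
      have h1 : ∀ z : C ⊗[R] C, AlgebraTensorModule.distribBaseChange R W Q Q
          ((1 : W) ⊗ₜ[R] Algebra.TensorProduct.map (Ideal.Quotient.mkₐ R (Ideal.span {x})) (Ideal.Quotient.mkₐ R (Ideal.span {x})) z) =
          TensorProduct.map q.toLinearMap q.toLinearMap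
            (AlgebraTensorModule.tensorTensorTensorComm R W R W W W C C (((1 : W) ⊗ₜ[W] (1 : W)) ⊗ₜ[R] z)) := by
        intro z
        induction z with
        | zero => simp
        | add a b ha hb => simp only [map_add, tmul_add, ha, hb]
        | tmul a b => simp [AlgebraTensorModule.distribBaseChange, q, Q]
      have h2 : AlgebraTensorModule.tensorTensorTensorComm R W R W W W C C (((1 : W) ⊗ₜ[W] (1 : W)) ⊗ₜ[R] Coalgebra.comul (R := R) x) =
          Coalgebra.comul (R := W) ((1 : W) ⊗ₜ[R] x) := by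
        rw [TensorProduct.comul_tmul, CommSemiring.comul_apply]
      rw [h1, h2, he₀']
      -- `q` factors through `φ`
      have h3 : LinearMap.ker (φ : W ⊗[R] C →ₐ[W] MonoidAlgebra W M').toLinearMap ≤ LinearMap.ker q.toLinearMap := by
        intro z hz
        rw [LinearMap.mem_ker] at hz ⊢
        change q z = 0
        rw [← (hker z).1 hz, map_mul, ← he₀', Algebra.TensorProduct.map_tmul,
          show (Ideal.Quotient.mkₐ R (Ideal.span {x})) x = 0 from
            Ideal.Quotient.eq_zero_iff_mem.2 (Ideal.mem_span_singleton_self x), tmul_zero, zero_mul]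
      choose pre hpre using hsurj
      let s' : MonoidAlgebra W M' →ₗ[W] W ⊗[R] C := (MonoidAlgebra.basis M' W).constr W fun m => pre (MonoidAlgebra.single m 1)
      have hs : ∀ z, φ (s' z) = z := by
        intro z
        induction z using MonoidAlgebra.induction_linear with
        | zero => simp
        | add a b ha hb => simp only [map_add, ha, hb]
        | single m r =>
          rw [show MonoidAlgebra.single m r = r • MonoidAlgebra.basis M' W m by simp, map_smul, map_smul,
            show s' (MonoidAlgebra.basis M' W m) = pre (MonoidAlgebra.single m 1) from Module.Basis.constr_basis _ _ _ _,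
            hpre]
          simp
      have hfac : q.toLinearMap = (q.toLinearMap ∘ₗ s') ∘ₗ (φ : W ⊗[R] C →ₐ[W] MonoidAlgebra W M').toLinearMap := by
        refine LinearMap.ext fun z => ?_
        rw [LinearMap.comp_apply, LinearMap.comp_apply, ← sub_eq_zero, ← map_sub]
        exact h3 (by
          rw [LinearMap.mem_ker, map_sub, sub_eq_zero]
          exact (hs _).symm)
      rw [hfac, TensorProduct.map_comp, LinearMap.comp_apply,
        show TensorProduct.map (φ : W ⊗[R] C →ₐ[W] MonoidAlgebra W M').toLinearMap (φ : W ⊗[R] C →ₐ[W] MonoidAlgebra W M').toLinearMap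
          (Coalgebra.comul (R := W) e) = Coalgebra.comul (R := W) (φ e) from CoalgHomClass.map_comp_comul_apply φ e,
        hφe, map_zero, map_zero]
    · refine Ideal.mem_span_singleton.2 ⟨HopfAlgebraStruct.antipode (R := R) x, hinj (N := C) ?_⟩
      rw [← one_mul (1 : W), ← Algebra.TensorProduct.tmul_mul_tmul, one_mul, he₀']
      refine ((hker _).1 ?_).symm
      rw [show (1 : W) ⊗ₜ[R] HopfAlgebraStruct.antipode (R := R) x = HopfAlgebraStruct.antipode (R := W) ((1 : W) ⊗ₜ[R] x) by simp,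
        map_antipode, he₀', hφe, map_zero]
  refine ⟨e₀, hidem₀, heI₀, hJ, W, inferInstance, inferInstance, hW1, hW2, hW3, M', inferInstance, ?_⟩
  let π : W ⊗[R] C →ₐc[W] W ⊗[R] (C ⧸ J) :=
    Bialgebra.TensorProduct.map (BialgHom.id W W) (Bialgebra.Quotient.mkBialgHom (R := R) J)
  have hπ : Function.Surjective π := by
    intro y
    induction y with
    | zero => exact ⟨0, by simp⟩
    | add a b ha hb =>
      obtain ⟨a', rfl⟩ := ha
      obtain ⟨b', rfl⟩ := hb
      exact ⟨a' + b', map_add _ _ _⟩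
    | tmul t a =>
      obtain ⟨a, rfl⟩ := Ideal.Quotient.mk_surjective a
      exact ⟨t ⊗ₜ a, by simp [π]⟩
  let f : C →ₐ[R] MonoidAlgebra W M' :=
    ((φ : W ⊗[R] C →ₐ[W] MonoidAlgebra W M').restrictScalars R).comp Algebra.TensorProduct.includeRight
  have hfJ : ∀ a ∈ J, f a = 0 := fun a ha => by
    obtain ⟨b, rfl⟩ := Ideal.mem_span_singleton.1 ha
    rw [map_mul]
    change φ ((1 : W) ⊗ₜ[R] e₀) * _ = 0
    rw [he₀', hφe, zero_mul]
  let ψ : W ⊗[R] (C ⧸ J) →ₐ[W] MonoidAlgebra W M' :=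
    Algebra.TensorProduct.lift (Algebra.ofId W _) (Ideal.Quotient.liftₐ J f hfJ) fun _ _ => Commute.all _ _
  have hψ : ∀ z, ψ (π z) = φ z := by
    intro z
    induction z with
    | zero => simp
    | add a b ha hb => simp only [map_add, ha, hb]
    | tmul t a =>
      rw [show t ⊗ₜ[R] a = t • ((1 : W) ⊗ₜ[R] a) by rw [TensorProduct.smul_tmul', smul_eq_mul, mul_one], map_smul, map_smul,
        map_smul]
      congr 1
      simp [π, ψ, f, ← MonoidAlgebra.one_def]
  let θ : W ⊗[R] (C ⧸ J) →ₐc[W] MonoidAlgebra W M' := BialgHom.ofAlgHom ψ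
    (AlgHom.ext fun y => by
      obtain ⟨z, rfl⟩ := hπ y
      change Coalgebra.counit (R := W) (ψ (π z)) = Coalgebra.counit (R := W) (π z)
      rw [hψ, CoalgHomClass.counit_comp_apply, CoalgHomClass.counit_comp_apply])
    (AlgHom.ext fun y => by
      obtain ⟨z, rfl⟩ := hπ y
      change TensorProduct.map ψ.toLinearMap ψ.toLinearMap (Coalgebra.comul (R := W) (π z)) = Coalgebra.comul (R := W) (ψ (π z))
      rw [hψ, ← CoalgHomClass.map_comp_comul_apply φ z, ← CoalgHomClass.map_comp_comul_apply π z,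
        ← LinearMap.comp_apply, ← TensorProduct.map_comp]
      congr 2 <;> exact LinearMap.ext hψ)
  refine ⟨BialgEquiv.ofBijective θ ⟨fun a b hab => ?_, fun y => ?_⟩⟩
  · obtain ⟨a, rfl⟩ := hπ a
    obtain ⟨b, rfl⟩ := hπ b
    change ψ (π a) = ψ (π b) at hab
    rw [hψ, hψ, ← sub_eq_zero, ← map_sub] at hab
    rw [← sub_eq_zero, ← map_sub, ← (hker _).1 hab, map_mul, ← he₀']
    have h0 : π ((1 : W) ⊗ₜ[R] e₀) = 0 := by
      simp only [π]
      change (1 : W) ⊗ₜ[R] Ideal.Quotient.mk J e₀ = 0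
      rw [Ideal.Quotient.eq_zero_iff_mem.2 (Ideal.mem_span_singleton_self e₀), tmul_zero]
    rw [h0, zero_mul]
  · obtain ⟨z, rfl⟩ := hsurj y
    exact ⟨π z, hψ z⟩

end Groth.Agent.SGA3b53
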