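import Mathlib

/-!
Flatness at the points over `V(I)` gives flatness over every infinitesimal neighbourhood.
-/

set_option autoImplicit false
set_option linter.unusedSectionVars false
set_option linter.style.haveILetI false
universe u v w
open TensorProduct

noncomputable section

namespace Groth.Agent.SGA3b53

variable {R : Type u} [CommRing R] {C : Type u} [CommRing C] [Algebra R C]

theorem flat_mod_pow_of_flat_at (I : Ideal R)
    (hfl : ∀ (q : Ideal C) [q.IsPrime], Ideal.map (algebraMap R C) I ≤ q → Module.Flat R (Localization.AtPrime q))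
    (k : ℕ) : Module.Flat (R ⧸ I ^ k) ((R ⧸ I ^ k) ⊗[R] C) := by
  let S := R ⧸ I ^ k
  let Q := S ⊗[R] C
  refine Module.flat_of_isLocalized_maximal (R := S) (S := Q) (M := Q)
    (fun P _ => Localization.AtPrime P) (fun P _ => Algebra.linearMap Q (Localization.AtPrime P)) fun P hP => ?_
  let p : Ideal C := P.comap (Algebra.TensorProduct.includeRight : C →ₐ[R] Q)
  haveI : p.IsPrime := Ideal.IsPrime.comap _
  have hp : Ideal.map (algebraMap R C) I ≤ p := Ideal.map_le_iff_le_comap.2 fun a ha => by
    have hnil : IsNilpotent (algebraMap R Q a) := ⟨k, by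
      rw [← map_pow, IsScalarTower.algebraMap_apply R S Q, Ideal.Quotient.algebraMap_eq,
        Ideal.Quotient.eq_zero_iff_mem.2 (Ideal.pow_mem_pow ha k), map_zero]⟩
    change (Algebra.TensorProduct.includeRight : C →ₐ[R] Q) (algebraMap R C a) ∈ P
    rw [AlgHom.commutes]
    exact nilradical_le_prime P (mem_nilradical.2 hnil)
  haveI := hfl p hp
  let Cp := Localization.AtPrime p
  let L := S ⊗[R] Cp
  haveI : Module.Flat S L := inferInstance
  letI : Algebra Q L := (Algebra.TensorProduct.map (AlgHom.id R S) (IsScalarTower.toAlgHom R C Cp)).toRingHom.toAlgebra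
  haveI : IsScalarTower S Q L := IsScalarTower.of_algebraMap_eq' (R := S) (S := Q) (A := L)
    (RingHom.ext fun s => by
      change s ⊗ₜ[R] (1 : Cp) = Algebra.TensorProduct.map (AlgHom.id R S) (IsScalarTower.toAlgHom R C Cp) (s ⊗ₜ[R] (1 : C))
      rw [Algebra.TensorProduct.map_tmul, map_one]
      rfl)
  let N : Submonoid Q := p.primeCompl.map (Algebra.TensorProduct.includeRight : C →ₐ[R] Q)
  haveI : IsLocalization N L := IsLocalization.tensorProduct_tensorProduct_right R S p.primeCompl Cp (by
    refine RingHom.ext fun c => ?_
    simp [RingHom.algebraMap_toAlgebra])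
  have hN : N ≤ P.primeCompl := by
    rintro _ ⟨c, hc, rfl⟩
    exact hc
  have hu : ∀ y : N, IsUnit (algebraMap Q (Localization.AtPrime P) y) := fun y =>
    IsLocalization.map_units (Localization.AtPrime P) (⟨y.1, hN y.2⟩ : P.primeCompl)
  letI : Algebra L (Localization.AtPrime P) := (IsLocalization.lift (M := N) hu).toAlgebra
  haveI : IsScalarTower Q L (Localization.AtPrime P) := IsScalarTower.of_algebraMap_eq fun x => (IsLocalization.lift_eq hu x).symm
  haveI : IsScalarTower S L (Localization.AtPrime P) := IsScalarTower.of_algebraMap_eq' (R := S) (S := L)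
    (A := Localization.AtPrime P) (RingHom.ext fun s => by
      rw [RingHom.comp_apply, IsScalarTower.algebraMap_apply S Q L, ← IsScalarTower.algebraMap_apply Q L (Localization.AtPrime P),
        ← IsScalarTower.algebraMap_apply S Q (Localization.AtPrime P)])
  haveI : IsLocalization (P.primeCompl.map (algebraMap Q L)) (Localization.AtPrime P) :=
    IsLocalization.isLocalization_of_submonoid_le L (Localization.AtPrime P) N P.primeCompl hN
  haveI : Module.Flat L (Localization.AtPrime P) := IsLocalization.flat (Localization.AtPrime P) (P.primeCompl.map (algebraMap Q L))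
  exact Module.Flat.trans S L (Localization.AtPrime P)

end Groth.Agent.SGA3b53
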