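import Groth.Agent.SGA3b53.AdicHom
import Groth.Agent.SGA3b53.HenselHom
import Groth.Agent.Henz21.FiniteOfMod
import Groth.Agent.S0543
import Mathlib

/-!
Homomorphisms over the completion of a henselian local ring come from the ring.
-/

set_option autoImplicit false
set_option linter.unusedSectionVars false
set_option linter.style.haveILetI false
universe u v w
open TensorProduct

noncomputable section

namespace Groth.Agent.SGA3b53

namespace CompHom

variable {A : Type u} [CommRing A]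

theorem projective_of_isotrivial [IsLocalRing A] {B : Type u} [CommRing B] [HopfAlgebra A B]
    (h : SGA3b.IsIsotrivial A B) : Module.Projective A B := by
  obtain ⟨W, _, _, hW1, hW2, hW3, N, _, ⟨ρ⟩⟩ := h
  haveI : Module.Free A W := Module.free_of_flat_of_isLocalRing
  let b := Module.Free.chooseBasis A W
  obtain ⟨κ, hκ⟩ : ∃ κ, IsUnit (b.repr (1 : W) κ) := by
    by_contra hc
    push Not at hc
    have h1 : (1 : W) ∈ IsLocalRing.maximalIdeal A • (⊤ : Submodule A W) := by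
      rw [← b.linearCombination_repr (1 : W), Finsupp.linearCombination_apply]
      exact Submodule.sum_mem _ fun i _ => Submodule.smul_mem_smul (hc i) Submodule.mem_top
    rw [Ideal.smul_top_eq_map, Submodule.restrictScalars_mem] at h1
    obtain ⟨q, hq⟩ := PrimeSpectrum.comap_surjective_of_faithfullyFlat (A := A) (B := W) (IsLocalRing.closedPoint A)
    refine q.isPrime.ne_top ((Ideal.eq_top_iff_one _).2 ?_)
    refine (Ideal.map_le_iff_le_comap.2 ?_) h1
    rw [← PrimeSpectrum.comap_asIdeal, hq]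
    exact le_rfl
  let σ : W →ₗ[A] A := (hκ.unit⁻¹ : Aˣ).1 • b.coord κ
  haveI : Module.Free W (W ⊗[A] B) := Module.Free.of_basis (Module.Basis.map (MonoidAlgebra.basis N W) ρ.symm.toLinearEquiv)
  haveI : Module.Free A (W ⊗[A] B) := Module.Free.trans (S := W)
  refine Module.Projective.of_split (TensorProduct.mk A W B 1) ((TensorProduct.lid A B).toLinearMap ∘ₗ σ.rTensor B) ?_
  refine LinearMap.ext fun x => ?_
  simp [σ, smul_smul]

/-- Coordinates in a base change of a projective module. -/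
def coordT {B : Type u} [AddCommGroup B] [Module A B] (ℓ : B →ₗ[A] A) (Q : Type u) [CommRing Q] [Algebra A Q] :
    Q ⊗[A] B →ₗ[A] Q :=
  (TensorProduct.rid A Q).toLinearMap ∘ₗ ℓ.lTensor Q

theorem coordT_tmul {B : Type u} [AddCommGroup B] [Module A B] (ℓ : B →ₗ[A] A) {Q : Type u} [CommRing Q] [Algebra A Q]
    (t : Q) (x : B) : coordT ℓ Q (t ⊗ₜ[A] x) = ℓ x • t := by
  simp [coordT]

theorem coordT_map {B : Type u} [CommRing B] [Algebra A B] (ℓ : B →ₗ[A] A) {P Q : Type u} [CommRing P] [Algebra A P]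
    [CommRing Q] [Algebra A Q] (f : P →ₐ[A] Q) (z : P ⊗[A] B) :
    coordT ℓ Q (Algebra.TensorProduct.map f (AlgHom.id A B) z) = f (coordT ℓ P z) := by
  induction z with
  | zero => simp
  | add a b ha hb => simp only [map_add, ha, hb]
  | tmul t x => rw [Algebra.TensorProduct.map_tmul, coordT_tmul, coordT_tmul, map_smul]; rfl

theorem exists_reconstruct {B : Type u} [AddCommGroup B] [Module A B] (s : B →ₗ[A] B →₀ A)
    (hs : ∀ x, Finsupp.linearCombination A id (s x) = x) {Q : Type u} [CommRing Q] [Algebra A Q] (z : Q ⊗[A] B) :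
    ∃ F : Finset B, ∀ G : Finset B, F ⊆ G → z = ∑ b ∈ G, coordT (Finsupp.lapply b ∘ₗ s) Q z ⊗ₜ[A] b := by
  classical
  induction z with
  | zero => exact ⟨∅, fun G _ => by simp⟩
  | add a b ha hb =>
    obtain ⟨F, hF⟩ := ha
    obtain ⟨F', hF'⟩ := hb
    refine ⟨F ∪ F', fun G hG => ?_⟩
    conv_lhs => rw [hF G (Finset.subset_union_left.trans hG), hF' G (Finset.subset_union_right.trans hG)]
    simp only [map_add, add_tmul, Finset.sum_add_distrib]
  | tmul t x =>
    refine ⟨(s x).support, fun G hG => ?_⟩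
    conv_lhs => rw [← hs x, Finsupp.linearCombination_apply, Finsupp.sum_of_support_subset _ hG (fun i a => a • id i) (fun i _ => zero_smul A _), tmul_sum]
    refine Finset.sum_congr rfl fun b _ => ?_
    rw [coordT_tmul, LinearMap.comp_apply, Finsupp.lapply_apply, id, TensorProduct.smul_tmul]

variable {B : Type u} [CommRing B] [HopfAlgebra A B] {C : Type u} [CommRing C] [HopfAlgebra A C]

/-- The comultiplication of a base change, with values in the base change of the square. -/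
def comulT (Q : Type u) [CommRing Q] [Algebra A Q] (z : Q ⊗[A] B) : Q ⊗[A] (B ⊗[A] B) :=
  (Model.eT (AlgEquiv.refl : Q ⊗[A] B ≃ₐ[Q] _) AlgEquiv.refl).symm (Coalgebra.comul (R := Q) z)

theorem comulT_tmul {Q : Type u} [CommRing Q] [Algebra A Q] (t : Q) (x : B) :
    comulT Q (t ⊗ₜ[A] x) = t ⊗ₜ[A] Coalgebra.comul (R := A) x := by
  rw [comulT, show t ⊗ₜ[A] x = t • ((1 : Q) ⊗ₜ[A] x) by rw [smul_tmul', smul_eq_mul, mul_one], map_smul,
    DLift.comul_one_tmul, map_smul, AlgEquiv.symm_apply_apply, smul_tmul', smul_eq_mul, mul_one]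

theorem eT_symm_map {P Q : Type u} [CommRing P] [Algebra A P] [CommRing Q] [Algebra A Q] (f : P →ₐ[A] Q)
    (a b : P ⊗[A] B) :
    Algebra.TensorProduct.map f (AlgHom.id A (B ⊗[A] B))
        ((Model.eT (AlgEquiv.refl : P ⊗[A] B ≃ₐ[P] _) AlgEquiv.refl).symm (a ⊗ₜ[P] b)) =
      (Model.eT (AlgEquiv.refl : Q ⊗[A] B ≃ₐ[Q] _) AlgEquiv.refl).symm
        (Algebra.TensorProduct.map f (AlgHom.id A B) a ⊗ₜ[Q] Algebra.TensorProduct.map f (AlgHom.id A B) b) := by
  induction a with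
  | zero => simp
  | add a a' ha ha' => simp only [add_tmul, map_add, ha, ha']
  | tmul t x =>
    induction b with
    | zero => simp
    | add b b' hb hb' => simp only [tmul_add, map_add, hb, hb']
    | tmul r y =>
      have key : ∀ {Q : Type u} [CommRing Q] [Algebra A Q] (t r : Q) (x y : B),
          (Model.eT (AlgEquiv.refl : Q ⊗[A] B ≃ₐ[Q] _) AlgEquiv.refl).symm ((t ⊗ₜ[A] x) ⊗ₜ[Q] (r ⊗ₜ[A] y)) =
            (t * r) ⊗ₜ[A] (x ⊗ₜ[A] y) := by
        intro Q _ _ t r x y
        rw [AlgEquiv.symm_apply_eq,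
          show (t * r) ⊗ₜ[A] (x ⊗ₜ[A] y) = (t * r) • ((1 : Q) ⊗ₜ[A] (x ⊗ₜ[A] y)) by rw [smul_tmul', smul_eq_mul, mul_one],
          map_smul, Model.eT_tmul]
        simp only [AlgEquiv.coe_refl, id_eq]
        rw [← TensorProduct.smul_tmul_smul, smul_tmul', smul_tmul', smul_eq_mul, smul_eq_mul, mul_one, mul_one]
      simp only [Algebra.TensorProduct.map_tmul, AlgHom.id_apply]
      rw [key, key, Algebra.TensorProduct.map_tmul, map_mul]
      rfl

theorem comulT_map {P Q : Type u} [CommRing P] [Algebra A P] [CommRing Q] [Algebra A Q] (f : P →ₐ[A] Q) (z : P ⊗[A] B) :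
    Algebra.TensorProduct.map f (AlgHom.id A (B ⊗[A] B)) (comulT P z) = comulT Q (Algebra.TensorProduct.map f (AlgHom.id A B) z) := by
  induction z with
  | zero => simp [comulT]
  | add a b ha hb =>
    simp only [comulT, map_add] at ha hb ⊢
    rw [ha, hb]
  | tmul t x => simp [comulT_tmul]

theorem map_comul_check {P Q : Type u} [CommRing P] [Algebra A P] [CommRing Q] [Algebra A Q] (f : P →ₐ[A] Q)
    (hf : Function.Injective (Algebra.TensorProduct.map f (AlgHom.id A (B ⊗[A] B))))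
    (Φ : P ⊗[A] C →ₐ[P] P ⊗[A] B) (φ' : Q ⊗[A] C →ₐc[Q] Q ⊗[A] B)
    (h : ∀ c, Algebra.TensorProduct.map f (AlgHom.id A B) (Φ ((1 : P) ⊗ₜ[A] c)) = φ' ((1 : Q) ⊗ₜ[A] c)) (c : C) :
    TensorProduct.map Φ.toLinearMap Φ.toLinearMap (Coalgebra.comul (R := P) ((1 : P) ⊗ₜ[A] c)) =
      Coalgebra.comul (R := P) (Φ ((1 : P) ⊗ₜ[A] c)) := by
  apply (Model.eT (AlgEquiv.refl : P ⊗[A] B ≃ₐ[P] _) AlgEquiv.refl).symm.injective
  apply hf
  refine Eq.trans ?_ (comulT_map f (Φ ((1 : P) ⊗ₜ[A] c))).symm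
  rw [h, comulT, ← CoalgHomClass.map_comp_comul_apply φ', DLift.comul_one_tmul, DLift.comul_one_tmul]
  generalize Coalgebra.comul (R := A) c = w
  induction w with
  | zero => simp
  | add a b ha hb => simp only [tmul_add, map_add, ha, hb]
  | tmul x y =>
    simp only [Model.eT_tmul, AlgEquiv.coe_refl, id_eq, TensorProduct.map_tmul, AlgHom.toLinearMap_apply]
    rw [eT_symm_map, h, h]
    rfl

theorem counit_map {P Q : Type u} [CommRing P] [Algebra A P] [CommRing Q] [Algebra A Q] (f : P →ₐ[A] Q) (z : P ⊗[A] B) :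
    f (Coalgebra.counit (R := P) z) = Coalgebra.counit (R := Q) (Algebra.TensorProduct.map f (AlgHom.id A B) z) := by
  induction z with
  | zero => simp
  | add a b ha hb => simp only [map_add, ha, hb]
  | tmul t x => simp [Algebra.smul_def]

theorem exists_bialg_of_map {P Q : Type u} [CommRing P] [Algebra A P] [CommRing Q] [Algebra A Q] (f : P →ₐ[A] Q)
    (hf1 : Function.Injective f) (hf : Function.Injective (Algebra.TensorProduct.map f (AlgHom.id A (B ⊗[A] B))))
    (Φ : P ⊗[A] C →ₐ[P] P ⊗[A] B) (φ' : Q ⊗[A] C →ₐc[Q] Q ⊗[A] B)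
    (h : ∀ c, Algebra.TensorProduct.map f (AlgHom.id A B) (Φ ((1 : P) ⊗ₜ[A] c)) = φ' ((1 : Q) ⊗ₜ[A] c)) :
    ∃ φP : P ⊗[A] C →ₐc[P] P ⊗[A] B, ∀ z, φP z = Φ z := by
  have hc : (Bialgebra.counitAlgHom P (P ⊗[A] B)).comp Φ = Bialgebra.counitAlgHom P (P ⊗[A] C) := by
    refine AlgHom.ext fun z => ?_
    induction z with
    | zero => simp
    | add a b ha hb => simp only [map_add, ha, hb]
    | tmul t c =>
      rw [show t ⊗ₜ[A] c = t • ((1 : P) ⊗ₜ[A] c) by rw [TensorProduct.smul_tmul', smul_eq_mul, mul_one], map_smul, map_smul]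
      refine congrArg (t • ·) (hf1 ?_)
      simp only [AlgHom.comp_apply, Bialgebra.counitAlgHom_apply]
      rw [counit_map, h, CoalgHomClass.counit_comp_apply, DLift.counit_one_tmul, DLift.counit_one_tmul, AlgHom.commutes]
  have hm : (Algebra.TensorProduct.map Φ Φ).comp (Bialgebra.comulAlgHom P (P ⊗[A] C)) =
      (Bialgebra.comulAlgHom P (P ⊗[A] B)).comp Φ := by
    refine AlgHom.ext fun z => ?_
    induction z with
    | zero => simp
    | add a b ha hb => simp only [map_add, ha, hb]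
    | tmul t c =>
      rw [show t ⊗ₜ[A] c = t • ((1 : P) ⊗ₜ[A] c) by rw [TensorProduct.smul_tmul', smul_eq_mul, mul_one], map_smul, map_smul]
      exact congrArg (t • ·) (map_comul_check f hf Φ φ' h c)
  exact ⟨BialgHom.ofAlgHom Φ hc hm, fun _ => rfl⟩

/-- A homomorphism defined over an extension whose coefficients lie in a subalgebra is defined over it. -/
theorem exists_hom_subalgebra [Module.Flat A B] {T : Type u} [CommRing T] [Algebra A T] (P : Subalgebra A T)
    (φ' : T ⊗[A] C →ₐc[T] T ⊗[A] B)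
    (hmem : ∀ c, φ' ((1 : T) ⊗ₜ[A] c) ∈ Set.range (Algebra.TensorProduct.map P.val (AlgHom.id A B))) :
    ∃ φP : P ⊗[A] C →ₐc[P] P ⊗[A] B, ∀ c,
      Algebra.TensorProduct.map P.val (AlgHom.id A B) (φP ((1 : P) ⊗ₜ[A] c)) = φ' ((1 : T) ⊗ₜ[A] c) := by
  have hj : ∀ (X : Type u) [CommRing X] [Algebra A X] [Module.Flat A X],
      Function.Injective (Algebra.TensorProduct.map P.val (AlgHom.id A X)) := by
    intro X _ _ _ a b hab
    apply Module.Flat.rTensor_preserves_injective_linearMap (M := X) P.val.toLinearMap Subtype.val_injective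
    rwa [← Model.map_id_eq, ← Model.map_id_eq]
  let ψ : C →ₐ[A] T ⊗[A] B := ((φ' : T ⊗[A] C →ₐ[T] T ⊗[A] B).restrictScalars A).comp Algebra.TensorProduct.includeRight
  obtain ⟨ψP, hψP⟩ : ∃ ψP : C →ₐ[A] P ⊗[A] B, ∀ c, Algebra.TensorProduct.map P.val (AlgHom.id A B) (ψP c) = ψ c :=
    ⟨(AlgEquiv.ofInjective _ (hj B)).symm.toAlgHom.comp (ψ.codRestrict _ fun c => hmem c), fun c =>
      congrArg Subtype.val ((AlgEquiv.ofInjective _ (hj B)).apply_symm_apply _)⟩
  obtain ⟨Φ, hΦ⟩ : ∃ Φ : P ⊗[A] C →ₐ[P] P ⊗[A] B, ∀ c, Φ ((1 : P) ⊗ₜ[A] c) = ψP c :=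
    ⟨Algebra.TensorProduct.lift (Algebra.ofId P _) ψP fun _ _ => Commute.all _ _, fun c => by
      simp [← Algebra.TensorProduct.one_def]⟩
  have hΦT : ∀ c, Algebra.TensorProduct.map P.val (AlgHom.id A B) (Φ ((1 : P) ⊗ₜ[A] c)) = φ' ((1 : T) ⊗ₜ[A] c) := fun c => by
    rw [hΦ, hψP]
    rfl
  obtain ⟨φP, hφP⟩ := exists_bialg_of_map P.val Subtype.val_injective (hj (B ⊗[A] B)) Φ φ' hΦT
  exact ⟨φP, fun c => by rw [hφP, hΦT]⟩

/-- The finitely generated algebra of coefficients of a homomorphism is the base. -/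
theorem exists_descend [IsNoetherianRing A] [HenselianLocalRing A] (hB : SGA3b.IsMultType A B) (hBft : Algebra.FiniteType A B)
    (hCft : Algebra.FiniteType A C)
    (hs : SGA3b.IsMultType (A ⧸ IsLocalRing.maximalIdeal A) ((A ⧸ IsLocalRing.maximalIdeal A) ⊗[A] C))
    {T : Type u} [CommRing T] [Algebra A T] (hinj : Function.Injective (algebraMap A T))
    (χ : T →ₐ[A] A ⧸ IsLocalRing.maximalIdeal A) (hχ : ∀ x, χ x ≠ 0 → IsUnit x) :
    (∀ φ ψ : C →ₐc[A] B, (∀ c, (1 : T) ⊗ₜ[A] φ c = (1 : T) ⊗ₜ[A] ψ c) → φ = ψ) ∧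
    (∀ φ' : T ⊗[A] C →ₐc[T] T ⊗[A] B, ∃ φ : C →ₐc[A] B, ∀ c, φ' ((1 : T) ⊗ₜ[A] c) = (1 : T) ⊗ₜ[A] φ c) := by
  classical
  haveI : Module.Projective A B := projective_of_isotrivial (isIsotrivial_of_henselian hBft hB)
  constructor
  · intro φ ψ h
    refine BialgHom.ext fun c => (TensorProduct.lid A B).symm.injective ?_
    apply Module.Flat.rTensor_preserves_injective_linearMap (M := B) (Algebra.linearMap A T) hinj
    simpa using h c
  intro φ'
  obtain ⟨s, hs'⟩ := Module.projective_def'.1 (inferInstance : Module.Projective A B)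
  have hs1 : ∀ x, Finsupp.linearCombination A id (s x) = x := fun x => LinearMap.congr_fun hs' x
  obtain ⟨gen, hgen⟩ := hCft.out
  choose F hF using fun g : C => exists_reconstruct s hs1 (φ' ((1 : T) ⊗ₜ[A] g))
  let coords : Finset T := gen.biUnion fun g => (F g).image fun b => coordT (Finsupp.lapply b ∘ₗ s) T (φ' ((1 : T) ⊗ₜ[A] g))
  let P : Subalgebra A T := Algebra.adjoin A (coords : Set T)
  have hcoords : ∀ g ∈ gen, ∀ b ∈ F g, coordT (Finsupp.lapply b ∘ₗ s) T (φ' ((1 : T) ⊗ₜ[A] g)) ∈ P := fun g hg b hb =>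
    Algebra.subset_adjoin (Finset.mem_coe.2 (Finset.mem_biUnion.2 ⟨g, hg, Finset.mem_image.2 ⟨b, hb, rfl⟩⟩))
  have hmem : ∀ c, φ' ((1 : T) ⊗ₜ[A] c) ∈ Set.range (Algebra.TensorProduct.map P.val (AlgHom.id A B)) := by
    intro c
    let ψ : C →ₐ[A] T ⊗[A] B := ((φ' : T ⊗[A] C →ₐ[T] T ⊗[A] B).restrictScalars A).comp Algebra.TensorProduct.includeRight
    have h1 : c ∈ (Algebra.TensorProduct.map P.val (AlgHom.id A B)).range.comap ψ := by
      have h2 : (⊤ : Subalgebra A C) ≤ (Algebra.TensorProduct.map P.val (AlgHom.id A B)).range.comap ψ := by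
        rw [← hgen, Algebra.adjoin_le_iff]
        intro g hg
        change φ' ((1 : T) ⊗ₜ[A] g) ∈ (Algebra.TensorProduct.map P.val (AlgHom.id A B)).range
        rw [hF g (F g) le_rfl]
        refine Subalgebra.sum_mem _ fun b hb => ?_
        exact ⟨(⟨_, hcoords g hg b hb⟩ : P) ⊗ₜ[A] b, by simp⟩
      exact h2 Algebra.mem_top
    exact h1
  obtain ⟨φP, hφP⟩ := exists_hom_subalgebra P φ' hmem
  haveI : Algebra.FiniteType A P := (Subalgebra.fg_iff_finiteType P).1 ⟨coords, rfl⟩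
  haveI : IsNoetherianRing P := Algebra.FiniteType.isNoetherianRing A P
  let π : P →ₐ[A] A ⧸ IsLocalRing.maximalIdeal A := χ.comp P.val
  let q : Ideal P := RingHom.ker π
  let mP : Ideal P := (IsLocalRing.maximalIdeal A).map (algebraMap A P)
  have hmq : mP ≤ q := Ideal.map_le_iff_le_comap.2 fun a ha => by
    rw [Ideal.mem_comap, RingHom.mem_ker, AlgHom.commutes]
    exact Ideal.Quotient.eq_zero_iff_mem.2 ha
  -- unramified at the point
  have hunr : q ≤ mP ⊔ q ^ 2 := by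
    let N : Ideal P := mP ⊔ q ^ 2
    let S := P ⧸ N
    let k := A ⧸ IsLocalRing.maximalIdeal A
    let πS : S →ₐ[A] k := Ideal.Quotient.liftₐ N π fun x hx =>
      RingHom.mem_ker.1 ((sup_le hmq (Ideal.pow_le_self two_ne_zero)) hx)
    let ι : k →ₐ[A] S := Ideal.Quotient.liftₐ _ (Algebra.ofId A S) fun a ha => by
      rw [Algebra.ofId_apply, IsScalarTower.algebraMap_apply A P S, Ideal.Quotient.algebraMap_eq,
        Ideal.Quotient.eq_zero_iff_mem]
      exact le_sup_left (a := mP) (Ideal.mem_map_of_mem _ ha)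
    let θ₁ : P →ₐ[A] S := Ideal.Quotient.mkₐ A N
    let θ₂ : P →ₐ[A] S := ι.comp π
    have hπι : ∀ r : k, πS (ι r) = r := fun r => by
      obtain ⟨a, rfl⟩ := Ideal.Quotient.mk_surjective r
      exact (πS.comp ι).commutes a
    have hsurj : Function.Surjective πS := fun r => ⟨ι r, hπι r⟩
    have hπθ : ∀ x, πS (θ₁ x) = π x ∧ πS (θ₂ x) = π x := fun x => ⟨rfl, hπι _⟩
    have hker : IsNilpotent (RingHom.ker (πS : S →+* k)) := by
      have h1 : RingHom.ker (πS : S →+* k) ≤ q.map (Ideal.Quotient.mk N) := fun x hx => by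
        obtain ⟨x, rfl⟩ := Ideal.Quotient.mk_surjective x
        exact Ideal.mem_map_of_mem _ hx
      refine ⟨2, le_bot_iff.1 ((Ideal.pow_right_mono h1 2).trans ?_)⟩
      rw [← Ideal.map_pow, Ideal.map_le_iff_le_comap]
      intro x hx
      rw [Ideal.mem_comap, Ideal.mem_bot, Ideal.Quotient.eq_zero_iff_mem]
      exact le_sup_right (a := mP) hx
    have hCS : SGA3b.IsMultType S (S ⊗[A] C) := by
      letI : Algebra k S := ι.toRingHom.toAlgebra
      haveI : IsScalarTower A k S := IsScalarTower.of_algebraMap_eq fun a => (ι.commutes a).symm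
      exact isMultType_of_equiv (cancelBC A k S C) (isMultType_baseChange S hs)
    obtain ⟨φ₁, hφ₁⟩ := HomLift.exists_hom_map θ₁ φP
    obtain ⟨φ₂, hφ₂⟩ := HomLift.exists_hom_map θ₂ φP
    have hval : ∀ (θ : P →ₐ[A] S) (φθ : S ⊗[A] C →ₐc[S] S ⊗[A] B),
        (∀ z, φθ (Algebra.TensorProduct.map θ (AlgHom.id A C) z) = Algebra.TensorProduct.map θ (AlgHom.id A B) (φP z)) →
        ∀ c, φθ ((1 : S) ⊗ₜ[A] c) = Algebra.TensorProduct.map θ (AlgHom.id A B) (φP ((1 : P) ⊗ₜ[A] c)) := fun θ φθ hθ c => by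
      rw [← hθ, Algebra.TensorProduct.map_tmul, map_one]
      rfl
    have heq : φ₁ = φ₂ := (HomLift.bijective_of_surjective πS hsurj hker (isMultType_baseChange S hB) hCS).1 _ _ fun c => by
      rw [hval θ₁ φ₁ hφ₁, hval θ₂ φ₂ hφ₂, HomLift.map_map_id' πS θ₁ π (AlgHom.ext fun x => (hπθ x).1),
        HomLift.map_map_id' πS θ₂ π (AlgHom.ext fun x => (hπθ x).2)]
    have hθ : θ₁ = θ₂ := by
      refine AlgHom.adjoin_ext fun x hx => ?_
      obtain ⟨g, hg, hxg⟩ := Finset.mem_biUnion.1 (Finset.mem_coe.1 hx)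
      obtain ⟨b, hb, rfl⟩ := Finset.mem_image.1 hxg
      have h1 := congrArg (coordT (Finsupp.lapply b ∘ₗ s) S) (show φ₁ ((1 : S) ⊗ₜ[A] g) = φ₂ ((1 : S) ⊗ₜ[A] g) by rw [heq])
      rw [hval θ₁ φ₁ hφ₁, hval θ₂ φ₂ hφ₂, coordT_map, coordT_map] at h1
      have h2 : coordT (Finsupp.lapply b ∘ₗ s) P (φP ((1 : P) ⊗ₜ[A] g)) = ⟨_, Algebra.subset_adjoin hx⟩ :=
        Subtype.val_injective (by
          change P.val _ = _
          rw [← coordT_map, hφP])
      rwa [h2] at h1
    intro x hx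
    have h1 := AlgHom.congr_fun hθ x
    rw [show θ₂ x = ι (π x) from rfl, show π x = 0 from hx, map_zero] at h1
    exact Ideal.Quotient.eq_zero_iff_mem.1 h1
  -- Nakayama in the closed fibre
  obtain ⟨r, hr1, hr2⟩ : ∃ r : P, r - 1 ∈ q ∧ ∀ x ∈ q, r * x ∈ mP := by
    let M : Ideal (P ⧸ mP) := q.map (Ideal.Quotient.mk mP)
    obtain ⟨r', hr', hr''⟩ := Submodule.exists_sub_one_mem_and_smul_eq_zero_of_fg_of_le_smul M M
      (IsNoetherian.noetherian M) (by
      rw [smul_eq_mul, ← sq, ← Ideal.map_pow, Ideal.map_le_iff_le_comap, Ideal.comap_map_of_surjective _ Ideal.Quotient.mk_surjective,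
        ← RingHom.ker_eq_comap_bot, Ideal.mk_ker, sup_comm]
      exact hunr)
    obtain ⟨r, rfl⟩ := Ideal.Quotient.mk_surjective r'
    refine ⟨r, ?_, fun x hx => ?_⟩
    · have h1 : r - 1 ∈ Ideal.comap (Ideal.Quotient.mk mP) M := by rw [Ideal.mem_comap, map_sub, map_one]; exact hr'
      rwa [Ideal.comap_map_of_surjective _ Ideal.Quotient.mk_surjective, ← RingHom.ker_eq_comap_bot, Ideal.mk_ker,
        sup_eq_left.2 hmq] at h1
    · rw [← Ideal.Quotient.eq_zero_iff_mem, map_mul]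
      exact hr'' _ (Ideal.mem_map_of_mem _ hx)
  -- shrink
  let r₀ : T := r.1
  have hrπ : π r = 1 := by
    have h1 : π (r - 1) = 0 := hr1
    rwa [map_sub, map_one, sub_eq_zero] at h1
  haveI : Nontrivial (A ⧸ IsLocalRing.maximalIdeal A) :=
    Ideal.Quotient.nontrivial_iff.2 (IsLocalRing.maximalIdeal.isMaximal A).ne_top
  obtain ⟨u, hu⟩ := hχ r₀ (by rw [show χ r₀ = π r from rfl, hrπ]; exact one_ne_zero)
  let w : T := (u⁻¹ : Tˣ)
  have hw : r₀ * w = 1 := by simp [w, ← hu]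
  let P' : Subalgebra A T := Algebra.adjoin A (insert w (coords : Set T))
  have hPP' : P ≤ P' := Algebra.adjoin_mono (Set.subset_insert _ _)
  haveI : Algebra.FiniteType A P' := (Subalgebra.fg_iff_finiteType P').1
    ⟨insert w coords, by rw [Finset.coe_insert]⟩
  let i : P →ₐ[A] P' := Subalgebra.inclusion hPP'
  let w' : P' := ⟨w, Algebra.subset_adjoin (Set.mem_insert _ _)⟩
  have hrw : i r * w' = 1 := Subtype.ext hw
  let mP' : Ideal P' := (IsLocalRing.maximalIdeal A).map (algebraMap A P')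
  have hq0 : ∀ x ∈ q, i x ∈ mP' := fun x hx => by
    have h1 := Ideal.mem_map_of_mem (i : P →+* P') (hr2 x hx)
    rw [Ideal.map_map, AlgHom.comp_algebraMap, RingHom.coe_coe, map_mul] at h1
    have h2 := mP'.mul_mem_left w' h1
    rwa [← mul_assoc, mul_comm w', hrw, one_mul] at h2
  have hPconst : ∀ x : P, ∃ a : A, i x - algebraMap A P' a ∈ mP' := fun x => by
    obtain ⟨a, ha⟩ := Ideal.Quotient.mk_surjective (π x)
    refine ⟨a, ?_⟩
    rw [← AlgHom.commutes i a, ← map_sub]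
    exact hq0 _ (by rw [RingHom.mem_ker, map_sub, AlgHom.commutes]; exact sub_eq_zero.2 ha.symm)
  have hwconst : w' - 1 ∈ mP' := by
    rw [show w' - 1 = -(i (r - 1)) * w' by rw [map_sub, map_one, neg_mul, sub_mul, one_mul, hrw]; ring]
    exact mP'.mul_mem_right _ (neg_mem (hq0 _ hr1))
  have hconst : ∀ y : P', ∃ a : A, y - algebraMap A P' a ∈ mP' := by
    intro y
    let Q : Subalgebra A (P' ⧸ mP') := (Algebra.ofId A (P' ⧸ mP')).range
    have h1 : (⊤ : Subalgebra A P') ≤ Q.comap (Ideal.Quotient.mkₐ A mP') := by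
      rw [← Algebra.adjoin_adjoin_coe_preimage (R := A) (s := insert w (coords : Set T)), Algebra.adjoin_le_iff]
      intro z hz
      rcases Set.mem_insert_iff.1 (show (z : T) ∈ insert w (coords : Set T) from hz) with hzw | hzc
      · refine ⟨1, ?_⟩
        rw [map_one, show z = w' from Subtype.ext hzw]
        exact (Ideal.Quotient.eq.2 (by simpa using hwconst)).symm
      · obtain ⟨a, ha⟩ := hPconst ⟨(z : T), Algebra.subset_adjoin hzc⟩
        exact ⟨a, (Ideal.Quotient.eq.2 (show z - algebraMap A P' a ∈ mP' from ha)).symm⟩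
    obtain ⟨a, ha⟩ := h1 (Algebra.mem_top : y ∈ (⊤ : Subalgebra A P'))
    exact ⟨a, Ideal.Quotient.eq.1 (Eq.symm ha)⟩
  haveI : HenselianRing A (IsLocalRing.maximalIdeal A) := inferInstance
  haveI : Module.Finite A (P' ⧸ mP') := Module.Finite.of_surjective (Algebra.linearMap A (P' ⧸ mP')) fun y => by
    obtain ⟨y, rfl⟩ := Ideal.Quotient.mk_surjective y
    obtain ⟨a, ha⟩ := hconst y
    exact ⟨a, (Ideal.Quotient.eq.2 ha).symm⟩
  obtain ⟨ε, hε, -, hεy⟩ := Henz21.exists_finite_away_of_finite (IsLocalRing.maximalIdeal A) P'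
  have hε1 : ε = 1 := by
    obtain ⟨-, hεi⟩ := hεy 0
    have h1 : χ (ε : T) = 1 := by
      have hle : mP' ≤ RingHom.ker (χ.comp P'.val : P' →+* A ⧸ IsLocalRing.maximalIdeal A) :=
        Ideal.map_le_iff_le_comap.2 fun a ha => by
          rw [Ideal.mem_comap, RingHom.mem_ker, RingHom.coe_coe, AlgHom.commutes]
          exact Ideal.Quotient.eq_zero_iff_mem.2 ha
      have h2 := RingHom.mem_ker.1 (hle hε)
      rwa [RingHom.coe_coe, map_sub, map_one, sub_eq_zero] at h2
    obtain ⟨v, hv⟩ := hχ (ε : T) (by rw [h1]; exact one_ne_zero)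
    refine Subtype.ext (v.isUnit.mul_left_cancel ?_)
    rw [hv]
    change (ε : T) * (ε : T) = (ε : T) * 1
    rw [mul_one]
    exact congrArg Subtype.val hεi.eq
  haveI : Algebra.IsIntegral A P' := ⟨fun y => by simpa [hε1] using (hεy y).1⟩
  haveI : Module.Finite A P' := Algebra.IsIntegral.finite
  have hA : ∀ y : P', ∃ a : A, algebraMap A P' a = y := by
    have h1 : (⊤ : Submodule A P') ≤ LinearMap.range (Algebra.linearMap A P') := by
      refine Submodule.le_of_le_smul_of_le_jacobson_bot Module.Finite.fg_top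
        (IsLocalRing.jacobson_eq_maximalIdeal (⊥ : Ideal A) bot_ne_top).ge fun y _ => ?_
      obtain ⟨a, ha⟩ := hconst y
      rw [Ideal.smul_top_eq_map]
      refine Submodule.mem_sup.2 ⟨algebraMap A P' a, ⟨a, rfl⟩, y - algebraMap A P' a, ha, add_sub_cancel _ _⟩
    exact fun y => h1 Submodule.mem_top
  let eA : A ≃ₐ[A] P' := AlgEquiv.ofBijective (Algebra.ofId A P') ⟨fun a b hab => hinj (congrArg Subtype.val hab), hA⟩
  let Ψ : P →ₐ[A] A := eA.symm.toAlgHom.comp i
  have hΨ : ∀ x : P, algebraMap A T (Ψ x) = x.1 := fun x => by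
    obtain ⟨a, ha⟩ := hA (i x)
    have h2 : Ψ x = a := by
      change eA.symm (i x) = a
      rw [AlgEquiv.symm_apply_eq]
      exact ha.symm
    rw [h2]
    exact congrArg Subtype.val ha
  obtain ⟨φA, hφA⟩ := HomLift.exists_hom_map Ψ φP
  let e : A ⊗[A] B →ₐ[A] B := (Algebra.TensorProduct.lid A B).toAlgHom
  obtain ⟨φ, hφ⟩ := HomLift.exists_of_local (R := A) (B := B) (C := C) (T := fun _ : PUnit.{u+1} => A)
    ⟨fun _ => inferInstance, fun p => ⟨PUnit.unit, p, by rw [Algebra.algebraMap_self]; rfl⟩⟩ (fun _ => φA) fun c _ _ => by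
      rw [show (Algebra.TensorProduct.includeLeft : A →ₐ[A] A ⊗[A] A) = Algebra.TensorProduct.includeRight from Subsingleton.elim _ _]
  refine ⟨φ, fun c => ?_⟩
  rw [← hφP]
  have h1 := hφ PUnit.unit c
  rw [show (1 : A) ⊗ₜ[A] c = Algebra.TensorProduct.map Ψ (AlgHom.id A C) ((1 : P) ⊗ₜ[A] c) by simp, hφA] at h1
  have h2 := congrArg (Algebra.TensorProduct.map (Algebra.ofId A T) (AlgHom.id A B)) h1
  rw [HomLift.map_map_id' (Algebra.ofId A T) Ψ P.val (AlgHom.ext hΨ), Algebra.TensorProduct.map_tmul, map_one] at h2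
  exact h2

end CompHom

end Groth.Agent.SGA3b53
namespace Groth.Agent.SGA3b53

namespace CompHom

/-- Base change to the completion is bijective on homomorphisms. -/
theorem bijective_completion {A : Type u} [CommRing A] [IsNoetherianRing A] [HenselianLocalRing A] {B : Type u} [CommRing B]
    [HopfAlgebra A B] (hBft : Algebra.FiniteType A B) (hB : SGA3b.IsMultType A B) {C : Type u} [CommRing C]
    [HopfAlgebra A C] (hCft : Algebra.FiniteType A C)
    (hs : SGA3b.IsMultType (A ⧸ IsLocalRing.maximalIdeal A) ((A ⧸ IsLocalRing.maximalIdeal A) ⊗[A] C)) :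
    (∀ φ ψ : C →ₐc[A] B, (∀ c, (1 : AdicCompletion (IsLocalRing.maximalIdeal A) A) ⊗ₜ[A] φ c =
        (1 : AdicCompletion (IsLocalRing.maximalIdeal A) A) ⊗ₜ[A] ψ c) → φ = ψ) ∧
    (∀ φ' : (AdicCompletion (IsLocalRing.maximalIdeal A) A ⊗[A] C) →ₐc[AdicCompletion (IsLocalRing.maximalIdeal A) A]
        (AdicCompletion (IsLocalRing.maximalIdeal A) A ⊗[A] B),
      ∃ φ : C →ₐc[A] B, ∀ c, φ' ((1 : AdicCompletion (IsLocalRing.maximalIdeal A) A) ⊗ₜ[A] c) =
        (1 : AdicCompletion (IsLocalRing.maximalIdeal A) A) ⊗ₜ[A] φ c) := by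
  let m := IsLocalRing.maximalIdeal A
  haveI : IsHausdorff m A := inferInstance
  refine exists_descend hB hBft hCft hs (T := AdicCompletion m A) ?_ (AdicCompletion.evalOneₐ m) fun x hx => ?_
  · exact AdicCompletion.of_injective m A
  · by_contra hnu
    refine hx ?_
    have h1 : x ∈ IsLocalRing.maximalIdeal (AdicCompletion m A) := hnu
    rw [AdicCompletion.maximalIdeal_eq_map, ← AdicCompletion.ker_evalOneₐ_eq_map m m.fg_of_isNoetherianRing] at h1
    exact h1

end CompHom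

end Groth.Agent.SGA3b53
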