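import Groth.Agent.SGA3b53.KilledFibres
import Groth.Agent.SGA3b53.HopfKer
import Groth.Agent.SGA3b53.DiagLift
import Groth.Agent.SGA3b53.QuasiIso
import Mathlib

/-!
Subgroups of groups of multiplicative type with finite closed fibre are killed by an integer.
-/

set_option autoImplicit false
set_option linter.unusedSectionVars false
set_option linter.style.haveILetI false
universe u
open TensorProduct WithConv

noncomputable section

namespace Groth.Agent.SGA3b53.Killed

section Field

variable {Ω : Type u} [Field Ω]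

/-- In a quotient of a group algebra with stationary augmentation powers all characters are torsion. -/
theorem isOfFinOrder_of_stationary {N : Type u} [CommGroup N] [Group.FG N] (r : ℕ)
    (h : aug Ω (MonoidAlgebra Ω N) ^ r ≤ aug Ω (MonoidAlgebra Ω N) ^ (r + 1)) (x : N) : IsOfFinOrder x := by
  classical
  by_contra hx
  obtain ⟨χ, hχ⟩ : ∃ χ : N →* Multiplicative ℤ, χ x ≠ 1 := by
    obtain ⟨k, ι, _, p, hp, e, ⟨E⟩⟩ := AddCommGroup.equiv_free_prod_directSum_zmod (Additive N)
    by_contra hall
    push Not at hall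
    apply hx
    have hfree : (E (Additive.ofMul x)).1 = 0 := Finsupp.ext fun i => by
      have := hall
        { toFun := fun y => Multiplicative.ofAdd ((E (Additive.ofMul y)).1 i)
          map_one' := by simp
          map_mul' := fun y z => by simp }
      simpa using congrArg Multiplicative.toAdd this
    haveI : ∀ i, Fact (p i).Prime := fun i => ⟨hp i⟩
    haveI : ∀ i, NeZero (p i ^ e i) := fun i => ⟨pow_ne_zero _ (hp i).ne_zero⟩
    haveI : Finite (DirectSum ι fun i => ZMod (p i ^ e i)) :=
      Finite.of_equiv _ (DirectSum.linearEquivFunOnFintype ℤ ι fun i => ZMod (p i ^ e i)).symm.toEquiv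
    have h1 : IsOfFinAddOrder (E (Additive.ofMul x)).2 := isOfFinAddOrder_of_finite _
    obtain ⟨m, hm, hm'⟩ := isOfFinAddOrder_iff_nsmul_eq_zero.1 h1
    refine isOfFinOrder_iff_pow_eq_one.2 ⟨m, hm, ?_⟩
    have h2 : E (m • Additive.ofMul x) = 0 := by
      rw [map_nsmul]
      exact Prod.ext (by rw [Prod.smul_fst, hfree, smul_zero]; rfl) (by rw [Prod.smul_snd, hm']; rfl)
    rw [← ofMul_pow] at h2
    exact Additive.ofMul.injective (E.injective (h2.trans (map_zero E).symm))
  let ψ : MonoidAlgebra Ω N →ₐ[Ω] MonoidAlgebra Ω (Multiplicative ℤ) := MonoidAlgebra.mapDomainAlgHom Ω Ω χ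
  haveI : Monoid.FG (Multiplicative ℤ) := inferInstance
  haveI : IsNoetherianRing (MonoidAlgebra Ω (Multiplicative ℤ)) := Algebra.FiniteType.isNoetherianRing Ω _
  haveI : IsDomain (MonoidAlgebra Ω (Multiplicative ℤ)) := NoZeroDivisors.to_isDomain _
  let L := (aug Ω (MonoidAlgebra Ω N)).map ψ
  have hL : L ≤ aug Ω (MonoidAlgebra Ω (Multiplicative ℤ)) := Ideal.map_le_iff_le_comap.2 fun a ha => by
    rw [Ideal.mem_comap, mem_aug]
    refine Eq.trans ?_ (show Coalgebra.counit (R := Ω) a = 0 from ha)
    clear ha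
    induction a using MonoidAlgebra.induction_linear with
    | zero => simp
    | add f g hf hg => simp only [map_add, hf, hg]
    | single m c => simp [ψ]
  have hne : L ≠ ⊤ := fun htop => by
    have : (1 : MonoidAlgebra Ω (Multiplicative ℤ)) ∈ aug Ω _ := hL (htop ▸ Submodule.mem_top)
    simp [mem_aug] at this
  have hstat : ∀ n, L ^ r ≤ L ^ (r + n) := by
    intro n
    induction n with
    | zero => rfl
    | succ n ih =>
      refine ih.trans ?_
      rw [pow_add, show r + (n + 1) = (r + 1) + n by ring, pow_add]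
      refine Ideal.mul_mono_left ?_
      rw [← Ideal.map_pow, ← Ideal.map_pow]
      exact Ideal.map_mono h
  have h0 : L ^ r ≤ ⊥ := by
    rw [← Ideal.iInf_pow_eq_bot_of_isDomain L hne]
    exact le_iInf fun n => (hstat n).trans (Ideal.pow_le_pow_right (Nat.le_add_left n r))
  have hL0 : L = ⊥ := by
    by_contra hL1
    exact pow_ne_zero r (show L ≠ 0 from hL1) (le_bot_iff.1 h0)
  have h1 : MonoidAlgebra.single x (1 : Ω) - 1 ∈ aug Ω (MonoidAlgebra Ω N) := by simp [mem_aug]
  have h2 : ψ (MonoidAlgebra.single x (1 : Ω) - 1) = 0 := by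
    have := Ideal.mem_map_of_mem ψ h1
    rwa [show (aug Ω (MonoidAlgebra Ω N)).map ψ = ⊥ from hL0, Ideal.mem_bot] at this
  rw [map_sub, map_one, sub_eq_zero, MonoidAlgebra.one_def] at h2
  simp only [ψ, MonoidAlgebra.mapDomainAlgHom_apply, MonoidAlgebra.mapDomain_single] at h2
  exact hχ (MonoidAlgebra.single_left_injective one_ne_zero h2)

/-- A quotient of a group algebra with stationary augmentation powers is killed. -/
theorem exists_killed_quotient {M : Type u} [CommGroup M] [Group.FG M] {B : Type u} [CommRing B] [HopfAlgebra Ω B]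
    (π : MonoidAlgebra Ω M →ₐc[Ω] B) (hπ : Function.Surjective π) (r : ℕ) (h : aug Ω B ^ r ≤ aug Ω B ^ (r + 1)) :
    ∃ m, 0 < m ∧ ∀ b : B, SGA3b.powConv Ω B m b = algebraMap Ω B (Coalgebra.counit (R := Ω) b) := by
  classical
  let φ : M →* B := ((π : MonoidAlgebra Ω M →ₐ[Ω] B) : MonoidAlgebra Ω M →* B).comp (MonoidAlgebra.of Ω M)
  let φ' : M →* Bˣ := φ.toHomUnits
  let N := M ⧸ φ'.ker
  let ψ : N →* B := (Units.coeHom B).comp (QuotientGroup.kerLift φ')
  have hψi : Function.Injective ψ := fun a b hab => QuotientGroup.kerLift_injective φ' (Units.ext hab)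
  have hψ : ∀ n, IsGroupLikeElem Ω (ψ n) := by
    intro n
    obtain ⟨m, rfl⟩ := QuotientGroup.mk_surjective n
    exact (MonoidAlgebra.isGroupLikeElem_of (R := Ω) m).map π
  obtain ⟨θ, hθ⟩ := exists_bialgHom_of_grouplike ψ hψ
  have hθb : Function.Bijective θ := by
    refine ⟨?_, fun b => ?_⟩
    · have hli : LinearIndependent Ω ψ := (linearIndep_groupLikeVal (R := Ω) (A := B)).comp
        (fun n => ⟨ψ n, hψ n⟩) fun a b hab => hψi (congrArg GroupLike.val hab)
      intro x y hxy
      have key : ∀ z : MonoidAlgebra Ω N, θ z = Finsupp.linearCombination Ω ψ z.coeff := fun z => by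
        induction z using MonoidAlgebra.induction_linear with
        | zero => simp
        | add f g hf hg => rw [map_add, hf, hg, MonoidAlgebra.coeff_add, map_add]
        | single n c => rw [hθ, MonoidAlgebra.coeff_single, Finsupp.linearCombination_single]
      rw [key, key] at hxy
      exact MonoidAlgebra.ext (hli hxy)
    · obtain ⟨x, rfl⟩ := hπ b
      induction x using MonoidAlgebra.induction_linear with
      | zero => exact ⟨0, by simp⟩
      | add f g hf hg =>
        obtain ⟨a, ha⟩ := hf
        obtain ⟨c, hc⟩ := hg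
        exact ⟨a + c, by rw [map_add, map_add, ha, hc]⟩
      | single m c =>
        refine ⟨MonoidAlgebra.single (QuotientGroup.mk m : N) c, ?_⟩
        rw [hθ, show MonoidAlgebra.single m c = c • MonoidAlgebra.of Ω M m by simp, map_smul]
        rfl
  let e := BialgEquiv.ofBijective θ hθb
  have haug : aug Ω (MonoidAlgebra Ω N) = (aug Ω B).map (e.symm : B →ₐ[Ω] MonoidAlgebra Ω N) := by
    refine le_antisymm (fun a ha => ?_) (Ideal.map_le_iff_le_comap.2 fun b hb => ?_)
    · have h1 : e a ∈ aug Ω B := by rw [mem_aug, CoalgHomClass.counit_comp_apply]; exact ha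
      have h2 := Ideal.mem_map_of_mem (e.symm : B →ₐ[Ω] MonoidAlgebra Ω N) h1
      exact (show e.symm (e a) = a from e.symm_apply_apply a) ▸ h2
    · rw [Ideal.mem_comap, mem_aug]
      exact (CoalgHomClass.counit_comp_apply e.symm b).trans hb
  have hN : aug Ω (MonoidAlgebra Ω N) ^ r ≤ aug Ω (MonoidAlgebra Ω N) ^ (r + 1) := by
    rw [haug, ← Ideal.map_pow, ← Ideal.map_pow]
    exact Ideal.map_mono h
  haveI : Finite N := CommGroup.finite_of_fg_isMulTorsion _ fun x => isOfFinOrder_of_stationary r hN x
  refine ⟨Nat.card N, Nat.card_pos, fun b => ?_⟩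
  obtain ⟨y, rfl⟩ : ∃ y, θ y = b := hθb.2 b
  rw [← powConv_naturality θ, powConv_monoidAlgebra_trivial (Nat.card N) fun x => pow_card_eq_one',
    CoalgHomClass.counit_comp_apply]
  exact AlgHomClass.commutes θ _

end Field

variable {R : Type u} [CommRing R] {C : Type u} [CommRing C] [HopfAlgebra R C]

theorem exists_fg_mod_pow [Algebra.FinitePresentation R C] (s : ℕ) :
    ∃ G : Finset C, ∀ c : C, c ∈ Submodule.span R (G : Set C) ⊔ (aug R C ^ s).restrictScalars R := by
  classical
  induction s with
  | zero => exact ⟨∅, fun c => Submodule.mem_sup_right (by simp)⟩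
  | succ s ih =>
    obtain ⟨G, hG⟩ := ih
    obtain ⟨H, hH⟩ := Submodule.FG.pow (fg_aug (R := R) (C := C)) s
    refine ⟨G ∪ H, fun c => ?_⟩
    obtain ⟨u, hu, v, hv, rfl⟩ := Submodule.mem_sup.1 (hG c)
    refine add_mem (Submodule.mem_sup_left (Submodule.span_mono (by simp) hu)) ?_
    have hv' : v ∈ Ideal.span (H : Set C) := by
      rw [show Ideal.span (H : Set C) = aug R C ^ s from hH]; exact hv
    clear hv
    induction hv' using Submodule.span_induction with
    | mem g hg => exact Submodule.mem_sup_left (Submodule.subset_span (by simp [Finset.mem_coe.1 hg]))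
    | zero => exact zero_mem _
    | add x y _ _ hx hy => exact add_mem hx hy
    | smul d x hx' hx =>
      rw [smul_eq_mul, show d * x = Coalgebra.counit (R := R) d • x + (d - algebraMap R C (Coalgebra.counit (R := R) d)) * x by
        rw [Algebra.smul_def]; ring]
      refine add_mem (Submodule.smul_mem _ _ hx) (Submodule.mem_sup_right ?_)
      rw [Submodule.restrictScalars_mem, pow_succ']
      refine Ideal.mul_mem_mul (by simp [mem_aug]) ?_
      rw [← show Ideal.span (H : Set C) = aug R C ^ s from hH]; exact hx'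

/-- With a finite closed fibre, finitely many elements span modulo every power of the augmentation ideal. -/
theorem exists_span_mod_pow [IsLocalRing R] [Algebra.FinitePresentation R C]
    (hs : Module.Finite (IsLocalRing.ResidueField R) (IsLocalRing.ResidueField R ⊗[R] C)) :
    ∃ b : Finset C, ∀ s, ∀ c : C, c ∈ Submodule.span R (b : Set C) ⊔ (aug R C ^ s).restrictScalars R := by
  classical
  let k := IsLocalRing.ResidueField R
  obtain ⟨G, hG⟩ := hs.fg_top
  have hsurj : Function.Surjective (TensorProduct.mk R k C 1) :=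
    TensorProduct.mk_surjective R C k IsLocalRing.residue_surjective
  choose b hb using hsurj
  refine ⟨G.image b, fun s c => ?_⟩
  obtain ⟨G₀, hG₀⟩ := exists_fg_mod_pow (R := R) (C := C) s
  let N : Submodule R C := Submodule.span R ↑(G.image b) ⊔ (aug R C ^ s).restrictScalars R
  have hle : Submodule.span R (G₀ : Set C) ≤ N ⊔ IsLocalRing.maximalIdeal R • Submodule.span R (G₀ : Set C) := by
    intro x hx
    have h1 : (1 : k) ⊗ₜ[R] x ∈ Submodule.map (TensorProduct.mk R k C 1) (Submodule.span R (↑(G.image b) : Set C)) := by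
      rw [Submodule.map_span, Finset.coe_image, ← Set.image_comp, show (TensorProduct.mk R k C 1 ∘ b) = id from funext hb,
        Set.image_id]
      have h2 : (1 : k) ⊗ₜ[R] x ∈ Submodule.span k (G : Set (k ⊗[R] C)) := hG ▸ Submodule.mem_top
      rw [← Submodule.restrictScalars_span R k IsLocalRing.residue_surjective]
      exact h2
    obtain ⟨y, hy, hxy⟩ := Submodule.mem_map.1 h1
    have h3 : x - y ∈ IsLocalRing.maximalIdeal R • (⊤ : Submodule R C) := by
      refine mem_smul_top_of_tmul_eq_zero _ ?_
      rw [TensorProduct.tmul_sub, sub_eq_zero]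
      exact hxy.symm
    rw [← sub_add_cancel x y]
    refine add_mem ?_ (Submodule.mem_sup_left (Submodule.mem_sup_left hy))
    generalize x - y = w at h3
    induction h3 using Submodule.smul_induction_on' with
    | smul r hr n hn =>
      obtain ⟨u, hu, v, hv, huv⟩ := Submodule.mem_sup.1 (hG₀ n)
      rw [← huv, smul_add]
      exact add_mem (Submodule.mem_sup_right (Submodule.smul_mem_smul hr hu))
        (Submodule.mem_sup_left (Submodule.mem_sup_right (Submodule.smul_mem _ _ hv)))
    | add x hx y hy ihx ihy => exact add_mem ihx ihy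
  have hle' : Submodule.span R (G₀ : Set C) ≤ N :=
    Submodule.le_of_le_smul_of_le_jacobson_bot (Submodule.fg_span G₀.finite_toSet)
      (IsLocalRing.jacobson_eq_maximalIdeal ⊥ bot_ne_top).ge hle
  obtain ⟨u, hu, v, hv, rfl⟩ := Submodule.mem_sup.1 (hG₀ c)
  exact add_mem (hle' hu) (Submodule.mem_sup_right hv)

/-- The powers of the augmentation ideal become stationary in every geometric fibre. -/
theorem exists_stationary [IsLocalRing R] [Algebra.FinitePresentation R C]
    (hs : Module.Finite (IsLocalRing.ResidueField R) (IsLocalRing.ResidueField R ⊗[R] C))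
    (Ω : Type u) [Field Ω] [Algebra R Ω] : ∃ r, aug Ω (Ω ⊗[R] C) ^ r ≤ aug Ω (Ω ⊗[R] C) ^ (r + 1) := by
  classical
  obtain ⟨b, hb⟩ := exists_span_mod_pow hs
  let I := aug Ω (Ω ⊗[R] C)
  let ι₀ : C →ₐ[R] Ω ⊗[R] C := Algebra.TensorProduct.includeRight
  have hI : ∀ s (x : C), x ∈ aug R C ^ s → ι₀ x ∈ I ^ s := fun s x hx => by
    have h1 : (aug R C).map ι₀ ≤ I := Ideal.map_le_iff_le_comap.2 fun a ha => by
      rw [Ideal.mem_comap, mem_aug]
      simp [ι₀, show Coalgebra.counit (R := R) a = 0 from ha]
    exact Ideal.pow_right_mono h1 s (by rw [← Ideal.map_pow]; exact Ideal.mem_map_of_mem _ hx)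
  let W : Submodule Ω (Ω ⊗[R] C) := Submodule.span Ω (ι₀ '' (b : Set C))
  let q : ∀ s, W →ₗ[Ω] (Ω ⊗[R] C) ⧸ (I ^ s).restrictScalars Ω := fun s =>
    ((I ^ s).restrictScalars Ω).mkQ.comp W.subtype
  have hq : ∀ s, Function.Surjective (q s) := by
    intro s y
    obtain ⟨z, rfl⟩ := Submodule.Quotient.mk_surjective _ y
    induction z with
    | zero => exact ⟨0, map_zero _⟩
    | add a c ha hc =>
      obtain ⟨u, hu⟩ := ha
      obtain ⟨v, hv⟩ := hc
      exact ⟨u + v, by rw [map_add, hu, hv]; rfl⟩
    | tmul t c =>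
      obtain ⟨u, hu, v, hv, rfl⟩ := Submodule.mem_sup.1 (hb s c)
      have hu' : ι₀ u ∈ W := by
        have h1 := Submodule.mem_map_of_mem (f := ι₀.toLinearMap) hu
        rw [Submodule.map_span] at h1
        exact Submodule.span_le_restrictScalars R Ω _ h1
      refine ⟨⟨t • ι₀ u, W.smul_mem t hu'⟩, (Submodule.Quotient.eq _).2 ?_⟩
      have h2 : t • ι₀ v ∈ (I ^ s).restrictScalars Ω := Submodule.smul_mem _ t (hI s v hv)
      have h3 : t • ι₀ u - t ⊗ₜ[R] (u + v) = -(t • ι₀ v) := by
        simp [ι₀, TensorProduct.smul_tmul', TensorProduct.tmul_add]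
      change t • ι₀ u - t ⊗ₜ[R] (u + v) ∈ _
      rw [h3]
      exact neg_mem h2
  haveI : Module.Finite Ω W := Module.Finite.span_of_finite Ω (b.finite_toSet.image _)
  haveI : ∀ s, Module.Finite Ω ((Ω ⊗[R] C) ⧸ (I ^ s).restrictScalars Ω) := fun s => Module.Finite.of_surjective _ (hq s)
  let f := fun s => Module.finrank Ω ((Ω ⊗[R] C) ⧸ (I ^ s).restrictScalars Ω)
  let t := fun s => Submodule.factor (show (I ^ (s + 1)).restrictScalars Ω ≤ (I ^ s).restrictScalars Ω from
    Ideal.pow_le_pow_right (Nat.le_succ s))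
  by_contra hcon
  push Not at hcon
  have hlt : ∀ s, f s < f (s + 1) := by
    intro s
    have hsur : Function.Surjective (t s) := Submodule.factor_surjective _
    refine lt_of_le_of_ne (LinearMap.finrank_le_finrank_of_surjective hsur) fun heq => hcon s fun x hx => ?_
    have hinj : Function.Injective (t s) := (LinearMap.injective_iff_surjective_of_finrank_eq_finrank heq.symm).2 hsur
    have h1 : Submodule.Quotient.mk (p := (I ^ (s + 1)).restrictScalars Ω) x = 0 :=
      hinj ((Submodule.factor_mk _ x).trans (((Submodule.Quotient.mk_eq_zero _).2 hx).trans (map_zero _).symm))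
    exact (Submodule.Quotient.mk_eq_zero _).1 h1
  have hgrow : ∀ s, s ≤ f s := fun s => by
    induction s with
    | zero => exact Nat.zero_le _
    | succ s ih => exact Nat.lt_of_le_of_lt ih (hlt s)
  have := (hgrow (Module.finrank Ω W + 1)).trans (LinearMap.finrank_le_finrank_of_surjective (hq _))
  omega

/-- A subgroup with finite closed fibre of a group of multiplicative type is killed. -/
theorem exists_killed_subgroup [IsLocalRing R] {A : Type u} [CommRing A] [HopfAlgebra R A]
    (hft : Algebra.FiniteType R A) (hA : SGA3b.IsMultType R A) (π : A →ₐc[R] C) (hπ : Function.Surjective π)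
    [Algebra.FinitePresentation R C]
    (hs : Module.Finite (IsLocalRing.ResidueField R) (IsLocalRing.ResidueField R ⊗[R] C)) :
    ∃ n, 0 < n ∧ ∀ c : C, SGA3b.powConv R C n c = algebraMap R C (Coalgebra.counit (R := R) c) := by
  classical
  refine exists_killed fun p => ?_
  let K := p.asIdeal.ResidueField
  let Ω := AlgebraicClosure K
  haveI := hft
  obtain ⟨M, _, ⟨ρ⟩⟩ := isDiag_residue_sepClosed (K := Ω) hA
  haveI : Monoid.FG M := monoidFG_of_finiteType ρ
  haveI : Group.FG M := Group.fg_iff_monoid_fg.2 inferInstance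
  let πΩ : Ω ⊗[R] A →ₐc[Ω] Ω ⊗[R] C := Bialgebra.TensorProduct.map (BialgHom.id Ω Ω) π
  have hπΩ : Function.Surjective (πΩ.comp (ρ.symm : MonoidAlgebra Ω M →ₐc[Ω] Ω ⊗[R] A)) := by
    suffices h : Function.Surjective πΩ by
      intro z
      obtain ⟨y, rfl⟩ := h z
      obtain ⟨w, hw⟩ := EquivLike.surjective ρ.symm y
      exact ⟨w, congrArg πΩ hw⟩
    intro z
    induction z with
    | zero => exact ⟨0, map_zero _⟩
    | add a b ha hb =>
      obtain ⟨x, rfl⟩ := ha
      obtain ⟨y, rfl⟩ := hb
      exact ⟨x + y, map_add _ _ _⟩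
    | tmul t c =>
      obtain ⟨a, rfl⟩ := hπ c
      exact ⟨t ⊗ₜ[R] a, rfl⟩
  obtain ⟨r, hr⟩ := exists_stationary hs Ω
  obtain ⟨m, hm, hkill⟩ := exists_killed_quotient _ hπΩ r hr
  refine ⟨m, hm, fun a ha => ?_⟩
  have h1 := hkill ((1 : Ω) ⊗ₜ[R] a)
  rw [Versch53.powConv_baseChange_one_tmul, TensorProduct.counit_tmul, show Coalgebra.counit (R := R) a = 0 from ha] at h1
  simp only [zero_smul, map_zero] at h1
  apply Module.Flat.tensorProduct_mk_injective K (K ⊗[R] C) Ω
  apply EquivLike.injective (cancelBC R K Ω C)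
  rw [TensorProduct.mk_apply, TensorProduct.mk_apply, cancelBC_tmul, one_smul, tmul_zero, map_zero, h1]

end Groth.Agent.SGA3b53.Killed
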