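import Groth.Agent.SGA3b53.LocalModel
import Groth.Agent.SGA3b53.ClopenDescent
import Groth.Agent.SGA3b53.FlatPoints
import Groth.Agent.SGA3b53.FieldSplit
import Groth.Agent.SGA3b53.FlatLift
import Groth.Agent.S0543
import Mathlib

/-!
The local criteria for groups of multiplicative type.
-/

set_option autoImplicit false
set_option linter.unusedSectionVars false
set_option linter.style.haveILetI false
universe u v w
open TensorProduct

noncomputable section

namespace Groth.Agent.SGA3b53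

theorem isIsotrivial_of_field_finiteType {K : Type u} [Field K] {A : Type u} [CommRing A] [HopfAlgebra K A]
    [Algebra.FiniteType K A] (h : SGA3b.IsMultType K A) : SGA3b.IsIsotrivial K A := by
  obtain ⟨k', _, _, hfin, hsep, M, _, -, hd⟩ := isotrivial_of_field inferInstance h
  haveI := hfin
  haveI := hsep
  haveI : Algebra.FinitePresentation K k' := Algebra.FinitePresentation.of_finiteType.mp inferInstance
  haveI : Algebra.FormallyEtale K k' := Algebra.FormallyEtale.of_isSeparable K k'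
  haveI : Algebra.Etale K k' := ⟨inferInstance, inferInstance⟩
  exact ⟨k', inferInstance, inferInstance, inferInstance, hfin, inferInstance, M, inferInstance, hd⟩

/-- The clopen subgroup over the completion of a noetherian local ring. -/
theorem exists_completion_clopen (R₀ : Type u) [CommRing R₀] [IsLocalRing R₀] [IsNoetherianRing R₀] (C₀ : Type u)
    [CommRing C₀] [HopfAlgebra R₀ C₀] [Algebra.FiniteType R₀ C₀]
    (hfl : ∀ (q : Ideal C₀) [q.IsPrime], Ideal.map (algebraMap R₀ C₀) (IsLocalRing.maximalIdeal R₀) ≤ q →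
      Module.Flat R₀ (Localization.AtPrime q))
    (hs : SGA3b.IsMultType (IsLocalRing.ResidueField R₀) (IsLocalRing.ResidueField R₀ ⊗[R₀] C₀)) :
    ∃ e : AdicCompletion (IsLocalRing.maximalIdeal R₀) R₀ ⊗[R₀] C₀, IsIdempotentElem e ∧
      e ∈ Ideal.map (algebraMap (AdicCompletion (IsLocalRing.maximalIdeal R₀) R₀) _)
        (IsLocalRing.maximalIdeal (AdicCompletion (IsLocalRing.maximalIdeal R₀) R₀)) ∧
      ∃ _ : (Ideal.span {e}).IsHopfIdeal (AdicCompletion (IsLocalRing.maximalIdeal R₀) R₀),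
        SGA3b.IsMultType (AdicCompletion (IsLocalRing.maximalIdeal R₀) R₀)
          ((AdicCompletion (IsLocalRing.maximalIdeal R₀) R₀ ⊗[R₀] C₀) ⧸ Ideal.span {e}) := by
  let m := IsLocalRing.maximalIdeal R₀
  let T := AdicCompletion m R₀
  haveI : IsNoetherianRing T := Groth.Agent.S0543.result R₀ m
  let I : Ideal T := m.map (algebraMap R₀ T)
  haveI : IsAdicComplete I T := AdicCompletion.isAdicComplete_self m m.fg_of_isNoetherianRing
  have hI : IsLocalRing.maximalIdeal T = I := AdicCompletion.maximalIdeal_eq_map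
  haveI : I.IsMaximal := hI ▸ IsLocalRing.maximalIdeal.isMaximal T
  letI : Field (T ⧸ I) := Ideal.Quotient.field I
  let k₀ := IsLocalRing.ResidueField R₀
  letI : Algebra k₀ (T ⧸ I) := (Ideal.quotientMap I (algebraMap R₀ T) Ideal.le_comap_map).toAlgebra
  haveI : IsScalarTower R₀ k₀ (T ⧸ I) := IsScalarTower.of_algebraMap_eq fun _ => rfl
  have h0 : SGA3b.IsIsotrivial (T ⧸ I) ((T ⧸ I) ⊗[T] (T ⊗[R₀] C₀)) :=
    isIsotrivial_of_field_finiteType (isMultType_of_equiv
      ((cancelBC R₀ k₀ (T ⧸ I) C₀).trans (cancelBC R₀ T (T ⧸ I) C₀).symm) (isMultType_baseChange (T ⧸ I) hs))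
  obtain ⟨e, he, heI, hH, hiso⟩ :=
    exists_clopen_isotrivial I (fun k => flat_levels m (flat_mod_pow_of_flat_at m hfl) T k) h0
  haveI := hH
  exact ⟨e, he, hI ▸ heI, hH, isMultType_of_isIsotrivial hiso⟩

/-- A faithfully flat local extension containing the completion of the model. -/
theorem exists_ff_extension {R₀ R : Type u} [CommRing R₀] [IsLocalRing R₀] [IsNoetherianRing R₀] [CommRing R]
    [IsLocalRing R] [Algebra R₀ R] [IsLocalHom (algebraMap R₀ R)] :
    ∃ (S : Type u) (_ : CommRing S) (_ : Algebra R S) (_ : Algebra R₀ S)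
      (_ : Algebra (AdicCompletion (IsLocalRing.maximalIdeal R₀) R₀) S) (_ : IsScalarTower R₀ R S)
      (_ : IsScalarTower R₀ (AdicCompletion (IsLocalRing.maximalIdeal R₀) R₀) S), Module.FaithfullyFlat R S ∧
      Ideal.map (algebraMap (AdicCompletion (IsLocalRing.maximalIdeal R₀) R₀) S)
        (IsLocalRing.maximalIdeal (AdicCompletion (IsLocalRing.maximalIdeal R₀) R₀)) ≤ (⊥ : Ideal S).jacobson := by
  let m := IsLocalRing.maximalIdeal R₀
  let T := AdicCompletion m R₀
  let k := IsLocalRing.ResidueField R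
  let k₀ := IsLocalRing.ResidueField R₀
  haveI : IsScalarTower R₀ k₀ k := IsScalarTower.of_algebraMap_eq fun _ => rfl
  let φT : T →ₐ[R₀] k := (IsScalarTower.toAlgHom R₀ k₀ k).comp (AdicCompletion.evalOneₐ m)
  let ψ : R ⊗[R₀] T →ₐ[R₀] k := Algebra.TensorProduct.productMap (IsScalarTower.toAlgHom R₀ R k) φT
  let P : Ideal (R ⊗[R₀] T) := RingHom.ker ψ
  haveI : P.IsPrime := RingHom.ker_isPrime _
  let S := Localization.AtPrime P
  letI : Algebra T S := ((algebraMap (R ⊗[R₀] T) S).comp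
    (Algebra.TensorProduct.includeRight : T →ₐ[R₀] R ⊗[R₀] T).toRingHom).toAlgebra
  haveI : IsScalarTower R₀ T S := IsScalarTower.of_algebraMap_eq fun r => by
    rw [IsScalarTower.algebraMap_apply R₀ (R ⊗[R₀] T) S]
    exact congrArg _ ((Algebra.TensorProduct.includeRight : T →ₐ[R₀] R ⊗[R₀] T).commutes r).symm
  haveI : Module.Flat R (R ⊗[R₀] T) := inferInstance
  haveI : Module.Flat (R ⊗[R₀] T) S := IsLocalization.flat S P.primeCompl
  haveI : Module.Flat R S := Module.Flat.trans R (R ⊗[R₀] T) S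
  haveI : IsLocalHom (algebraMap R S) := ⟨fun r hr => by
    by_contra hnr
    rw [IsScalarTower.algebraMap_apply R (R ⊗[R₀] T) S, IsLocalization.AtPrime.isUnit_to_map_iff S P] at hr
    refine hr ?_
    change ψ (r ⊗ₜ[R₀] (1 : T)) = 0
    rw [Algebra.TensorProduct.productMap_apply_tmul, map_one, mul_one]
    exact (IsLocalRing.residue_eq_zero_iff r).2 hnr⟩
  refine ⟨S, inferInstance, inferInstance, inferInstance, inferInstance, inferInstance, inferInstance,
    Module.FaithfullyFlat.of_flat_of_isLocalHom, ?_⟩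
  rw [IsLocalRing.jacobson_eq_maximalIdeal ⊥ bot_ne_top, Ideal.map_le_iff_le_comap]
  intro t ht
  rw [Ideal.mem_comap]
  change algebraMap (R ⊗[R₀] T) S ((1 : R) ⊗ₜ[R₀] t) ∈ _
  rw [IsLocalization.AtPrime.to_map_mem_maximal_iff S P]
  change ψ ((1 : R) ⊗ₜ[R₀] t) = 0
  rw [Algebra.TensorProduct.productMap_apply_tmul, map_one, one_mul]
  have h1 : AdicCompletion.evalOneₐ m t = 0 := by
    rw [AdicCompletion.maximalIdeal_eq_map, ← AdicCompletion.ker_evalOneₐ_eq_map m m.fg_of_isNoetherianRing] at ht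
    exact ht
  change algebraMap k₀ k (AdicCompletion.evalOneₐ m t) = 0
  exact (congrArg (algebraMap k₀ k) h1).trans (map_zero _)

/-- If the complement of the clopen subgroup becomes empty, the group is of multiplicative type. -/
theorem isMultType_of_idem_eq_zero {R : Type u} [CommRing R] {C : Type u} [CommRing C] [HopfAlgebra R C]
    {T : Type u} [CommRing T] {Cc : Type u} [CommRing Cc] [HopfAlgebra T Cc] (e : Cc) [(Ideal.span {e}).IsHopfIdeal T]
    (hG : SGA3b.IsMultType T (Cc ⧸ Ideal.span {e})) (S : Type u) [CommRing S] [Algebra R S] [Module.FaithfullyFlat R S]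
    [Algebra T S] (f : S ⊗[T] Cc ≃ₐc[S] S ⊗[R] C) (he : (1 : S) ⊗ₜ[T] e = 0) : SGA3b.IsMultType R C := by
  let π : S ⊗[T] Cc →ₐc[S] S ⊗[T] (Cc ⧸ Ideal.span {e}) :=
    Bialgebra.TensorProduct.map (BialgHom.id S S) (Bialgebra.Quotient.mkBialgHom (R := T) (Ideal.span {e}))
  let π' : S ⊗[T] Cc →ₐ[T] S ⊗[T] (Cc ⧸ Ideal.span {e}) :=
    Algebra.TensorProduct.map (AlgHom.id T S) (Ideal.Quotient.mkₐ T (Ideal.span {e}))
  have hππ : ∀ x, π x = π' x := by
    intro x
    induction x with
    | zero => simp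
    | add a b ha hb => simp only [map_add, ha, hb]
    | tmul t a => simp [π, π']
  have hbij : Function.Bijective π := by
    refine ⟨(injective_iff_map_eq_zero _).2 fun x hx => ?_, fun y => ?_⟩
    · have h1 : x ∈ RingHom.ker π' := (hππ x).symm.trans hx
      have hker : RingHom.ker π' = Ideal.map (Algebra.TensorProduct.includeRight : Cc →ₐ[T] S ⊗[T] Cc)
          (RingHom.ker (Ideal.Quotient.mkₐ T (Ideal.span {e}))) :=
        Algebra.TensorProduct.lTensor_ker _ Ideal.Quotient.mk_surjective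
      rw [show RingHom.ker (Ideal.Quotient.mkₐ T (Ideal.span {e})) = Ideal.span {e} from Ideal.mk_ker, Ideal.map_span,
        Set.image_singleton, Algebra.TensorProduct.includeRight_apply, he, Ideal.span_singleton_zero] at hker
      rw [hker, Ideal.mem_bot] at h1
      exact h1
    · obtain ⟨z, hz⟩ := LinearMap.lTensor_surjective S
        (g := (Ideal.Quotient.mkₐ T (Ideal.span {e})).toLinearMap) Ideal.Quotient.mk_surjective y
      refine ⟨z, (hππ z).trans ?_⟩
      rw [← hz]
      rfl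
  exact isMultType_of_faithfullyFlat S (isMultType_of_equiv
    ((BialgEquiv.ofBijective π hbij).symm.trans f) (isMultType_baseChange S hG))

/-- The fibre over the completion extends to the base. -/
theorem exists_ff_clopen (R : Type u) [CommRing R] [IsLocalRing R] (C : Type u) [CommRing C] [HopfAlgebra R C]
    [Algebra.FinitePresentation R C]
    (hfl : ∀ (q : Ideal C) [q.IsPrime], Ideal.map (algebraMap R C) (IsLocalRing.maximalIdeal R) ≤ q →
      Module.Flat R (Localization.AtPrime q))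
    (hs : SGA3b.IsMultType (IsLocalRing.ResidueField R) (IsLocalRing.ResidueField R ⊗[R] C)) :
    ∃ (S : Type u) (_ : CommRing S) (_ : Algebra R S) (T : Type u) (_ : CommRing T) (_ : Algebra T S)
      (Cc : Type u) (_ : CommRing Cc) (_ : HopfAlgebra T Cc) (e : Cc) (_ : (Ideal.span {e}).IsHopfIdeal T),
      Module.FaithfullyFlat R S ∧ IsIdempotentElem e ∧ SGA3b.IsMultType T (Cc ⧸ Ideal.span {e}) ∧
      Algebra.FiniteType T Cc ∧ (Coalgebra.IsCocomm R C → Coalgebra.IsCocomm T Cc) ∧
      (1 : S) ⊗ₜ[T] e ∈ Ideal.map (algebraMap S (S ⊗[T] Cc)) (⊥ : Ideal S).jacobson ∧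
      Nonempty (S ⊗[T] Cc ≃ₐc[S] S ⊗[R] C) := by
  obtain ⟨R₀, _, _, _, C₀, _, _, hN, hloc, hft, hfl₀, hs₀, hcoc, ⟨ε⟩⟩ := exists_noetherian_local_model R C hfl hs
  obtain ⟨e, he, heI, hH, hG⟩ := exists_completion_clopen R₀ C₀ hfl₀ hs₀
  obtain ⟨S, _, _, _, _, _, _, hff, hJ⟩ := exists_ff_extension (R₀ := R₀) (R := R)
  let T := AdicCompletion (IsLocalRing.maximalIdeal R₀) R₀
  refine ⟨S, inferInstance, inferInstance, T, inferInstance, inferInstance, T ⊗[R₀] C₀, inferInstance, inferInstance,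
    e, hH, hff, he, hG, inferInstance, fun hc => haveI := hcoc hc; inferInstance, ?_,
    ⟨(cancelBC R₀ T S C₀).trans ((cancelBC R₀ R S C₀).symm.trans (congrBC S ε))⟩⟩
  have h1 := Ideal.mem_map_of_mem (Algebra.TensorProduct.includeRight : T ⊗[R₀] C₀ →ₐ[T] S ⊗[T] (T ⊗[R₀] C₀)).toRingHom heI
  rw [Ideal.map_map, show (Algebra.TensorProduct.includeRight : T ⊗[R₀] C₀ →ₐ[T] S ⊗[T] (T ⊗[R₀] C₀)).toRingHom.comp
      (algebraMap T (T ⊗[R₀] C₀)) = (algebraMap S (S ⊗[T] (T ⊗[R₀] C₀))).comp (algebraMap T S) from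
    RingHom.ext fun t => ((Algebra.TensorProduct.includeRight : T ⊗[R₀] C₀ →ₐ[T] S ⊗[T] (T ⊗[R₀] C₀)).commutes t).trans
      (IsScalarTower.algebraMap_apply T S _ t), ← Ideal.map_map] at h1
  exact Ideal.map_mono hJ h1

/-- Condition (c). -/
theorem isMultType_local_connected (R : Type u) [CommRing R] [IsLocalRing R]
    (C : Type u) [CommRing C] [HopfAlgebra R C] [Algebra.FinitePresentation R C]
    (hfl : ∀ (q : Ideal C) [q.IsPrime], Ideal.map (algebraMap R C) (IsLocalRing.maximalIdeal R) ≤ q →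
      Module.Flat R (Localization.AtPrime q))
    (hs : SGA3b.IsMultType (IsLocalRing.ResidueField R) (IsLocalRing.ResidueField R ⊗[R] C))
    (hconn : ∀ (p : Ideal R) [p.IsPrime], ConnectedSpace (PrimeSpectrum (p.ResidueField ⊗[R] C))) :
    SGA3b.IsMultType R C := by
  obtain ⟨S, _, _, T, _, _, Cc, _, _, e, hH, hff, he, hG, -, -, -, ⟨f⟩⟩ := exists_ff_clopen R C hfl hs
  refine isMultType_of_idem_eq_zero e hG S f ((map_eq_zero_iff f (EquivLike.injective f)).1 ?_)
  refine idem_eq_zero_of_connected_bc S hconn ((show IsIdempotentElem ((1 : S) ⊗ₜ[T] e) by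
    rw [IsIdempotentElem, Algebra.TensorProduct.tmul_mul_tmul, one_mul, he]).map f) ?_
  rw [CoalgHomClass.counit_comp_apply, TensorProduct.counit_tmul,
    show Coalgebra.counit (R := T) e = 0 from hH.counit_eq_zero (Ideal.mem_span_singleton_self e), zero_smul]

theorem idem_mem_of_finite {S X : Type u} [CommRing S] [CommRing X] [Algebra S X] (J : Ideal X)
    [Module.Finite S (X ⧸ J)] {e : X} (he : IsIdempotentElem e)
    (heJ : e ∈ Ideal.map (algebraMap S X) (⊥ : Ideal S).jacobson) : e ∈ J := by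
  let N := X ⧸ J
  let ē : N := Ideal.Quotient.mk J e
  have h1 : ē ∈ (⊥ : Ideal S).jacobson • (⊤ : Submodule S N) := by
    rw [Ideal.smul_top_eq_map]
    have h2 := Ideal.mem_map_of_mem (Ideal.Quotient.mk J) heJ
    rw [Ideal.map_map] at h2
    exact h2
  let E : Submodule S N := LinearMap.range (LinearMap.mulLeft S ē)
  haveI : Module.Finite S E := Module.Finite.range _
  have hee : ē * ē = ē := by rw [← map_mul, he]
  have hEI : E ≤ (⊥ : Ideal S).jacobson • E := by
    rintro _ ⟨x, rfl⟩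
    have h2 : ∀ z ∈ (⊥ : Ideal S).jacobson • (⊤ : Submodule S N), ē * z * x ∈ (⊥ : Ideal S).jacobson • E := fun z hz => by
      refine Submodule.smul_induction_on hz (fun i hi w _ => ?_) (fun a b ha hb => ?_)
      · rw [mul_smul_comm, smul_mul_assoc, mul_assoc]
        exact Submodule.smul_mem_smul hi ⟨w * x, rfl⟩
      · rw [mul_add, add_mul]
        exact add_mem ha hb
    have h3 := h2 ē h1
    rwa [hee] at h3
  have h0 := Submodule.eq_bot_of_le_smul_of_le_jacobson_bot _ E (Module.Finite.iff_fg.1 inferInstance) hEI le_rfl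
  have h4 : ē ∈ E := ⟨1, mul_one ē⟩
  rw [h0, Submodule.mem_bot] at h4
  exact Ideal.Quotient.eq_zero_iff_mem.1 h4

theorem finite_torsion_bc {R : Type u} [CommRing R] {C : Type u} [CommRing C] [HopfAlgebra R C] (S : Type u) [CommRing S]
    [Algebra R S] (n : ℕ) [Module.Finite R (C ⧸ SGA3b.torsionIdeal R C n)] {X : Type u} [CommRing X] [HopfAlgebra S X]
    (f : X ≃ₐc[S] S ⊗[R] C) : Module.Finite S (X ⧸ SGA3b.torsionIdeal S X n) := by
  let J := SGA3b.torsionIdeal S X n
  let Jn := SGA3b.torsionIdeal R C n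
  let π : S ⊗[R] C →ₐ[S] S ⊗[R] (C ⧸ Jn) := Algebra.TensorProduct.map (AlgHom.id S S) (Ideal.Quotient.mkₐ R Jn)
  let π' : S ⊗[R] C →ₐ[R] S ⊗[R] (C ⧸ Jn) := Algebra.TensorProduct.map (AlgHom.id R S) (Ideal.Quotient.mkₐ R Jn)
  let g : S ⊗[R] C →ₐ[S] X ⧸ J := (Ideal.Quotient.mkₐ S J).comp (f.symm : S ⊗[R] C →ₐc[S] X)
  have hππ : ∀ x, π x = π' x := by
    intro x
    induction x with
    | zero => simp
    | add a b ha hb => simp only [map_add, ha, hb]
    | tmul t a => simp [π, π']
  have hπ : Function.Surjective π := fun y => by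
    obtain ⟨z, hz⟩ := LinearMap.lTensor_surjective S (g := (Ideal.Quotient.mkₐ R Jn).toLinearMap) Ideal.Quotient.mk_surjective y
    refine ⟨z, (hππ z).trans ?_⟩
    rw [← hz]
    rfl
  have hker : ∀ x, π x = 0 → g x = 0 := by
    intro x hx
    have h1 : x ∈ RingHom.ker π' := (hππ x).symm.trans hx
    have hk : RingHom.ker π' = Ideal.map (Algebra.TensorProduct.includeRight : C →ₐ[R] S ⊗[R] C)
        (RingHom.ker (Ideal.Quotient.mkₐ R Jn)) :=
      Algebra.TensorProduct.lTensor_ker _ Ideal.Quotient.mk_surjective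
    have hle : RingHom.ker π' ≤ RingHom.ker g := by
      rw [hk, Ideal.map_le_iff_le_comap]
      intro c hc
      have hc' : c ∈ Jn := by
        rw [← Ideal.mk_ker (I := Jn)]
        exact hc
      rw [Ideal.mem_comap, RingHom.mem_ker]
      exact Ideal.Quotient.eq_zero_iff_mem.2 (map_torsionIdeal_of_hom (f.symm : S ⊗[R] C →ₐc[S] X) n
        (map_torsionIdeal_le S n hc'))
    exact hle h1
  have hg : Function.Surjective g := Ideal.Quotient.mk_surjective.comp (EquivLike.surjective f.symm)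
  refine Module.Finite.of_surjective (AlgHom.liftOfSurjective π hπ g hker).toLinearMap fun y => ?_
  obtain ⟨x, rfl⟩ := hg y
  exact ⟨π x, AlgHom.liftOfSurjective_apply π hπ g (fun a ha => hker a ha) x⟩

/-- Condition (b). -/
theorem isMultType_local_torsion (R : Type u) [CommRing R] [IsLocalRing R]
    (C : Type u) [CommRing C] [HopfAlgebra R C] [Coalgebra.IsCocomm R C] [Algebra.FinitePresentation R C]
    (hfl : ∀ (q : Ideal C) [q.IsPrime], Ideal.map (algebraMap R C) (IsLocalRing.maximalIdeal R) ≤ q →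
      Module.Flat R (Localization.AtPrime q))
    (hs : SGA3b.IsMultType (IsLocalRing.ResidueField R) (IsLocalRing.ResidueField R ⊗[R] C))
    (hfin : ∀ n : ℕ, 0 < n → Module.Finite R (C ⧸ SGA3b.torsionIdeal R C n)) :
    SGA3b.IsMultType R C := by
  obtain ⟨S, _, _, T, _, _, Cc, _, _, e, hH, hff, he, hG, hft, hcoc, heJ, ⟨f⟩⟩ := exists_ff_clopen R C hfl hs
  haveI := hft
  haveI := hcoc inferInstance
  have heS : IsIdempotentElem ((1 : S) ⊗ₜ[T] e) := by
    rw [IsIdempotentElem, Algebra.TensorProduct.tmul_mul_tmul, one_mul, he]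
  refine isMultType_of_idem_eq_zero e hG S f (idem_eq_zero_of_fibres (R := S) heS fun p _ => ?_)
  let K := AlgebraicClosure p.ResidueField
  obtain ⟨N, hN⟩ := dense_fibre e he hG K ((1 : K) ⊗ₜ[T] e) 1 fun m hm => ⟨0, by
    haveI := hfin m hm
    haveI := finite_torsion_bc S m f
    have h1 := map_torsionIdeal_le K m (idem_mem_of_finite (SGA3b.torsionIdeal S (S ⊗[T] Cc) m) heS heJ)
    have h2 := map_torsionIdeal_of_hom (cancelBC T S K Cc).toBialgHom m h1
    rw [pow_zero, mul_one]
    have h3 : (cancelBC T S K Cc).toBialgHom ((1 : K) ⊗ₜ[S] ((1 : S) ⊗ₜ[T] e)) = (1 : K) ⊗ₜ[T] e := by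
      change cancelBC T S K Cc _ = _
      rw [cancelBC_tmul, one_smul]
    rwa [h3] at h2⟩
  rw [one_pow, mul_one] at hN
  apply Module.Flat.tensorProduct_mk_injective p.ResidueField (p.ResidueField ⊗[S] (S ⊗[T] Cc)) K
  apply EquivLike.injective (cancelBC S p.ResidueField K (S ⊗[T] Cc))
  apply EquivLike.injective (cancelBC T S K Cc)
  rw [TensorProduct.mk_apply, TensorProduct.mk_apply, cancelBC_tmul, one_smul, cancelBC_tmul, one_smul, tmul_zero,
    map_zero, map_zero, hN]

end Groth.Agent.SGA3b53
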