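import Groth.Agent.SGA3b53.UnionDescent
import Groth.Agent.SGA3b53.FlatLift
import Groth.Agent.SGA3b53.FPres
import Mathlib

/-!
Isotrivial and quasi-isotrivial groups descend to a member of a directed union of subrings.
-/

set_option autoImplicit false
set_option linter.unusedSectionVars false
set_option linter.style.haveILetI false
universe u
open TensorProduct

noncomputable section

namespace Groth.Agent.SGA3b53.UnionDescent

theorem isIsotrivial_baseChange {R : Type u} [CommRing R] (L : Type u) [CommRing L] [Algebra R L] {C : Type u} [CommRing C]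
    [HopfAlgebra R C] (h : SGA3b.IsIsotrivial R C) : SGA3b.IsIsotrivial L (L ⊗[R] C) := by
  obtain ⟨S, _, _, het, hfin, hff, hd⟩ := h
  exact ⟨L ⊗[R] S, inferInstance, inferInstance, inferInstance, inferInstance, inferInstance,
    isDiag_of_equiv (cancelBC R L (L ⊗[R] S) C).symm
      (isDiag_transfer (U := L ⊗[R] S) (Algebra.TensorProduct.includeRight : S →ₐ[R] L ⊗[R] S) hd)⟩

theorem isQuasiIsotrivial_of_equiv {R : Type u} [CommRing R] {C D : Type u} [CommRing C] [HopfAlgebra R C] [CommRing D]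
    [HopfAlgebra R D] (f : C ≃ₐc[R] D) (h : SGA3b.IsQuasiIsotrivial R C) : SGA3b.IsQuasiIsotrivial R D := by
  obtain ⟨s, hs, hf⟩ := h
  refine ⟨s, hs, fun g hg => ?_⟩
  obtain ⟨R', _, _, het, hff, hd⟩ := hf g hg
  exact ⟨R', inferInstance, inferInstance, het, hff, isDiag_of_equiv (congrBC R' (congrBC (Localization.Away g) f)) hd⟩

theorem isIsotrivial_of_equiv' {R : Type u} [CommRing R] {C D : Type u} [CommRing C] [HopfAlgebra R C] [CommRing D]
    [HopfAlgebra R D] (f : C ≃ₐc[R] D) (h : SGA3b.IsIsotrivial R C) : SGA3b.IsIsotrivial R D := by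
  obtain ⟨R', _, _, het, hfin, hff, hd⟩ := h
  exact ⟨R', inferInstance, inferInstance, het, hfin, hff, isDiag_of_equiv (congrBC R' f) hd⟩

variable {A₀ : Type u} [CommRing A₀] {A : Type u} [CommRing A] [Algebra A₀ A]
variable {P : Type u} [CommRing P] [HopfAlgebra A₀ P] [Algebra.FinitePresentation A₀ P]

theorem exists_charts {ι : Type u} [Finite ι] (T : ι → Type u) [∀ k, CommRing (T k)] [∀ k, Algebra A (T k)]
    [∀ k, Algebra.Etale A (T k)] (hd : ∀ k, SGA3b.IsDiag (T k) (T k ⊗[A] (A ⊗[A₀] P))) :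
    ∃ E : Subalgebra A₀ A, E.FG ∧ ∀ k, HasChart P E (T k) := by
  classical
  haveI := Fintype.ofFinite ι
  letI : ∀ k, Algebra A₀ (T k) := fun k => ((algebraMap A (T k)).comp (algebraMap A₀ A)).toAlgebra
  haveI : ∀ k, IsScalarTower A₀ A (T k) := fun k => IsScalarTower.of_algebraMap_eq fun _ => rfl
  choose E hE hch using fun k =>
    exists_hasChart (A₀ := A₀) (A := A) (P := P) (T k) (isDiag_of_equiv (cancelBC A₀ A (T k) P) (hd k))
  exact ⟨Finset.univ.sup E, Finset.sup_induction Subalgebra.fg_bot (fun a ha b hb => ha.sup hb) fun k _ => hE k,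
    fun k => (hch k).mono (Finset.le_sup (Finset.mem_univ k))⟩

theorem isDiag_stage {E : Type u} [CommRing E] [Algebra A₀ E] {U : Type u} [CommRing U] [Algebra E U] [Algebra A₀ U]
    [IsScalarTower A₀ E U] (D : Type u) [CommRing D] [Algebra E D] [Algebra A₀ D] [IsScalarTower A₀ E D]
    (hd : SGA3b.IsDiag U (U ⊗[A₀] P)) : SGA3b.IsDiag (D ⊗[E] U) ((D ⊗[E] U) ⊗[D] (D ⊗[A₀] P)) :=
  isDiag_of_equiv (cancelBC A₀ D (D ⊗[E] U) P).symm
    (isDiag_transfer (U := D ⊗[E] U) ((Algebra.TensorProduct.includeRight : U →ₐ[E] D ⊗[E] U).restrictScalars A₀) hd)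

theorem isQuasiIsotrivial_stage {E : Type u} [CommRing E] [Algebra A₀ E] (D : Type u) [CommRing D] [Algebra E D]
    [Algebra A₀ D] [IsScalarTower A₀ E D] {ι : Type u} [Finite ι] (U : ι → Type u) [∀ k, CommRing (U k)]
    [∀ k, Algebra E (U k)] [∀ k, Algebra A₀ (U k)] [∀ k, IsScalarTower A₀ E (U k)] [∀ k, Algebra.Etale E (U k)]
    (hcov : IsCover D fun k => D ⊗[E] U k) (hd : ∀ k, SGA3b.IsDiag (U k) (U k ⊗[A₀] P)) :
    SGA3b.IsQuasiIsotrivial D (D ⊗[A₀] P) :=
  isQuasiIsotrivial_of_cover (T := fun k => D ⊗[E] U k) (fun k => inferInstance) hcov fun k => isDiag_stage D (hd k)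

theorem isIsotrivial_stage {E : Type u} [CommRing E] [Algebra A₀ E] (D : Type u) [CommRing D] [Algebra E D]
    [Algebra A₀ D] [IsScalarTower A₀ E D] (U : Type u) [CommRing U] [Algebra E U] [Algebra A₀ U] [IsScalarTower A₀ E U]
    [Algebra.Etale E U] [Module.Finite D (D ⊗[E] U)] (hcov : IsCover D fun _ : PUnit.{u + 1} => D ⊗[E] U)
    (hd : SGA3b.IsDiag U (U ⊗[A₀] P)) : SGA3b.IsIsotrivial D (D ⊗[A₀] P) := by
  haveI : Module.FaithfullyFlat D (D ⊗[E] U) := Module.FaithfullyFlat.of_comap_surjective fun p => by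
    obtain ⟨-, q, hq⟩ := hcov.exists_lift p
    exact ⟨q, hq⟩
  exact ⟨D ⊗[E] U, inferInstance, inferInstance, inferInstance, inferInstance, inferInstance, isDiag_stage D hd⟩

theorem finiteType_stage (hA₀ : Algebra.FiniteType ℤ A₀) {E : Subalgebra A₀ A} (hE : E.FG) {D : Subalgebra E A}
    (hD : D.FG) : Algebra.FiniteType ℤ D :=
  Algebra.FiniteType.trans (Algebra.FiniteType.trans hA₀ (E.fg_iff_finiteType.1 hE)) (D.fg_iff_finiteType.1 hD)

theorem isCover_congr {R : Type u} [CommRing R] {ι : Type u} {T S : ι → Type u} [∀ k, CommRing (T k)] [∀ k, Algebra R (T k)]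
    [∀ k, CommRing (S k)] [∀ k, Algebra R (S k)] (e : ∀ k, S k ≃ₐ[R] T k) (h : IsCover R T) : IsCover R S where
  flat k := by
    haveI := h.flat k
    exact Module.Flat.of_linearEquiv (e k).toLinearEquiv
  exists_lift p := by
    obtain ⟨k, q, hq⟩ := h.exists_lift p
    refine ⟨k, q.comap (e k : S k →+* T k), ?_⟩
    rw [← hq, ← PrimeSpectrum.comap_comp_apply]
    congr 1
    exact RingHom.ext fun r => (e k).commutes r

/-- A quasi-isotrivial model over a finitely generated subring. -/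
theorem exists_qi_stage (hA₀ : Algebra.FiniteType ℤ A₀) (h : SGA3b.IsQuasiIsotrivial A (A ⊗[A₀] P)) :
    ∃ (D : Type u) (_ : CommRing D) (_ : Algebra A₀ D) (_ : Algebra D A) (_ : IsScalarTower A₀ D A),
      Algebra.FiniteType ℤ D ∧ Function.Injective (algebraMap D A) ∧ SGA3b.IsQuasiIsotrivial D (D ⊗[A₀] P) := by
  obtain ⟨ι, _, T, _, _, hT, het, hd⟩ := HomLift.exists_etale_cover h
  haveI := het
  obtain ⟨E, hE, hch⟩ := exists_charts (A₀ := A₀) (P := P) T hd
  choose U hU₁ hU₂ hU₃ hU₄ hU₅ hU₆ hU₇ using hch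
  letI := hU₁
  letI := hU₂
  letI := hU₃
  haveI := hU₄
  haveI := hU₅
  obtain ⟨D, hD, hcov⟩ := exists_cover_stage (A := A) U (isCover_congr (fun k => (hU₇ k).some) hT)
  refine ⟨D, inferInstance, inferInstance, inferInstance, inferInstance, finiteType_stage hA₀ hE hD,
    Subtype.val_injective, ?_⟩
  exact isQuasiIsotrivial_stage D U (hcov D le_rfl) hU₆

/-- An isotrivial model over a finitely generated subring. -/
theorem exists_iso_stage (hA₀ : Algebra.FiniteType ℤ A₀) (h : SGA3b.IsIsotrivial A (A ⊗[A₀] P)) :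
    ∃ (D : Type u) (_ : CommRing D) (_ : Algebra A₀ D) (_ : Algebra D A) (_ : IsScalarTower A₀ D A),
      Algebra.FiniteType ℤ D ∧ Function.Injective (algebraMap D A) ∧ SGA3b.IsIsotrivial D (D ⊗[A₀] P) := by
  obtain ⟨S, _, _, het, hfin, hff, hd⟩ := h
  have hT : IsCover A fun _ : PUnit.{u + 1} => S := ⟨fun _ => inferInstance, fun p => by
    obtain ⟨q, hq⟩ := PrimeSpectrum.comap_surjective_of_faithfullyFlat (A := A) (B := S) p
    exact ⟨PUnit.unit, q, hq⟩⟩
  obtain ⟨E, hE, hch⟩ := exists_charts (A₀ := A₀) (P := P) (fun _ : PUnit.{u + 1} => S) fun _ => hd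
  obtain ⟨U, _, _, _, _, hUet, hUd, ⟨e⟩⟩ := hch PUnit.unit
  haveI : Module.Finite A (A ⊗[E] U) := Module.Finite.equiv e.symm.toLinearEquiv
  obtain ⟨D₁, hD₁, hcov⟩ := exists_cover_stage (A := A) (fun _ : PUnit.{u + 1} => U) (isCover_congr (fun _ => e) hT)
  obtain ⟨D₂, hD₂, hfinD⟩ := exists_finite_stage (A := A) (E := E) (U := U)
  let D := D₁ ⊔ D₂
  refine ⟨D, inferInstance, inferInstance, inferInstance, inferInstance, finiteType_stage hA₀ hE (hD₁.sup hD₂),
    Subtype.val_injective, ?_⟩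
  haveI := hfinD D le_sup_right
  exact isIsotrivial_stage D U (hcov D le_sup_left) hUd

/-- A finitely generated subring lies in a member of a directed union. -/
theorem exists_member {D : Type u} [CommRing D] [Algebra D A] (hD : Algebra.FiniteType ℤ D) {ι : Type u} [Preorder ι]
    [IsDirected ι (· ≤ ·)] [Nonempty ι] (B : ι → Subring A) (hmono : Monotone B) (hsup : ⨆ i, B i = ⊤) :
    ∃ i, ∀ d : D, algebraMap D A d ∈ B i := by
  classical
  obtain ⟨s, hs⟩ := hD.out
  have hdir : Directed (· ≤ ·) B := hmono.directed_le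
  have h1 : ∀ d : D, ∃ i, algebraMap D A d ∈ B i := fun d =>
    (Subring.mem_iSup_of_directed hdir).1 (hsup ▸ Subring.mem_top _)
  choose f hf using h1
  obtain ⟨i, hi⟩ := Finset.exists_le (s.image f)
  refine ⟨i, fun d => ?_⟩
  let K : Subalgebra ℤ D := subalgebraOfSubring ((B i).comap (algebraMap D A))
  have hle : Algebra.adjoin ℤ (s : Set D) ≤ K := Algebra.adjoin_le fun x hx =>
    hmono (hi (f x) (Finset.mem_image_of_mem f hx)) (hf x)
  exact hle (hs ▸ Algebra.mem_top)

/-- Descent of (quasi-)isotrivial groups to a member of a directed union. -/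
theorem exists_descend (C : Type u) [CommRing C] [HopfAlgebra A C] {ι : Type u} [Preorder ι] [IsDirected ι (· ≤ ·)]
    [Nonempty ι] (B : ι → Subring A) (hmono : Monotone B) (hsup : ⨆ i, B i = ⊤) (hft : Algebra.FiniteType A₀ P)
    (e : A ⊗[A₀] P ≃ₐc[A] C) {D : Type u} [CommRing D] [Algebra A₀ D] [Algebra D A] [IsScalarTower A₀ D A]
    (hD : Algebra.FiniteType ℤ D) :
    ∃ (i : ι) (_ : Algebra D (B i)), Nonempty ((A ⊗[B i] (B i ⊗[D] (D ⊗[A₀] P))) ≃ₐc[A] C) ∧
      Algebra.FiniteType (B i) (B i ⊗[D] (D ⊗[A₀] P)) := by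
  obtain ⟨i, hi⟩ := exists_member (A := A) hD B hmono hsup
  letI : Algebra D (B i) := ((algebraMap D A).codRestrict (B i) hi).toAlgebra
  haveI : IsScalarTower D (B i) A := IsScalarTower.of_algebraMap_eq fun _ => rfl
  haveI := hft
  exact ⟨i, inferInstance, ⟨(cancelBC D (B i) A (D ⊗[A₀] P)).trans ((cancelBC A₀ D A P).trans e)⟩, inferInstance⟩

end Groth.Agent.SGA3b53.UnionDescent
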