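import Groth.Agent.SGA3b53.GroupLikeMA
import Groth.Agent.SGA3b53.BaseChange
import Mathlib

/-!
Coordinates of a split group of multiplicative type as convolution idempotents.
-/

set_option autoImplicit false
set_option linter.unusedSectionVars false
universe u v w
open TensorProduct WithConv

noncomputable section

namespace Groth.Agent.SGA3b53

variable {R : Type u} [CommRing R] {T : Type u} [CommRing T] [Algebra R T]
variable {A : Type u} [CommRing A] [HopfAlgebra R A] {M : Type u} [CommGroup M]
variable (ρ : T ⊗[R] A ≃ₐc[T] MonoidAlgebra T M)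

/-- The algebra map `A → T[M]`. -/
def toMA : A →ₐ[R] MonoidAlgebra T M :=
  ((ρ : T ⊗[R] A →ₐ[T] MonoidAlgebra T M).restrictScalars R).comp Algebra.TensorProduct.includeRight

@[simp] theorem toMA_apply (x : A) : toMA ρ x = ρ ((1 : T) ⊗ₜ x) := rfl

/-- The `m`-th coordinate. -/
def coord (m : M) : A →ₗ[R] T := ((coef (T := T) m).restrictScalars R).comp (toMA ρ).toLinearMap

@[simp] theorem coord_apply (m : M) (x : A) : coord ρ m x = (ρ ((1 : T) ⊗ₜ x)).coeff m := rfl

theorem coord_one (m : M) [DecidableEq M] : coord ρ m 1 = if (1 : M) = m then 1 else 0 := by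
  rw [coord_apply, ← Algebra.TensorProduct.one_def, map_one, MonoidAlgebra.one_def, MonoidAlgebra.coeff_single,
    Finsupp.single_apply]

theorem coord_conv [DecidableEq M] (m n : M) :
    toConv (coord ρ m) * toConv (coord ρ n) = if m = n then toConv (coord ρ m) else 0 := by
  have key : ∀ x, (toConv (coord ρ m) * toConv (coord ρ n)).ofConv x =
      coef₂ m n (Coalgebra.comul (R := T) (ρ ((1 : T) ⊗ₜ x))) := by
    intro x
    rw [LinearMap.convMul_apply, ← CoalgHomClass.map_comp_comul_apply, TensorProduct.comul_tmul,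
      CommSemiring.comul_apply]
    simp only [ofConv_toConv]
    generalize Coalgebra.comul (R := R) x = z
    induction z with
    | zero => simp
    | add a b ha hb => simp only [tmul_add, map_add, ha, hb]
    | tmul a b => simp
  refine WithConv.ext (LinearMap.ext fun x => ?_)
  rw [key, coef₂_comul]
  split_ifs with h
  · simp [coord_apply]
  · simp

theorem eq_of_coord {x y : A} (h : ∀ m, coord ρ m x = coord ρ m y) : (1 : T) ⊗ₜ[R] x = (1 : T) ⊗ₜ[R] y :=
  (ρ : T ⊗[R] A ≃ₐc[T] MonoidAlgebra T M).injective (MonoidAlgebra.ext (Finsupp.ext fun m => h m))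

theorem counit_eq_sum_coord (x : A) :
    algebraMap R T (Coalgebra.counit x) = (ρ ((1 : T) ⊗ₜ x)).coeff.sum fun _ a => a := by
  rw [← counit_eq_sum, CoalgHomClass.counit_comp_apply, TensorProduct.counit_tmul]
  simp [Algebra.smul_def]

/-- An element of `I • A` has coordinates in `I`. -/
theorem coord_mem (I : Ideal R) {x : A} (hx : x ∈ I • (⊤ : Submodule R A)) (m : M) :
    coord ρ m x ∈ I.map (algebraMap R T) := by
  refine Submodule.smul_induction_on hx (fun a ha y _ => ?_) (fun a b ha hb => ?_)
  · rw [map_smul, Algebra.smul_def]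
    exact Ideal.mul_mem_right _ _ (Ideal.mem_map_of_mem _ ha)
  · rw [map_add]; exact add_mem ha hb

/-- Linear forms in convolution with values in an ideal. -/
theorem convMul_mem {C : Type w} [AddCommMonoid C] [Module R C] [CoalgebraStruct R C]
    {f g : WithConv (C →ₗ[R] T)} {I J : Ideal T} (hf : ∀ c, f.ofConv c ∈ I) (hg : ∀ c, g.ofConv c ∈ J) (c : C) :
    (f * g).ofConv c ∈ I * J := by
  rw [LinearMap.convMul_apply]
  generalize Coalgebra.comul (R := R) c = z
  induction z with
  | zero => simp
  | add a b ha hb => rw [map_add, map_add]; exact add_mem ha hb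
  | tmul a b => exact Ideal.mul_mem_mul (hf a) (hg b)

variable {C : Type u} [CommRing C] [HopfAlgebra R C]

/-- Congruent homomorphisms from a commutative target are congruent modulo the cube. -/
theorem coord_congr_cube [Coalgebra.IsCocomm R C] (φ ψ : C →ₐc[R] A) (I : Ideal T)
    (h : ∀ m c, coord ρ m (φ c) - coord ρ m (ψ c) ∈ I) (m : M) (c : C) :
    coord ρ m (φ c) - coord ρ m (ψ c) ∈ I * I * I := by
  classical
  have key : ∀ χ : C →ₐc[R] A, IsIdempotentElem (toConv ((coord ρ m).comp (χ : C →ₗc[R] A).toLinearMap)) := by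
    intro χ
    have h1 := coord_conv ρ m m
    rw [if_pos rfl] at h1
    have h2 := LinearMap.convMul_comp_coalgHom_distrib (toConv (coord ρ m)) (toConv (coord ρ m)) (χ : C →ₗc[R] A)
    rw [h1] at h2
    exact (congrArg toConv h2).symm
  set a : WithConv (C →ₗ[R] T) := toConv ((coord ρ m).comp (φ : C →ₗc[R] A).toLinearMap) with ha
  set b : WithConv (C →ₗ[R] T) := toConv ((coord ρ m).comp (ψ : C →ₗc[R] A).toLinearMap) with hb
  have e2 : a * a = a := key φ
  have f2 : b * b = b := key ψ
  have h3 : (a - b) * (a - b) * (a - b) = a - b := by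
    linear_combination (a - 3 * b + 1) * e2 + (3 * a - b - 1) * f2
  have hd : ∀ c, (a - b).ofConv c ∈ I := fun c => h m c
  have := convMul_mem (convMul_mem hd hd) hd c
  rw [h3] at this
  exact this

/-- A homomorphism congruent to the trivial one is congruent modulo the square. -/
theorem coord_congr_unit_sq (φ : C →ₐc[R] A) (I : Ideal T)
    (h : ∀ m c, coord ρ m (φ c - algebraMap R A (Coalgebra.counit c)) ∈ I) (m : M) (c : C) :
    coord ρ m (φ c - algebraMap R A (Coalgebra.counit c)) ∈ I * I := by
  classical
  let a : M → WithConv (C →ₗ[R] T) := fun m => toConv ((coord ρ m).comp (φ : C →ₗc[R] A).toLinearMap)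
  let e : M → WithConv (C →ₗ[R] T) := fun m => if (1 : M) = m then 1 else 0
  have ha : ∀ m n, a m * a n = if m = n then a m else 0 := by
    intro m n
    have h2 := congrArg toConv
      (LinearMap.convMul_comp_coalgHom_distrib (toConv (coord ρ m)) (toConv (coord ρ n)) (φ : C →ₗc[R] A))
    rw [coord_conv] at h2
    split_ifs at h2 ⊢ with hmn
    · exact h2.symm
    · exact h2.symm.trans (by simp)
  have hD : ∀ m c, (a m - e m).ofConv c = coord ρ m (φ c - algebraMap R A (Coalgebra.counit c)) := by
    intro m c
    change coord ρ m (φ c) - (e m).ofConv c = _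
    rw [map_sub, Algebra.algebraMap_eq_smul_one, map_smul (coord ρ m), coord_one]
    congr 1
    simp only [e]
    split_ifs with h1
    · simp [LinearMap.convOne_apply, Algebra.smul_def]
    · simp
  have hsq : ∀ m n c, ((a m - e m) * (a n - e n)).ofConv c ∈ I * I := fun m n c =>
    convMul_mem (fun c => hD m c ▸ h m c) (fun c => hD n c ▸ h n c) c
  rw [← hD]
  rcases eq_or_ne (1 : M) m with h1 | h1
  · subst h1
    have := hsq 1 1 c
    simp only [mul_sub, sub_mul, e, if_pos rfl, one_mul, mul_one, ha] at this
    rw [if_pos trivial, sub_self, zero_sub] at this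
    have := neg_mem this
    simpa [e] using this
  · have := hsq m 1 c
    simp only [mul_sub, sub_mul, e, if_pos rfl, if_neg h1, one_mul, mul_one, ha, if_neg (Ne.symm h1), mul_zero,
      zero_mul, sub_zero, zero_sub] at this
    simpa [e, if_neg h1] using this

end Groth.Agent.SGA3b53
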