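import Groth.Agent.SGA3b53.PowConv
import Mathlib

/-!
A finite free commutative group is killed by its order (Deligne's norm argument).
-/

set_option autoImplicit false
set_option linter.unusedSectionVars false
set_option linter.style.haveILetI false
universe u
open TensorProduct WithConv

noncomputable section

namespace Groth.Agent.SGA3b53.Deligne

variable {R : Type u} [CommRing R] {A : Type u} [CommRing A] [HopfAlgebra R A] [Coalgebra.IsCocomm R A]

/-- Composition with an algebra map on convolution algebras. -/
def post {B B' : Type u} [CommRing B] [Algebra R B] [CommRing B'] [Algebra R B'] (f : B →ₐ[R] B') :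
    WithConv (A →ₗ[R] B) →+* WithConv (A →ₗ[R] B') where
  toFun x := toConv (f.toLinearMap ∘ₗ x.ofConv)
  map_one' := by
    refine congrArg toConv (LinearMap.ext fun a => ?_)
    simp [LinearMap.convOne_def]
  map_mul' x y := congrArg toConv (LinearMap.algHom_comp_convMul_distrib f x y)
  map_zero' := by simp
  map_add' x y := congrArg toConv (LinearMap.comp_add _ _ _)

theorem post_apply {B B' : Type u} [CommRing B] [Algebra R B] [CommRing B'] [Algebra R B'] (f : B →ₐ[R] B')
    (x : WithConv (A →ₗ[R] B)) (a : A) : (post f x).ofConv a = f (x.ofConv a) := rfl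

theorem post_post {B B' B'' : Type u} [CommRing B] [Algebra R B] [CommRing B'] [Algebra R B'] [CommRing B''] [Algebra R B'']
    (f : B →ₐ[R] B') (g : B' →ₐ[R] B'') (x : WithConv (A →ₗ[R] B)) : post g (post f x) = post (g.comp f) x := rfl

theorem id_mul_antipode :
    (toConv (LinearMap.id : A →ₗ[R] A)) * toConv (HopfAlgebra.antipode R (A := A)) = 1 := by
  apply WithConv.ext
  refine LinearMap.ext fun a => ?_
  rw [LinearMap.convMul_apply, LinearMap.convOne_def]
  exact HopfAlgebra.mul_antipode_lTensor_comul_apply (R := R) a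

variable (R A) in
/-- The left inclusion. -/
abbrev incL : A →ₐ[R] A ⊗[R] A := Algebra.TensorProduct.includeLeft

variable (R A) in
/-- The right inclusion. -/
abbrev incR : A →ₐ[R] A ⊗[R] A := Algebra.TensorProduct.includeRight

variable (R A) in
/-- The translation by the universal point. -/
def trn : A ⊗[R] A →ₐ[R] A ⊗[R] A :=
  Algebra.TensorProduct.lift (incL R A) (Bialgebra.comulAlgHom R A) fun _ _ => Commute.all _ _

variable (R A) in
/-- The inverse translation. -/
def trnInv : A ⊗[R] A →ₐ[R] A ⊗[R] A :=
  Algebra.TensorProduct.lift (incL R A)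
    ((Algebra.TensorProduct.map (HopfAlgebra.antipodeAlgHom R A) (AlgHom.id R A)).comp (Bialgebra.comulAlgHom R A))
    fun _ _ => Commute.all _ _

variable (R A) in
/-- The universal point over `A`. -/
def uu : WithConv (A →ₗ[R] A ⊗[R] A) := toConv (incL R A).toLinearMap

variable (R A) in
/-- The tautological point. -/
def tt : WithConv (A →ₗ[R] A ⊗[R] A) := toConv (incR R A).toLinearMap

theorem uu_mul_tt : uu R A * tt R A = toConv (Bialgebra.comulAlgHom R A).toLinearMap := by
  apply WithConv.ext
  refine LinearMap.ext fun a => ?_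
  rw [LinearMap.convMul_apply]
  change LinearMap.mul' R _ (TensorProduct.map (incL R A).toLinearMap (incR R A).toLinearMap (Coalgebra.comul (R := R) a)) = Coalgebra.comul (R := R) a
  induction Coalgebra.comul (R := R) a with
  | zero => simp
  | add x y hx hy => simp only [map_add, hx, hy]
  | tmul x y => simp

theorem antipode_mul_tt : post (incL R A) (toConv (HopfAlgebra.antipode R (A := A))) * tt R A =
    toConv ((Algebra.TensorProduct.map (HopfAlgebra.antipodeAlgHom R A) (AlgHom.id R A)).comp (Bialgebra.comulAlgHom R A)).toLinearMap := by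
  apply WithConv.ext
  refine LinearMap.ext fun a => ?_
  rw [LinearMap.convMul_apply]
  change LinearMap.mul' R _ (TensorProduct.map ((incL R A).toLinearMap ∘ₗ HopfAlgebra.antipode R (A := A)) (incR R A).toLinearMap (Coalgebra.comul (R := R) a)) =
    Algebra.TensorProduct.map (HopfAlgebra.antipodeAlgHom R A) (AlgHom.id R A) (Coalgebra.comul (R := R) a)
  induction Coalgebra.comul (R := R) a with
  | zero => simp
  | add x y hx hy => simp only [map_add, hx, hy]
  | tmul x y => simp

theorem trn_comp_incL : (trn R A).comp (incL R A) = (incL R A) := Algebra.TensorProduct.lift_comp_includeLeft _ _ _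
theorem trnInv_comp_incL : (trnInv R A).comp (incL R A) = (incL R A) := Algebra.TensorProduct.lift_comp_includeLeft _ _ _

theorem post_trn_tt : post (trn R A) (tt R A) = uu R A * tt R A := by
  rw [uu_mul_tt]
  exact congrArg toConv (LinearMap.ext fun a => by simp [trn, tt, incL, incR, ← Algebra.TensorProduct.one_def])

theorem post_trnInv_tt : post (trnInv R A) (tt R A) = post (incL R A) (toConv (HopfAlgebra.antipode R (A := A))) * tt R A := by
  rw [antipode_mul_tt]
  exact congrArg toConv (LinearMap.ext fun a => by simp [trnInv, tt, incL, incR, ← Algebra.TensorProduct.one_def]; rfl)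

theorem uu_mul_antipode : uu R A * post (incL R A) (toConv (HopfAlgebra.antipode R (A := A))) = 1 := by
  rw [show uu R A = post (incL R A) (toConv LinearMap.id) from rfl, ← map_mul, id_mul_antipode, map_one]

theorem comp_eq_id {f : A ⊗[R] A →ₐ[R] A ⊗[R] A} (hL : f.comp (incL R A) = (incL R A)) (hR : post f (tt R A) = tt R A) (z : A ⊗[R] A) :
    f z = z := by
  refine AlgHom.congr_fun (show f = AlgHom.id R _ from Algebra.TensorProduct.ext ?_ ?_) z
  · exact hL
  · exact AlgHom.ext fun a => LinearMap.congr_fun (congrArg WithConv.ofConv hR) a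

theorem trn_bijective : Function.Bijective (trn R A) := by
  refine Function.bijective_iff_has_inverse.2 ⟨trnInv R A, fun z => ?_, fun z => ?_⟩
  · refine comp_eq_id (f := (trnInv R A).comp (trn R A)) (by rw [AlgHom.comp_assoc, trn_comp_incL, trnInv_comp_incL]) ?_ z
    rw [← post_post, post_trn_tt, map_mul, post_trnInv_tt, show post (trnInv R A) (uu R A) = uu R A from
      congrArg toConv (congrArg AlgHom.toLinearMap trnInv_comp_incL), ← mul_assoc, uu_mul_antipode, one_mul]
  · refine comp_eq_id (f := (trn R A).comp (trnInv R A)) (by rw [AlgHom.comp_assoc, trnInv_comp_incL, trn_comp_incL]) ?_ z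
    rw [← post_post, post_trnInv_tt, map_mul, post_trn_tt, post_post, trn_comp_incL, ← mul_assoc,
      mul_comm (post _ _) (uu R A), uu_mul_antipode, one_mul]

theorem isUnit_tt : IsUnit (tt R A) := by
  refine IsUnit.of_mul_eq_one (post (incR R A) (toConv (HopfAlgebra.antipode R (A := A)))) ?_
  rw [show tt R A = post (incR R A) (toConv LinearMap.id) from rfl, ← map_mul, id_mul_antipode, map_one]

variable {ι : Type u} [Fintype ι] (b : Module.Basis ι R A)

/-- A column of the translation algebra. -/
def col (j : ι) : WithConv (A →ₗ[R] A ⊗[R] A) :=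
  toConv ((Coalgebra.counit (R := R) (A := A)).smulRight ((1 : A) ⊗ₜ[R] b j))

theorem post_mul_col (c : WithConv (A →ₗ[R] A)) (j : ι) (a : A) :
    (post (incL R A) c * col b j).ofConv a = c.ofConv a ⊗ₜ[R] b j := by
  rw [LinearMap.convMul_apply]
  have key : ∀ z : A ⊗[R] A, LinearMap.mul' R (A ⊗[R] A) (TensorProduct.map (post (incL R A) c).ofConv (col b j).ofConv z) =
      c.ofConv (TensorProduct.rid R A ((Coalgebra.counit (R := R) (A := A)).lTensor A z)) ⊗ₜ[R] b j := fun z => by
    induction z with
    | zero => simp
    | add x y hx hy => simp only [map_add, add_tmul, hx, hy]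
    | tmul x y => simp [col, post_apply, TensorProduct.smul_tmul', map_smul]
  rw [key, Coalgebra.lTensor_counit_comul, TensorProduct.rid_tmul, one_smul]

theorem exists_basis (b : Module.Basis ι R A) : letI := (post (A := A) (incL R A)).toAlgebra
    Nonempty (Module.Basis ι (WithConv (A →ₗ[R] A)) (WithConv (A →ₗ[R] A ⊗[R] A))) := by
  classical
  letI := (post (A := A) (incL R A)).toAlgebra
  let Φ := Fintype.linearCombination (WithConv (A →ₗ[R] A)) (col b)
  have hΦ : ∀ c a, (Φ c).ofConv a = ∑ j, (c j).ofConv a ⊗ₜ[R] b j := fun c a => by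
    simp only [Φ, Fintype.linearCombination_apply, WithConv.ofConv_sum, LinearMap.sum_apply]
    exact Finset.sum_congr rfl fun j _ => post_mul_col b (c j) j a
  let cd : ι → (A ⊗[R] A →ₗ[R] A) := fun j => (TensorProduct.rid R A).toLinearMap ∘ₗ (b.coord j).lTensor A
  have hcd : ∀ j k x, cd j (x ⊗ₜ[R] b k) = if k = j then x else 0 := fun j k x => by
    simp only [cd, LinearMap.comp_apply, LinearMap.lTensor_tmul, LinearEquiv.coe_coe, TensorProduct.rid_tmul,
      Module.Basis.coord_apply, b.repr_self, Finsupp.single_apply]
    split_ifs <;> simp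
  refine ⟨Module.Basis.ofEquivFun (LinearEquiv.ofBijective Φ ⟨fun c c' hcc => funext fun j => ?_, fun x => ?_⟩).symm⟩
  · refine WithConv.ext (LinearMap.ext fun a => ?_)
    have h := congrArg (cd j) (LinearMap.congr_fun (congrArg WithConv.ofConv hcc) a)
    simpa [hΦ, hcd] using h
  · refine ⟨fun j => toConv (cd j ∘ₗ x.ofConv), WithConv.ext (LinearMap.ext fun a => ?_)⟩
    rw [hΦ]
    simp only [LinearMap.comp_apply]
    induction x.ofConv a with
    | zero => simp
    | add p q hp hq => simp only [map_add, add_tmul, Finset.sum_add_distrib, hp, hq]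
    | tmul p q =>
      conv_rhs => rw [← b.sum_repr q, TensorProduct.tmul_sum]
      refine Finset.sum_congr rfl fun j _ => ?_
      simp [cd, TensorProduct.smul_tmul]

/-- The power by the rank is trivial. -/
theorem conv_pow_card (b : Module.Basis ι R A) : (toConv (LinearMap.id : A →ₗ[R] A)) ^ Fintype.card ι = 1 := by
  classical
  letI := (post (A := A) (incL R A)).toAlgebra
  obtain ⟨B⟩ := exists_basis b
  let τ : WithConv (A →ₗ[R] A ⊗[R] A) ≃ₐ[WithConv (A →ₗ[R] A)] WithConv (A →ₗ[R] A ⊗[R] A) :=
    AlgEquiv.ofBijective { post (trn R A) with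
      commutes' := fun c => (post_post (incL R A) (trn R A) c).trans (by rw [trn_comp_incL]; rfl) }
      ⟨fun x y hxy => WithConv.ext (LinearMap.ext fun a =>
          trn_bijective.1 (LinearMap.congr_fun (congrArg WithConv.ofConv hxy) a)),
        fun x => ⟨toConv ((AlgEquiv.ofBijective (trn R A) trn_bijective).symm.toLinearMap ∘ₗ x.ofConv),
          WithConv.ext (LinearMap.ext fun a => (AlgEquiv.ofBijective (trn R A) trn_bijective).apply_symm_apply _)⟩⟩
  have h1 : Algebra.norm (WithConv (A →ₗ[R] A)) (τ (tt R A)) = Algebra.norm (WithConv (A →ₗ[R] A)) (tt R A) :=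
    Algebra.norm_eq_of_algEquiv τ _
  rw [show τ (tt R A) = algebraMap (WithConv (A →ₗ[R] A)) _ (toConv LinearMap.id) * tt R A from post_trn_tt,
    map_mul, Algebra.norm_algebraMap_of_basis B] at h1
  exact ((isUnit_tt (R := R) (A := A)).map (Algebra.norm (WithConv (A →ₗ[R] A)))).mul_eq_right.1 h1

theorem ofConv_pow (n : ℕ) (a : A) :
    ((toConv (LinearMap.id : A →ₗ[R] A)) ^ n).ofConv a = SGA3b.powConv R A n a := by
  induction n generalizing a with
  | zero => rw [powConv_zero, pow_zero]; simp [LinearMap.convOne_def]
  | succ n ih =>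
    rw [pow_succ, powConv_succ, LinearMap.convMul_apply]
    induction Coalgebra.comul (R := R) a with
    | zero => simp
    | add x y hx hy => simp only [map_add, hx, hy]
    | tmul x y => simp [ih]

/-- A finite free commutative group is killed by its rank. -/
theorem powConv_finrank [Nontrivial R] [Module.Finite R A] [Module.Free R A] (a : A) :
    SGA3b.powConv R A (Module.finrank R A) a = algebraMap R A (Coalgebra.counit (R := R) a) := by
  rw [Module.finrank_eq_card_basis (Module.Free.chooseBasis R A), ← ofConv_pow, conv_pow_card (Module.Free.chooseBasis R A)]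
  simp [LinearMap.convOne_def]

end Groth.Agent.SGA3b53.Deligne
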