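import Groth.Agent.SGA3b53.Cover
import Mathlib

/-!
Descent of elements and group-like elements along covers.
-/

set_option autoImplicit false
set_option linter.unusedSectionVars false
universe u v w
open TensorProduct

noncomputable section

namespace Groth.Agent.SGA3b53

variable {R : Type u} [CommRing R]

theorem IsCover.descend {ι : Type v} [Finite ι] {T : ι → Type u} [∀ i, CommRing (T i)] [∀ i, Algebra R (T i)]
    (hT : IsCover R T) {M : Type u} [AddCommGroup M] [Module R M] (y : ∀ i, T i ⊗[R] M)
    (h : ∀ i j, ((TensorProduct.mk R (T j) (T i)).flip 1).rTensor M (y j) =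
      ((TensorProduct.mk R (T j) (T i)) 1).rTensor M (y i)) :
    ∃ x : M, ∀ i, (1 : T i) ⊗ₜ[R] x = y i := by
  classical
  haveI := Fintype.ofFinite ι
  let φ : M →ₗ[R] (∀ i, T i ⊗[R] M) := LinearMap.pi fun i => TensorProduct.mk R (T i) M 1
  suffices hy : y ∈ LinearMap.range φ by
    obtain ⟨x, hx⟩ := hy
    exact ⟨x, fun i => congrFun hx i⟩
  rw [← Submodule.Quotient.mk_eq_zero]
  refine hT.eq_zero fun j => ?_
  have key : ∀ z : T j ⊗[R] M, φ.lTensor (T j) z =
      (TensorProduct.piRight R R (T j) fun i => T i ⊗[R] M).symm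
        (fun i => TensorProduct.assoc R (T j) (T i) M (((TensorProduct.mk R (T j) (T i)).flip 1).rTensor M z)) := by
    intro z
    rw [LinearEquiv.eq_symm_apply]
    induction z with
    | zero => simp; rfl
    | add a b ha hb =>
      rw [map_add, map_add, ha, hb]
      funext i
      simp only [Pi.add_apply, map_add]
    | tmul t m => funext i; simp [φ]
  have h1 : φ.lTensor (T j) (y j) = (1 : T j) ⊗ₜ[R] y := by
    rw [key, LinearEquiv.symm_apply_eq]
    funext i
    rw [h i j]
    simp only [TensorProduct.piRight_apply, TensorProduct.piRightHom_tmul]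
    generalize y i = z
    induction z with
    | zero => simp
    | add a b ha hb => simp only [map_add, ha, hb, tmul_add]
    | tmul t m => simp
  have h2 := congrArg ((LinearMap.range φ).mkQ.lTensor (T j)) h1
  rw [← LinearMap.comp_apply, ← LinearMap.lTensor_comp, LinearMap.range_mkQ_comp, LinearMap.lTensor_zero,
    LinearMap.zero_apply, LinearMap.lTensor_tmul] at h2
  exact h2.symm

variable {A : Type u} [CommRing A] [HopfAlgebra R A]

theorem isGroupLike_one_tmul {S : Type w} [CommRing S] [Algebra R S] {a : A} (ha : IsGroupLikeElem R a) :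
    IsGroupLikeElem S ((1 : S) ⊗ₜ[R] a) where
  counit_eq_one := by simp [ha.counit_eq_one]
  comul_eq_tmul_self := by simp [ha.comul_eq_tmul_self]

/-- Group-like elements are preserved by a change of base. -/
theorem isGroupLike_map {T : Type u} [CommRing T] [Algebra R T] {S : Type u} [CommRing S] [Algebra R S]
    (f : T →ₐ[R] S) {x : T ⊗[R] A} (hx : IsGroupLikeElem T x) :
    IsGroupLikeElem S (Algebra.TensorProduct.map f (AlgHom.id R A) x) := by
  letI : Algebra T S := f.toRingHom.toAlgebra
  haveI : IsScalarTower R T S := IsScalarTower.of_algebraMap_eq fun r => (f.commutes r).symm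
  have : Algebra.TensorProduct.map f (AlgHom.id R A) x = cancelBC R T S A ((1 : S) ⊗ₜ[T] x) := by
    clear hx
    induction x with
    | zero => simp
    | add a b ha hb => simp only [map_add, tmul_add, ha, hb]
    | tmul t a =>
      rw [cancelBC_tmul, Algebra.smul_def, mul_one, Algebra.TensorProduct.map_tmul]
      rfl
  rw [this]
  exact (isGroupLike_one_tmul hx).map _

theorem IsCover.isGroupLike_of_forall {ι : Type v} {T : ι → Type u} [∀ i, CommRing (T i)] [∀ i, Algebra R (T i)]
    (hT : IsCover R T) {a : A} (h : ∀ i, IsGroupLikeElem (T i) ((1 : T i) ⊗ₜ[R] a)) : IsGroupLikeElem R a where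
  counit_eq_one := by
    refine sub_eq_zero.1 (hT.eq_zero fun i => ?_)
    have h1 := (h i).counit_eq_one
    rw [TensorProduct.counit_tmul, CommSemiring.counit_apply] at h1
    rw [tmul_sub, sub_eq_zero]
    apply (TensorProduct.rid R (T i)).injective
    simpa using h1
  comul_eq_tmul_self := by
    refine sub_eq_zero.1 (hT.eq_zero fun i => ?_)
    rw [tmul_sub, sub_eq_zero]
    let κ : T i ⊗[R] (A ⊗[R] A) ≃ₗ[T i] (T i ⊗[R] A) ⊗[T i] (T i ⊗[R] A) :=
      AlgebraTensorModule.distribBaseChange R (T i) A A
    apply κ.injective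
    have h1 := (h i).comul_eq_tmul_self
    rw [TensorProduct.comul_tmul, CommSemiring.comul_apply] at h1
    have key : ∀ z : A ⊗[R] A, κ ((1 : T i) ⊗ₜ[R] z) =
        AlgebraTensorModule.tensorTensorTensorComm R (T i) R (T i) (T i) (T i) A A
          (((1 : T i) ⊗ₜ[T i] (1 : T i)) ⊗ₜ[R] z) := by
      intro z
      induction z with
      | zero => simp
      | add a b ha hb => simp only [tmul_add, map_add, ha, hb]
      | tmul b c => simp [κ]
    rw [key, key]
    simpa using h1

end Groth.Agent.SGA3b53
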