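import Groth.Agent.SGA3b53.GroupLikeMA
import Groth.Agent.SGA3b53.Descend
import Mathlib

/-!
Lifting group-like elements along nil ideals.
-/

set_option autoImplicit false
set_option linter.unusedSectionVars false
universe u v w
open TensorProduct

noncomputable section

namespace Groth.Agent.SGA3b53

variable {R : Type u} [CommRing R] {A : Type u} [CommRing A] [HopfAlgebra R A]
variable {T : Type u} [CommRing T] [Algebra R T] {T' : Type u} [CommRing T'] [Algebra R T']

theorem exists_split_map (q : T →ₐ[R] T') {M : Type u} [CommGroup M] (ρ : T ⊗[R] A ≃ₐc[T] MonoidAlgebra T M) :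
    ∃ ρ' : T' ⊗[R] A ≃ₐc[T'] MonoidAlgebra T' M, ∀ z,
      ρ' (Algebra.TensorProduct.map q (AlgHom.id R A) z) = MonoidAlgebra.mapRingHom M (q : T →+* T') (ρ z) := by
  letI : Algebra T T' := q.toRingHom.toAlgebra
  haveI : IsScalarTower R T T' := IsScalarTower.of_algebraMap_eq fun r => (q.commutes r).symm
  refine ⟨(cancelBC R T T' A).symm.trans ((congrBC T' ρ).trans (monoidAlgebraBC T T' M)), fun z => ?_⟩
  have h1 : (cancelBC R T T' A).symm (Algebra.TensorProduct.map q (AlgHom.id R A) z) = (1 : T') ⊗ₜ[T] z := by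
    apply EquivLike.injective (cancelBC R T T' A)
    erw [BialgEquiv.apply_symm_apply]
    induction z with
    | zero => simp
    | add a b ha hb => simp only [map_add, tmul_add, ha, hb]
    | tmul t a =>
      rw [cancelBC_tmul, Algebra.smul_def, mul_one, Algebra.TensorProduct.map_tmul]
      rfl
  change monoidAlgebraBC T T' M (congrBC T' ρ ((cancelBC R T T' A).symm (Algebra.TensorProduct.map q (AlgHom.id R A) z))) = _
  rw [h1, congrBC_tmul]
  refine MonoidAlgebra.ext (Finsupp.ext fun m => ?_)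
  rw [monoidAlgebraBC_one_tmul]
  simp
  rfl

/-- Group-like elements with the same image along a map with small kernel are equal. -/
theorem grouplike_eq_of_map_eq (hd : SGA3b.IsDiag T (T ⊗[R] A)) (q : T →ₐ[R] T')
    (hq : RingHom.ker (q : T →+* T') ≤ (⊥ : Ideal T).jacobson) {x y : T ⊗[R] A}
    (hx : IsGroupLikeElem T x) (hy : IsGroupLikeElem T y)
    (h : Algebra.TensorProduct.map q (AlgHom.id R A) x = Algebra.TensorProduct.map q (AlgHom.id R A) y) : x = y := by
  obtain ⟨M, _, ⟨ρ⟩⟩ := hd
  obtain ⟨ρ', hρ'⟩ := exists_split_map q ρ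
  apply EquivLike.injective ρ
  refine grouplike_eq_of_congr (hx.map ρ) (hy.map ρ) fun m => hq ?_
  have h1 := congrArg (fun z => (ρ' z).coeff m) h
  simp only [hρ'] at h1
  rw [RingHom.mem_ker, map_sub, sub_eq_zero]
  simpa using h1

/-- Group-like elements lift along nil maps. -/
theorem exists_grouplike_lift (hd : SGA3b.IsDiag T (T ⊗[R] A)) (q : T →ₐ[R] T') (hqs : Function.Surjective q)
    (hq : ∀ x ∈ RingHom.ker (q : T →+* T'), IsNilpotent x) {g : T' ⊗[R] A} (hg : IsGroupLikeElem T' g) :
    ∃ x : T ⊗[R] A, IsGroupLikeElem T x ∧ Algebra.TensorProduct.map q (AlgHom.id R A) x = g := by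
  classical
  obtain ⟨M, _, ⟨ρ⟩⟩ := hd
  obtain ⟨ρ', hρ'⟩ := exists_split_map q ρ
  have hg' := hg.map ρ'
  set s := (ρ' g).coeff.support
  have he : CompleteOrthogonalIdempotents fun m : s => (ρ' g).coeff (m : M) :=
    { idem := fun m => grouplike_coeff_idem hg' _
      ortho := fun m n hmn => by
        change (ρ' g).coeff (m : M) * (ρ' g).coeff (n : M) = 0
        rw [grouplike_coeff_mul hg', if_neg fun h => hmn (Subtype.ext h)]
      complete := by
        rw [Finset.sum_coe_sort s (fun m => (ρ' g).coeff m), ← hg'.counit_eq_one, counit_eq_sum]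
        rfl }
  obtain ⟨e, he', hee⟩ := he.lift_of_isNilpotent_ker (q : T →+* T') hq (fun m => RingHom.mem_range.2 (hqs _))
  refine ⟨ρ.symm (∑ m : s, MonoidAlgebra.single (m : M) (e m)), (isGroupLike_sum he' _).map ρ.symm, ?_⟩
  apply EquivLike.injective ρ'
  rw [hρ']
  erw [BialgEquiv.apply_symm_apply]
  rw [map_sum]
  have hem : ∀ m : s, (q : T →+* T') (e m) = (ρ' g).coeff (m : M) := fun m => congrFun hee m
  simp only [MonoidAlgebra.mapRingHom_single, hem]
  rw [Finset.sum_coe_sort s fun m => MonoidAlgebra.single m ((ρ' g).coeff m)]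
  exact (ρ' g).sum_coeff_single

/-- If `1 ⊗ d` dies modulo `I` after base change then so does the class of `d` modulo `I`. -/
theorem one_tmul_mkQ_eq_zero {M : Type u} [AddCommGroup M] [Module R M] (I : Ideal R) {T : Type u} [CommRing T]
    [Algebra R T] {d : M} (h2 : (1 : T ⧸ I.map (algebraMap R T)) ⊗ₜ[R] d = 0) :
    (1 : T) ⊗ₜ[R] ((I • (⊤ : Submodule R M)).mkQ d) = 0 := by
  let e1 : (T ⧸ I.map (algebraMap R T)) →ₗ[R] T ⊗[R] (R ⧸ I) :=
    ((Algebra.TensorProduct.quotIdealMapEquivTensorQuot T I).toLinearEquiv.restrictScalars R).toLinearMap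
  have h3 := congrArg (fun z => (LinearMap.lTensor T (TensorProduct.quotTensorEquivQuotSMul M I).toLinearMap)
    (TensorProduct.assoc R T (R ⧸ I) M (LinearMap.rTensor M e1 z))) h2
  simp only [map_zero, LinearMap.rTensor_tmul] at h3
  rw [show e1 1 = (1 : T) ⊗ₜ[R] (1 : R ⧸ I) from map_one (Algebra.TensorProduct.quotIdealMapEquivTensorQuot T I)] at h3
  rw [TensorProduct.assoc_tmul, LinearMap.lTensor_tmul] at h3
  simpa using h3

/-- Group-like elements of a group of multiplicative type lift uniquely along nil ideals. -/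
theorem existsUnique_grouplike_lift (I : Ideal R) (hI : ∀ x ∈ I, IsNilpotent x) (h : SGA3b.IsMultType R A)
    {g : (R ⧸ I) ⊗[R] A} (hg : IsGroupLikeElem (R ⧸ I) g) :
    ∃! a : A, IsGroupLikeElem R a ∧ (1 : R ⧸ I) ⊗ₜ[R] a = g := by
  obtain ⟨ι, _, T, _, _, hT, hd⟩ := exists_finite_cover h
  have hnil : ∀ {S : Type u} [CommRing S] [Algebra R S], ∀ x ∈ RingHom.ker
      ((Ideal.Quotient.mkₐ R (I.map (algebraMap R S))) : S →+* S ⧸ I.map (algebraMap R S)), IsNilpotent x := by
    intro S _ _ x hx
    rw [RingHom.mem_ker, AlgHom.coe_toRingHom, Ideal.Quotient.mkₐ_eq_mk, Ideal.Quotient.eq_zero_iff_mem] at hx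
    refine mem_nilradical.1 ((Ideal.map_le_iff_le_comap.2 fun a ha => ?_) hx)
    exact mem_nilradical.2 ((hI a ha).map _)
  have hjac : ∀ {S : Type u} [CommRing S] [Algebra R S], RingHom.ker
      ((Ideal.Quotient.mkₐ R (I.map (algebraMap R S))) : S →+* S ⧸ I.map (algebraMap R S)) ≤ (⊥ : Ideal S).jacobson :=
    fun {S} _ _ x hx => Ideal.radical_le_jacobson (by
      obtain ⟨n, hn⟩ := hnil x hx
      exact ⟨n, by simp [hn]⟩)
  let f₀ : ∀ (S : Type u) [CommRing S] [Algebra R S], (R ⧸ I) →ₐ[R] S ⧸ I.map (algebraMap R S) := fun S _ _ =>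
    Ideal.Quotient.liftₐ I (Algebra.ofId R _) fun a ha => by
      rw [Algebra.ofId_apply, IsScalarTower.algebraMap_apply R S (S ⧸ I.map (algebraMap R S)),
        Ideal.Quotient.algebraMap_eq, Ideal.Quotient.eq_zero_iff_mem]
      exact Ideal.mem_map_of_mem _ ha
  let g₀ : ∀ (S : Type u) [CommRing S] [Algebra R S], (S ⧸ I.map (algebraMap R S)) ⊗[R] A := fun S _ _ =>
    Algebra.TensorProduct.map (f₀ S) (AlgHom.id R A) g
  choose y hy1 hy2 using fun i => exists_grouplike_lift (hd i) (Ideal.Quotient.mkₐ R (I.map (algebraMap R (T i))))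
    (Ideal.Quotient.mkₐ_surjective R _) hnil (isGroupLike_map (f₀ (T i)) hg)
  have key : ∀ (S : Type u) [CommRing S] [Algebra R S] (i : ι) (l : T i →ₐ[R] S),
      Algebra.TensorProduct.map (Ideal.Quotient.mkₐ R (I.map (algebraMap R S))) (AlgHom.id R A)
        (Algebra.TensorProduct.map l (AlgHom.id R A) (y i)) = g₀ S := by
    intro S _ _ i l
    have hle : I.map (algebraMap R (T i)) ≤ (I.map (algebraMap R S)).comap l := by
      rw [Ideal.map_le_iff_le_comap]
      intro a ha
      simpa using Ideal.mem_map_of_mem (algebraMap R S) ha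
    let l' := Ideal.quotientMapₐ (I.map (algebraMap R S)) l hle
    have h1 : Algebra.TensorProduct.map (Ideal.Quotient.mkₐ R (I.map (algebraMap R S))) (AlgHom.id R A)
        (Algebra.TensorProduct.map l (AlgHom.id R A) (y i)) = Algebra.TensorProduct.map l' (AlgHom.id R A)
        (Algebra.TensorProduct.map (Ideal.Quotient.mkₐ R _) (AlgHom.id R A) (y i)) := by
      generalize y i = z
      induction z with
      | zero => simp
      | add a b ha hb => simp only [map_add, ha, hb]
      | tmul t a => simp [l']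
    rw [h1, hy2]
    simp only [g₀]
    clear hg hy2
    induction g with
    | zero => simp
    | add a b ha hb => simp only [map_add, ha, hb]
    | tmul t a =>
      obtain ⟨r, rfl⟩ := Ideal.Quotient.mk_surjective t
      simp [l', f₀]
  have hcompat : ∀ i j, ((TensorProduct.mk R (T j) (T i)).flip 1).rTensor A (y j) =
      ((TensorProduct.mk R (T j) (T i)) 1).rTensor A (y i) := by
    intro i j
    have e1 : ((TensorProduct.mk R (T j) (T i)).flip 1).rTensor A (y j) =
        Algebra.TensorProduct.map (Algebra.TensorProduct.includeLeft : T j →ₐ[R] T j ⊗[R] T i) (AlgHom.id R A) (y j) := by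
      generalize y j = z
      induction z with
      | zero => simp
      | add a b ha hb => simp only [map_add, ha, hb]
      | tmul t a => simp
    have e2 : ((TensorProduct.mk R (T j) (T i)) 1).rTensor A (y i) =
        Algebra.TensorProduct.map (Algebra.TensorProduct.includeRight : T i →ₐ[R] T j ⊗[R] T i) (AlgHom.id R A) (y i) := by
      generalize y i = z
      induction z with
      | zero => simp
      | add a b ha hb => simp only [map_add, ha, hb]
      | tmul t a => simp
    rw [e1, e2]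
    refine grouplike_eq_of_map_eq (isDiag_tower (T j) (T j ⊗[R] T i) (hd j)) _ hjac
      (isGroupLike_map _ (hy1 j)) (isGroupLike_map _ (hy1 i)) ?_
    rw [key, key]
  obtain ⟨a, ha⟩ := hT.descend y hcompat
  have hga : IsGroupLikeElem R a := hT.isGroupLike_of_forall fun i => ha i ▸ hy1 i
  have hmap : ∀ (i : ι) (b : A), Algebra.TensorProduct.map (Ideal.Quotient.mkₐ R (I.map (algebraMap R (T i))))
      (AlgHom.id R A) ((1 : T i) ⊗ₜ[R] b) = Algebra.TensorProduct.map (f₀ (T i)) (AlgHom.id R A) ((1 : R ⧸ I) ⊗ₜ[R] b) := by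
    intro i b
    rw [Algebra.TensorProduct.map_tmul, Algebra.TensorProduct.map_tmul, map_one, map_one]
  refine ⟨a, ⟨hga, ?_⟩, fun b hb => ?_⟩
  · obtain ⟨z, hz⟩ : ∃ z : A, (1 : R ⧸ I) ⊗ₜ[R] z = g := by
      clear hga hmap ha hcompat key hy2 g₀ hg y hy1
      induction g with
      | zero => exact ⟨0, tmul_zero _ _⟩
      | add p q hp hq =>
        obtain ⟨p', rfl⟩ := hp
        obtain ⟨q', rfl⟩ := hq
        exact ⟨p' + q', tmul_add _ _ _⟩
      | tmul t c =>
        obtain ⟨r, rfl⟩ := Ideal.Quotient.mk_surjective t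
        exact ⟨r • c, by rw [← TensorProduct.smul_tmul, Algebra.smul_def, mul_one]; rfl⟩
    rw [← hz, ← sub_eq_zero, ← tmul_sub]
    have hI' : a - z ∈ I • (⊤ : Submodule R A) := by
      have h0 : ∀ i, (1 : T i) ⊗ₜ[R] ((I • (⊤ : Submodule R A)).mkQ (a - z)) = 0 := by
        intro i
        have h2 : Algebra.TensorProduct.map (Ideal.Quotient.mkₐ R (I.map (algebraMap R (T i))))
            (AlgHom.id R A) ((1 : T i) ⊗ₜ[R] (a - z)) = 0 := by
          rw [tmul_sub, map_sub, ha i, hy2 i, hmap i z, hz, sub_self]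
        rw [Algebra.TensorProduct.map_tmul, map_one, AlgHom.id_apply] at h2
        exact one_tmul_mkQ_eq_zero I h2
      exact (Submodule.Quotient.mk_eq_zero _).1 (hT.eq_zero h0)
    refine Submodule.smul_induction_on hI' (fun r hr c _ => ?_) (fun p q hp hq => ?_)
    · rw [← TensorProduct.smul_tmul, Algebra.smul_def, mul_one, Ideal.Quotient.algebraMap_eq,
        Ideal.Quotient.eq_zero_iff_mem.2 hr, zero_tmul]
    · rw [tmul_add, hp, hq, add_zero]
  · refine sub_eq_zero.1 (hT.eq_zero fun i => ?_)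
    rw [tmul_sub, sub_eq_zero]
    refine grouplike_eq_of_map_eq (hd i) _ hjac (isGroupLike_one_tmul hb.1) (isGroupLike_one_tmul hga) ?_
    rw [ha i, hy2 i, hmap i b, hb.2]

end Groth.Agent.SGA3b53
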