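import Groth.Agent.SGA3b53.BaseChange
import Mathlib

/-!
Hopf algebras of finite presentation come from finitely generated subrings: base change of the
Hopf algebra axioms.
-/

set_option autoImplicit false
set_option linter.unusedSectionVars false
set_option linter.style.haveILetI false
universe u v w
open TensorProduct

noncomputable section

namespace Groth.Agent.SGA3b53

namespace Model

variable {A : Type u} [CommRing A] {S : Type u} [CommRing S] [Algebra A S]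

/-- Tensor product of two base changes. -/
def eT {P Q : Type u} [CommRing P] [CommRing Q] [Algebra A P] [Algebra A Q]
    {C D : Type u} [CommRing C] [CommRing D] [Algebra S C] [Algebra S D]
    (eP : S ⊗[A] P ≃ₐ[S] C) (eQ : S ⊗[A] Q ≃ₐ[S] D) : S ⊗[A] (P ⊗[A] Q) ≃ₐ[S] C ⊗[S] D :=
  ((Algebra.TensorProduct.assoc A A S S P Q).symm.trans
    (Algebra.TensorProduct.cancelBaseChange A S S (S ⊗[A] P) Q).symm).trans
    (Algebra.TensorProduct.congr eP eQ)

theorem eT_tmul {P Q : Type u} [CommRing P] [CommRing Q] [Algebra A P] [Algebra A Q]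
    {C D : Type u} [CommRing C] [CommRing D] [Algebra S C] [Algebra S D]
    (eP : S ⊗[A] P ≃ₐ[S] C) (eQ : S ⊗[A] Q ≃ₐ[S] D) (x : P) (y : Q) :
    eT eP eQ ((1 : S) ⊗ₜ[A] (x ⊗ₜ[A] y)) = eP ((1 : S) ⊗ₜ x) ⊗ₜ[S] eQ ((1 : S) ⊗ₜ y) := by
  simp [eT]

variable {P : Type u} [CommRing P] [Algebra A P] {C : Type u} [CommRing C] [Algebra S C]
  (e : S ⊗[A] P ≃ₐ[S] C)

/-- Equality of algebra maps out of a base change. -/
theorem ext_bc {X : Type u} [CommRing X] [Algebra S X] {f g : C →ₐ[S] X}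
    (h : ∀ c, f (e ((1 : S) ⊗ₜ[A] c)) = g (e ((1 : S) ⊗ₜ[A] c))) : f = g := by
  have key : f.comp (e : S ⊗[A] P →ₐ[S] C) = g.comp (e : S ⊗[A] P →ₐ[S] C) := by
    refine AlgHom.ext fun z => ?_
    induction z with
    | zero => simp
    | add a b ha hb => rw [map_add, map_add, ha, hb]
    | tmul s c =>
      rw [show s ⊗ₜ[A] c = s • ((1 : S) ⊗ₜ[A] c) by rw [TensorProduct.smul_tmul', smul_eq_mul, mul_one],
        map_smul, map_smul]
      exact congrArg _ (h c)
  refine AlgHom.ext fun x => ?_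
  obtain ⟨z, rfl⟩ := e.surjective x
  exact AlgHom.congr_fun key z

/-- The left hand side of coassociativity. -/
def coL (D : P →ₐ[A] P ⊗[A] P) : P →ₐ[A] P ⊗[A] (P ⊗[A] P) :=
  (Algebra.TensorProduct.assoc A A A P P P).toAlgHom.comp ((Algebra.TensorProduct.map D (AlgHom.id A P)).comp D)

/-- The right hand side of coassociativity. -/
def coR (D : P →ₐ[A] P ⊗[A] P) : P →ₐ[A] P ⊗[A] (P ⊗[A] P) :=
  (Algebra.TensorProduct.map (AlgHom.id A P) D).comp D

theorem coassoc_iff (D : P →ₐ[A] P ⊗[A] P) (ΔC : C →ₐ[S] C ⊗[S] C)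
    (hΔ : ∀ c, ΔC (e ((1 : S) ⊗ₜ[A] c)) = eT e e ((1 : S) ⊗ₜ[A] D c)) :
    (Algebra.TensorProduct.assoc S S S C C C).toAlgHom.comp
        ((Algebra.TensorProduct.map ΔC (AlgHom.id S C)).comp ΔC) =
      (Algebra.TensorProduct.map (AlgHom.id S C) ΔC).comp ΔC ↔
    ∀ c, (1 : S) ⊗ₜ[A] coL D c = (1 : S) ⊗ₜ[A] coR D c := by
  let e₂ := eT e e
  let e₃ := eT e e₂
  have hR : ∀ z, Algebra.TensorProduct.map (AlgHom.id S C) ΔC (e₂ ((1 : S) ⊗ₜ z)) =
      e₃ ((1 : S) ⊗ₜ Algebra.TensorProduct.map (AlgHom.id A P) D z) := by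
    intro z
    induction z with
    | zero => simp
    | add a b ha hb => simp only [tmul_add, map_add, ha, hb]
    | tmul x y =>
      simp only [e₂, e₃, eT_tmul, Algebra.TensorProduct.map_tmul, AlgHom.id_apply, hΔ]
  have hA : ∀ (w : P ⊗[A] P) (y : P), Algebra.TensorProduct.assoc S S S C C C (e₂ ((1 : S) ⊗ₜ w) ⊗ₜ[S] e ((1 : S) ⊗ₜ y)) =
      e₃ ((1 : S) ⊗ₜ Algebra.TensorProduct.assoc A A A P P P (w ⊗ₜ y)) := by
    intro w y
    induction w with
    | zero => simp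
    | add a b ha hb => simp only [tmul_add, add_tmul, map_add, ha, hb]
    | tmul a b => simp only [e₂, e₃, eT_tmul, Algebra.TensorProduct.assoc_tmul]
  have hL : ∀ z, Algebra.TensorProduct.assoc S S S C C C (Algebra.TensorProduct.map ΔC (AlgHom.id S C) (e₂ ((1 : S) ⊗ₜ z))) =
      e₃ ((1 : S) ⊗ₜ Algebra.TensorProduct.assoc A A A P P P (Algebra.TensorProduct.map D (AlgHom.id A P) z)) := by
    intro z
    induction z with
    | zero => simp
    | add a b ha hb => simp only [tmul_add, map_add, ha, hb]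
    | tmul x y =>
      rw [Algebra.TensorProduct.map_tmul, AlgHom.id_apply, ← hA]
      simp only [e₂, eT_tmul, Algebra.TensorProduct.map_tmul, AlgHom.id_apply, hΔ]
  constructor
  · intro h c
    apply e₃.injective
    have h1 := AlgHom.congr_fun h (e ((1 : S) ⊗ₜ c))
    simp only [AlgHom.comp_apply, AlgEquiv.coe_toAlgHom, hΔ] at h1
    rw [show coL D c = Algebra.TensorProduct.assoc A A A P P P (Algebra.TensorProduct.map D (AlgHom.id A P) (D c)) from rfl,
      show coR D c = Algebra.TensorProduct.map (AlgHom.id A P) D (D c) from rfl, ← hL, ← hR]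
    exact h1
  · intro h
    refine ext_bc e fun c => ?_
    simp only [AlgHom.comp_apply, AlgEquiv.coe_toAlgHom, hΔ]
    rw [show (Algebra.TensorProduct.assoc S S S C C C) ((Algebra.TensorProduct.map ΔC (AlgHom.id S C))
      ((eT e e) ((1 : S) ⊗ₜ[A] D c))) = _ from hL (D c), show (Algebra.TensorProduct.map (AlgHom.id S C) ΔC)
      ((eT e e) ((1 : S) ⊗ₜ[A] D c)) = _ from hR (D c)]
    exact congrArg e₃ (h c)

/-- Left counit. -/
def cuL (D : P →ₐ[A] P ⊗[A] P) (E : P →ₐ[A] A) : P →ₐ[A] P :=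
  (Algebra.TensorProduct.lid A P).toAlgHom.comp ((Algebra.TensorProduct.map E (AlgHom.id A P)).comp D)

/-- Right counit. -/
def cuR (D : P →ₐ[A] P ⊗[A] P) (E : P →ₐ[A] A) : P →ₐ[A] P :=
  (Algebra.TensorProduct.rid A A P).toAlgHom.comp ((Algebra.TensorProduct.map (AlgHom.id A P) E).comp D)

theorem counitL_iff (D : P →ₐ[A] P ⊗[A] P) (E : P →ₐ[A] A) (ΔC : C →ₐ[S] C ⊗[S] C) (εC : C →ₐ[S] S)
    (hΔ : ∀ c, ΔC (e ((1 : S) ⊗ₜ[A] c)) = eT e e ((1 : S) ⊗ₜ[A] D c))
    (hε : ∀ c, εC (e ((1 : S) ⊗ₜ[A] c)) = algebraMap A S (E c)) :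
    (Algebra.TensorProduct.map εC (AlgHom.id S C)).comp ΔC = (Algebra.TensorProduct.lid S C).symm ↔
    ∀ c, (1 : S) ⊗ₜ[A] cuL D E c = (1 : S) ⊗ₜ[A] c := by
  have hz : ∀ z, Algebra.TensorProduct.lid S C (Algebra.TensorProduct.map εC (AlgHom.id S C) (eT e e ((1 : S) ⊗ₜ z))) =
      e ((1 : S) ⊗ₜ Algebra.TensorProduct.lid A P (Algebra.TensorProduct.map E (AlgHom.id A P) z)) := by
    intro z
    induction z with
    | zero => simp
    | add a b ha hb => simp only [tmul_add, map_add, ha, hb]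
    | tmul x y =>
      simp only [eT_tmul, Algebra.TensorProduct.map_tmul, AlgHom.id_apply, hε, Algebra.TensorProduct.lid_tmul,
        tmul_smul, ← map_smul, algebraMap_smul]
  constructor
  · intro h c
    apply e.injective
    have h1 := AlgHom.congr_fun h (e ((1 : S) ⊗ₜ c))
    simp only [AlgHom.comp_apply, AlgEquiv.coe_toAlgHom, hΔ] at h1
    rw [show cuL D E c = Algebra.TensorProduct.lid A P (Algebra.TensorProduct.map E (AlgHom.id A P) (D c)) from rfl,
      ← hz, h1, AlgEquiv.apply_symm_apply]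
  · intro h
    refine ext_bc e fun c => (Algebra.TensorProduct.lid S C).injective ?_
    simp only [AlgHom.comp_apply, AlgEquiv.coe_toAlgHom, hΔ, AlgEquiv.apply_symm_apply]
    rw [hz]
    exact congrArg e (h c)

theorem counitR_iff (D : P →ₐ[A] P ⊗[A] P) (E : P →ₐ[A] A) (ΔC : C →ₐ[S] C ⊗[S] C) (εC : C →ₐ[S] S)
    (hΔ : ∀ c, ΔC (e ((1 : S) ⊗ₜ[A] c)) = eT e e ((1 : S) ⊗ₜ[A] D c))
    (hε : ∀ c, εC (e ((1 : S) ⊗ₜ[A] c)) = algebraMap A S (E c)) :
    (Algebra.TensorProduct.map (AlgHom.id S C) εC).comp ΔC = (Algebra.TensorProduct.rid S S C).symm ↔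
    ∀ c, (1 : S) ⊗ₜ[A] cuR D E c = (1 : S) ⊗ₜ[A] c := by
  have hz : ∀ z, Algebra.TensorProduct.rid S S C (Algebra.TensorProduct.map (AlgHom.id S C) εC (eT e e ((1 : S) ⊗ₜ z))) =
      e ((1 : S) ⊗ₜ Algebra.TensorProduct.rid A A P (Algebra.TensorProduct.map (AlgHom.id A P) E z)) := by
    intro z
    induction z with
    | zero => simp
    | add a b ha hb => simp only [tmul_add, map_add, ha, hb]
    | tmul x y =>
      simp only [eT_tmul, Algebra.TensorProduct.map_tmul, AlgHom.id_apply, hε, Algebra.TensorProduct.rid_tmul,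
        tmul_smul, ← map_smul, algebraMap_smul]
  constructor
  · intro h c
    apply e.injective
    have h1 := AlgHom.congr_fun h (e ((1 : S) ⊗ₜ c))
    simp only [AlgHom.comp_apply, AlgEquiv.coe_toAlgHom, hΔ] at h1
    rw [show cuR D E c = Algebra.TensorProduct.rid A A P (Algebra.TensorProduct.map (AlgHom.id A P) E (D c)) from rfl,
      ← hz, h1, AlgEquiv.apply_symm_apply]
  · intro h
    refine ext_bc e fun c => (Algebra.TensorProduct.rid S S C).injective ?_
    simp only [AlgHom.comp_apply, AlgEquiv.coe_toAlgHom, hΔ, AlgEquiv.apply_symm_apply]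
    rw [hz]
    exact congrArg e (h c)

/-- Multiplication of a pair of endomorphisms after comultiplication. -/
def anti (D : P →ₐ[A] P ⊗[A] P) (f g : P →ₐ[A] P) : P →ₐ[A] P :=
  (Algebra.TensorProduct.lift f g fun _ _ => Commute.all _ _).comp D

theorem antipode_iff (D : P →ₐ[A] P ⊗[A] P) (E : P →ₐ[A] A) (f g : P →ₐ[A] P) (ΔC : C →ₐ[S] C ⊗[S] C)
    (εC : C →ₐ[S] S) (fC gC : C →ₐ[S] C)
    (hΔ : ∀ c, ΔC (e ((1 : S) ⊗ₜ[A] c)) = eT e e ((1 : S) ⊗ₜ[A] D c))
    (hε : ∀ c, εC (e ((1 : S) ⊗ₜ[A] c)) = algebraMap A S (E c))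
    (hf : ∀ c, fC (e ((1 : S) ⊗ₜ[A] c)) = e ((1 : S) ⊗ₜ[A] f c))
    (hg : ∀ c, gC (e ((1 : S) ⊗ₜ[A] c)) = e ((1 : S) ⊗ₜ[A] g c)) :
    (Algebra.TensorProduct.lift fC gC fun _ _ => Commute.all _ _).comp ΔC = (Algebra.ofId S C).comp εC ↔
    ∀ c, (1 : S) ⊗ₜ[A] anti D f g c = (1 : S) ⊗ₜ[A] algebraMap A P (E c) := by
  have hz : ∀ z, Algebra.TensorProduct.lift fC gC (fun _ _ => Commute.all _ _) (eT e e ((1 : S) ⊗ₜ z)) =
      e ((1 : S) ⊗ₜ Algebra.TensorProduct.lift f g (fun _ _ => Commute.all _ _) z) := by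
    intro z
    induction z with
    | zero => simp
    | add a b ha hb => simp only [tmul_add, map_add, ha, hb]
    | tmul x y =>
      simp only [eT_tmul, Algebra.TensorProduct.lift_tmul, hf, hg]
      rw [← map_mul, Algebra.TensorProduct.tmul_mul_tmul, one_mul]
  have hr : ∀ c, algebraMap S C (algebraMap A S (E c)) = e ((1 : S) ⊗ₜ[A] algebraMap A P (E c)) := by
    intro c
    rw [Algebra.algebraMap_eq_smul_one (R := A) (A := P), tmul_smul, smul_tmul', ← e.commutes,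
      Algebra.TensorProduct.algebraMap_apply, Algebra.algebraMap_self, RingHom.id_apply,
      Algebra.algebraMap_eq_smul_one]
  constructor
  · intro h c
    apply e.injective
    have h1 := AlgHom.congr_fun h (e ((1 : S) ⊗ₜ c))
    simp only [AlgHom.comp_apply, hΔ, hε] at h1
    rw [← hr, show anti D f g c = Algebra.TensorProduct.lift f g (fun _ _ => Commute.all _ _) (D c) from rfl, ← hz]
    exact h1
  · intro h
    refine ext_bc e fun c => ?_
    simp only [AlgHom.comp_apply, hΔ, hε]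
    rw [hz]
    exact (congrArg e (h c)).trans (hr c).symm

theorem cocomm_iff (D : P →ₐ[A] P ⊗[A] P) (ΔC : C →ₐ[S] C ⊗[S] C)
    (hΔ : ∀ c, ΔC (e ((1 : S) ⊗ₜ[A] c)) = eT e e ((1 : S) ⊗ₜ[A] D c)) :
    (Algebra.TensorProduct.comm S C C).toAlgHom.comp ΔC = ΔC ↔
    ∀ c, (1 : S) ⊗ₜ[A] ((Algebra.TensorProduct.comm A P P).toAlgHom.comp D) c = (1 : S) ⊗ₜ[A] D c := by
  have hz : ∀ z, Algebra.TensorProduct.comm S C C (eT e e ((1 : S) ⊗ₜ z)) =
      eT e e ((1 : S) ⊗ₜ Algebra.TensorProduct.comm A P P z) := by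
    intro z
    induction z with
    | zero => simp
    | add a b ha hb => simp only [tmul_add, map_add, ha, hb]
    | tmul x y => simp only [eT_tmul, Algebra.TensorProduct.comm_tmul]
  constructor
  · intro h c
    apply (eT e e).injective
    have h1 := AlgHom.congr_fun h (e ((1 : S) ⊗ₜ c))
    simp only [AlgHom.comp_apply, AlgEquiv.coe_toAlgHom, hΔ] at h1
    simp only [AlgHom.comp_apply, AlgEquiv.coe_toAlgHom]
    rw [← hz]
    exact h1
  · intro h
    refine ext_bc e fun c => ?_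
    simp only [AlgHom.comp_apply, AlgEquiv.coe_toAlgHom, hΔ]
    rw [hz]
    exact congrArg (eT e e) (h c)

/-- The axioms of a Hopf algebra, after base change to `S`. -/
structure Axioms (S : Type u) [CommRing S] [Algebra A S] (D : P →ₐ[A] P ⊗[A] P) (E : P →ₐ[A] A)
    (Sa : P →ₐ[A] P) : Prop where
  coassoc : ∀ c, (1 : S) ⊗ₜ[A] coL D c = (1 : S) ⊗ₜ[A] coR D c
  counitL : ∀ c, (1 : S) ⊗ₜ[A] cuL D E c = (1 : S) ⊗ₜ[A] c
  counitR : ∀ c, (1 : S) ⊗ₜ[A] cuR D E c = (1 : S) ⊗ₜ[A] c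
  antiR : ∀ c, (1 : S) ⊗ₜ[A] anti D Sa (AlgHom.id A P) c = (1 : S) ⊗ₜ[A] algebraMap A P (E c)
  antiL : ∀ c, (1 : S) ⊗ₜ[A] anti D (AlgHom.id A P) Sa c = (1 : S) ⊗ₜ[A] algebraMap A P (E c)

end Model

end Groth.Agent.SGA3b53
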