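import Groth.Agent.SGA3b53.DiagLift
import Groth.Agent.SGA3b53.GLLift
import Groth.Agent.SGA3b53.Model
import Mathlib

/-!
Descent data of diagonalisable groups: basic properties.
-/

set_option autoImplicit false
set_option linter.unusedSectionVars false
set_option linter.style.haveILetI false
universe u v w
open TensorProduct

noncomputable section

namespace Groth.Agent.SGA3b53

namespace DDiag

variable {R : Type u} [CommRing R]

theorem isGroupLike_mapRingHom {W U : Type u} [CommRing W] [CommRing U] (h : W →+* U) {M : Type u} [CommGroup M]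
    {z : MonoidAlgebra W M} (hz : IsGroupLikeElem W z) : IsGroupLikeElem U (MonoidAlgebra.mapRingHom M h z) := by
  letI : Algebra W U := h.toAlgebra
  have : MonoidAlgebra.mapRingHom M h z = monoidAlgebraBC W U M ((1 : U) ⊗ₜ[W] z) := by
    refine MonoidAlgebra.ext (Finsupp.ext fun m => ?_)
    rw [monoidAlgebraBC_one_tmul]
    simp [RingHom.algebraMap_toAlgebra]
  rw [this]
  exact (isGroupLike_one_tmul hz).map _

/-- The maps between the group algebras induced by a change of rings. -/
abbrev mapA {X Y : Type u} [CommRing X] [Algebra R X] [CommRing Y] [Algebra R Y] (M : Type u) [CommGroup M]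
    (f : X →ₐ[R] Y) : MonoidAlgebra X M →ₐ[R] MonoidAlgebra Y M :=
  MonoidAlgebra.mapAlgHom M f

theorem mapA_eq_mapRingHom {X Y : Type u} [CommRing X] [Algebra R X] [CommRing Y] [Algebra R Y] {M : Type u} [CommGroup M]
    (f : X →ₐ[R] Y) (z : MonoidAlgebra X M) : mapA M f z = MonoidAlgebra.mapRingHom M (f : X →+* Y) z := by
  induction z using MonoidAlgebra.induction_linear with
  | zero => simp
  | single m r => simp [MonoidAlgebra.mapAlgHom_single]
  | add a b ha hb => rw [map_add, map_add, ha, hb]

theorem mapA_smul {X Y : Type u} [CommRing X] [Algebra R X] [CommRing Y] [Algebra R Y] {M : Type u} [CommGroup M]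
    (f : X →ₐ[R] Y) (x : X) (z : MonoidAlgebra X M) : mapA M f (x • z) = f x • mapA M f z := by
  induction z using MonoidAlgebra.induction_linear with
  | zero => simp
  | single m r => simp [MonoidAlgebra.mapAlgHom_single]
  | add a b ha hb => simp only [smul_add, map_add, ha, hb]

theorem mapA_comp {X Y Z : Type u} [CommRing X] [Algebra R X] [CommRing Y] [Algebra R Y] [CommRing Z] [Algebra R Z]
    {M : Type u} [CommGroup M] (g : Y →ₐ[R] Z) (f : X →ₐ[R] Y) (z : MonoidAlgebra X M) :
    mapA M g (mapA M f z) = mapA M (g.comp f) z := by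
  induction z using MonoidAlgebra.induction_linear with
  | zero => simp
  | single m r => simp [MonoidAlgebra.mapAlgHom_single]
  | add a b ha hb => rw [map_add, map_add, map_add, ha, hb]

theorem mapA_id {X : Type u} [CommRing X] [Algebra R X] {M : Type u} [CommGroup M] (z : MonoidAlgebra X M) :
    mapA M (AlgHom.id R X) z = z := by
  induction z using MonoidAlgebra.induction_linear with
  | zero => simp
  | single m r => simp
  | add a b ha hb => rw [map_add, ha, hb]

/-- The candidate for the homomorphism between the base changes to `U`. -/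
def gam {ι : Type u} {T : ι → Type u} [∀ i, CommRing (T i)] [∀ i, Algebra R (T i)] {M : ι → Type u}
    [∀ i, CommGroup (M i)] (γ : ∀ i j, M i →* MonoidAlgebra (T i ⊗[R] T j) (M j)) {i j : ι} {U : Type u} [CommRing U]
    [Algebra R U] (f : T i →ₐ[R] U) (g : T j →ₐ[R] U) : M i →* MonoidAlgebra U (M j) :=
  (mapA (M j) (Algebra.TensorProduct.productMap f g) : _ →* MonoidAlgebra U (M j)).comp (γ i j)

/-- A descent datum of diagonalisable groups on a family of algebras. -/
structure Datum (R : Type u) [CommRing R] {ι : Type u} (T : ι → Type u) [∀ i, CommRing (T i)] [∀ i, Algebra R (T i)]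
    (M : ι → Type u) [∀ i, CommGroup (M i)] where
  γ : ∀ i j, M i →* MonoidAlgebra (T i ⊗[R] T j) (M j)
  isGroupLike : ∀ i j m, IsGroupLikeElem (T i ⊗[R] T j) (γ i j m)
  self : ∀ i m, gam γ (AlgHom.id R (T i)) (AlgHom.id R (T i)) m = MonoidAlgebra.single m 1
  cocycle : ∀ (i j l : ι) (U : Type u) [CommRing U] [Algebra R U] (f : T i →ₐ[R] U) (g : T j →ₐ[R] U) (h : T l →ₐ[R] U)
    (m : M i), MonoidAlgebra.lift U (MonoidAlgebra U (M l)) (M j) (gam γ g h) (gam γ f g m) = gam γ f h m

variable {ι : Type u} {T : ι → Type u} [∀ i, CommRing (T i)] [∀ i, Algebra R (T i)] {M : ι → Type u}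
  [∀ i, CommGroup (M i)] (γ : ∀ i j, M i →* MonoidAlgebra (T i ⊗[R] T j) (M j))

/-- The homomorphism between the base changes to `U`. -/
def theta {i j : ι} {U : Type u} [CommRing U] [Algebra R U] (f : T i →ₐ[R] U) (g : T j →ₐ[R] U) :
    MonoidAlgebra U (M i) →ₐ[U] MonoidAlgebra U (M j) :=
  MonoidAlgebra.lift U (MonoidAlgebra U (M j)) (M i) (gam γ f g)

theorem theta_single {i j : ι} {U : Type u} [CommRing U] [Algebra R U] (f : T i →ₐ[R] U) (g : T j →ₐ[R] U) (m : M i)
    (r : U) : theta γ f g (MonoidAlgebra.single m r) = r • gam γ f g m :=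
  MonoidAlgebra.lift_single _ _ _

theorem gam_natural {i j : ι} {U V : Type u} [CommRing U] [Algebra R U] [CommRing V] [Algebra R V] (h : U →ₐ[R] V)
    (f : T i →ₐ[R] U) (g : T j →ₐ[R] U) (m : M i) :
    mapA (M j) h (gam γ f g m) = gam γ (h.comp f) (h.comp g) m := by
  simp only [gam, MonoidHom.comp_apply]
  change mapA (M j) h (mapA (M j) (Algebra.TensorProduct.productMap f g) (γ i j m)) = _
  rw [mapA_comp]
  exact DFunLike.congr_fun (congrArg (mapA (R := R) (M j))
    (Algebra.TensorProduct.ext' fun a b => by simp : h.comp (Algebra.TensorProduct.productMap f g) =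
      Algebra.TensorProduct.productMap (h.comp f) (h.comp g))) (γ i j m)

theorem theta_natural {i j : ι} {U V : Type u} [CommRing U] [Algebra R U] [CommRing V] [Algebra R V] (h : U →ₐ[R] V)
    (f : T i →ₐ[R] U) (g : T j →ₐ[R] U) (z : MonoidAlgebra U (M i)) :
    mapA (M j) h (theta γ f g z) = theta γ (h.comp f) (h.comp g) (mapA (M i) h z) := by
  induction z using MonoidAlgebra.induction_linear with
  | zero => simp
  | single m r => rw [theta_single, mapA_smul, gam_natural, MonoidAlgebra.mapAlgHom_single, theta_single]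
  | add a b ha hb => simp only [map_add, ha, hb]

variable {γ}

theorem exists_theta_bialg (hγ : ∀ i j m, IsGroupLikeElem (T i ⊗[R] T j) (γ i j m)) {i j : ι} {U : Type u} [CommRing U]
    [Algebra R U] (f : T i →ₐ[R] U) (g : T j →ₐ[R] U) :
    ∃ θ : MonoidAlgebra U (M i) →ₐc[U] MonoidAlgebra U (M j), ∀ z, θ z = theta γ f g z := by
  obtain ⟨θ, hθ⟩ := exists_bialgHom_of_grouplike (gam γ f g) fun m => by
    simp only [gam, MonoidHom.comp_apply]
    change IsGroupLikeElem U (mapA (M j) _ (γ i j m))
    rw [mapA_eq_mapRingHom]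
    exact isGroupLike_mapRingHom _ (hγ i j m)
  refine ⟨θ, fun z => ?_⟩
  induction z using MonoidAlgebra.induction_linear with
  | zero => simp
  | single m r => rw [hθ, theta_single]
  | add a b ha hb => simp only [map_add, ha, hb]

variable (D : Datum R T M)

theorem theta_self (i : ι) {U : Type u} [CommRing U] [Algebra R U] (f : T i →ₐ[R] U) (z : MonoidAlgebra U (M i)) :
    theta D.γ f f z = z := by
  induction z using MonoidAlgebra.induction_linear with
  | zero => simp
  | single m r =>
    rw [theta_single]
    have h := congrArg (mapA (M i) f) (D.self i m)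
    rw [gam_natural, AlgHom.comp_id, MonoidAlgebra.mapAlgHom_single, map_one] at h
    rw [h, MonoidAlgebra.smul_single', mul_one]
  | add a b ha hb => simp only [map_add, ha, hb]

theorem theta_comp {i j l : ι} {U : Type u} [CommRing U] [Algebra R U] (f : T i →ₐ[R] U) (g : T j →ₐ[R] U)
    (h : T l →ₐ[R] U) (z : MonoidAlgebra U (M i)) : theta D.γ g h (theta D.γ f g z) = theta D.γ f h z := by
  induction z using MonoidAlgebra.induction_linear with
  | zero => simp
  | single m r =>
    rw [theta_single, theta_single, map_smul]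
    exact congrArg _ (D.cocycle i j l U f g h m)
  | add a b ha hb => simp only [map_add, ha, hb]

end DDiag

end Groth.Agent.SGA3b53
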