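import Groth.Agent.SGA3b53.DiagDatum
import Groth.Agent.SGA3b53.Cover
import Mathlib

/-!
Effective descent of the algebras of a descent datum of diagonalisable groups.
-/

set_option autoImplicit false
set_option linter.unusedSectionVars false
set_option linter.style.haveILetI false
universe u v w
open TensorProduct

noncomputable section

namespace Groth.Agent.SGA3b53

namespace DDiag

variable {R : Type u} [CommRing R] {ι : Type u} {T : ι → Type u} [∀ i, CommRing (T i)] [∀ i, Algebra R (T i)]
  {M : ι → Type u} [∀ i, CommGroup (M i)] (D : Datum R T M)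

/-- The condition defining the descended algebra. -/
def gluL (i j : ι) : (∀ l, MonoidAlgebra (T l) (M l)) →ₐ[R] MonoidAlgebra (T i ⊗[R] T j) (M j) :=
  ((theta D.γ (Algebra.TensorProduct.includeLeft : T i →ₐ[R] T i ⊗[R] T j)
    (Algebra.TensorProduct.includeRight : T j →ₐ[R] T i ⊗[R] T j)).restrictScalars R).comp
    ((mapA (M i) (Algebra.TensorProduct.includeLeft : T i →ₐ[R] T i ⊗[R] T j)).comp
      (Pi.evalAlgHom R (fun l => MonoidAlgebra (T l) (M l)) i))

/-- The other condition defining the descended algebra. -/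
def gluR (i j : ι) : (∀ l, MonoidAlgebra (T l) (M l)) →ₐ[R] MonoidAlgebra (T i ⊗[R] T j) (M j) :=
  (mapA (M j) (Algebra.TensorProduct.includeRight : T j →ₐ[R] T i ⊗[R] T j)).comp
      (Pi.evalAlgHom R (fun l => MonoidAlgebra (T l) (M l)) j)

/-- The descended algebra. -/
def descAlg : Subalgebra R (∀ l, MonoidAlgebra (T l) (M l)) :=
  ⨅ p : ι × ι, AlgHom.equalizer (gluL D p.1 p.2) (gluR p.1 p.2)

theorem mem_descAlg {a : ∀ l, MonoidAlgebra (T l) (M l)} :
    a ∈ descAlg D ↔ ∀ i j, theta D.γ (Algebra.TensorProduct.includeLeft : T i →ₐ[R] T i ⊗[R] T j)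
      (Algebra.TensorProduct.includeRight : T j →ₐ[R] T i ⊗[R] T j)
      (mapA (M i) (Algebra.TensorProduct.includeLeft : T i →ₐ[R] T i ⊗[R] T j) (a i)) =
        mapA (M j) (Algebra.TensorProduct.includeRight : T j →ₐ[R] T i ⊗[R] T j) (a j) := by
  rw [descAlg, Algebra.mem_iInf]
  exact ⟨fun h i j => h (i, j), fun h p => h p.1 p.2⟩

theorem descAlg_glue (a : descAlg D) {i j : ι} {U : Type u} [CommRing U] [Algebra R U] (f : T i →ₐ[R] U) (g : T j →ₐ[R] U) :
    theta D.γ f g (mapA (M i) f ((a : ∀ l, MonoidAlgebra (T l) (M l)) i)) =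
      mapA (M j) g ((a : ∀ l, MonoidAlgebra (T l) (M l)) j) := by
  have h1 := congrArg (mapA (M j) (Algebra.TensorProduct.productMap f g)) ((mem_descAlg D).1 a.2 i j)
  rw [theta_natural, mapA_comp, mapA_comp, Algebra.TensorProduct.productMap_left, Algebra.TensorProduct.productMap_right] at h1
  exact h1

/-- The projection to a member of the family. -/
def evalA (k : ι) : descAlg D →ₐ[R] MonoidAlgebra (T k) (M k) :=
  (Pi.evalAlgHom R (fun l => MonoidAlgebra (T l) (M l)) k).comp (descAlg D).val

/-- The comparison map. -/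
def compA (k : ι) : T k ⊗[R] descAlg D →ₐ[T k] MonoidAlgebra (T k) (M k) :=
  Algebra.TensorProduct.lift (Algebra.ofId (T k) _) (evalA D k) fun _ _ => Commute.all _ _

theorem compA_tmul (k : ι) (t : T k) (a : descAlg D) : compA D k (t ⊗ₜ[R] a) = t • evalA D k a := by
  simp [compA, Algebra.smul_def]

/-- The identification of a base change of a group algebra. -/
abbrev cEquiv (X Y : Type u) [CommRing X] [Algebra R X] [CommRing Y] [Algebra R Y] (N : Type u) [CommGroup N] :
    X ⊗[R] MonoidAlgebra Y N ≃ₐ[X] MonoidAlgebra (X ⊗[R] Y) N :=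
  MonoidAlgebra.rTensorEquivAlgEquiv R X X Y

theorem cEquiv_tmul {X Y : Type u} [CommRing X] [Algebra R X] [CommRing Y] [Algebra R Y] {N : Type u} [CommGroup N]
    (x : X) (p : MonoidAlgebra Y N) :
    cEquiv (R := R) X Y N (x ⊗ₜ[R] p) = x • mapA N (Algebra.TensorProduct.includeRight : Y →ₐ[R] X ⊗[R] Y) p :=
  MonoidAlgebra.rTensorEquiv_tmulAlgEquiv x p

theorem tower_smul {X Y : Type u} [CommRing X] [Algebra R X] [CommRing Y] [Algebra R Y] {N : Type u} [CommGroup N]
    (x : X) (p : MonoidAlgebra (X ⊗[R] Y) N) : x • p = (x ⊗ₜ[R] (1 : Y)) • p :=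
  (algebraMap_smul (X ⊗[R] Y) x p).symm

/-- Component of a tensor with a product. -/
def compT (k i : ι) : T k ⊗[R] (∀ l, MonoidAlgebra (T l) (M l)) →ₗ[R] T k ⊗[R] MonoidAlgebra (T i) (M i) :=
  (LinearMap.proj i).lTensor (T k)

theorem comp_incl (k i : ι) (x : T k ⊗[R] descAlg D) :
    cEquiv (R := R) (T k) (T i) (M i) (compT k i ((descAlg D).val.toLinearMap.lTensor (T k) x)) =
      theta D.γ (Algebra.TensorProduct.includeLeft : T k →ₐ[R] T k ⊗[R] T i) Algebra.TensorProduct.includeRight
        (mapA (M k) (Algebra.TensorProduct.includeLeft : T k →ₐ[R] T k ⊗[R] T i) (compA D k x)) := by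
  induction x with
  | zero => simp
  | add a b ha hb => simp only [map_add, ha, hb]
  | tmul t a =>
    rw [LinearMap.lTensor_tmul, compT, LinearMap.lTensor_tmul, cEquiv_tmul, compA_tmul, mapA_smul, map_smul,
      show evalA D k a = (a : ∀ l, MonoidAlgebra (T l) (M l)) k from rfl, descAlg_glue, tower_smul]
    rfl

/-- The difference of the two conditions. -/
def gluD (p : ι × ι) : (∀ l, MonoidAlgebra (T l) (M l)) →ₗ[R] MonoidAlgebra (T p.1 ⊗[R] T p.2) (M p.2) :=
  (gluL D p.1 p.2).toLinearMap - (gluR p.1 p.2).toLinearMap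

variable [Finite ι]

theorem exists_preimage (hT : ∀ i, Module.Flat R (T i)) (k : ι) (b : MonoidAlgebra (T k) (M k)) :
    ∃ x : T k ⊗[R] descAlg D, compA D k x = b := by
  classical
  haveI := Fintype.ofFinite ι
  haveI := hT k
  let G : ∀ i, T k ⊗[R] MonoidAlgebra (T i) (M i) := fun i => (cEquiv (R := R) (T k) (T i) (M i)).symm
    (theta D.γ (Algebra.TensorProduct.includeLeft : T k →ₐ[R] T k ⊗[R] T i) Algebra.TensorProduct.includeRight
      (mapA (M k) (Algebra.TensorProduct.includeLeft : T k →ₐ[R] T k ⊗[R] T i) b))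
  let z : T k ⊗[R] (∀ l, MonoidAlgebra (T l) (M l)) :=
    (TensorProduct.piRight R R (T k) fun l => MonoidAlgebra (T l) (M l)).symm G
  have hcomp : ∀ i (w : T k ⊗[R] (∀ l, MonoidAlgebra (T l) (M l))), compT k i w =
      TensorProduct.piRight R R (T k) (fun l => MonoidAlgebra (T l) (M l)) w i := by
    intro i w
    induction w with
    | zero => simp
    | add a b ha hb => simp only [map_add, ha, hb, Pi.add_apply]
    | tmul t a => simp [compT]
  have hz : ∀ i, compT k i z = G i := fun i => by
    rw [hcomp]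
    simp [z]
  -- the two conditions after base change
  have hglue : ∀ p : ι × ι, (gluD D p).lTensor (T k) z = 0 := by
    rintro ⟨i, j⟩
    apply (cEquiv (R := R) (T k) (T i ⊗[R] T j) (M j)).injective
    rw [map_zero]
    let L : T i →ₐ[R] T i ⊗[R] T j := Algebra.TensorProduct.includeLeft
    let Rg : T j →ₐ[R] T i ⊗[R] T j := Algebra.TensorProduct.includeRight
    let inc : T i ⊗[R] T j →ₐ[R] T k ⊗[R] (T i ⊗[R] T j) := Algebra.TensorProduct.includeRight
    let fk : T k →ₐ[R] T k ⊗[R] (T i ⊗[R] T j) := Algebra.TensorProduct.includeLeft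
    let fi := inc.comp L
    let fj := inc.comp Rg
    let ui : T k ⊗[R] T i →ₐ[R] T k ⊗[R] (T i ⊗[R] T j) := Algebra.TensorProduct.productMap fk fi
    let uj : T k ⊗[R] T j →ₐ[R] T k ⊗[R] (T i ⊗[R] T j) := Algebra.TensorProduct.productMap fk fj
    have h1 : ∀ w, cEquiv (R := R) (T k) (T i ⊗[R] T j) (M j) ((gluD D (i, j)).lTensor (T k) w) =
        theta D.γ fi fj (mapA (M i) ui (cEquiv (R := R) (T k) (T i) (M i) (compT k i w))) -
          mapA (M j) uj (cEquiv (R := R) (T k) (T j) (M j) (compT k j w)) := by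
      intro w
      induction w with
      | zero => simp
      | add a b ha hb => simp only [map_add, ha, hb]; abel
      | tmul t a =>
        rw [compT, compT, LinearMap.lTensor_tmul, LinearMap.lTensor_tmul, LinearMap.lTensor_tmul, cEquiv_tmul,
          cEquiv_tmul, cEquiv_tmul]
        rw [show gluD D (i, j) a = theta D.γ L Rg (mapA (M i) L (a i)) - mapA (M j) Rg (a j) from rfl, map_sub,
          theta_natural, mapA_comp, mapA_comp, tower_smul t (mapA (M i) _ _), tower_smul t (mapA (M j) _ _), mapA_smul,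
          mapA_smul, map_smul, mapA_comp, mapA_comp, smul_sub, tower_smul, tower_smul]
        rw [Algebra.TensorProduct.productMap_right, Algebra.TensorProduct.productMap_right]
        simp only [ui, uj, fk, Algebra.TensorProduct.productMap_apply_tmul, map_one, mul_one,
          Algebra.TensorProduct.includeLeft_apply]
        rfl
    have h2 : ∀ l, cEquiv (R := R) (T k) (T l) (M l) (compT k l z) =
        theta D.γ (Algebra.TensorProduct.includeLeft : T k →ₐ[R] T k ⊗[R] T l) Algebra.TensorProduct.includeRight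
          (mapA (M k) (Algebra.TensorProduct.includeLeft : T k →ₐ[R] T k ⊗[R] T l) b) := fun l => by
      rw [hz]
      exact (cEquiv (R := R) (T k) (T l) (M l)).apply_symm_apply _
    rw [h1, h2, h2, theta_natural, theta_natural, mapA_comp, mapA_comp, sub_eq_zero]
    simp only [ui, uj, Algebra.TensorProduct.productMap_left, Algebra.TensorProduct.productMap_right]
    exact theta_comp D fk fi fj _
  let δ : (∀ l, MonoidAlgebra (T l) (M l)) →ₗ[R] (∀ p : ι × ι, MonoidAlgebra (T p.1 ⊗[R] T p.2) (M p.2)) :=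
    LinearMap.pi fun p => gluD D p
  have hexact : Function.Exact (descAlg D).val.toLinearMap δ := fun a => by
    constructor
    · intro h
      exact ⟨⟨a, (mem_descAlg D).2 fun i j => sub_eq_zero.1 (congrFun h (i, j))⟩, rfl⟩
    · rintro ⟨y, rfl⟩
      exact funext fun p => sub_eq_zero.2 ((mem_descAlg D).1 y.2 p.1 p.2)
  have h0 : δ.lTensor (T k) z = 0 := by
    apply (TensorProduct.piRight R R (T k) fun p : ι × ι => MonoidAlgebra (T p.1 ⊗[R] T p.2) (M p.2)).injective
    rw [map_zero]
    funext p
    rw [Pi.zero_apply, ← hglue p]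
    generalize z = w
    induction w with
    | zero => simp
    | add a b ha hb => simp only [map_add, Pi.add_apply, ha, hb]
    | tmul t a => simp [δ]
  obtain ⟨x, hx⟩ := ((Module.Flat.lTensor_exact (T k) hexact) z).1 h0
  refine ⟨x, ?_⟩
  have h3 := comp_incl D k k x
  rw [hx, hz] at h3
  rw [show cEquiv (R := R) (T k) (T k) (M k) (G k) = _ from (cEquiv (R := R) (T k) (T k) (M k)).apply_symm_apply _] at h3
  have h4 := congrArg (mapA (M k) (Algebra.TensorProduct.productMap (AlgHom.id R (T k)) (AlgHom.id R (T k)))) h3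
  simp only [theta_natural, mapA_comp, Algebra.TensorProduct.productMap_left, Algebra.TensorProduct.productMap_right,
    theta_self, mapA_id] at h4
  exact h4.symm

theorem compA_bijective (hT : ∀ i, Module.Flat R (T i)) (k : ι) : Function.Bijective (compA D k) := by
  classical
  haveI := Fintype.ofFinite ι
  haveI := hT k
  refine ⟨(injective_iff_map_eq_zero _).2 fun x hx => ?_, exists_preimage D hT k⟩
  apply Module.Flat.lTensor_preserves_injective_linearMap (M := T k) (descAlg D).val.toLinearMap Subtype.val_injective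
  rw [map_zero]
  apply (TensorProduct.piRight R R (T k) fun l => MonoidAlgebra (T l) (M l)).injective
  rw [map_zero]
  funext i
  rw [Pi.zero_apply]
  have h := comp_incl D k i x
  rw [hx, map_zero, map_zero] at h
  have h1 := (map_eq_zero_iff _ (cEquiv (R := R) (T k) (T i) (M i)).injective).1 h
  rw [← h1]
  generalize ((descAlg D).val.toLinearMap.lTensor (T k)) x = w
  induction w with
  | zero => simp
  | add a b ha hb => simp only [map_add, Pi.add_apply, ha, hb]
  | tmul t a => simp [compT]

/-- The descended algebra splits over the family. -/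
def eqvA (hT : ∀ i, Module.Flat R (T i)) (k : ι) : T k ⊗[R] descAlg D ≃ₐ[T k] MonoidAlgebra (T k) (M k) :=
  AlgEquiv.ofBijective (compA D k) (compA_bijective D hT k)

theorem eqvA_one_tmul (hT : ∀ i, Module.Flat R (T i)) (k : ι) (a : descAlg D) :
    eqvA D hT k ((1 : T k) ⊗ₜ[R] a) = (a : ∀ l, MonoidAlgebra (T l) (M l)) k := by
  change compA D k ((1 : T k) ⊗ₜ[R] a) = _
  rw [compA_tmul, one_smul]
  rfl

end DDiag

end Groth.Agent.SGA3b53
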