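import Groth.Agent.SGA3b53.Model
import Mathlib

/-!
Hopf algebras of finite presentation come from finitely generated subrings.
-/

set_option autoImplicit false
set_option linter.unusedSectionVars false
set_option linter.style.haveILetI false
universe u v w
open TensorProduct

noncomputable section

namespace Groth.Agent.SGA3b53

namespace Model

variable {A : Type u} [CommRing A] {R : Type u} [CommRing R] [Algebra A R]

theorem map_id_eq {S T N : Type u} [CommRing S] [CommRing T] [CommRing N] [Algebra A S] [Algebra A T] [Algebra A N]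
    (g : S →ₐ[A] T) (x : S ⊗[A] N) :
    Algebra.TensorProduct.map g (AlgHom.id A N) x = g.toLinearMap.rTensor N x := by
  induction x with
  | zero => simp
  | add a b ha hb => rw [map_add, map_add, ha, hb]
  | tmul a b => simp

theorem exists_lift_stage {N : Type u} [CommRing N] [Algebra A N] {ι : Type*} [Finite ι] (z : ι → R ⊗[A] N) :
    ∃ D : Subalgebra A R, D.FG ∧ ∀ i, z i ∈ Set.range (Algebra.TensorProduct.map D.val (AlgHom.id A N)) := by
  classical
  haveI := Fintype.ofFinite ι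
  choose D hD hz using fun i => TensorProduct.Algebra.exists_of_fg (R := A) (S := R) (z i)
  refine ⟨Finset.univ.sup D, Finset.sup_induction Subalgebra.fg_bot (fun a ha b hb => ha.sup hb) fun i _ => hD i,
    fun i => ?_⟩
  obtain ⟨w, hw⟩ := hz i
  have hle : D i ≤ Finset.univ.sup D := Finset.le_sup (Finset.mem_univ i)
  refine ⟨Algebra.TensorProduct.map (Subalgebra.inclusion hle) (AlgHom.id A N) w, ?_⟩
  rw [map_id_eq, map_id_eq, ← LinearMap.rTensor_comp_apply]
  exact hw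

/-- An algebra map out of a finitely presented algebra into a colimit factors through a stage. -/
theorem exists_algHom_stage {P : Type u} [CommRing P] [Algebra A P] [Algebra.FinitePresentation A P]
    {N : Type u} [CommRing N] [Algebra A N] (f : P →ₐ[A] R ⊗[A] N) :
    ∃ (D : Subalgebra A R), D.FG ∧ ∃ g : P →ₐ[A] D ⊗[A] N,
      ∀ c, Algebra.TensorProduct.map D.val (AlgHom.id A N) (g c) = f c := by
  classical
  obtain ⟨n, π, hπ, ⟨w, hw⟩⟩ := ‹Algebra.FinitePresentation A P›.out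
  obtain ⟨D, hD, hx⟩ := exists_lift_stage fun i => f (π (MvPolynomial.X i))
  choose x hx using hx
  let θ := MvPolynomial.aeval (R := A) x
  have hθ : ∀ q, Algebra.TensorProduct.map D.val (AlgHom.id A N) (θ q) = f (π q) := fun q =>
    AlgHom.congr_fun (show (Algebra.TensorProduct.map D.val (AlgHom.id A N)).comp θ = f.comp π from
      MvPolynomial.algHom_ext fun i => by simp [θ, hx]) q
  have hz : ∀ q : w, ∃ (D' : Subalgebra A R) (h : D ≤ D'), D'.FG ∧
      Algebra.TensorProduct.map (Subalgebra.inclusion h) (AlgHom.id A N) (θ q.1) = 0 := by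
    intro q
    have h0 : π q.1 = 0 := by
      have h1 : q.1 ∈ RingHom.ker (π : MvPolynomial (Fin n) A →+* P) := hw ▸ Submodule.subset_span q.2
      exact h1
    obtain ⟨D', hle, hD', h⟩ := TensorProduct.Algebra.eq_of_fg_of_subtype_eq hD (t := θ q.1) (t' := 0)
      (by rw [← map_id_eq, map_zero, hθ, h0, map_zero])
    exact ⟨D', hle, hD', by rw [map_id_eq, h, map_zero]⟩
  choose D' hle hD' hz using hz
  let E : Subalgebra A R := D ⊔ (Finset.univ : Finset w).sup D'
  have hDE : D ≤ E := le_sup_left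
  refine ⟨E, hD.sup (Finset.sup_induction Subalgebra.fg_bot (fun a ha b hb => ha.sup hb) fun i _ => hD' i), ?_⟩
  let θ' : MvPolynomial (Fin n) A →ₐ[A] E ⊗[A] N :=
    (Algebra.TensorProduct.map (Subalgebra.inclusion hDE) (AlgHom.id A N)).comp θ
  have hker : ∀ q, π q = 0 → θ' q = 0 := by
    intro q hq
    have h1 : q ∈ Ideal.span (w : Set (MvPolynomial (Fin n) A)) := hw.symm ▸ hq
    refine (Ideal.span_le.2 ?_ h1 : q ∈ RingHom.ker θ')
    intro q hqw
    have hle' : D' ⟨q, hqw⟩ ≤ E := le_sup_of_le_right (Finset.le_sup (Finset.mem_univ _))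
    rw [SetLike.mem_coe, RingHom.mem_ker]
    change Algebra.TensorProduct.map (Subalgebra.inclusion hDE) (AlgHom.id A N) (θ q) = 0
    rw [show Subalgebra.inclusion hDE = (Subalgebra.inclusion hle').comp (Subalgebra.inclusion (hle ⟨q, hqw⟩)) from rfl,
      map_id_eq, AlgHom.comp_toLinearMap, LinearMap.rTensor_comp_apply, ← map_id_eq (Subalgebra.inclusion (hle ⟨q, hqw⟩)),
      hz ⟨q, hqw⟩, map_zero]
  refine ⟨AlgHom.liftOfSurjective π hπ θ' fun a ha => hker a ha, fun c => ?_⟩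
  obtain ⟨q, rfl⟩ := hπ c
  rw [AlgHom.liftOfSurjective_apply, ← hθ]
  change Algebra.TensorProduct.map E.val (AlgHom.id A N)
    (Algebra.TensorProduct.map (Subalgebra.inclusion hDE) (AlgHom.id A N) (θ q)) = _
  rw [map_id_eq, map_id_eq, map_id_eq, ← LinearMap.rTensor_comp_apply]
  rfl

/-- An equation between algebra maps out of a finitely generated algebra holds at a stage. -/
theorem exists_eq_stage {P : Type u} [CommRing P] [Algebra A P] [Algebra.FiniteType A P]
    {N : Type u} [CommRing N] [Algebra A N] (f g : P →ₐ[A] N) (h : ∀ c, (1 : R) ⊗ₜ[A] f c = (1 : R) ⊗ₜ[A] g c) :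
    ∃ D : Subalgebra A R, D.FG ∧ ∀ D' : Subalgebra A R, D ≤ D' → ∀ c, (1 : D') ⊗ₜ[A] f c = (1 : D') ⊗ₜ[A] g c := by
  classical
  obtain ⟨s, hs⟩ := Algebra.FiniteType.out (R := A) (A := P)
  choose D hle hD hd using fun c => TensorProduct.Algebra.eq_of_fg_of_subtype_eq (R := A) (S := R)
    (A := ⊥) Subalgebra.fg_bot (t := (1 : (⊥ : Subalgebra A R)) ⊗ₜ[A] f c) (t' := (1 : (⊥ : Subalgebra A R)) ⊗ₜ[A] g c)
    (by simpa using h c)
  refine ⟨s.sup D, Finset.sup_induction Subalgebra.fg_bot (fun a ha b hb => ha.sup hb) fun i _ => hD i,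
    fun D' hD' c => ?_⟩
  refine AlgHom.congr_fun (AlgHom.ext_of_adjoin_eq_top hs ?_ :
    (Algebra.TensorProduct.includeRight (A := D')).comp f = Algebra.TensorProduct.includeRight.comp g) c
  intro x hx
  have hx' : D x ≤ D' := (Finset.le_sup hx).trans hD'
  have h2 := congrArg ((Subalgebra.inclusion hx').toLinearMap.rTensor N) (hd x)
  simpa using h2

/-- A Hopf algebra structure on a base change satisfying the axioms. -/
theorem exists_hopf {S : Type u} [CommRing S] [Algebra A S] {P : Type u} [CommRing P] [Algebra A P]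
    (D : P →ₐ[A] P ⊗[A] P) (E : P →ₐ[A] A) (Sa : P →ₐ[A] P) (h : Axioms S D E Sa) :
    ∃ (P' : Type u) (_ : CommRing P') (_ : HopfAlgebra S P') (e : S ⊗[A] P ≃ₐ[S] P'),
      (∀ c, Bialgebra.comulAlgHom S P' (e ((1 : S) ⊗ₜ[A] c)) = eT e e ((1 : S) ⊗ₜ[A] D c)) ∧
      (∀ c, Bialgebra.counitAlgHom S P' (e ((1 : S) ⊗ₜ[A] c)) = algebraMap A S (E c)) := by
  let e : S ⊗[A] P ≃ₐ[S] S ⊗[A] P := AlgEquiv.refl
  let ΔC : S ⊗[A] P →ₐ[S] (S ⊗[A] P) ⊗[S] (S ⊗[A] P) :=
    Algebra.TensorProduct.lift (Algebra.ofId S _)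
      (((eT e e).toAlgHom.restrictScalars A).comp (Algebra.TensorProduct.includeRight.comp D))
      fun _ _ => Commute.all _ _
  let εC : S ⊗[A] P →ₐ[S] S :=
    Algebra.TensorProduct.lift (Algebra.ofId S S) ((Algebra.ofId A S).comp E) fun _ _ => Commute.all _ _
  let SC : S ⊗[A] P →ₐ[S] S ⊗[A] P := Algebra.TensorProduct.map (AlgHom.id S S) Sa
  have hΔ : ∀ c, ΔC (e ((1 : S) ⊗ₜ[A] c)) = eT e e ((1 : S) ⊗ₜ[A] D c) := by
    intro c
    simp [ΔC, e, ← Algebra.TensorProduct.one_def]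
  have hε : ∀ c, εC (e ((1 : S) ⊗ₜ[A] c)) = algebraMap A S (E c) := by
    intro c
    simp [εC, e]
  have hS : ∀ c, SC (e ((1 : S) ⊗ₜ[A] c)) = e ((1 : S) ⊗ₜ[A] Sa c) := by
    intro c
    simp [SC, e]
  have hid : ∀ c, AlgHom.id S (S ⊗[A] P) (e ((1 : S) ⊗ₜ[A] c)) = e ((1 : S) ⊗ₜ[A] AlgHom.id A P c) := fun _ => rfl
  letI : Bialgebra S (S ⊗[A] P) := Bialgebra.ofAlgHom ΔC εC ((coassoc_iff e D ΔC hΔ).2 h.coassoc)
    ((counitL_iff e D E ΔC εC hΔ hε).2 h.counitL) ((counitR_iff e D E ΔC εC hΔ hε).2 h.counitR)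
  letI hH : HopfAlgebra S (S ⊗[A] P) := HopfAlgebra.ofAlgHom SC
    ((antipode_iff e D E Sa (AlgHom.id A P) ΔC εC SC (AlgHom.id S _) hΔ hε hS hid).2 h.antiR)
    ((antipode_iff e D E (AlgHom.id A P) Sa ΔC εC (AlgHom.id S _) SC hΔ hε hid hS).2 h.antiL)
  exact ⟨S ⊗[A] P, inferInstance, hH, e, hΔ, hε⟩

/-- The axioms hold for a model of a Hopf algebra. -/
theorem axioms_of_hopf {P : Type u} [CommRing P] [Algebra A P] {C : Type u} [CommRing C] [HopfAlgebra R C]
    (e : R ⊗[A] P ≃ₐ[R] C) (D : P →ₐ[A] P ⊗[A] P) (E : P →ₐ[A] A) (Sa : P →ₐ[A] P)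
    (hΔ : ∀ c, Bialgebra.comulAlgHom R C (e ((1 : R) ⊗ₜ[A] c)) = eT e e ((1 : R) ⊗ₜ[A] D c))
    (hε : ∀ c, Bialgebra.counitAlgHom R C (e ((1 : R) ⊗ₜ[A] c)) = algebraMap A R (E c))
    (hS : ∀ c, HopfAlgebra.antipodeAlgHom R C (e ((1 : R) ⊗ₜ[A] c)) = e ((1 : R) ⊗ₜ[A] Sa c)) :
    Axioms R D E Sa := by
  refine ⟨(coassoc_iff e D _ hΔ).1 ?_, (counitL_iff e D E _ _ hΔ hε).1 ?_, (counitR_iff e D E _ _ hΔ hε).1 ?_,
    (antipode_iff e D E _ _ _ _ _ (AlgHom.id R C) hΔ hε hS fun _ => rfl).1 ?_,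
    (antipode_iff e D E _ _ _ _ (AlgHom.id R C) _ hΔ hε (fun _ => rfl) hS).1 ?_⟩
  · exact AlgHom.toLinearMap_injective Coalgebra.coassoc
  · exact AlgHom.toLinearMap_injective Coalgebra.rTensor_counit_comp_comul
  · exact AlgHom.toLinearMap_injective Coalgebra.lTensor_counit_comp_comul
  · refine AlgHom.ext fun c => ?_
    have h1 := HopfAlgebra.mul_antipode_rTensor_comul_apply (R := R) c
    simp only [AlgHom.comp_apply, Bialgebra.comulAlgHom_apply, Bialgebra.counitAlgHom_apply, Algebra.ofId_apply]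
    rw [← h1]
    induction Coalgebra.comul (R := R) c with
    | zero => simp
    | add a b ha hb => simp only [map_add, ha, hb]
    | tmul x y => simp
  · refine AlgHom.ext fun c => ?_
    have h1 := HopfAlgebra.mul_antipode_lTensor_comul_apply (R := R) c
    simp only [AlgHom.comp_apply, Bialgebra.comulAlgHom_apply, Bialgebra.counitAlgHom_apply, Algebra.ofId_apply]
    rw [← h1]
    induction Coalgebra.comul (R := R) c with
    | zero => simp
    | add a b ha hb => simp only [map_add, ha, hb]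
    | tmul x y => simp

/-- A bialgebra isomorphism between a base change of a model and the Hopf algebra. -/
theorem nonempty_bialgEquiv {P : Type u} [CommRing P] [Bialgebra A P] {C : Type u} [CommRing C] [Bialgebra R C]
    (e : R ⊗[A] P ≃ₐ[R] C)
    (hΔ : ∀ c, Bialgebra.comulAlgHom R C (e ((1 : R) ⊗ₜ[A] c)) =
      eT e e ((1 : R) ⊗ₜ[A] Coalgebra.comul (R := A) c))
    (hε : ∀ c, Bialgebra.counitAlgHom R C (e ((1 : R) ⊗ₜ[A] c)) = algebraMap A R (Coalgebra.counit (R := A) c)) :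
    Nonempty (R ⊗[A] P ≃ₐc[R] C) := by
  have h0 : ∀ c : P, ((1 : R) ⊗ₜ[A] c) = (AlgEquiv.refl : R ⊗[A] P ≃ₐ[R] _) ((1 : R) ⊗ₜ[A] c) := fun _ => rfl
  refine ⟨BialgEquiv.ofAlgEquiv e (ext_bc AlgEquiv.refl fun c => ?_) (ext_bc AlgEquiv.refl fun c => ?_)⟩
  · simp only [AlgEquiv.coe_refl, id_eq, AlgHom.comp_apply, AlgEquiv.coe_toAlgHom]
    rw [hε, Bialgebra.counitAlgHom_apply, TensorProduct.counit_tmul, Algebra.algebraMap_eq_smul_one]
    simp
  · simp only [AlgEquiv.coe_refl, id_eq, AlgHom.comp_apply, AlgEquiv.coe_toAlgHom]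
    rw [hΔ, Bialgebra.comulAlgHom_apply, TensorProduct.comul_tmul, Bialgebra.comul_one]
    induction Coalgebra.comul (R := A) c with
    | zero => simp
    | add a b ha hb => simp only [tmul_add, map_add, ha, hb]
    | tmul x y => simp [eT_tmul, Algebra.TensorProduct.one_def]

/-- A bialgebra isomorphism with prescribed map between a base change of a model and the Hopf algebra. -/
theorem exists_bialgEquiv {P : Type u} [CommRing P] [Bialgebra A P] {C : Type u} [CommRing C] [Bialgebra R C]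
    (e : R ⊗[A] P ≃ₐ[R] C)
    (hΔ : ∀ c, Bialgebra.comulAlgHom R C (e ((1 : R) ⊗ₜ[A] c)) =
      eT e e ((1 : R) ⊗ₜ[A] Coalgebra.comul (R := A) c))
    (hε : ∀ c, Bialgebra.counitAlgHom R C (e ((1 : R) ⊗ₜ[A] c)) = algebraMap A R (Coalgebra.counit (R := A) c)) :
    ∃ E : R ⊗[A] P ≃ₐc[R] C, ∀ x, E x = e x := by
  have h0 : ∀ c : P, ((1 : R) ⊗ₜ[A] c) = (AlgEquiv.refl : R ⊗[A] P ≃ₐ[R] _) ((1 : R) ⊗ₜ[A] c) := fun _ => rfl
  refine ⟨BialgEquiv.ofAlgEquiv e (ext_bc AlgEquiv.refl fun c => ?_) (ext_bc AlgEquiv.refl fun c => ?_), fun _ => rfl⟩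
  · simp only [AlgEquiv.coe_refl, id_eq, AlgHom.comp_apply, AlgEquiv.coe_toAlgHom]
    rw [hε, Bialgebra.counitAlgHom_apply, TensorProduct.counit_tmul, Algebra.algebraMap_eq_smul_one]
    simp
  · simp only [AlgEquiv.coe_refl, id_eq, AlgHom.comp_apply, AlgEquiv.coe_toAlgHom]
    rw [hΔ, Bialgebra.comulAlgHom_apply, TensorProduct.comul_tmul, Bialgebra.comul_one]
    induction Coalgebra.comul (R := A) c with
    | zero => simp
    | add a b ha hb => simp only [tmul_add, map_add, ha, hb]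
    | tmul x y => simp [eT_tmul, Algebra.TensorProduct.one_def]

end Model

end Groth.Agent.SGA3b53
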