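import Groth.Agent.SGA3b53.DiagDescentAlg
import Groth.Agent.SGA3b53.ModelExists
import Groth.Agent.SGA3b53.Descend
import Groth.Agent.SGA3b53.CharGroup
import Mathlib

/-!
The Hopf algebra of a descent datum of diagonalisable groups.
-/

set_option autoImplicit false
set_option linter.unusedSectionVars false
set_option linter.style.haveILetI false
universe u v w
open TensorProduct

noncomputable section

namespace Groth.Agent.SGA3b53

namespace DDiag

variable {R : Type u} [CommRing R] {ι : Type u} [Finite ι] {T : ι → Type u} [∀ i, CommRing (T i)] [∀ i, Algebra R (T i)]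
  {M : ι → Type u} [∀ i, CommGroup (M i)] (D : Datum R T M) (hT : ∀ i, Module.Flat R (T i))

/-- The square of the maps between group algebras. -/
def mapA₂ {X Y : Type u} [CommRing X] [Algebra R X] [CommRing Y] [Algebra R Y] (N : Type u) [CommGroup N]
    (f : X →ₐ[R] Y) : MonoidAlgebra X N ⊗[X] MonoidAlgebra X N →+* MonoidAlgebra Y N ⊗[Y] MonoidAlgebra Y N :=
  Algebra.TensorProduct.mapRingHom (f : X →+* Y) (mapA N f : MonoidAlgebra X N →+* MonoidAlgebra Y N)
    (mapA N f : MonoidAlgebra X N →+* MonoidAlgebra Y N)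
    (RingHom.ext fun x => by simp)
    (RingHom.ext fun x => by simp)

theorem mapA₂_tmul {X Y : Type u} [CommRing X] [Algebra R X] [CommRing Y] [Algebra R Y] {N : Type u} [CommGroup N]
    (f : X →ₐ[R] Y) (a b : MonoidAlgebra X N) : mapA₂ N f (a ⊗ₜ[X] b) = mapA N f a ⊗ₜ[Y] mapA N f b :=
  Algebra.TensorProduct.mapRingHom_tmul _ _ _ _ _ a b

theorem mapA₂_comul {X Y : Type u} [CommRing X] [Algebra R X] [CommRing Y] [Algebra R Y] {N : Type u} [CommGroup N]
    (f : X →ₐ[R] Y) (b : MonoidAlgebra X N) :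
    mapA₂ N f (Coalgebra.comul (R := X) b) = Coalgebra.comul (R := Y) (mapA N f b) := by
  induction b using MonoidAlgebra.induction_linear with
  | zero => simp
  | single m r => simp [mapA₂_tmul]
  | add a b ha hb => simp only [map_add, ha, hb]

include hT in
theorem exists_eU (k : ι) {U : Type u} [CommRing U] [Algebra R U] (f : T k →ₐ[R] U) :
    ∃ eU : U ⊗[R] descAlg D ≃ₐ[U] MonoidAlgebra U (M k),
      ∀ a : descAlg D, eU ((1 : U) ⊗ₜ[R] a) = mapA (M k) f ((a : ∀ l, MonoidAlgebra (T l) (M l)) k) := by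
  haveI := hT
  letI : Algebra (T k) U := f.toRingHom.toAlgebra
  haveI : IsScalarTower R (T k) U := IsScalarTower.of_algebraMap_eq fun r => (f.commutes r).symm
  refine ⟨(Algebra.TensorProduct.cancelBaseChange R (T k) U U (descAlg D)).symm.trans
    ((Algebra.TensorProduct.congr (AlgEquiv.refl : U ≃ₐ[U] U) (eqvA D hT k)).trans
      (MonoidAlgebra.scalarTensorEquiv (T k) U)), fun a => ?_⟩
  simp [eqvA_one_tmul]
  refine MonoidAlgebra.ext (Finsupp.ext fun m => ?_)
  rw [mapA_eq_mapRingHom, MonoidAlgebra.coeff_mapRingHom, mapA_eq_mapRingHom, MonoidAlgebra.coeff_mapRingHom]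
  rfl

theorem eT_mapA₂ (k : ι) {U : Type u} [CommRing U] [Algebra R U] (f : T k →ₐ[R] U)
    (eU : U ⊗[R] descAlg D ≃ₐ[U] MonoidAlgebra U (M k))
    (heU : ∀ a : descAlg D, eU ((1 : U) ⊗ₜ[R] a) = mapA (M k) f ((a : ∀ l, MonoidAlgebra (T l) (M l)) k))
    (w : T k ⊗[R] (descAlg D ⊗[R] descAlg D)) :
    Model.eT eU eU (f.toLinearMap.rTensor (descAlg D ⊗[R] descAlg D) w) =
      mapA₂ (M k) f (Model.eT (eqvA D hT k) (eqvA D hT k) w) := by
  induction w with
  | zero => simp
  | add a b ha hb => simp only [map_add, ha, hb]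
  | tmul t z =>
    induction z with
    | zero => simp
    | add a b ha hb => simp only [tmul_add, map_add, ha, hb]
    | tmul x y =>
      rw [LinearMap.rTensor_tmul, AlgHom.toLinearMap_apply,
        show f t ⊗ₜ[R] (x ⊗ₜ[R] y) = f t • ((1 : U) ⊗ₜ[R] (x ⊗ₜ[R] y)) by rw [TensorProduct.smul_tmul', smul_eq_mul, mul_one],
        show t ⊗ₜ[R] (x ⊗ₜ[R] y) = t • ((1 : T k) ⊗ₜ[R] (x ⊗ₜ[R] y)) by rw [TensorProduct.smul_tmul', smul_eq_mul, mul_one],
        map_smul, map_smul, Model.eT_tmul, Model.eT_tmul, heU, heU, eqvA_one_tmul, eqvA_one_tmul,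
        TensorProduct.smul_tmul', TensorProduct.smul_tmul', mapA₂_tmul, mapA_smul]

variable (hTc : IsCover R T)

include hTc in
theorem exists_comul (a : descAlg D) : ∃ x : descAlg D ⊗[R] descAlg D, ∀ k,
    Model.eT (eqvA D hT k) (eqvA D hT k) ((1 : T k) ⊗ₜ[R] x) =
      Coalgebra.comul (R := T k) ((a : ∀ l, MonoidAlgebra (T l) (M l)) k) := by
  let y : ∀ k, T k ⊗[R] (descAlg D ⊗[R] descAlg D) := fun k =>
    (Model.eT (eqvA D hT k) (eqvA D hT k)).symm (Coalgebra.comul (R := T k) ((a : ∀ l, MonoidAlgebra (T l) (M l)) k))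
  obtain ⟨x, hx⟩ := hTc.descend (M := descAlg D ⊗[R] descAlg D) y fun i j => by
    let W := T j ⊗[R] T i
    let L : T j →ₐ[R] W := Algebra.TensorProduct.includeLeft
    let Rg : T i →ₐ[R] W := Algebra.TensorProduct.includeRight
    obtain ⟨ej, hej⟩ := exists_eU D hT j L
    obtain ⟨ei, hei⟩ := exists_eU D hT i Rg
    obtain ⟨θ, hθ⟩ := exists_theta_bialg D.isGroupLike L Rg
    have hee : ∀ z, ei z = θ (ej z) := by
      intro z
      induction z with
      | zero => simp
      | add p q hp hq => simp only [map_add, hp, hq]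
      | tmul w c =>
        rw [show w ⊗ₜ[R] c = w • ((1 : W) ⊗ₜ[R] c) by rw [TensorProduct.smul_tmul', smul_eq_mul, mul_one],
          map_smul, map_smul, map_smul, hei, hej, hθ, descAlg_glue]
    have hθ₂ : ∀ w, Model.eT ei ei w = TensorProduct.map (θ : _ →ₗ[W] _) (θ : _ →ₗ[W] _) (Model.eT ej ej w) := by
      intro w
      induction w with
      | zero => simp
      | add p q hp hq => simp only [map_add, hp, hq]
      | tmul w z =>
        induction z with
        | zero => simp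
        | add p q hp hq => simp only [tmul_add, map_add, hp, hq]
        | tmul p q =>
          rw [show w ⊗ₜ[R] (p ⊗ₜ[R] q) = w • ((1 : W) ⊗ₜ[R] (p ⊗ₜ[R] q)) by rw [TensorProduct.smul_tmul', smul_eq_mul, mul_one],
            map_smul, map_smul, map_smul, Model.eT_tmul, Model.eT_tmul, hee, hee, TensorProduct.map_tmul]
          rfl
    have hL : ∀ w, ((TensorProduct.mk R (T j) (T i)).flip 1).rTensor (descAlg D ⊗[R] descAlg D) w =
        L.toLinearMap.rTensor _ w := fun _ => rfl
    have hR : ∀ w, ((TensorProduct.mk R (T j) (T i)) 1).rTensor (descAlg D ⊗[R] descAlg D) w =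
        Rg.toLinearMap.rTensor _ w := fun _ => rfl
    rw [hL, hR]
    apply (Model.eT ei ei).injective
    rw [hθ₂, eT_mapA₂ D hT j L ej hej, eT_mapA₂ D hT i Rg ei hei]
    simp only [y, AlgEquiv.apply_symm_apply, mapA₂_comul]
    rw [← descAlg_glue D a L Rg, ← hθ, CoalgHomClass.map_comp_comul_apply]
  exact ⟨x, fun k => by rw [hx]; exact (Model.eT (eqvA D hT k) (eqvA D hT k)).apply_symm_apply _⟩

include hTc in
theorem exists_counit (a : descAlg D) : ∃ r : R, ∀ k,
    algebraMap R (T k) r = Coalgebra.counit (R := T k) ((a : ∀ l, MonoidAlgebra (T l) (M l)) k) := by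
  let y : ∀ k, T k ⊗[R] R := fun k => (Coalgebra.counit (R := T k) ((a : ∀ l, MonoidAlgebra (T l) (M l)) k)) ⊗ₜ[R] 1
  obtain ⟨r, hr⟩ := hTc.descend y fun i j => by
    let W := T j ⊗[R] T i
    let L : T j →ₐ[R] W := Algebra.TensorProduct.includeLeft
    let Rg : T i →ₐ[R] W := Algebra.TensorProduct.includeRight
    obtain ⟨θ, hθ⟩ := exists_theta_bialg D.isGroupLike L Rg
    have hc : ∀ {X Y : Type u} [CommRing X] [Algebra R X] [CommRing Y] [Algebra R Y] {N : Type u} [CommGroup N]
        (f : X →ₐ[R] Y) (b : MonoidAlgebra X N), Coalgebra.counit (R := Y) (mapA N f b) = f (Coalgebra.counit (R := X) b) := by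
      intro X Y _ _ _ _ N _ f b
      induction b using MonoidAlgebra.induction_linear with
      | zero => simp
      | single m r => simp [MonoidAlgebra.mapAlgHom_single]
      | add a b ha hb => simp only [map_add, ha, hb]
    have h1 := congrArg (Coalgebra.counit (R := W)) (descAlg_glue D a L Rg)
    rw [← hθ, CoalgHomClass.counit_comp_apply, hc, hc] at h1
    simp only [y, LinearMap.rTensor_tmul, LinearMap.flip_apply, TensorProduct.mk_apply]
    exact congrArg (fun s : W => s ⊗ₜ[R] (1 : R)) h1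
  refine ⟨r, fun k => ?_⟩
  have h := congrArg (Algebra.TensorProduct.rid R R (T k)) (hr k)
  simpa [y, Algebra.algebraMap_eq_smul_one] using h

theorem antipode_mapA {X Y : Type u} [CommRing X] [Algebra R X] [CommRing Y] [Algebra R Y] {N : Type u} [CommGroup N]
    (f : X →ₐ[R] Y) (b : MonoidAlgebra X N) :
    mapA N f (HopfAlgebraStruct.antipode (R := X) b) = HopfAlgebraStruct.antipode (R := Y) (mapA N f b) := by
  induction b using MonoidAlgebra.induction_linear with
  | zero => simp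
  | single m r => simp [MonoidAlgebra.mapAlgHom_single]
  | add a b ha hb => simp only [map_add, ha, hb]

theorem antipode_mem (a : descAlg D) :
    (fun k => HopfAlgebraStruct.antipode (R := T k) ((a : ∀ l, MonoidAlgebra (T l) (M l)) k)) ∈ descAlg D := by
  refine (mem_descAlg D).2 fun i j => ?_
  obtain ⟨θ, hθ⟩ := exists_theta_bialg D.isGroupLike
    (Algebra.TensorProduct.includeLeft : T i →ₐ[R] T i ⊗[R] T j) (Algebra.TensorProduct.includeRight : T j →ₐ[R] T i ⊗[R] T j)
  rw [antipode_mapA, antipode_mapA, ← hθ, map_antipode, hθ, descAlg_glue]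

include hT hTc in
theorem exists_hopf_structure :
    ∃ (Δ : descAlg D →ₐ[R] descAlg D ⊗[R] descAlg D) (E : descAlg D →ₐ[R] R) (Sa : descAlg D →ₐ[R] descAlg D),
      Model.Axioms R Δ E Sa ∧
      (∀ k c, Coalgebra.comul (R := T k) (eqvA D hT k ((1 : T k) ⊗ₜ[R] c)) =
        Model.eT (eqvA D hT k) (eqvA D hT k) ((1 : T k) ⊗ₜ[R] Δ c)) ∧
      (∀ k c, Coalgebra.counit (R := T k) (eqvA D hT k ((1 : T k) ⊗ₜ[R] c)) = algebraMap R (T k) (E c)) := by
  choose d hd using exists_comul D hT hTc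
  choose c hc using exists_counit D hTc
  have huniq : ∀ x x' : descAlg D ⊗[R] descAlg D, (∀ k, Model.eT (eqvA D hT k) (eqvA D hT k) ((1 : T k) ⊗ₜ[R] x) =
      Model.eT (eqvA D hT k) (eqvA D hT k) ((1 : T k) ⊗ₜ[R] x')) → x = x' := fun x x' h =>
    sub_eq_zero.1 (hTc.eq_zero fun k => by
      refine (map_sub (TensorProduct.mk R (T k) (descAlg D ⊗[R] descAlg D) 1) x x').trans (sub_eq_zero.2 ?_)
      exact (Model.eT (eqvA D hT k) (eqvA D hT k)).injective (h k))
  have huniqR : ∀ r r' : R, (∀ k, algebraMap R (T k) r = algebraMap R (T k) r') → r = r' := fun r r' h =>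
    sub_eq_zero.1 (hTc.eq_zero fun k => by
      rw [show r - r' = (r - r') • (1 : R) by rw [smul_eq_mul, mul_one], tmul_smul, smul_tmul',
        ← Algebra.algebraMap_eq_smul_one, map_sub, h k, sub_self, zero_tmul])
  let Δ : descAlg D →ₐ[R] descAlg D ⊗[R] descAlg D :=
    { toFun := d
      map_one' := huniq _ _ fun k => by
        rw [hd, ← Algebra.TensorProduct.one_def (A := T k), map_one]
        exact Bialgebra.comul_one
      map_mul' := fun a b => huniq _ _ fun k => by
        rw [hd, ← one_mul (1 : T k), ← Algebra.TensorProduct.tmul_mul_tmul, map_mul, hd, hd]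
        exact Bialgebra.comul_mul _ _
      map_zero' := huniq _ _ fun k => by rw [hd, tmul_zero, map_zero]; exact map_zero _
      map_add' := fun a b => huniq _ _ fun k => by rw [hd, tmul_add, map_add, hd, hd]; exact map_add _ _ _
      commutes' := fun r => huniq _ _ fun k => by
        rw [hd]
        change Bialgebra.comulAlgHom (T k) _ (algebraMap R (MonoidAlgebra (T k) (M k)) r) = _
        rw [IsScalarTower.algebraMap_apply R (T k) (MonoidAlgebra (T k) (M k)), AlgHom.commutes,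
          Algebra.algebraMap_eq_smul_one (R := R) (A := descAlg D ⊗[R] descAlg D), tmul_smul,
          ← Algebra.TensorProduct.one_def (A := T k), ← algebraMap_smul (T k) r, map_smul, map_one,
          Algebra.algebraMap_eq_smul_one] }
  let E : descAlg D →ₐ[R] R :=
    { toFun := c
      map_one' := huniqR _ _ fun k => by rw [hc, map_one]; exact Bialgebra.counit_one
      map_mul' := fun a b => huniqR _ _ fun k => by rw [hc, map_mul, hc, hc]; exact Bialgebra.counit_mul _ _
      map_zero' := huniqR _ _ fun k => by rw [hc, map_zero]; exact map_zero _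
      map_add' := fun a b => huniqR _ _ fun k => by rw [hc, map_add, hc, hc]; exact map_add _ _ _
      commutes' := fun r => huniqR _ _ fun k => by
        rw [hc]
        change Bialgebra.counitAlgHom (T k) _ (algebraMap R (MonoidAlgebra (T k) (M k)) r) = _
        rw [IsScalarTower.algebraMap_apply R (T k) (MonoidAlgebra (T k) (M k)), AlgHom.commutes]
        simp }
  let Sa : descAlg D →ₐ[R] descAlg D := AlgHom.codRestrict
    ((AlgHom.pi fun k => ((HopfAlgebra.antipodeAlgHom (T k) (MonoidAlgebra (T k) (M k))).restrictScalars R).comp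
      (evalA D k))) (descAlg D) fun a => antipode_mem D a
  have hΔ : ∀ k a, Bialgebra.comulAlgHom (T k) _ (eqvA D hT k ((1 : T k) ⊗ₜ[R] a)) =
      Model.eT (eqvA D hT k) (eqvA D hT k) ((1 : T k) ⊗ₜ[R] Δ a) := fun k a => by
    rw [eqvA_one_tmul]
    exact (hd a k).symm
  have hε : ∀ k a, Bialgebra.counitAlgHom (T k) _ (eqvA D hT k ((1 : T k) ⊗ₜ[R] a)) = algebraMap R (T k) (E a) :=
    fun k a => by
    rw [eqvA_one_tmul]
    exact (hc a k).symm
  have hS : ∀ k a, HopfAlgebra.antipodeAlgHom (T k) _ (eqvA D hT k ((1 : T k) ⊗ₜ[R] a)) =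
      eqvA D hT k ((1 : T k) ⊗ₜ[R] Sa a) := fun k a => by
    rw [eqvA_one_tmul, eqvA_one_tmul]
    rfl
  have hax : ∀ k, Model.Axioms (T k) Δ E Sa := fun k => Model.axioms_of_hopf (eqvA D hT k) Δ E Sa (hΔ k) (hε k) (hS k)
  have hzero : ∀ {N : Type u} [AddCommGroup N] [Module R N] (x x' : N),
      (∀ k, (1 : T k) ⊗ₜ[R] x = (1 : T k) ⊗ₜ[R] x') → (1 : R) ⊗ₜ[R] x = (1 : R) ⊗ₜ[R] x' := fun x x' h => by
    rw [show x = x' from sub_eq_zero.1 (hTc.eq_zero fun k => by rw [tmul_sub, h k, sub_self])]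
  exact ⟨Δ, E, Sa, ⟨fun c => hzero _ _ fun k => (hax k).coassoc c, fun c => hzero _ _ fun k => (hax k).counitL c,
    fun c => hzero _ _ fun k => (hax k).counitR c, fun c => hzero _ _ fun k => (hax k).antiR c,
    fun c => hzero _ _ fun k => (hax k).antiL c⟩, hΔ, hε⟩

include hT hTc in
/-- Effective descent of diagonalisable groups. -/
theorem exists_descended :
    ∃ (A : Type u) (_ : CommRing A) (_ : HopfAlgebra R A) (ρ : ∀ k, T k ⊗[R] A ≃ₐc[T k] MonoidAlgebra (T k) (M k)),
      ∀ (i j : ι) (U : Type u) [CommRing U] [Algebra R U] (f : T i →ₐ[R] U) (g : T j →ₐ[R] U) (a : A),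
        theta D.γ f g (mapA (M i) f (ρ i ((1 : T i) ⊗ₜ[R] a))) = mapA (M j) g (ρ j ((1 : T j) ⊗ₜ[R] a)) := by
  obtain ⟨Δ, E, Sa, hax, hΔ, hε⟩ := exists_hopf_structure D hT hTc
  obtain ⟨P, _, hH, e, heΔ, heε⟩ := Model.exists_hopf (S := R) Δ E Sa hax
  let q : descAlg D →ₐ[R] P := (e : R ⊗[R] descAlg D →ₐ[R] P).comp Algebra.TensorProduct.includeRight
  have hq : Function.Bijective q := e.bijective.comp (TensorProduct.lid R (descAlg D)).symm.bijective
  let q' : descAlg D ≃ₐ[R] P := AlgEquiv.ofBijective q hq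
  let ρ₀ : ∀ k, T k ⊗[R] P ≃ₐ[T k] MonoidAlgebra (T k) (M k) := fun k =>
    (Algebra.TensorProduct.congr (AlgEquiv.refl : T k ≃ₐ[T k] T k) q'.symm).trans (eqvA D hT k)
  have hρ₀ : ∀ k a, ρ₀ k ((1 : T k) ⊗ₜ[R] q a) = eqvA D hT k ((1 : T k) ⊗ₜ[R] a) := fun k a => by
    change eqvA D hT k ((1 : T k) ⊗ₜ[R] q'.symm (q' a)) = _
    rw [AlgEquiv.symm_apply_apply]
  have hcom : ∀ k p, Bialgebra.comulAlgHom (T k) _ (ρ₀ k ((1 : T k) ⊗ₜ[R] p)) =
      Model.eT (ρ₀ k) (ρ₀ k) ((1 : T k) ⊗ₜ[R] Coalgebra.comul (R := R) p) := by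
    intro k p
    obtain ⟨a, rfl⟩ := hq.2 p
    rw [hρ₀, Bialgebra.comulAlgHom_apply, hΔ, show Coalgebra.comul (R := R) (q a) = _ from heΔ a]
    induction Δ a with
    | zero => simp
    | add x y hx hy => simp only [tmul_add, map_add, hx, hy]
    | tmul x y =>
      rw [Model.eT_tmul, Model.eT_tmul, Model.eT_tmul]
      exact (congrArg₂ (· ⊗ₜ[T k] ·) (hρ₀ k x) (hρ₀ k y)).symm
  have hcou : ∀ k p, Bialgebra.counitAlgHom (T k) _ (ρ₀ k ((1 : T k) ⊗ₜ[R] p)) =
      algebraMap R (T k) (Coalgebra.counit (R := R) p) := by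
    intro k p
    obtain ⟨a, rfl⟩ := hq.2 p
    rw [hρ₀, Bialgebra.counitAlgHom_apply, hε, show Coalgebra.counit (R := R) (q a) = _ from heε a]
    rfl
  choose ρ hρ using fun k => Model.exists_bialgEquiv (ρ₀ k) (hcom k) (hcou k)
  refine ⟨P, inferInstance, hH, ρ, fun i j U _ _ f g p => ?_⟩
  obtain ⟨a, rfl⟩ := hq.2 p
  rw [hρ, hρ, hρ₀, hρ₀, eqvA_one_tmul, eqvA_one_tmul, descAlg_glue]

end DDiag

end Groth.Agent.SGA3b53
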