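import Groth.Agent.SGA3b53.DiagDatum
import Groth.Agent.SGA3b53.GLLift
import Mathlib

/-!
Lifting descent data of diagonalisable groups along a Henselian or nil ideal.
-/

set_option autoImplicit false
set_option linter.unusedSectionVars false
set_option linter.style.haveILetI false
universe u v w
open TensorProduct

noncomputable section

namespace Groth.Agent.SGA3b53

namespace DLift

variable {R : Type u} [CommRing R] (I : Ideal R)

/-- The reduction modulo `I`. -/
abbrev red (U : Type u) [CommRing U] [Algebra R U] : Type u :=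
  U ⧸ I.map (algebraMap R U)

/-- The map induced on the reductions. -/
def mapQ {U V : Type u} [CommRing U] [Algebra R U] [CommRing V] [Algebra R V] (h : U →ₐ[R] V) :
    red I U →ₐ[R ⧸ I] red I V where
  toRingHom := Ideal.quotientMap _ (h : U →+* V) (by
    rw [Ideal.map_le_iff_le_comap]
    intro a ha
    rw [Ideal.mem_comap, Ideal.mem_comap, RingHom.coe_coe, AlgHom.commutes]
    exact Ideal.mem_map_of_mem _ ha)
  commutes' := by
    intro r
    obtain ⟨r, rfl⟩ := Ideal.Quotient.mk_surjective r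
    change Ideal.Quotient.mk _ (h (algebraMap R U r)) = Ideal.Quotient.mk _ (algebraMap R V r)
    rw [AlgHom.commutes]

theorem mapQ_mk {U V : Type u} [CommRing U] [Algebra R U] [CommRing V] [Algebra R V] (h : U →ₐ[R] V) (x : U) :
    mapQ I h (Ideal.Quotient.mk _ x) = Ideal.Quotient.mk _ (h x) :=
  rfl

theorem mapQ_comp {U V W : Type u} [CommRing U] [Algebra R U] [CommRing V] [Algebra R V] [CommRing W] [Algebra R W]
    (g : V →ₐ[R] W) (h : U →ₐ[R] V) : mapQ I (g.comp h) = (mapQ I g).comp (mapQ I h) := by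
  refine AlgHom.ext fun x => ?_
  obtain ⟨x, rfl⟩ := Ideal.Quotient.mk_surjective x
  rfl

variable {I}
variable {A₀ : Type u} [CommRing A₀] [HopfAlgebra (R ⧸ I) A₀] {ι : Type u} {T : ι → Type u} [∀ i, CommRing (T i)]
  [∀ i, Algebra R (T i)] {M : ι → Type u} [∀ i, CommGroup (M i)]
  (ρ0 : ∀ i, red I (T i) ⊗[R ⧸ I] A₀ ≃ₐc[red I (T i)] MonoidAlgebra (red I (T i)) (M i))

/-- The group-like elements over the reduction. -/
def uHom {i : ι} {U : Type u} [CommRing U] [Algebra R U] (f : T i →ₐ[R] U) : M i →* red I U ⊗[R ⧸ I] A₀ :=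
  ((Algebra.TensorProduct.map (mapQ I f) (AlgHom.id (R ⧸ I) A₀) : _ →ₐ[R ⧸ I] _) : _ →* _).comp
    ((MonoidHomClass.toMonoidHom (ρ0 i).symm).comp (MonoidAlgebra.of (red I (T i)) (M i)))

theorem uHom_natural {i : ι} {U V : Type u} [CommRing U] [Algebra R U] [CommRing V] [Algebra R V] (h : U →ₐ[R] V)
    (f : T i →ₐ[R] U) (m : M i) :
    Algebra.TensorProduct.map (mapQ I h) (AlgHom.id (R ⧸ I) A₀) (uHom ρ0 f m) = uHom ρ0 (h.comp f) m := by
  simp only [uHom, MonoidHom.comp_apply]
  generalize (MonoidHomClass.toMonoidHom (ρ0 i).symm) (MonoidAlgebra.of (red I (T i)) (M i) m) = z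
  change Algebra.TensorProduct.map (mapQ I h) _ (Algebra.TensorProduct.map (mapQ I f) _ z) =
    Algebra.TensorProduct.map (mapQ I (h.comp f)) (AlgHom.id (R ⧸ I) A₀) z
  rw [mapQ_comp]
  induction z with
  | zero => simp
  | add a b ha hb => simp only [map_add, ha, hb]
  | tmul t a => simp

/-- Evaluation at the group-like elements. -/
def evG {j : ι} {U : Type u} [CommRing U] [Algebra R U] (g : T j →ₐ[R] U) :
    MonoidAlgebra U (M j) →+* red I U ⊗[R ⧸ I] A₀ :=
  (MonoidAlgebra.lift (red I U) _ (M j) (uHom ρ0 g)).toRingHom.comp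
    (MonoidAlgebra.mapRingHom (M j) (Ideal.Quotient.mk (I.map (algebraMap R U))))

theorem evG_single {j : ι} {U : Type u} [CommRing U] [Algebra R U] (g : T j →ₐ[R] U) (n : M j) (c : U) :
    evG ρ0 g (MonoidAlgebra.single n c) = Ideal.Quotient.mk (I.map (algebraMap R U)) c • uHom ρ0 g n := by
  change MonoidAlgebra.lift (red I U) _ (M j) (uHom ρ0 g)
    (MonoidAlgebra.mapRingHom (M j) (Ideal.Quotient.mk _) (MonoidAlgebra.single n c)) = _
  rw [MonoidAlgebra.mapRingHom_single, MonoidAlgebra.lift_single]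

theorem evG_smul {j : ι} {U : Type u} [CommRing U] [Algebra R U] (g : T j →ₐ[R] U) (c : U)
    (z : MonoidAlgebra U (M j)) :
    evG ρ0 g (c • z) = Ideal.Quotient.mk (I.map (algebraMap R U)) c • evG ρ0 g z := by
  induction z using MonoidAlgebra.induction_linear with
  | zero => simp
  | single n r => rw [MonoidAlgebra.smul_single', evG_single, evG_single, map_mul, mul_smul]
  | add a b ha hb => simp only [smul_add, map_add, ha, hb]

theorem map_smul_red {U V : Type u} [CommRing U] [Algebra R U] [CommRing V] [Algebra R V] (h : U →ₐ[R] V)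
    (c : red I U) (z : red I U ⊗[R ⧸ I] A₀) :
    Algebra.TensorProduct.map (mapQ I h) (AlgHom.id (R ⧸ I) A₀) (c • z) =
      mapQ I h c • Algebra.TensorProduct.map (mapQ I h) (AlgHom.id (R ⧸ I) A₀) z := by
  induction z with
  | zero => simp
  | add a b ha hb => simp only [smul_add, map_add, ha, hb]
  | tmul t a => simp [TensorProduct.smul_tmul']

theorem evG_natural {j : ι} {U V : Type u} [CommRing U] [Algebra R U] [CommRing V] [Algebra R V] (h : U →ₐ[R] V)
    (g : T j →ₐ[R] U) (z : MonoidAlgebra U (M j)) :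
    Algebra.TensorProduct.map (mapQ I h) (AlgHom.id (R ⧸ I) A₀) (evG ρ0 g z) =
      evG ρ0 (h.comp g) (DDiag.mapA (M j) h z) := by
  induction z using MonoidAlgebra.induction_linear with
  | zero => simp
  | single n r =>
    rw [evG_single, map_smul_red, uHom_natural, mapQ_mk, MonoidAlgebra.mapAlgHom_single, evG_single]
  | add a b ha hb => simp only [map_add, ha, hb]

theorem exists_split (j : ι) {U : Type u} [CommRing U] [Algebra R U] (g : T j →ₐ[R] U) :
    ∃ ρ' : red I U ⊗[R ⧸ I] A₀ ≃ₐc[red I U] MonoidAlgebra (red I U) (M j), ∀ z,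
      ρ' (evG ρ0 g z) = MonoidAlgebra.mapRingHom (M j) (Ideal.Quotient.mk (I.map (algebraMap R U))) z := by
  obtain ⟨ρ', hρ'⟩ := exists_split_map (mapQ I g) (ρ0 j)
  refine ⟨ρ', fun z => ?_⟩
  induction z using MonoidAlgebra.induction_linear with
  | zero => simp
  | single n r =>
    rw [evG_single, map_smul, uHom]
    simp only [MonoidHom.comp_apply]
    change _ • ρ' (Algebra.TensorProduct.map (mapQ I g) _ ((ρ0 j).symm (MonoidAlgebra.of (red I (T j)) (M j) n))) = _
    rw [hρ', show ρ0 j ((ρ0 j).symm (MonoidAlgebra.of (red I (T j)) (M j) n)) = MonoidAlgebra.of (red I (T j)) (M j) n from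
      (ρ0 j).apply_symm_apply _]
    simp
  | add a b ha hb => simp only [map_add, ha, hb]

theorem eq_of_evG {j : ι} {U : Type u} [CommRing U] [Algebra R U]
    (hU : I.map (algebraMap R U) ≤ (⊥ : Ideal U).jacobson) (g : T j →ₐ[R] U) {x y : MonoidAlgebra U (M j)}
    (hx : IsGroupLikeElem U x) (hy : IsGroupLikeElem U y) (h : evG ρ0 g x = evG ρ0 g y) : x = y := by
  obtain ⟨ρ', hρ'⟩ := exists_split ρ0 j g
  refine grouplike_eq_of_congr hx hy fun m => hU ?_
  have h1 := congrArg (fun z => (ρ' z).coeff m) h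
  simp only [hρ', MonoidAlgebra.coeff_mapRingHom] at h1
  exact Ideal.Quotient.eq.1 (by simpa using h1)

theorem exists_lift_candidate (i j : ι)
    (hU : I.map (algebraMap R (T i ⊗[R] T j)) ≤ (⊥ : Ideal (T i ⊗[R] T j)).jacobson)
    (hl : ∀ e : red I (T i ⊗[R] T j), IsIdempotentElem e →
      ∃ e' : T i ⊗[R] T j, IsIdempotentElem e' ∧ Ideal.Quotient.mk _ e' = e) (m : M i) :
    ∃ x : MonoidAlgebra (T i ⊗[R] T j) (M j), IsGroupLikeElem (T i ⊗[R] T j) x ∧
      evG ρ0 (Algebra.TensorProduct.includeRight : T j →ₐ[R] T i ⊗[R] T j) x =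
        uHom ρ0 (Algebra.TensorProduct.includeLeft : T i →ₐ[R] T i ⊗[R] T j) m := by
  classical
  let L : T i →ₐ[R] T i ⊗[R] T j := Algebra.TensorProduct.includeLeft
  let Rg : T j →ₐ[R] T i ⊗[R] T j := Algebra.TensorProduct.includeRight
  obtain ⟨ρj, hρj⟩ := exists_split ρ0 j Rg
  obtain ⟨ρi, hρi⟩ := exists_split ρ0 i L
  set w := ρj (uHom ρ0 L m) with hwdef
  have hu : IsGroupLikeElem (red I (T i ⊗[R] T j)) (uHom ρ0 L m) := by
    have h1 : uHom ρ0 L m = ρi.symm (MonoidAlgebra.of (red I (T i ⊗[R] T j)) (M i) m) := by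
      apply EquivLike.injective ρi
      rw [show ρi (ρi.symm (MonoidAlgebra.of (red I (T i ⊗[R] T j)) (M i) m)) = _ from ρi.apply_symm_apply _]
      have h2 := hρi (MonoidAlgebra.single m 1)
      rw [evG_single, map_one, one_smul, MonoidAlgebra.mapRingHom_single, map_one] at h2
      exact h2
    rw [h1]
    exact (MonoidAlgebra.isGroupLikeElem_of m).map ρi.symm
  have hw : IsGroupLikeElem (red I (T i ⊗[R] T j)) w := hu.map ρj
  choose e he hee using fun n : M j => hl _ (grouplike_coeff_idem hw n)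
  let s := w.coeff.support
  have hco : CompleteOrthogonalIdempotents fun n : s => e (n : M j) := by
    have hortho : ∀ n n' : M j, n ≠ n' → e n * e n' = 0 := fun n n' hnn => by
      refine eq_of_idem_sub_mem_jacobson ((he n).mul (he n')) IsIdempotentElem.zero (hU ?_)
      rw [sub_zero, ← Ideal.Quotient.eq_zero_iff_mem, map_mul, hee, hee, grouplike_coeff_mul hw, if_neg hnn]
    refine { idem := fun n => he _, ortho := fun n n' hnn => hortho _ _ fun h => hnn (Subtype.ext h), complete := ?_ }
    have hidem : IsIdempotentElem (∑ n : s, e (n : M j)) :=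
      (OrthogonalIdempotents.mk (fun n : s => he (n : M j)) fun n n' hnn => hortho _ _ fun h => hnn (Subtype.ext h)).isIdempotentElem_sum
    refine eq_of_idem_sub_mem_jacobson hidem IsIdempotentElem.one (hU ?_)
    rw [← Ideal.Quotient.eq_zero_iff_mem, map_sub, map_sum, map_one, sub_eq_zero]
    simp only [hee]
    rw [Finset.sum_coe_sort s (fun n => w.coeff n), ← hw.counit_eq_one, counit_eq_sum]
    rfl
  refine ⟨∑ n : s, MonoidAlgebra.single (n : M j) (e (n : M j)), isGroupLike_sum hco _, ?_⟩
  apply EquivLike.injective ρj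
  rw [hρj, map_sum]
  simp only [MonoidAlgebra.mapRingHom_single, hee]
  rw [Finset.sum_coe_sort s fun n => MonoidAlgebra.single n (w.coeff n), ← hwdef]
  exact w.sum_coeff_single

variable (I) in
/-- The hypotheses needed to lift the descent data. -/
structure Rigid (T : ι → Type u) [∀ i, CommRing (T i)] [∀ i, Algebra R (T i)] : Prop where
  jac₁ : ∀ i, I.map (algebraMap R (T i)) ≤ (⊥ : Ideal (T i)).jacobson
  jac₂ : ∀ i j, I.map (algebraMap R (T i ⊗[R] T j)) ≤ (⊥ : Ideal (T i ⊗[R] T j)).jacobson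
  jac₃ : ∀ i j l, I.map (algebraMap R (T i ⊗[R] (T j ⊗[R] T l))) ≤ (⊥ : Ideal (T i ⊗[R] (T j ⊗[R] T l))).jacobson
  lift : ∀ i j, ∀ e : red I (T i ⊗[R] T j), IsIdempotentElem e →
    ∃ e' : T i ⊗[R] T j, IsIdempotentElem e' ∧ Ideal.Quotient.mk _ e' = e

theorem evG_lift {j l : ι} {U : Type u} [CommRing U] [Algebra R U] (g : T j →ₐ[R] U)
    (h : T l →ₐ[R] U) (z : M j →* MonoidAlgebra U (M l)) (hz : ∀ n, evG ρ0 h (z n) = uHom ρ0 g n)
    (x : MonoidAlgebra U (M j)) :
    evG ρ0 h (MonoidAlgebra.lift U (MonoidAlgebra U (M l)) (M j) z x) = evG ρ0 g x := by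
  induction x using MonoidAlgebra.induction_linear with
  | zero => simp
  | single n r => rw [MonoidAlgebra.lift_single, evG_smul, hz, evG_single]
  | add a b ha hb => simp only [map_add, ha, hb]

/-- The lifted descent datum. -/
theorem exists_datum (hR : Rigid I T) :
    ∃ D : DDiag.Datum R T M, ∀ (i j : ι) (U : Type u) [CommRing U] [Algebra R U] (f : T i →ₐ[R] U) (g : T j →ₐ[R] U)
      (z : MonoidAlgebra U (M i)), evG ρ0 g (DDiag.theta D.γ f g z) = evG ρ0 f z := by
  choose c hc hce using fun i j => exists_lift_candidate ρ0 i j (hR.jac₂ i j) (hR.lift i j)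
  have huniq : ∀ i j m x, IsGroupLikeElem (T i ⊗[R] T j) x →
      evG ρ0 (Algebra.TensorProduct.includeRight : T j →ₐ[R] T i ⊗[R] T j) x =
        uHom ρ0 (Algebra.TensorProduct.includeLeft : T i →ₐ[R] T i ⊗[R] T j) m → x = c i j m :=
    fun i j m x hx h => eq_of_evG ρ0 (hR.jac₂ i j) _ hx (hc i j m) (h.trans (hce i j m).symm)
  let γ : ∀ i j, M i →* MonoidAlgebra (T i ⊗[R] T j) (M j) := fun i j =>
    { toFun := c i j
      map_one' := (huniq i j 1 1 IsGroupLikeElem.one (by rw [map_one, map_one])).symm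
      map_mul' := fun a b => (huniq i j (a * b) _ ((hc i j a).mul (hc i j b))
        (by rw [map_mul, hce, hce, ← map_mul])).symm }
  have hgam : ∀ (i j : ι) (U : Type u) [CommRing U] [Algebra R U] (f : T i →ₐ[R] U) (g : T j →ₐ[R] U) (m : M i),
      IsGroupLikeElem U (DDiag.gam γ f g m) ∧ evG ρ0 g (DDiag.gam γ f g m) = uHom ρ0 f m := by
    intro i j U _ _ f g m
    refine ⟨?_, ?_⟩
    · change IsGroupLikeElem U (DDiag.mapA (M j) _ (c i j m))
      rw [DDiag.mapA_eq_mapRingHom]
      exact DDiag.isGroupLike_mapRingHom _ (hc i j m)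
    · have h1 := congrArg (Algebra.TensorProduct.map (mapQ I (Algebra.TensorProduct.productMap f g))
        (AlgHom.id (R ⧸ I) A₀)) (hce i j m)
      rw [evG_natural, uHom_natural, Algebra.TensorProduct.productMap_left, Algebra.TensorProduct.productMap_right] at h1
      exact h1
  have hself : ∀ i m, DDiag.gam γ (AlgHom.id R (T i)) (AlgHom.id R (T i)) m = MonoidAlgebra.single m 1 := by
    intro i m
    refine eq_of_evG ρ0 (hR.jac₁ i) (AlgHom.id R (T i)) (hgam _ _ _ _ _ m).1
      (MonoidAlgebra.isGroupLikeElem_of m) ?_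
    rw [(hgam _ _ _ _ _ m).2, evG_single, map_one, one_smul]
  have hcoc : ∀ (i j l : ι) (U : Type u) [CommRing U] [Algebra R U] (f : T i →ₐ[R] U) (g : T j →ₐ[R] U)
      (h : T l →ₐ[R] U) (m : M i),
      MonoidAlgebra.lift U (MonoidAlgebra U (M l)) (M j) (DDiag.gam γ g h) (DDiag.gam γ f g m) = DDiag.gam γ f h m := by
    intro i j l U _ _ f g h m
    let W := T i ⊗[R] (T j ⊗[R] T l)
    let a : T i →ₐ[R] W := Algebra.TensorProduct.includeLeft
    let inc : T j ⊗[R] T l →ₐ[R] W := Algebra.TensorProduct.includeRight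
    let b : T j →ₐ[R] W := inc.comp Algebra.TensorProduct.includeLeft
    let d : T l →ₐ[R] W := inc.comp Algebra.TensorProduct.includeRight
    let p : W →ₐ[R] U := Algebra.TensorProduct.productMap f (Algebra.TensorProduct.productMap g h)
    have hW : DDiag.theta γ b d (DDiag.gam γ a b m) = DDiag.gam γ a d m := by
      obtain ⟨θ, hθ⟩ := DDiag.exists_theta_bialg (γ := γ) (fun i j n => hc i j n) b d
      refine eq_of_evG ρ0 (hR.jac₃ i j l) d ?_ (hgam i l W a d m).1 ?_
      · rw [← hθ]
        exact (hgam i j W a b m).1.map θ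
      · rw [(hgam i l W a d m).2, DDiag.theta, evG_lift ρ0 b d _ fun n => (hgam j l W b d n).2]
        exact (hgam i j W a b m).2
    have h2 := congrArg (DDiag.mapA (M l) p) hW
    rw [DDiag.theta_natural, DDiag.gam_natural, DDiag.gam_natural,
      show p.comp a = f from Algebra.TensorProduct.productMap_left f (Algebra.TensorProduct.productMap g h),
      show p.comp b = g from by
        rw [← AlgHom.comp_assoc,
          show p.comp inc = Algebra.TensorProduct.productMap g h from Algebra.TensorProduct.productMap_right f _,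
          Algebra.TensorProduct.productMap_left],
      show p.comp d = h from by
        rw [← AlgHom.comp_assoc,
          show p.comp inc = Algebra.TensorProduct.productMap g h from Algebra.TensorProduct.productMap_right f _,
          Algebra.TensorProduct.productMap_right]] at h2
    exact h2
  refine ⟨⟨γ, fun i j n => hc i j n, hself, hcoc⟩, fun i j U _ _ f g z => ?_⟩
  induction z using MonoidAlgebra.induction_linear with
  | zero => simp
  | single m r => rw [DDiag.theta_single, evG_smul, (hgam i j U f g m).2, evG_single]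
  | add a b ha hb => simp only [map_add, ha, hb]

end DLift

end Groth.Agent.SGA3b53
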