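import Groth.Agent.SGA3b53.DiagLiftDatum
import Groth.Agent.SGA3b53.DiagDescentHopf
import Mathlib

/-!
Lifting groups of multiplicative type along covers.
-/

set_option autoImplicit false
set_option linter.unusedSectionVars false
set_option linter.style.haveILetI false
universe u v w
open TensorProduct

noncomputable section

namespace Groth.Agent.SGA3b53

namespace DLift

variable {R : Type u} [CommRing R] {I : Ideal R}

theorem isCover_red {ι : Type u} {T : ι → Type u} [∀ i, CommRing (T i)] [∀ i, Algebra R (T i)] (hT : IsCover R T) :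
    IsCover (R ⧸ I) fun i => red I (T i) where
  flat i := by
    haveI := hT.flat i
    exact Module.Flat.of_linearEquiv (Algebra.TensorProduct.quotIdealMapEquivQuotTensor (T i) I).toLinearEquiv
  exists_lift p := by
    obtain ⟨i, q, hq⟩ := hT.exists_lift (p.comap (Ideal.Quotient.mk I))
    have hle : I.map (algebraMap R (T i)) ≤ q.asIdeal := by
      rw [Ideal.map_le_iff_le_comap, ← PrimeSpectrum.comap_asIdeal, hq, PrimeSpectrum.comap_asIdeal]
      intro a ha
      rw [Ideal.mem_comap, Ideal.Quotient.eq_zero_iff_mem.2 ha]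
      exact p.asIdeal.zero_mem
    obtain ⟨q', hq'⟩ : q ∈ Set.range (PrimeSpectrum.comap (Ideal.Quotient.mk (I.map (algebraMap R (T i))))) := by
      rw [range_comap_of_surjective _ _ Ideal.Quotient.mk_surjective]
      simpa [Ideal.mk_ker] using hle
    refine ⟨i, q', PrimeSpectrum.comap_injective_of_surjective (Ideal.Quotient.mk I) Ideal.Quotient.mk_surjective ?_⟩
    rw [← hq, ← hq', ← PrimeSpectrum.comap_comp_apply, ← PrimeSpectrum.comap_comp_apply]
    congr 1

/-- Tensors of reductions inject into the reduction of the tensor product. -/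
theorem exists_left_inverse (S S' : Type u) [CommRing S] [Algebra R S] [CommRing S'] [Algebra R S'] :
    ∃ (Φ : red I S ⊗[R ⧸ I] red I S' →ₐ[R ⧸ I] red I (S ⊗[R] S'))
      (Ψ : red I (S ⊗[R] S') →ₐ[R ⧸ I] red I S ⊗[R ⧸ I] red I S'),
      (∀ x, Ψ (Φ x) = x) ∧
      (∀ s, Φ (s ⊗ₜ 1) = mapQ I (Algebra.TensorProduct.includeLeft : S →ₐ[R] S ⊗[R] S') s) ∧
      (∀ s, Φ (1 ⊗ₜ s) = mapQ I (Algebra.TensorProduct.includeRight : S' →ₐ[R] S ⊗[R] S') s) := by
  let Φ : red I S ⊗[R ⧸ I] red I S' →ₐ[R ⧸ I] red I (S ⊗[R] S') := Algebra.TensorProduct.productMap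
    (mapQ I (Algebra.TensorProduct.includeLeft : S →ₐ[R] S ⊗[R] S'))
    (mapQ I (Algebra.TensorProduct.includeRight : S' →ₐ[R] S ⊗[R] S'))
  let ψ₀ : S ⊗[R] S' →ₐ[R] red I S ⊗[R ⧸ I] red I S' := Algebra.TensorProduct.productMap
    (((Algebra.TensorProduct.includeLeft : red I S →ₐ[R ⧸ I] red I S ⊗[R ⧸ I] red I S').restrictScalars R).comp
      (Ideal.Quotient.mkₐ R _))
    (((Algebra.TensorProduct.includeRight : red I S' →ₐ[R ⧸ I] red I S ⊗[R ⧸ I] red I S').restrictScalars R).comp
      (Ideal.Quotient.mkₐ R _))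
  have hker : ∀ x ∈ I.map (algebraMap R (S ⊗[R] S')), ψ₀ x = 0 := by
    intro x hx
    refine (Ideal.map_le_iff_le_comap (K := RingHom.ker (ψ₀ : S ⊗[R] S' →+* red I S ⊗[R ⧸ I] red I S'))).2 ?_ hx
    intro a ha
    rw [Ideal.mem_comap, RingHom.mem_ker, RingHom.coe_coe, AlgHom.commutes,
      IsScalarTower.algebraMap_apply R (R ⧸ I) (red I S ⊗[R ⧸ I] red I S'), Ideal.Quotient.algebraMap_eq,
      Ideal.Quotient.eq_zero_iff_mem.2 ha, map_zero]
  let Ψ : red I (S ⊗[R] S') →ₐ[R ⧸ I] red I S ⊗[R ⧸ I] red I S' :=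
    AlgHom.extendScalarsOfSurjective Ideal.Quotient.mk_surjective (Ideal.Quotient.liftₐ _ ψ₀ hker)
  have hL : ∀ s, Φ (s ⊗ₜ 1) = mapQ I (Algebra.TensorProduct.includeLeft : S →ₐ[R] S ⊗[R] S') s := fun s => by
    simp [Φ]
  have hR : ∀ s, Φ (1 ⊗ₜ s) = mapQ I (Algebra.TensorProduct.includeRight : S' →ₐ[R] S ⊗[R] S') s := fun s => by
    simp [Φ]
  refine ⟨Φ, Ψ, fun x => AlgHom.congr_fun (Algebra.TensorProduct.ext' (fun a b => ?_) : Ψ.comp Φ = AlgHom.id _ _) x, hL, hR⟩
  obtain ⟨a, rfl⟩ := Ideal.Quotient.mk_surjective a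
  obtain ⟨b, rfl⟩ := Ideal.Quotient.mk_surjective b
  rw [AlgHom.comp_apply, AlgHom.id_apply,
    show (Ideal.Quotient.mk _ a : red I S) ⊗ₜ[R ⧸ I] (Ideal.Quotient.mk _ b : red I S') =
      (Ideal.Quotient.mk _ a : red I S) ⊗ₜ[R ⧸ I] (1 : red I S') * (1 : red I S) ⊗ₜ[R ⧸ I] (Ideal.Quotient.mk _ b : red I S') by simp,
    map_mul, map_mul, hL, hR, mapQ_mk, mapQ_mk]
  change ψ₀ (a ⊗ₜ[R] (1 : S')) * ψ₀ ((1 : S) ⊗ₜ[R] b) = _
  simp [ψ₀]

theorem comul_one_tmul (S : Type u) [CommRing S] {B : Type u} [CommRing B] {K : Type u} [CommRing K] [Bialgebra K B]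
    [Algebra K S] (x : B) :
    Coalgebra.comul (R := S) ((1 : S) ⊗ₜ[K] x) = Model.eT (AlgEquiv.refl : S ⊗[K] B ≃ₐ[S] _) AlgEquiv.refl
      ((1 : S) ⊗ₜ[K] Coalgebra.comul (R := K) x) := by
  rw [TensorProduct.comul_tmul, Bialgebra.comul_one]
  induction Coalgebra.comul (R := K) x with
  | zero => simp
  | add a b ha hb => simp only [tmul_add, map_add, ha, hb]
  | tmul x y => simp [Model.eT_tmul, Algebra.TensorProduct.one_def]

theorem counit_one_tmul (S : Type u) [CommRing S] {B : Type u} [CommRing B] {K : Type u} [CommRing K] [Bialgebra K B]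
    [Algebra K S] (x : B) :
    Coalgebra.counit (R := S) ((1 : S) ⊗ₜ[K] x) = algebraMap K S (Coalgebra.counit (R := K) x) := by
  rw [TensorProduct.counit_tmul]
  simp [Algebra.algebraMap_eq_smul_one]

/-- An algebra map which becomes a bialgebra isomorphism on a cover is one. -/
theorem nonempty_bialgEquiv_of_cover {K : Type u} [CommRing K] {ι : Type u} {S : ι → Type u} [∀ i, CommRing (S i)]
    [∀ i, Algebra K (S i)] (hS : IsCover K S) {P : Type u} [CommRing P] [Bialgebra K P] {B : Type u} [CommRing B]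
    [Bialgebra K B] (χ : P →ₐ[K] B) (e : ∀ i, S i ⊗[K] P ≃ₐc[S i] S i ⊗[K] B)
    (he : ∀ i (z : P), e i ((1 : S i) ⊗ₜ[K] z) = (1 : S i) ⊗ₜ[K] χ z) : Nonempty (P ≃ₐc[K] B) := by
  have hl : ∀ i, (χ.toLinearMap.lTensor (S i) : _ → _) = e i := fun i => by
    funext w
    induction w with
    | zero => simp
    | add a b ha hb => simp only [map_add, ha, hb]
    | tmul s z =>
      rw [LinearMap.lTensor_tmul, show e i (s ⊗ₜ[K] z) = s • e i ((1 : S i) ⊗ₜ[K] z) by
        rw [← map_smul, smul_tmul', smul_eq_mul, mul_one], he, smul_tmul', smul_eq_mul, mul_one]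
      rfl
  have hbij : Function.Bijective χ :=
    ⟨hS.injective χ.toLinearMap fun i => by rw [hl]; exact EquivLike.injective (e i),
      hS.surjective χ.toLinearMap fun i => by rw [hl]; exact EquivLike.surjective (e i)⟩
  have hcounit : ∀ z, Coalgebra.counit (R := K) (χ z) = Coalgebra.counit (R := K) z := fun z =>
    sub_eq_zero.1 (hS.eq_zero fun i => by
      have h1 : algebraMap K (S i) (Coalgebra.counit (R := K) (χ z)) = algebraMap K (S i) (Coalgebra.counit (R := K) z) := by
        rw [← counit_one_tmul, ← counit_one_tmul, ← he]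
        exact CoalgHomClass.counit_comp_apply (e i) _
      apply (TensorProduct.rid K (S i)).injective
      rw [map_zero, TensorProduct.rid_tmul, ← Algebra.algebraMap_eq_smul_one, map_sub, h1, sub_self])
  have hcomul : ∀ z, Coalgebra.comul (R := K) (χ z) = Algebra.TensorProduct.map χ χ (Coalgebra.comul (R := K) z) := fun z =>
    sub_eq_zero.1 (hS.eq_zero fun i => by
      refine (map_sub (TensorProduct.mk K (S i) (B ⊗[K] B) 1) _ _).trans (sub_eq_zero.2 ?_)
      apply (Model.eT (AlgEquiv.refl : S i ⊗[K] B ≃ₐ[S i] _) AlgEquiv.refl).injective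
      simp only [TensorProduct.mk_apply]
      rw [← comul_one_tmul, ← he, ← CoalgHomClass.map_comp_comul_apply (e i), comul_one_tmul]
      generalize Coalgebra.comul (R := K) z = w
      induction w with
      | zero => simp
      | add a b ha hb => simp only [tmul_add, map_add, ha, hb]
      | tmul x y => simp [Model.eT_tmul, he])
  let χ' : P ≃ₐ[K] B := AlgEquiv.ofBijective χ hbij
  exact ⟨BialgEquiv.ofAlgEquiv χ' (AlgHom.ext hcounit) (AlgHom.ext fun z => (hcomul z).symm)⟩

/-- Lifting along a cover. -/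
theorem exists_lift {A₀ : Type u} [CommRing A₀] [HopfAlgebra (R ⧸ I) A₀] {ι : Type u} [Finite ι] {T : ι → Type u}
    [∀ i, CommRing (T i)] [∀ i, Algebra R (T i)] (hT : IsCover R T) (hR : Rigid I T)
    (hd : ∀ i, SGA3b.IsDiag (red I (T i)) (red I (T i) ⊗[R ⧸ I] A₀)) :
    ∃ (A : Type u) (_ : CommRing A) (_ : HopfAlgebra R A), (∀ i, SGA3b.IsDiag (T i) (T i ⊗[R] A)) ∧
      Nonempty (((R ⧸ I) ⊗[R] A) ≃ₐc[R ⧸ I] A₀) := by
  choose M hM hρ using hd
  let ρ0 := fun i => (hρ i).some
  obtain ⟨D, hD⟩ := exists_datum ρ0 hR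
  obtain ⟨A, _, _, ρ, hglue⟩ := DDiag.exists_descended D hT.flat hT
  refine ⟨A, inferInstance, inferInstance, fun i => ⟨M i, inferInstance, ⟨ρ i⟩⟩, ?_⟩
  have hC := isCover_red (I := I) hT
  let y : A → ∀ k, red I (T k) ⊗[R ⧸ I] A₀ := fun a k => evG ρ0 (AlgHom.id R (T k)) (ρ k ((1 : T k) ⊗ₜ[R] a))
  have hy : ∀ a i j, ((TensorProduct.mk (R ⧸ I) (red I (T j)) (red I (T i))).flip 1).rTensor A₀ (y a j) =
      ((TensorProduct.mk (R ⧸ I) (red I (T j)) (red I (T i))) 1).rTensor A₀ (y a i) := by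
    intro a i j
    let U := T j ⊗[R] T i
    let L : T j →ₐ[R] U := Algebra.TensorProduct.includeLeft
    let Rg : T i →ₐ[R] U := Algebra.TensorProduct.includeRight
    obtain ⟨Φ, Ψ, hΨ, hΦL, hΦR⟩ := exists_left_inverse (I := I) (T j) (T i)
    have hinv : ∀ w : (red I (T j) ⊗[R ⧸ I] red I (T i)) ⊗[R ⧸ I] A₀,
        Algebra.TensorProduct.map Ψ (AlgHom.id _ A₀) (Algebra.TensorProduct.map Φ (AlgHom.id _ A₀) w) = w := by
      intro w
      induction w with
      | zero => simp
      | add a b ha hb => simp only [map_add, ha, hb]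
      | tmul s x => simp [hΨ]
    have hl : ∀ w : red I (T j) ⊗[R ⧸ I] A₀, Algebra.TensorProduct.map Φ (AlgHom.id _ A₀)
        (((TensorProduct.mk (R ⧸ I) (red I (T j)) (red I (T i))).flip 1).rTensor A₀ w) =
        Algebra.TensorProduct.map (mapQ I L) (AlgHom.id _ A₀) w := by
      intro w
      induction w with
      | zero => simp
      | add a b ha hb => simp only [map_add, ha, hb]
      | tmul s x => simp [hΦL, L]
    have hr : ∀ w : red I (T i) ⊗[R ⧸ I] A₀, Algebra.TensorProduct.map Φ (AlgHom.id _ A₀)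
        (((TensorProduct.mk (R ⧸ I) (red I (T j)) (red I (T i))) 1).rTensor A₀ w) =
        Algebra.TensorProduct.map (mapQ I Rg) (AlgHom.id _ A₀) w := by
      intro w
      induction w with
      | zero => simp
      | add a b ha hb => simp only [map_add, ha, hb]
      | tmul s x => simp [hΦR, Rg]
    apply Function.LeftInverse.injective hinv
    rw [hl, hr]
    simp only [y, evG_natural, AlgHom.comp_id]
    rw [← hglue j i U L Rg a, hD]
  choose x hx using fun a => hC.descend (y a) (hy a)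
  have huniq : ∀ a b : A₀, (∀ k, (1 : red I (T k)) ⊗ₜ[R ⧸ I] a = (1 : red I (T k)) ⊗ₜ[R ⧸ I] b) → a = b := fun a b h =>
    sub_eq_zero.1 (hC.eq_zero fun k => by rw [tmul_sub, h k, sub_self])
  have hyadd : ∀ a b k, y (a + b) k = y a k + y b k := fun a b k => by simp [y, tmul_add]
  have hymul : ∀ a b k, y (a * b) k = y a k * y b k := fun a b k => by
    simp only [y]
    rw [← one_mul (1 : T k), ← Algebra.TensorProduct.tmul_mul_tmul, map_mul, map_mul, one_mul]
  have hyone : ∀ k, y 1 k = 1 := fun k => by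
    simp only [y]
    rw [← Algebra.TensorProduct.one_def, map_one, map_one]
  letI : Algebra R A₀ := ((algebraMap (R ⧸ I) A₀).comp (Ideal.Quotient.mk I)).toAlgebra
  haveI : IsScalarTower R (R ⧸ I) A₀ := IsScalarTower.of_algebraMap_eq fun _ => rfl
  let χ₀ : A →ₐ[R] A₀ :=
    { toFun := x
      map_one' := huniq _ _ fun k => by rw [hx, hyone, Algebra.TensorProduct.one_def]
      map_mul' := fun a b => huniq _ _ fun k => by
        rw [hx, hymul, ← hx a k, ← hx b k, Algebra.TensorProduct.tmul_mul_tmul, one_mul]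
      map_zero' := huniq _ _ fun k => by rw [hx, tmul_zero]; simp [y]
      map_add' := fun a b => huniq _ _ fun k => by rw [hx, hyadd, tmul_add, hx, hx]
      commutes' := fun r => huniq _ _ fun k => by
        rw [hx, IsScalarTower.algebraMap_apply R (R ⧸ I) A₀, Ideal.Quotient.algebraMap_eq,
          Algebra.algebraMap_eq_smul_one (Ideal.Quotient.mk I r : R ⧸ I),
          tmul_smul, ← Algebra.TensorProduct.one_def]
        simp only [y]
        rw [Algebra.algebraMap_eq_smul_one (R := R) (A := A), tmul_smul, ← Algebra.TensorProduct.one_def,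
          ← algebraMap_smul (T k) r, map_smul, map_one, evG_smul, map_one, ← algebraMap_smul (red I (T k)) (Ideal.Quotient.mk I r)]
        rfl }
  let χ : (R ⧸ I) ⊗[R] A →ₐ[R ⧸ I] A₀ := Algebra.TensorProduct.lift (Algebra.ofId _ _) χ₀ fun _ _ => Commute.all _ _
  have he : ∀ k, ∃ e : red I (T k) ⊗[R ⧸ I] ((R ⧸ I) ⊗[R] A) ≃ₐc[red I (T k)] red I (T k) ⊗[R ⧸ I] A₀,
      ∀ z, e ((1 : red I (T k)) ⊗ₜ z) = (1 : red I (T k)) ⊗ₜ χ z := by
    intro k
    obtain ⟨ρ', hρ'⟩ := exists_split_map (Ideal.Quotient.mkₐ R (I.map (algebraMap R (T k)))) (ρ k)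
    refine ⟨((cancelBC R (R ⧸ I) (red I (T k)) A).trans ρ').trans (ρ0 k).symm, fun z => ?_⟩
    have hev : ∀ w : MonoidAlgebra (T k) (M k),
        (ρ0 k).symm (MonoidAlgebra.mapRingHom (M k) (Ideal.Quotient.mk (I.map (algebraMap R (T k)))) w) =
          evG ρ0 (AlgHom.id R (T k)) w := by
      intro w
      induction w using MonoidAlgebra.induction_linear with
      | zero => simp
      | add a b ha hb => simp only [map_add, ha, hb]
      | single m r =>
        have hmq : mapQ I (AlgHom.id R (T k)) = AlgHom.id (R ⧸ I) (red I (T k)) := AlgHom.ext fun t => by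
          obtain ⟨t, rfl⟩ := Ideal.Quotient.mk_surjective t
          rfl
        rw [evG_single, MonoidAlgebra.mapRingHom_single, uHom, hmq, Algebra.TensorProduct.map_id, show MonoidAlgebra.single m
          (Ideal.Quotient.mk (I.map (algebraMap R (T k))) r) = Ideal.Quotient.mk (I.map (algebraMap R (T k))) r •
            MonoidAlgebra.single m (1 : red I (T k)) by rw [MonoidAlgebra.smul_single', mul_one], map_smul]
        rfl
    induction z with
    | zero => simp
    | add a b ha hb => simp only [tmul_add, map_add, ha, hb]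
    | tmul r a =>
      obtain ⟨r, rfl⟩ := Ideal.Quotient.mk_surjective r
      change (ρ0 k).symm (ρ' (cancelBC R (R ⧸ I) (red I (T k)) A _)) = (1 : red I (T k)) ⊗ₜ[R ⧸ I] (algebraMap (R ⧸ I) A₀ (Ideal.Quotient.mk I r) * x a)
      rw [cancelBC_tmul, ← Algebra.smul_def, tmul_smul, hx,
        show (Ideal.Quotient.mk I r • (1 : red I (T k))) ⊗ₜ[R] a =
          Algebra.TensorProduct.map (Ideal.Quotient.mkₐ R (I.map (algebraMap R (T k)))) (AlgHom.id R A) (algebraMap R (T k) r ⊗ₜ[R] a) from by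
        rw [Algebra.TensorProduct.map_tmul, Algebra.smul_def, mul_one]; rfl,
        hρ', show algebraMap R (T k) r ⊗ₜ[R] a = algebraMap R (T k) r • ((1 : T k) ⊗ₜ[R] a) by rw [smul_tmul', smul_eq_mul, mul_one],
        map_smul]
      rw [show ((Ideal.Quotient.mkₐ R (I.map (algebraMap R (T k))) : T k →ₐ[R] red I (T k)) : T k →+* red I (T k)) =
        Ideal.Quotient.mk (I.map (algebraMap R (T k))) from rfl, hev, evG_smul, ← algebraMap_smul (red I (T k)) (Ideal.Quotient.mk I r)]
      rfl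
  choose e he using he
  exact nonempty_bialgEquiv_of_cover hC χ e he

end DLift

end Groth.Agent.SGA3b53
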