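import Groth.Agent.SGA3b53.FlatNil
import Groth.Agent.SGA3b53.Algebraize
import Mathlib

/-!
Compatible diagonalisations over the quotients by powers of an ideal.
-/

set_option autoImplicit false
set_option linter.unusedSectionVars false
set_option linter.style.haveILetI false
universe u v w
open TensorProduct

noncomputable section

namespace Groth.Agent.SGA3b53

variable {R : Type u} [CommRing R] {C : Type u} [CommRing C] [HopfAlgebra R C] {M : Type u} [CommGroup M]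
variable {T : Type u} [CommRing T] [Algebra R T] {T' : Type u} [CommRing T'] [Algebra R T']

theorem nil_of_isNilpotent {J : Ideal T} (hJ : IsNilpotent J) {x : T} (hx : x ∈ J) : IsNilpotent x := by
  obtain ⟨n, hn⟩ := hJ
  exact ⟨n, by simpa [show J ^ n = ⊥ from hn] using Ideal.pow_mem_pow hx n⟩

theorem le_jacobson_of_isNilpotent {J : Ideal T} (hJ : IsNilpotent J) : J ≤ (⊥ : Ideal T).jacobson :=
  fun _ hx => Ideal.radical_le_jacobson (by
    obtain ⟨n, hn⟩ := nil_of_isNilpotent hJ hx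
    exact ⟨n, by simp [hn]⟩)

/-- A diagonalisation lifts along a surjection with nilpotent kernel. -/
theorem exists_diag_lift (q : T →ₐ[R] T') (hqs : Function.Surjective q) (hq : IsNilpotent (RingHom.ker (q : T →+* T')))
    [Module.Flat T (T ⊗[R] C)] (ρ0 : T' ⊗[R] C ≃ₐc[T'] MonoidAlgebra T' M) :
    ∃ ρ : T ⊗[R] C ≃ₐc[T] MonoidAlgebra T M, ∀ z,
      ρ0 (Algebra.TensorProduct.map q (AlgHom.id R C) z) = MonoidAlgebra.mapRingHom M (q : T →+* T') (ρ z) := by
  classical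
  let J := RingHom.ker (q : T →+* T')
  let qJ : T →ₐ[R] T ⧸ J := Ideal.Quotient.mkₐ R J
  let e : (T ⧸ J) ≃ₐ[R] T' := Ideal.quotientKerAlgEquivOfSurjective (f := q) hqs
  obtain ⟨ρJ, hρJ⟩ := exists_split_map (e.symm : T' →ₐ[R] T ⧸ J) ρ0
  have hd : SGA3b.IsDiag T (T ⊗[R] C) := isDiag_of_flat_mod_nilpotent J hq
    (isDiag_of_equiv (cancelBC R T (T ⧸ J) C).symm ⟨M, inferInstance, ⟨ρJ⟩⟩)
  have hn : ∀ x ∈ RingHom.ker (q : T →+* T'), IsNilpotent x := fun x hx => nil_of_isNilpotent hq hx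
  have hj : RingHom.ker (q : T →+* T') ≤ (⊥ : Ideal T).jacobson := le_jacobson_of_isNilpotent hq
  have hg0 : ∀ m : M, IsGroupLikeElem T' (ρ0.symm (MonoidAlgebra.of T' M m)) :=
    fun m => (MonoidAlgebra.isGroupLikeElem_of m).map ρ0.symm
  choose γ hγg hγq using fun m => exists_grouplike_lift hd q hqs hn (hg0 m)
  have huniq : ∀ m x, IsGroupLikeElem T x → Algebra.TensorProduct.map q (AlgHom.id R C) x = ρ0.symm (MonoidAlgebra.of T' M m) →
      x = γ m := fun m x hx h => grouplike_eq_of_map_eq hd q hj hx (hγg m) (h.trans (hγq m).symm)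
  let γ' : M →* T ⊗[R] C :=
    { toFun := γ
      map_one' := (huniq 1 1 IsGroupLikeElem.one (by rw [map_one, map_one, map_one])).symm
      map_mul' := fun a b => (huniq (a * b) _ ((hγg a).mul (hγg b)) (by
        rw [map_mul, hγq, hγq, map_mul, map_mul])).symm }
  obtain ⟨θ, hθ⟩ := exists_bialgHom_of_grouplike γ' hγg
  let eJ : (T ⧸ J) ⊗[T] (T ⊗[R] C) ≃ₐc[T ⧸ J] MonoidAlgebra (T ⧸ J) M := (cancelBC R T (T ⧸ J) C).trans ρJ
  let b0 : Module.Basis M (T ⧸ J) ((T ⧸ J) ⊗[T] (T ⊗[R] C)) :=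
    Module.Basis.map (MonoidAlgebra.basis M (T ⧸ J)) eJ.symm.toLinearEquiv
  have hx : ∀ m, (1 : T ⧸ J) ⊗ₜ[T] γ m = b0 m := by
    intro m
    apply EquivLike.injective eJ
    rw [show eJ (b0 m) = MonoidAlgebra.single m 1 by simp [b0]; exact eJ.apply_symm_apply _]
    change ρJ (cancelBC R T (T ⧸ J) C ((1 : T ⧸ J) ⊗ₜ[T] γ m)) = _
    have h1 : cancelBC R T (T ⧸ J) C ((1 : T ⧸ J) ⊗ₜ[T] γ m) =
        Algebra.TensorProduct.map (e.symm : T' →ₐ[R] T ⧸ J) (AlgHom.id R C) (Algebra.TensorProduct.map q (AlgHom.id R C) (γ m)) := by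
      generalize γ m = z
      induction z with
      | zero => simp
      | add a b ha hb => simp only [map_add, tmul_add, ha, hb]
      | tmul t c =>
        rw [cancelBC_tmul, Algebra.smul_def, mul_one, Algebra.TensorProduct.map_tmul, Algebra.TensorProduct.map_tmul]
        congr 1
        simp only [AlgEquiv.coe_toAlgHom]
        rw [Ideal.Quotient.algebraMap_eq, eq_comm, AlgEquiv.symm_apply_eq]
        rfl
    rw [h1, hρJ, hγq, show ρ0 (ρ0.symm (MonoidAlgebra.of T' M m)) = MonoidAlgebra.of T' M m from ρ0.apply_symm_apply _]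
    simp
  obtain ⟨b, hb⟩ := exists_basis_lift J hq b0 γ hx
  have hθ' : (θ : MonoidAlgebra T M → T ⊗[R] C) = (MonoidAlgebra.basis M T).equiv b (Equiv.refl M) := by
    funext y
    induction y using MonoidAlgebra.induction_linear with
    | zero => simp
    | add u v hu hv => simp only [map_add, hu, hv]
    | single m r =>
      rw [hθ, show MonoidAlgebra.single m r = r • MonoidAlgebra.basis M T m by simp, map_smul,
        Module.Basis.equiv_apply, Equiv.refl_apply, hb]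
      rfl
  refine ⟨(BialgEquiv.ofBijective θ (by rw [hθ']; exact LinearEquiv.bijective _)).symm, fun z => ?_⟩
  obtain ⟨w, rfl⟩ : ∃ w, θ w = z := by
    have h1 : Function.Surjective θ := by rw [hθ']; exact LinearEquiv.surjective _
    exact h1 z
  rw [show (BialgEquiv.ofBijective θ (by rw [hθ']; exact LinearEquiv.bijective _)).symm (θ w) = w from
    (BialgEquiv.ofBijective θ (by rw [hθ']; exact LinearEquiv.bijective _)).symm_apply_apply w]
  induction w using MonoidAlgebra.induction_linear with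
  | zero => simp
  | add u v hu hv => simp only [map_add, hu, hv]
  | single m r =>
    rw [hθ, show γ' m = γ m from rfl, Algebra.smul_def, map_mul, map_mul, hγq,
      show ρ0 (ρ0.symm (MonoidAlgebra.of T' M m)) = MonoidAlgebra.of T' M m from ρ0.apply_symm_apply _]
    rw [Algebra.TensorProduct.algebraMap_apply, Algebra.TensorProduct.map_tmul, map_one,
      show (q (algebraMap T T r)) ⊗ₜ[R] (1 : C) = algebraMap T' (T' ⊗[R] C) (q r) from rfl,
      show ρ0 (algebraMap T' (T' ⊗[R] C) (q r)) = algebraMap T' (MonoidAlgebra T' M) (q r) from AlgHomClass.commutes ρ0 _]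
    simp

/-- Lifts of a diagonalisation are unique. -/
theorem diag_lift_unique (q : T →ₐ[R] T') (hq : RingHom.ker (q : T →+* T') ≤ (⊥ : Ideal T).jacobson)
    (ρ0 : T' ⊗[R] C ≃ₐc[T'] MonoidAlgebra T' M) (ρ ρ' : T ⊗[R] C ≃ₐc[T] MonoidAlgebra T M)
    (h : ∀ z, ρ0 (Algebra.TensorProduct.map q (AlgHom.id R C) z) = MonoidAlgebra.mapRingHom M (q : T →+* T') (ρ z))
    (h' : ∀ z, ρ0 (Algebra.TensorProduct.map q (AlgHom.id R C) z) = MonoidAlgebra.mapRingHom M (q : T →+* T') (ρ' z))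
    (z : T ⊗[R] C) : ρ z = ρ' z := by
  have hm : ∀ m, ρ.symm (MonoidAlgebra.of T M m) = ρ'.symm (MonoidAlgebra.of T M m) := fun m => by
    refine grouplike_eq_of_map_eq ⟨M, inferInstance, ⟨ρ⟩⟩ q hq ((MonoidAlgebra.isGroupLikeElem_of m).map ρ.symm)
      ((MonoidAlgebra.isGroupLikeElem_of m).map ρ'.symm) ?_
    apply EquivLike.injective ρ0
    rw [h, h', show ρ (ρ.symm (MonoidAlgebra.of T M m)) = MonoidAlgebra.of T M m from ρ.apply_symm_apply _,
      show ρ' (ρ'.symm (MonoidAlgebra.of T M m)) = MonoidAlgebra.of T M m from ρ'.apply_symm_apply _]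
  obtain ⟨w, rfl⟩ : ∃ w, ρ.symm w = z := ⟨ρ z, ρ.symm_apply_apply z⟩
  rw [show ρ (ρ.symm w) = w from ρ.apply_symm_apply _]
  induction w using MonoidAlgebra.induction_linear with
  | zero => simp
  | add u v hu hv => simp only [map_add, ← hu, ← hv]
  | single m r =>
    rw [show MonoidAlgebra.single m r = r • MonoidAlgebra.of T M m by simp, map_smul, hm, map_smul,
      show ρ' (ρ'.symm (MonoidAlgebra.of T M m)) = MonoidAlgebra.of T M m from ρ'.apply_symm_apply _]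

/-- The compatible system of diagonalisations over the infinitesimal neighbourhoods, algebraised. -/
theorem exists_formal_diag [IsNoetherianRing R] (I : Ideal R) [IsAdicComplete I R]
    (hflat : ∀ k, Module.Flat (R ⧸ I ^ k) ((R ⧸ I ^ k) ⊗[R] C))
    (ρ1 : (R ⧸ I) ⊗[R] C ≃ₐc[R ⧸ I] MonoidAlgebra (R ⧸ I) M) :
    ∃ (φ : C →ₐc[R] MonoidAlgebra R M) (ρ : ∀ k, (R ⧸ I ^ (k + 1)) ⊗[R] C ≃ₐc[R ⧸ I ^ (k + 1)] MonoidAlgebra (R ⧸ I ^ (k + 1)) M),
      ∀ k c, MonoidAlgebra.mapRingHom M (Ideal.Quotient.mk (I ^ (k + 1))) (φ c) = ρ k ((1 : R ⧸ I ^ (k + 1)) ⊗ₜ[R] c) := by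
  have hle : ∀ k, I ^ (k + 1) ≤ I := fun k => Ideal.pow_le_self (Nat.succ_ne_zero k)
  let q : ∀ k, (R ⧸ I ^ (k + 1)) →ₐ[R] R ⧸ I := fun k => Ideal.Quotient.factorₐ R (hle k)
  have hq : ∀ k, IsNilpotent (RingHom.ker (q k : (R ⧸ I ^ (k + 1)) →+* R ⧸ I)) := fun k => by
    refine ⟨k + 1, ?_⟩
    have h1 : RingHom.ker (q k : (R ⧸ I ^ (k + 1)) →+* R ⧸ I) = I.map (Ideal.Quotient.mk (I ^ (k + 1))) :=
      Ideal.Quotient.factor_ker (hle k)
    rw [h1, ← Ideal.map_pow, Ideal.map_quotient_self]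
    rfl
  have hqs : ∀ k, Function.Surjective (q k) := fun k x => by
    obtain ⟨r, rfl⟩ := Ideal.Quotient.mk_surjective x
    exact ⟨Ideal.Quotient.mk _ r, rfl⟩
  choose ρ hρ using fun k => exists_diag_lift (q k) (hqs k) (hq k) ρ1
  let t : ∀ k, (R ⧸ I ^ (k + 1)) →ₐ[R] R ⧸ I ^ k := fun k => Ideal.Quotient.factorₐ R (Ideal.pow_le_pow_right (Nat.le_succ k))
  choose σ hσ using fun k => exists_split_map (t k) (ρ k)
  have hstep : ∀ k z, σ (k + 1) z = ρ k z := fun k z => diag_lift_unique (q k) (le_jacobson_of_isNilpotent (hq k)) ρ1 (σ (k + 1)) (ρ k)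
    (fun w => by
      obtain ⟨w', rfl⟩ : ∃ w', Algebra.TensorProduct.map (t (k + 1)) (AlgHom.id R C) w' = w := by
        refine LinearMap.rTensor_surjective C (g := (t (k + 1)).toLinearMap) (fun x => ?_) w
        obtain ⟨r, rfl⟩ := Ideal.Quotient.mk_surjective x
        exact ⟨Ideal.Quotient.mk _ r, rfl⟩
      have e1 : (q k).comp (t (k + 1)) = q (k + 1) := AlgHom.ext fun x => by
        obtain ⟨r, rfl⟩ := Ideal.Quotient.mk_surjective x
        rfl
      rw [hσ, ← AlgHom.comp_apply, ← Algebra.TensorProduct.map_comp, e1, AlgHom.id_comp, hρ]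
      refine MonoidAlgebra.ext (Finsupp.ext fun m => ?_)
      simp only [MonoidAlgebra.coeff_mapRingHom]
      rw [← e1]
      rfl) (hρ k) z
  obtain ⟨φ, hφ⟩ := exists_algebraization I (fun k => ((σ k : (R ⧸ I ^ k) ⊗[R] C ≃ₐc[R ⧸ I ^ k] MonoidAlgebra (R ⧸ I ^ k) M) :
      (R ⧸ I ^ k) ⊗[R] C →ₐc[R ⧸ I ^ k] MonoidAlgebra (R ⧸ I ^ k) M)) (fun k c m => by
    have h1 : Algebra.TensorProduct.map (t k) (AlgHom.id R C) ((1 : R ⧸ I ^ (k + 1)) ⊗ₜ[R] c) = (1 : R ⧸ I ^ k) ⊗ₜ[R] c := by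
      rw [Algebra.TensorProduct.map_tmul, map_one]
      rfl
    change Ideal.Quotient.factor _ ((σ (k + 1) ((1 : R ⧸ I ^ (k + 1)) ⊗ₜ[R] c)).coeff m) = (σ k ((1 : R ⧸ I ^ k) ⊗ₜ[R] c)).coeff m
    rw [hstep, ← h1, hσ]
    simp
    rfl)
  exact ⟨φ, ρ, fun k c => (hφ (k + 1) c).trans (hstep k _)⟩

end Groth.Agent.SGA3b53
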