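import Groth.Agent.SGA3b53.HopfKer
import Groth.Agent.SGA3b53.MultBC
import Groth.Agent.SGA3b53.GLLift
import Groth.Prelude.Def_CartDual
import Mathlib

/-!
Group-like elements of a finite group are points of the dual; the dual of a group of
multiplicative type is etale.
-/

set_option autoImplicit false
set_option linter.unusedSectionVars false
set_option linter.style.haveILetI false
universe u v w
open TensorProduct

noncomputable section

namespace Groth.Agent.SGA3b53

variable {R : Type u} [CommRing R] {A : Type u} [CommRing A] [HopfAlgebra R A]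
variable {T : Type u} [CommRing T] [Algebra R T]

/-- A linear form extended to the base change. -/
def dext (x : CartDual.D R A) : T ⊗[R] A →ₗ[T] T :=
  (AlgebraTensorModule.rid R T T).toLinearMap ∘ₗ x.ofConv.baseChange T

@[simp] theorem dext_tmul (x : CartDual.D R A) (t : T) (a : A) : dext x (t ⊗ₜ[R] a) = x a • t := by
  simp [dext, CartDual.coe_apply]

theorem dext_add (x y : CartDual.D R A) (g : T ⊗[R] A) : dext (x + y) g = dext x g + dext y g := by
  induction g with
  | zero => simp
  | add p q hp hq => simp only [map_add, hp, hq]; abel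
  | tmul r a => simp [add_smul]

theorem dext_smul (c : R) (x : CartDual.D R A) (g : T ⊗[R] A) : dext (c • x) g = c • dext x g := by
  induction g with
  | zero => simp
  | add p q hp hq => simp only [map_add, smul_add, hp, hq]
  | tmul r a => simp [smul_smul]

/-- Two forms on the tensor square of the base change. -/
def dext₂ (x y : CartDual.D R A) : (T ⊗[R] A) ⊗[T] (T ⊗[R] A) →ₗ[T] T :=
  (TensorProduct.lid T T).toLinearMap ∘ₗ TensorProduct.map (dext x) (dext y)

theorem dext_one (g : T ⊗[R] A) : dext (1 : CartDual.D R A) g = Coalgebra.counit (R := T) g := by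
  induction g with
  | zero => simp
  | add p q hp hq => simp only [map_add, hp, hq]
  | tmul r a => simp [LinearMap.convOne_def]

theorem dext₂_comul (x y : CartDual.D R A) (g : T ⊗[R] A) :
    dext₂ x y (Coalgebra.comul (R := T) g) = dext (x * y) g := by
  induction g with
  | zero => simp
  | add p q hp hq => simp only [map_add, hp, hq]
  | tmul r a =>
    rw [TensorProduct.comul_tmul, dext_tmul, LinearMap.convMul_apply, CommSemiring.comul_apply]
    generalize Coalgebra.comul (R := R) a = t
    induction t with
    | zero => simp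
    | add p q hp hq => simp only [map_add, tmul_add, add_smul, hp, hq]
    | tmul b c =>
      simp [dext₂, CartDual.coe_apply, Algebra.smul_def]
      ring

variable [Module.Finite R A] [Module.Projective R A]

variable (R A) in
theorem exists_dual_system : ∃ (n : ℕ) (b : Fin n → A) (c : Fin n → CartDual.D R A), ∀ a, ∑ i, c i a • b i = a := by
  obtain ⟨n, f, g, -, -, hfg⟩ := Module.Finite.exists_comp_eq_id_of_projective R A
  classical
  refine ⟨n, fun i => f (Pi.single i 1), fun i => WithConv.toConv ((LinearMap.proj i).comp g), fun a => ?_⟩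
  have h1 : f (g a) = a := LinearMap.congr_fun hfg a
  conv_rhs => rw [← h1, pi_eq_sum_univ (g a), map_sum]
  refine Finset.sum_congr rfl fun i _ => ?_
  rw [map_smul, show (fun j => if i = j then (1 : R) else 0) = Pi.single i 1 from
    funext fun j => by simp [Pi.single_apply, eq_comm]]
  rfl

theorem dext_injective {g h : T ⊗[R] A} (e : ∀ x, dext x g = dext (T := T) x h) : g = h := by
  obtain ⟨n, b, c, hbc⟩ := exists_dual_system R A
  have key : ∀ z : T ⊗[R] A, ∑ i, dext (c i) z ⊗ₜ[R] b i = z := by
    intro z
    induction z with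
    | zero => simp
    | add p q hp hq => simp only [map_add, add_tmul, Finset.sum_add_distrib, hp, hq]
    | tmul t a =>
      simp only [dext_tmul, TensorProduct.smul_tmul, ← TensorProduct.tmul_sum, hbc]
  rw [← key g, ← key h]
  simp only [e]

theorem dext₂_injective {g h : (T ⊗[R] A) ⊗[T] (T ⊗[R] A)} (e : ∀ x y, dext₂ x y g = dext₂ (T := T) x y h) : g = h := by
  obtain ⟨n, b, c, hbc⟩ := exists_dual_system R A
  have key1 : ∀ z : T ⊗[R] A, ∑ i, dext (c i) z • ((1 : T) ⊗ₜ[R] b i) = z := by
    intro z
    induction z with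
    | zero => simp
    | add p q hp hq => simp only [map_add, add_smul, Finset.sum_add_distrib, hp, hq]
    | tmul t a =>
      simp only [dext_tmul, TensorProduct.smul_tmul', smul_eq_mul, mul_one, TensorProduct.smul_tmul, ← TensorProduct.tmul_sum, hbc]
  have key : ∀ z : (T ⊗[R] A) ⊗[T] (T ⊗[R] A),
      ∑ i, ∑ j, dext₂ (c i) (c j) z • (((1 : T) ⊗ₜ[R] b i) ⊗ₜ[T] ((1 : T) ⊗ₜ[R] b j)) = z := by
    intro z
    induction z with
    | zero => simp
    | add p q hp hq => simp only [map_add, add_smul, Finset.sum_add_distrib, hp, hq]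
    | tmul p q =>
      conv_rhs => rw [← key1 p, ← key1 q]
      simp only [TensorProduct.sum_tmul, TensorProduct.tmul_sum, dext₂, LinearMap.comp_apply, TensorProduct.map_tmul,
        LinearEquiv.coe_coe, TensorProduct.lid_tmul, smul_eq_mul]
      rw [Finset.sum_comm]
      refine Finset.sum_congr rfl fun i _ => Finset.sum_congr rfl fun j _ => ?_
      rw [TensorProduct.smul_tmul_smul]
  rw [← key g, ← key h]
  simp only [e]

theorem isGroupLike_iff_dext (g : T ⊗[R] A) :
    IsGroupLikeElem T g ↔ dext (1 : CartDual.D R A) g = 1 ∧ ∀ x y, dext (x * y) g = dext x g * dext y g := by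
  rw [isGroupLikeElem_iff, dext_one]
  refine and_congr_right fun _ => ⟨fun h x y => ?_, fun h => dext₂_injective fun x y => ?_⟩
  · rw [← dext₂_comul, h]; simp [dext₂]
  · rw [dext₂_comul, h]; simp [dext₂]

variable [Coalgebra.IsCocomm R A]

/-- The point of the dual attached to a group-like element. -/
def glPoint {g : T ⊗[R] A} (hg : IsGroupLikeElem T g) : CartDual.D R A →ₐ[R] T :=
  AlgHom.ofLinearMap
    { toFun := fun x => dext x g, map_add' := fun a b => dext_add a b g, map_smul' := fun c a => dext_smul c a g }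
    ((isGroupLike_iff_dext g).1 hg).1 ((isGroupLike_iff_dext g).1 hg).2

@[simp] theorem glPoint_apply {g : T ⊗[R] A} (hg : IsGroupLikeElem T g) (x : CartDual.D R A) :
    glPoint hg x = dext x g := rfl

theorem existsUnique_of_point (F : CartDual.D R A →ₐ[R] T) :
    ∃! g : T ⊗[R] A, IsGroupLikeElem T g ∧ ∀ x, dext x g = F x := by
  obtain ⟨n, b, c, hbc⟩ := exists_dual_system R A
  have hg : ∀ x, dext x (∑ i, F (c i) ⊗ₜ[R] b i) = F x := by
    intro x
    have hx : x = ∑ i, x (b i) • c i := by
      apply WithConv.ext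
      refine LinearMap.ext fun a => ?_
      conv_lhs => rw [← hbc a]
      simp [WithConv.ofConv_sum, CartDual.coe_apply, mul_comm]
    conv_rhs => rw [hx]
    simp [map_sum]
  refine ⟨_, ⟨(isGroupLike_iff_dext _).2 ⟨by rw [hg, map_one], fun x y => by simp only [hg, map_mul]⟩, hg⟩,
    fun g hg' => dext_injective fun x => (hg'.2 x).trans (hg x).symm⟩

theorem dext_map {T' : Type u} [CommRing T'] [Algebra R T'] (f : T →ₐ[R] T') (x : CartDual.D R A) (g : T ⊗[R] A) :
    dext x (Algebra.TensorProduct.map f (AlgHom.id R A) g) = f (dext x g) := by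
  induction g with
  | zero => simp
  | add p q hp hq => simp only [map_add, hp, hq]
  | tmul t a => simp

/-- The dual of a finite group of multiplicative type is etale. -/
theorem etale_dual (h : SGA3b.IsMultType R A) : Algebra.Etale R (CartDual.D R A) := by
  haveI : Algebra.FinitePresentation R (CartDual.D R A) := by
    haveI : Module.FinitePresentation R (CartDual.D R A) := Module.finitePresentation_of_projective R _
    infer_instance
  haveI : Algebra.FormallyEtale R (CartDual.D R A) := Algebra.FormallyEtale.iff_comp_bijective.2 fun B _ _ I hI => by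
    have hnil : ∀ x ∈ I, IsNilpotent x := fun x hx => ⟨2, by
      have := Ideal.pow_mem_pow hx 2
      rwa [hI, Ideal.mem_bot] at this⟩
    let κ := cancelBC R B (B ⧸ I) A
    have hκ : ∀ y : B ⊗[R] A, κ ((1 : B ⧸ I) ⊗ₜ[B] y) =
        Algebra.TensorProduct.map (Ideal.Quotient.mkₐ R I) (AlgHom.id R A) y := by
      intro y
      induction y with
      | zero => simp
      | add a b ha hb => simp only [tmul_add, map_add, ha, hb]
      | tmul t a =>
        rw [cancelBC_tmul, Algebra.smul_def, mul_one]
        rfl
    have hlift : ∀ F₀ : CartDual.D R A →ₐ[R] B ⧸ I, ∃! g : B ⊗[R] A, IsGroupLikeElem B g ∧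
        ∀ x, dext x (Algebra.TensorProduct.map (Ideal.Quotient.mkₐ R I) (AlgHom.id R A) g) = F₀ x := by
      intro F₀
      obtain ⟨g₀, ⟨hg₀, hF₀⟩, hu₀⟩ := existsUnique_of_point F₀
      obtain ⟨g, ⟨hg, hgg⟩, hu⟩ := existsUnique_grouplike_lift I hnil (isMultType_baseChange B h) (hg₀.map κ.symm)
      have hgg' : Algebra.TensorProduct.map (Ideal.Quotient.mkₐ R I) (AlgHom.id R A) g = g₀ := by
        rw [← hκ, hgg]
        exact κ.apply_symm_apply g₀
      refine ⟨g, ⟨hg, fun x => by rw [hgg', hF₀]⟩, fun g' hg' => hu g' ⟨hg'.1, ?_⟩⟩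
      have h1 := hu₀ _ ⟨isGroupLike_map (Ideal.Quotient.mkₐ R I) hg'.1, hg'.2⟩
      apply EquivLike.injective κ
      rw [hκ, h1]
      exact (κ.apply_symm_apply g₀).symm
    constructor
    · intro F F' hFF'
      obtain ⟨g, ⟨hg, hgF⟩, -⟩ := existsUnique_of_point F
      obtain ⟨g', ⟨hg', hgF'⟩, -⟩ := existsUnique_of_point F'
      obtain ⟨g₁, -, hu⟩ := hlift ((Ideal.Quotient.mkₐ R I).comp F)
      have e1 := hu g ⟨hg, fun x => by rw [dext_map, hgF]; rfl⟩
      have e2 := hu g' ⟨hg', fun x => by rw [dext_map, hgF']; exact (DFunLike.congr_fun hFF' x).symm⟩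
      refine AlgHom.ext fun x => ?_
      rw [← hgF, ← hgF', e1, e2]
    · intro F₀
      obtain ⟨g, ⟨hg, hgF⟩, -⟩ := hlift F₀
      refine ⟨glPoint hg, AlgHom.ext fun x => ?_⟩
      rw [← hgF, dext_map]
      rfl
  exact ⟨inferInstance, inferInstance⟩

end Groth.Agent.SGA3b53
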