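import Mathlib

/-!
Group-like and primitive elements of group algebras over an arbitrary ring.
-/

set_option autoImplicit false
set_option linter.unusedSectionVars false
universe u v w
open TensorProduct

noncomputable section

namespace Groth.Agent.SGA3b53

variable {T : Type v} [CommRing T] {M : Type u}

/-- The coefficient at `m`. -/
def coef (m : M) : MonoidAlgebra T M →ₗ[T] T where
  toFun x := x.coeff m
  map_add' x y := by simp
  map_smul' c x := by simp

@[simp] theorem coef_apply (m : M) (x : MonoidAlgebra T M) : coef m x = x.coeff m := rfl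

/-- The coefficient at `(m, n)` on the tensor square. -/
def coef₂ (m n : M) : MonoidAlgebra T M ⊗[T] MonoidAlgebra T M →ₗ[T] T :=
  (TensorProduct.lid T T).toLinearMap ∘ₗ TensorProduct.map (coef m) (coef n)

@[simp] theorem coef₂_tmul (m n : M) (x y : MonoidAlgebra T M) : coef₂ m n (x ⊗ₜ y) = x.coeff m * y.coeff n := by
  simp [coef₂]

theorem coef₂_comul [DecidableEq M] (m n : M) (x : MonoidAlgebra T M) :
    coef₂ m n (Coalgebra.comul (R := T) x) = if m = n then x.coeff m else 0 := by
  induction x using MonoidAlgebra.induction_linear with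
  | zero => simp
  | add x y hx hy =>
    simp only [map_add, hx, hy, MonoidAlgebra.coeff_add, Finsupp.add_apply]
    split_ifs <;> simp
  | single k a =>
    simp only [MonoidAlgebra.comul_single, CommSemiring.comul_apply, TensorProduct.map_tmul,
      MonoidAlgebra.lsingle_apply, coef₂_tmul, MonoidAlgebra.coeff_single, Finsupp.single_apply]
    split_ifs <;> simp_all

theorem counit_eq_sum (x : MonoidAlgebra T M) :
    Coalgebra.counit (R := T) x = x.coeff.sum fun _ a => a := by
  induction x using MonoidAlgebra.induction_linear with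
  | zero => simp
  | add x y hx hy =>
    rw [map_add, hx, hy, MonoidAlgebra.coeff_add, Finsupp.sum_add_index' (fun _ => rfl) (fun _ _ _ => rfl)]
  | single k a => simp

theorem grouplike_coeff_mul [DecidableEq M] {x : MonoidAlgebra T M} (hx : IsGroupLikeElem T x) (m n : M) :
    x.coeff m * x.coeff n = if m = n then x.coeff m else 0 := by
  rw [← coef₂_tmul, ← hx.comul_eq_tmul_self, coef₂_comul]

theorem grouplike_coeff_idem {x : MonoidAlgebra T M} (hx : IsGroupLikeElem T x) (m : M) :
    IsIdempotentElem (x.coeff m) := by
  classical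
  exact (grouplike_coeff_mul hx m m).trans (if_pos rfl)

/-- Over a ring without idempotents, group-like elements of `T[M]` come from `M`. -/
theorem exists_eq_single_of_connected [Nontrivial T] (hT : ∀ e : T, IsIdempotentElem e → e = 0 ∨ e = 1)
    {x : MonoidAlgebra T M} (hx : IsGroupLikeElem T x) : ∃ m, x = MonoidAlgebra.single m 1 := by
  classical
  obtain ⟨m, hm⟩ : ∃ m, x.coeff m = 1 := by
    by_contra h
    push Not at h
    have h0 : x.coeff = 0 := Finsupp.ext fun m => ((hT _ (grouplike_coeff_idem hx m)).resolve_right (h m))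
    exact zero_ne_one (α := T) (by rw [← hx.counit_eq_one, counit_eq_sum, h0, Finsupp.sum_zero_index])
  refine ⟨m, MonoidAlgebra.ext (Finsupp.ext fun n => ?_)⟩
  rw [MonoidAlgebra.coeff_single, Finsupp.single_apply]
  split_ifs with hmn
  · exact hmn ▸ hm
  · have := grouplike_coeff_mul hx m n
    rwa [hm, one_mul, if_neg hmn] at this

theorem eq_of_idem_sub_mem_jacobson {e f : T} (he : IsIdempotentElem e) (hf : IsIdempotentElem f)
    (h : e - f ∈ (⊥ : Ideal T).jacobson) : e = f := by
  have h3 : (e - f) * (1 - (e - f) * (e - f)) = 0 := by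
    have e2 : e * e = e := he
    have f2 : f * f = f := hf
    linear_combination (-e + 3 * f - 1) * e2 + (-3 * e + f + 1) * f2
  have hu : IsUnit (1 - (e - f) * (e - f)) := by
    have := Ideal.mem_jacobson_bot.1 h (-(e - f))
    rwa [show (e - f) * -(e - f) + 1 = 1 - (e - f) * (e - f) by ring] at this
  exact sub_eq_zero.1 (hu.mul_left_eq_zero.1 h3)

/-- Group-like elements congruent modulo the Jacobson radical are equal. -/
theorem grouplike_eq_of_congr {x y : MonoidAlgebra T M} (hx : IsGroupLikeElem T x) (hy : IsGroupLikeElem T y)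
    (h : ∀ m, x.coeff m - y.coeff m ∈ (⊥ : Ideal T).jacobson) : x = y :=
  MonoidAlgebra.ext <| Finsupp.ext fun m =>
    eq_of_idem_sub_mem_jacobson (grouplike_coeff_idem hx m) (grouplike_coeff_idem hy m) (h m)

/-- A finite complete orthogonal family of idempotents gives a group-like element. -/
theorem isGroupLike_sum {ι : Type w} [Fintype ι] {e : ι → T} (he : CompleteOrthogonalIdempotents e) (f : ι → M) :
    IsGroupLikeElem T (∑ i, MonoidAlgebra.single (f i) (e i)) where
  counit_eq_one := by simp [he.complete]
  comul_eq_tmul_self := by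
    classical
    rw [map_sum, TensorProduct.sum_tmul]
    refine Finset.sum_congr rfl fun i _ => ?_
    rw [TensorProduct.tmul_sum, Finset.sum_eq_single i]
    · simp only [MonoidAlgebra.comul_single, CommSemiring.comul_apply, TensorProduct.map_tmul,
        MonoidAlgebra.lsingle_apply]
      have : ∀ (m : M) (a : T), MonoidAlgebra.single m a = a • MonoidAlgebra.single m (1 : T) := fun m a => by simp
      rw [this (f i) (e i), TensorProduct.smul_tmul_smul, (he.idem i).eq, TensorProduct.tmul_smul]
    · intro j _ hj
      have : ∀ (m : M) (a : T), MonoidAlgebra.single m a = a • MonoidAlgebra.single m (1 : T) := fun m a => by simp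
      rw [this (f i) (e i), this (f j) (e j), TensorProduct.smul_tmul_smul, he.ortho (Ne.symm hj), zero_smul]
    · simp

/-- Approximately primitive elements of `T[M]` are small. -/
theorem coeff_mem_of_primitive [Monoid M] (I : Ideal T) {x : MonoidAlgebra T M}
    (h : ∀ m n, coef₂ m n (Coalgebra.comul (R := T) x - x ⊗ₜ[T] 1 - 1 ⊗ₜ[T] x) ∈ I) (m : M) :
    x.coeff m ∈ I := by
  classical
  have hm := h m 1
  rw [map_sub, map_sub, coef₂_comul, coef₂_tmul, coef₂_tmul] at hm
  simp only [MonoidAlgebra.one_def, MonoidAlgebra.coeff_single, Finsupp.single_apply] at hm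
  rcases eq_or_ne m 1 with rfl | hm1
  · simp only [if_pos rfl, mul_one, one_mul] at hm
    simpa using hm
  · rw [if_neg hm1, if_pos trivial, if_neg (Ne.symm hm1), mul_one, zero_mul] at hm
    simpa using hm

end Groth.Agent.SGA3b53
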