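import Groth.Agent.SGA3b53.DiagLiftApply
import Groth.Agent.SGA3b53.GlobalMult
import Mathlib

/-!
Homomorphisms of groups of multiplicative type lift uniquely along Henselian or nil ideals.
-/

set_option autoImplicit false
set_option linter.unusedSectionVars false
set_option linter.style.haveILetI false
universe u v w
open TensorProduct

noncomputable section

namespace Groth.Agent.SGA3b53

namespace HomLift

variable {R : Type u} [CommRing R] {J : Ideal R} {B : Type u} [CommRing B] [HopfAlgebra R B] {C : Type u} [CommRing C]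
  [HopfAlgebra R C]

/-- Reduction modulo `J` of a base change. -/
def qmap (J : Ideal R) (T : Type u) [CommRing T] [Algebra R T] (B : Type u) [CommRing B] [Algebra R B] :
    T ⊗[R] B →ₐ[R] DLift.red J T ⊗[R] B :=
  Algebra.TensorProduct.map (Ideal.Quotient.mkₐ R (J.map (algebraMap R T))) (AlgHom.id R B)

/-- The map from the reduction of the base. -/
def kap (J : Ideal R) (T : Type u) [CommRing T] [Algebra R T] (B : Type u) [CommRing B] [Algebra R B] :
    (R ⧸ J) ⊗[R] B →ₐ[R] DLift.red J T ⊗[R] B :=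
  Algebra.TensorProduct.map (IsScalarTower.toAlgHom R (R ⧸ J) (DLift.red J T)) (AlgHom.id R B)

theorem map_smul' {T U : Type u} [CommRing T] [Algebra R T] [CommRing U] [Algebra R U] {B : Type u} [CommRing B]
    [Algebra R B] (f : T →ₐ[R] U) (t : T) (z : T ⊗[R] B) :
    Algebra.TensorProduct.map f (AlgHom.id R B) (t • z) = f t • Algebra.TensorProduct.map f (AlgHom.id R B) z := by
  induction z with
  | zero => simp
  | add a b ha hb => simp only [smul_add, map_add, ha, hb]
  | tmul s b => simp [TensorProduct.smul_tmul']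

/-- A homomorphism base changed along a map of algebras. -/
theorem exists_hom_map {T U : Type u} [CommRing T] [Algebra R T] [CommRing U] [Algebra R U] (f : T →ₐ[R] U)
    (θ : T ⊗[R] C →ₐc[T] T ⊗[R] B) :
    ∃ θ' : U ⊗[R] C →ₐc[U] U ⊗[R] B, ∀ z,
      θ' (Algebra.TensorProduct.map f (AlgHom.id R C) z) = Algebra.TensorProduct.map f (AlgHom.id R B) (θ z) := by
  letI : Algebra T U := f.toRingHom.toAlgebra
  haveI : IsScalarTower R T U := IsScalarTower.of_algebraMap_eq fun r => (f.commutes r).symm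
  refine ⟨(cancelBC R T U B : U ⊗[T] (T ⊗[R] B) →ₐc[U] U ⊗[R] B).comp
    ((Bialgebra.TensorProduct.map (BialgHom.id U U) θ).comp ((cancelBC R T U C).symm : U ⊗[R] C →ₐc[U] U ⊗[T] (T ⊗[R] C))),
    fun z => ?_⟩
  have h1 : ∀ {X : Type u} [CommRing X] [HopfAlgebra R X] (z : T ⊗[R] X),
      cancelBC R T U X ((1 : U) ⊗ₜ[T] z) = Algebra.TensorProduct.map f (AlgHom.id R X) z := by
    intro X _ _ z
    induction z with
    | zero => simp
    | add a b ha hb => simp only [map_add, tmul_add, ha, hb]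
    | tmul t a =>
      rw [cancelBC_tmul, Algebra.smul_def, mul_one]
      rfl
  change cancelBC R T U B (Bialgebra.TensorProduct.map (BialgHom.id U U) θ ((cancelBC R T U C).symm _)) = _
  rw [← h1, show (cancelBC R T U C).symm (cancelBC R T U C ((1 : U) ⊗ₜ[T] z)) = (1 : U) ⊗ₜ[T] z from
    (cancelBC R T U C).symm_apply_apply _, ← h1]
  rfl

/-- Two homomorphisms between diagonalisable groups with the same reduction are equal. -/
theorem hom_eq {T : Type u} [CommRing T] [Algebra R T] (hjac : J.map (algebraMap R T) ≤ (⊥ : Ideal T).jacobson)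
    (hC : SGA3b.IsDiag T (T ⊗[R] C)) (hB : SGA3b.IsDiag T (T ⊗[R] B)) (θ θ' : T ⊗[R] C →ₐc[T] T ⊗[R] B)
    (h : ∀ c, qmap J T B (θ ((1 : T) ⊗ₜ[R] c)) = qmap J T B (θ' ((1 : T) ⊗ₜ[R] c))) (z : T ⊗[R] C) : θ z = θ' z := by
  have hall : ∀ z, qmap J T B (θ z) = qmap J T B (θ' z) := by
    intro z
    induction z with
    | zero => simp
    | add a b ha hb => simp only [map_add, ha, hb]
    | tmul t c =>
      rw [show t ⊗ₜ[R] c = t • ((1 : T) ⊗ₜ[R] c) by rw [smul_tmul', smul_eq_mul, mul_one], map_smul θ, map_smul θ', qmap,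
        map_smul', map_smul']
      exact congrArg _ (h c)
  obtain ⟨M, _, ⟨ρ⟩⟩ := hC
  obtain ⟨w, rfl⟩ : ∃ w, ρ.symm w = z := ⟨ρ z, ρ.symm_apply_apply z⟩
  induction w using MonoidAlgebra.induction_linear with
  | zero => simp
  | add a b ha hb => simp only [map_add, ha, hb]
  | single m r =>
    rw [show MonoidAlgebra.single m r = r • MonoidAlgebra.of T M m by simp, map_smul ρ.symm, map_smul θ, map_smul θ']
    congr 1
    refine grouplike_eq_of_map_eq hB (Ideal.Quotient.mkₐ R (J.map (algebraMap R T))) ?_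
      (((MonoidAlgebra.isGroupLikeElem_of m).map ρ.symm).map θ) (((MonoidAlgebra.isGroupLikeElem_of m).map ρ.symm).map θ')
      (hall _)
    intro x hx
    exact hjac (Ideal.Quotient.eq_zero_iff_mem.1 hx)

/-- Group-like elements lift. -/
theorem exists_grouplike_lift' {T : Type u} [CommRing T] [Algebra R T] (hjac : J.map (algebraMap R T) ≤ (⊥ : Ideal T).jacobson)
    (hl : ∀ e : DLift.red J T, IsIdempotentElem e → ∃ e' : T, IsIdempotentElem e' ∧ Ideal.Quotient.mk _ e' = e)
    (hB : SGA3b.IsDiag T (T ⊗[R] B)) {g : DLift.red J T ⊗[R] B} (hg : IsGroupLikeElem (DLift.red J T) g) :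
    ∃ x : T ⊗[R] B, IsGroupLikeElem T x ∧ qmap J T B x = g := by
  classical
  obtain ⟨N, _, ⟨ρ⟩⟩ := hB
  obtain ⟨ρ', hρ'⟩ := exists_split_map (Ideal.Quotient.mkₐ R (J.map (algebraMap R T))) ρ
  set w := ρ' g with hwdef
  have hw : IsGroupLikeElem (DLift.red J T) w := hg.map ρ'
  choose e he hee using fun n : N => hl _ (grouplike_coeff_idem hw n)
  let s := w.coeff.support
  have hco : CompleteOrthogonalIdempotents fun n : s => e (n : N) := by
    have hortho : ∀ n n' : N, n ≠ n' → e n * e n' = 0 := fun n n' hnn => by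
      refine eq_of_idem_sub_mem_jacobson ((he n).mul (he n')) IsIdempotentElem.zero (hjac ?_)
      rw [sub_zero, ← Ideal.Quotient.eq_zero_iff_mem, map_mul, hee, hee, grouplike_coeff_mul hw, if_neg hnn]
    refine { idem := fun n => he _, ortho := fun n n' hnn => hortho _ _ fun h => hnn (Subtype.ext h), complete := ?_ }
    have hidem : IsIdempotentElem (∑ n : s, e (n : N)) :=
      (OrthogonalIdempotents.mk (fun n : s => he (n : N)) fun n n' hnn => hortho _ _ fun h => hnn (Subtype.ext h)).isIdempotentElem_sum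
    refine eq_of_idem_sub_mem_jacobson hidem IsIdempotentElem.one (hjac ?_)
    rw [← Ideal.Quotient.eq_zero_iff_mem, map_sub, map_sum, map_one, sub_eq_zero]
    simp only [hee]
    rw [Finset.sum_coe_sort s (fun n => w.coeff n), ← hw.counit_eq_one, counit_eq_sum]
    rfl
  refine ⟨ρ.symm (∑ n : s, MonoidAlgebra.single (n : N) (e (n : N))), (isGroupLike_sum hco _).map ρ.symm, ?_⟩
  apply EquivLike.injective ρ'
  rw [qmap, hρ']
  erw [BialgEquiv.apply_symm_apply]
  rw [map_sum]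
  have hee' : ∀ n, ((Ideal.Quotient.mkₐ R (J.map (algebraMap R T))) : T →+* DLift.red J T) (e n) = w.coeff n := hee
  simp only [MonoidAlgebra.mapRingHom_single, hee']
  rw [Finset.sum_coe_sort s fun n => MonoidAlgebra.single n (w.coeff n), ← hwdef]
  exact w.sum_coeff_single

/-- Lift of a homomorphism over a splitting algebra. -/
theorem exists_local_hom {T : Type u} [CommRing T] [Algebra R T] (hjac : J.map (algebraMap R T) ≤ (⊥ : Ideal T).jacobson)
    (hl : ∀ e : DLift.red J T, IsIdempotentElem e → ∃ e' : T, IsIdempotentElem e' ∧ Ideal.Quotient.mk _ e' = e)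
    (hC : SGA3b.IsDiag T (T ⊗[R] C)) (hB : SGA3b.IsDiag T (T ⊗[R] B))
    (φ₀ : ((R ⧸ J) ⊗[R] C) →ₐc[R ⧸ J] ((R ⧸ J) ⊗[R] B)) :
    ∃ θ : T ⊗[R] C →ₐc[T] T ⊗[R] B, ∀ c, qmap J T B (θ ((1 : T) ⊗ₜ[R] c)) = kap J T B (φ₀ ((1 : R ⧸ J) ⊗ₜ[R] c)) := by
  let T' := DLift.red J T
  let g : T' ⊗[R] C →ₐc[T'] T' ⊗[R] B := (cancelBC R (R ⧸ J) T' B : T' ⊗[R ⧸ J] ((R ⧸ J) ⊗[R] B) →ₐc[T'] T' ⊗[R] B).comp
    ((Bialgebra.TensorProduct.map (BialgHom.id T' T') φ₀).comp
      ((cancelBC R (R ⧸ J) T' C).symm : T' ⊗[R] C →ₐc[T'] T' ⊗[R ⧸ J] ((R ⧸ J) ⊗[R] C)))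
  have hg : ∀ c, g ((1 : T') ⊗ₜ[R] c) = kap J T B (φ₀ ((1 : R ⧸ J) ⊗ₜ[R] c)) := by
    intro c
    change cancelBC R (R ⧸ J) T' B (Bialgebra.TensorProduct.map (BialgHom.id T' T') φ₀ ((cancelBC R (R ⧸ J) T' C).symm ((1 : T') ⊗ₜ[R] c))) = _
    rw [show (cancelBC R (R ⧸ J) T' C).symm ((1 : T') ⊗ₜ[R] c) = (1 : T') ⊗ₜ[R ⧸ J] ((1 : R ⧸ J) ⊗ₜ[R] c) from by
      apply EquivLike.injective (cancelBC R (R ⧸ J) T' C)
      rw [show cancelBC R (R ⧸ J) T' C ((cancelBC R (R ⧸ J) T' C).symm ((1 : T') ⊗ₜ[R] c)) = _ from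
        (cancelBC R (R ⧸ J) T' C).apply_symm_apply _, cancelBC_tmul, one_smul]]
    change cancelBC R (R ⧸ J) T' B ((1 : T') ⊗ₜ[R ⧸ J] φ₀ ((1 : R ⧸ J) ⊗ₜ[R] c)) = _
    generalize φ₀ ((1 : R ⧸ J) ⊗ₜ[R] c) = z
    induction z with
    | zero => simp
    | add a b ha hb => simp only [map_add, tmul_add, ha, hb]
    | tmul r b =>
      rw [cancelBC_tmul, Algebra.smul_def, mul_one]
      rfl
  obtain ⟨M, _, ⟨ρ⟩⟩ := hC
  have hu : ∀ m, IsGroupLikeElem T (ρ.symm (MonoidAlgebra.of T M m)) :=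
    fun m => (MonoidAlgebra.isGroupLikeElem_of m).map ρ.symm
  choose x hx hxq using fun m => exists_grouplike_lift' hjac hl hB
    ((isGroupLike_map (Ideal.Quotient.mkₐ R (J.map (algebraMap R T))) (hu m)).map g)
  have huniq : ∀ m y, IsGroupLikeElem T y → qmap J T B y = qmap J T B (x m) → y = x m := fun m y hy h =>
    grouplike_eq_of_map_eq hB (Ideal.Quotient.mkₐ R (J.map (algebraMap R T)))
      (fun z hz => hjac (Ideal.Quotient.eq_zero_iff_mem.1 hz)) hy (hx m) h
  let γ : M →* T ⊗[R] B :=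
    { toFun := x
      map_one' := (huniq 1 1 IsGroupLikeElem.one (by rw [hxq, map_one (qmap J T B), map_one, map_one, map_one, map_one])).symm
      map_mul' := fun a b => (huniq (a * b) _ ((hx a).mul (hx b))
        (by rw [map_mul (qmap J T B), hxq, hxq, hxq, ← map_mul g, ← map_mul (Algebra.TensorProduct.map _ _),
          ← map_mul ρ.symm, ← map_mul])).symm }
  obtain ⟨θ₀, hθ₀⟩ := exists_bialgHom_of_grouplike γ hx
  refine ⟨θ₀.comp (ρ : T ⊗[R] C →ₐc[T] MonoidAlgebra T M), fun c => ?_⟩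
  have hall : ∀ w : MonoidAlgebra T M, qmap J T B (θ₀ w) =
      g (Algebra.TensorProduct.map (Ideal.Quotient.mkₐ R (J.map (algebraMap R T))) (AlgHom.id R C) (ρ.symm w)) := by
    intro w
    induction w using MonoidAlgebra.induction_linear with
    | zero => simp
    | add a b ha hb => simp only [map_add, ha, hb]
    | single m r =>
      rw [hθ₀, show MonoidAlgebra.single m r = r • MonoidAlgebra.of T M m by simp, map_smul ρ.symm, map_smul', map_smul g,
        qmap, map_smul']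
      exact congrArg _ (hxq m)
  change qmap J T B (θ₀ (ρ ((1 : T) ⊗ₜ[R] c))) = _
  rw [hall, show ρ.symm (ρ ((1 : T) ⊗ₜ[R] c)) = (1 : T) ⊗ₜ[R] c from ρ.symm_apply_apply _,
    Algebra.TensorProduct.map_tmul, map_one]
  exact hg c

variable {ι : Type u} {T : ι → Type u} [∀ i, CommRing (T i)] [∀ i, Algebra R (T i)]

theorem eq_of_reduction (hT : IsCover R T) (hjac : ∀ i, J.map (algebraMap R (T i)) ≤ (⊥ : Ideal (T i)).jacobson)
    (hC : ∀ i, SGA3b.IsDiag (T i) (T i ⊗[R] C)) (hB : ∀ i, SGA3b.IsDiag (T i) (T i ⊗[R] B)) (φ ψ : C →ₐc[R] B)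
    (h : ∀ c, (1 : R ⧸ J) ⊗ₜ[R] φ c = (1 : R ⧸ J) ⊗ₜ[R] ψ c) : φ = ψ := by
  refine BialgHom.ext fun c => sub_eq_zero.1 (hT.eq_zero fun i => ?_)
  rw [tmul_sub, sub_eq_zero]
  refine hom_eq (J := J) (hjac i) (hC i) (hB i) (Bialgebra.TensorProduct.map (BialgHom.id (T i) (T i)) φ)
    (Bialgebra.TensorProduct.map (BialgHom.id (T i) (T i)) ψ) (fun c => ?_) ((1 : T i) ⊗ₜ[R] c)
  have hk : ∀ b : B, qmap J (T i) B ((1 : T i) ⊗ₜ[R] b) = kap J (T i) B ((1 : R ⧸ J) ⊗ₜ[R] b) := fun b => by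
    simp [qmap, kap]
  change qmap J (T i) B ((1 : T i) ⊗ₜ[R] φ c) = qmap J (T i) B ((1 : T i) ⊗ₜ[R] ψ c)
  rw [hk, hk, h]

theorem exists_hom_lift [Finite ι] (hT : IsCover R T)
    (hjac : ∀ i, J.map (algebraMap R (T i)) ≤ (⊥ : Ideal (T i)).jacobson)
    (hjac₂ : ∀ i j, J.map (algebraMap R (T i ⊗[R] T j)) ≤ (⊥ : Ideal (T i ⊗[R] T j)).jacobson)
    (hl : ∀ i, ∀ e : DLift.red J (T i), IsIdempotentElem e → ∃ e' : T i, IsIdempotentElem e' ∧ Ideal.Quotient.mk _ e' = e)
    (hC : ∀ i, SGA3b.IsDiag (T i) (T i ⊗[R] C)) (hB : ∀ i, SGA3b.IsDiag (T i) (T i ⊗[R] B))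
    (φ₀ : ((R ⧸ J) ⊗[R] C) →ₐc[R ⧸ J] ((R ⧸ J) ⊗[R] B)) :
    ∃ φ : C →ₐc[R] B, ∀ c, φ₀ ((1 : R ⧸ J) ⊗ₜ[R] c) = (1 : R ⧸ J) ⊗ₜ[R] φ c := by
  choose θ hθ using fun i => exists_local_hom (hjac i) (hl i) (hC i) (hB i) φ₀
  let y : C → ∀ i, T i ⊗[R] B := fun c i => θ i ((1 : T i) ⊗ₜ[R] c)
  have hglue : ∀ c i j, ((TensorProduct.mk R (T j) (T i)).flip 1).rTensor B (y c j) =
      ((TensorProduct.mk R (T j) (T i)) 1).rTensor B (y c i) := by
    intro c i j
    let U := T j ⊗[R] T i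
    let L : T j →ₐ[R] U := Algebra.TensorProduct.includeLeft
    let Rg : T i →ₐ[R] U := Algebra.TensorProduct.includeRight
    obtain ⟨θL, hθL⟩ := exists_hom_map L (θ j)
    obtain ⟨θR, hθR⟩ := exists_hom_map Rg (θ i)
    have hL : ∀ z : T j ⊗[R] B, ((TensorProduct.mk R (T j) (T i)).flip 1).rTensor B z =
        Algebra.TensorProduct.map L (AlgHom.id R B) z := fun z => by
      induction z with
      | zero => simp
      | add a b ha hb => simp only [map_add, ha, hb]
      | tmul t a => rfl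
    have hR : ∀ z : T i ⊗[R] B, ((TensorProduct.mk R (T j) (T i)) 1).rTensor B z =
        Algebra.TensorProduct.map Rg (AlgHom.id R B) z := fun z => by
      induction z with
      | zero => simp
      | add a b ha hb => simp only [map_add, ha, hb]
      | tmul t a => rfl
    have hkey : ∀ {k : ι} (f : T k →ₐ[R] U) (c : C),
        qmap J U B (Algebra.TensorProduct.map f (AlgHom.id R B) (θ k ((1 : T k) ⊗ₜ[R] c))) =
          kap J U B (φ₀ ((1 : R ⧸ J) ⊗ₜ[R] c)) := by
      intro k f c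
      have h1 := congrArg (Algebra.TensorProduct.map ((DLift.mapQ J f).restrictScalars R) (AlgHom.id R B)) (hθ k c)
      refine Eq.trans ?_ (h1.trans ?_)
      · generalize θ k ((1 : T k) ⊗ₜ[R] c) = z
        induction z with
        | zero => simp
        | add a b ha hb => simp only [map_add, ha, hb]
        | tmul t a => rfl
      · generalize φ₀ ((1 : R ⧸ J) ⊗ₜ[R] c) = z
        induction z with
        | zero => simp
        | add a b ha hb => simp only [map_add, ha, hb]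
        | tmul r a =>
          change (DLift.mapQ J f) (algebraMap (R ⧸ J) _ r) ⊗ₜ[R] a = algebraMap (R ⧸ J) _ r ⊗ₜ[R] a
          rw [AlgHom.commutes]
    have heq : ∀ z, θL z = θR z := by
      refine hom_eq (J := J) (hjac₂ j i) ?_ ?_ θL θR fun c => ?_
      · exact DLift.isDiag_of_algHom L (hC j)
      · exact DLift.isDiag_of_algHom L (hB j)
      · rw [show (1 : U) ⊗ₜ[R] c = Algebra.TensorProduct.map L (AlgHom.id R C) ((1 : T j) ⊗ₜ[R] c) by simp, hθL, hkey,
          show Algebra.TensorProduct.map L (AlgHom.id R C) ((1 : T j) ⊗ₜ[R] c) =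
            Algebra.TensorProduct.map Rg (AlgHom.id R C) ((1 : T i) ⊗ₜ[R] c) by simp, hθR, hkey]
    rw [hL, hR]
    simp only [y]
    rw [← hθL, ← hθR, heq]
    simp
  choose x hx using fun c => hT.descend (y c) (hglue c)
  have huniq : ∀ a b : B, (∀ i, (1 : T i) ⊗ₜ[R] a = (1 : T i) ⊗ₜ[R] b) → a = b := fun a b h =>
    sub_eq_zero.1 (hT.eq_zero fun i => by rw [tmul_sub, h i, sub_self])
  let φ' : C →ₐ[R] B :=
    { toFun := x
      map_one' := huniq _ _ fun i => by
        rw [hx]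
        simp only [y]
        rw [← Algebra.TensorProduct.one_def, map_one, Algebra.TensorProduct.one_def]
      map_mul' := fun a b => huniq _ _ fun i => by
        rw [hx]
        simp only [y]
        rw [show (1 : T i) ⊗ₜ[R] (a * b) = (1 : T i) ⊗ₜ[R] a * (1 : T i) ⊗ₜ[R] b by simp, map_mul,
          show θ i ((1 : T i) ⊗ₜ[R] a) = (1 : T i) ⊗ₜ[R] x a from (hx a i).symm,
          show θ i ((1 : T i) ⊗ₜ[R] b) = (1 : T i) ⊗ₜ[R] x b from (hx b i).symm,
          Algebra.TensorProduct.tmul_mul_tmul, one_mul]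
      map_zero' := huniq _ _ fun i => by rw [hx]; simp [y]
      map_add' := fun a b => huniq _ _ fun i => by rw [hx, tmul_add, hx, hx]; simp [y, tmul_add]
      commutes' := fun r => huniq _ _ fun i => by
        rw [hx]
        simp only [y]
        rw [Algebra.algebraMap_eq_smul_one (R := R) (A := C), Algebra.algebraMap_eq_smul_one (R := R) (A := B), tmul_smul,
          tmul_smul, ← Algebra.TensorProduct.one_def, ← Algebra.TensorProduct.one_def, ← algebraMap_smul (T i) r (1 : T i ⊗[R] C),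
          map_smul, map_one, algebraMap_smul] }
  have hxθ : ∀ i c, θ i ((1 : T i) ⊗ₜ[R] c) = (1 : T i) ⊗ₜ[R] φ' c := fun i c => (hx c i).symm
  have hcounit : ∀ c, Coalgebra.counit (R := R) (φ' c) = Coalgebra.counit (R := R) c := fun c =>
    sub_eq_zero.1 (hT.eq_zero fun i => by
      have h1 : algebraMap R (T i) (Coalgebra.counit (R := R) (φ' c)) = algebraMap R (T i) (Coalgebra.counit (R := R) c) := by
        rw [← DLift.counit_one_tmul, ← DLift.counit_one_tmul, ← hxθ]
        exact CoalgHomClass.counit_comp_apply (θ i) _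
      apply (TensorProduct.rid R (T i)).injective
      rw [map_zero, TensorProduct.rid_tmul, ← Algebra.algebraMap_eq_smul_one, map_sub, h1, sub_self])
  have hcomul : ∀ c, Coalgebra.comul (R := R) (φ' c) = Algebra.TensorProduct.map φ' φ' (Coalgebra.comul (R := R) c) := fun c =>
    sub_eq_zero.1 (hT.eq_zero fun i => by
      refine (map_sub (TensorProduct.mk R (T i) (B ⊗[R] B) 1) _ _).trans (sub_eq_zero.2 ?_)
      apply (Model.eT (AlgEquiv.refl : T i ⊗[R] B ≃ₐ[T i] _) AlgEquiv.refl).injective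
      simp only [TensorProduct.mk_apply]
      rw [← DLift.comul_one_tmul, ← hxθ, ← CoalgHomClass.map_comp_comul_apply (θ i), DLift.comul_one_tmul]
      generalize Coalgebra.comul (R := R) c = w
      induction w with
      | zero => simp
      | add a b ha hb => simp only [tmul_add, map_add, ha, hb]
      | tmul p q => simp [Model.eT_tmul, hxθ])
  refine ⟨BialgHom.ofAlgHom φ' (AlgHom.ext hcounit) (AlgHom.ext fun c => (hcomul c).symm), fun c => ?_⟩
  change φ₀ ((1 : R ⧸ J) ⊗ₜ[R] c) = (1 : R ⧸ J) ⊗ₜ[R] φ' c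
  refine sub_eq_zero.1 ((DLift.isCover_red (I := J) hT).eq_zero fun i => ?_)
  rw [tmul_sub, sub_eq_zero]
  apply (Algebra.TensorProduct.cancelBaseChange R (R ⧸ J) (DLift.red J (T i)) (DLift.red J (T i)) B).injective
  have hc : ∀ z : (R ⧸ J) ⊗[R] B, Algebra.TensorProduct.cancelBaseChange R (R ⧸ J) (DLift.red J (T i)) (DLift.red J (T i)) B
      ((1 : DLift.red J (T i)) ⊗ₜ[R ⧸ J] z) = kap J (T i) B z := fun z => by
    induction z with
    | zero => simp
    | add a b ha hb => simp only [map_add, tmul_add, ha, hb]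
    | tmul r b => simp [kap, Algebra.smul_def]
  rw [hc, hc, ← hθ i c, hxθ]
  simp [qmap, kap]

end HomLift

end Groth.Agent.SGA3b53
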