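import Groth.Agent.SGA3b53.ModelExists
import Mathlib

/-!
Every finitely presented Hopf algebra comes from a finitely generated ring.
-/

set_option autoImplicit false
set_option linter.unusedSectionVars false
set_option linter.style.haveILetI false
universe u v w
open TensorProduct

noncomputable section

namespace Groth.Agent.SGA3b53

namespace Model

/-- The map out of a base change defined by an algebra map. -/
def liftBC {A S P X : Type u} [CommRing A] [CommRing S] [Algebra A S] [CommRing P] [Algebra A P] [CommRing X]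
    [Algebra A X] [Algebra S X] [IsScalarTower A S X] (g : P →ₐ[A] X) : S ⊗[A] P →ₐ[S] X :=
  Algebra.TensorProduct.lift (Algebra.ofId S X) g fun _ _ => Commute.all _ _

theorem liftBC_tmul {A S P X : Type u} [CommRing A] [CommRing S] [Algebra A S] [CommRing P] [Algebra A P] [CommRing X]
    [Algebra A X] [Algebra S X] [IsScalarTower A S X] (g : P →ₐ[A] X) (p : P) :
    liftBC g ((1 : S) ⊗ₜ[A] p) = g p := by
  simp [liftBC]

section Step

variable {A : Type u} [CommRing A] {R : Type u} [CommRing R] [Algebra A R]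
  {S : Type u} [CommRing S] [Algebra A S] [Algebra S R] [IsScalarTower A S R]
  {P : Type u} [CommRing P] [Algebra A P] {C : Type u} [CommRing C] [Algebra R C]
  {P' : Type u} [CommRing P'] [Algebra S P']

/-- Changing a model to a later stage. -/
def eStep (e₁ : R ⊗[A] P ≃ₐ[R] C) (e' : S ⊗[A] P ≃ₐ[S] P') : R ⊗[S] P' ≃ₐ[R] C :=
  ((Algebra.TensorProduct.congr (AlgEquiv.refl : R ≃ₐ[R] R) e'.symm).trans
    (Algebra.TensorProduct.cancelBaseChange A S R R P)).trans e₁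

theorem eStep_tmul (e₁ : R ⊗[A] P ≃ₐ[R] C) (e' : S ⊗[A] P ≃ₐ[S] P') (p : P) :
    eStep e₁ e' ((1 : R) ⊗ₜ[S] e' ((1 : S) ⊗ₜ[A] p)) = e₁ ((1 : R) ⊗ₜ[A] p) := by
  simp [eStep]

theorem forall_bc (e' : S ⊗[A] P ≃ₐ[S] P') {X : Type u} [AddCommMonoid X] [Module R X] (F G : R ⊗[S] P' →ₗ[R] X)
    (h : ∀ p, F ((1 : R) ⊗ₜ[S] e' ((1 : S) ⊗ₜ[A] p)) = G ((1 : R) ⊗ₜ[S] e' ((1 : S) ⊗ₜ[A] p))) (x : P') :
    F ((1 : R) ⊗ₜ[S] x) = G ((1 : R) ⊗ₜ[S] x) := by
  obtain ⟨z, rfl⟩ := e'.surjective x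
  induction z with
  | zero => simp
  | add a b ha hb => simp only [map_add, tmul_add, ha, hb]
  | tmul s p =>
    rw [show s ⊗ₜ[A] p = s • ((1 : S) ⊗ₜ[A] p) by rw [TensorProduct.smul_tmul', smul_eq_mul, mul_one],
      map_smul, tmul_smul, ← algebraMap_smul R s, map_smul, map_smul, h p]

theorem eT_step (e₁ : R ⊗[A] P ≃ₐ[R] C) (e' : S ⊗[A] P ≃ₐ[S] P') (w : S ⊗[A] (P ⊗[A] P)) :
    eT (eStep e₁ e') (eStep e₁ e') ((1 : R) ⊗ₜ[S] eT e' e' w) =
      eT e₁ e₁ (Algebra.TensorProduct.map (IsScalarTower.toAlgHom A S R) (AlgHom.id A (P ⊗[A] P)) w) := by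
  induction w with
  | zero => simp
  | add a b ha hb => simp only [map_add, tmul_add, ha, hb]
  | tmul s z =>
    rw [Algebra.TensorProduct.map_tmul, IsScalarTower.toAlgHom_apply, AlgHom.id_apply,
      show s ⊗ₜ[A] z = s • ((1 : S) ⊗ₜ[A] z) by rw [TensorProduct.smul_tmul', smul_eq_mul, mul_one],
      map_smul, tmul_smul, ← algebraMap_smul R s, map_smul,
      show algebraMap S R s ⊗ₜ[A] z = algebraMap S R s • ((1 : R) ⊗ₜ[A] z) by
        rw [TensorProduct.smul_tmul', smul_eq_mul, mul_one], map_smul]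
    congr 1
    induction z with
    | zero => simp
    | add a b ha hb => simp only [map_add, tmul_add, ha, hb]
    | tmul x y => rw [eT_tmul, eT_tmul, eT_tmul, eStep_tmul, eStep_tmul]

theorem step_comul (e₁ : R ⊗[A] P ≃ₐ[R] C) (e' : S ⊗[A] P ≃ₐ[S] P') (ΔC : C →ₐ[R] C ⊗[R] C)
    (DP : P' →ₐ[S] P' ⊗[S] P') (w : P → S ⊗[A] (P ⊗[A] P))
    (h1 : ∀ p, DP (e' ((1 : S) ⊗ₜ[A] p)) = eT e' e' (w p))
    (h3 : ∀ p, ΔC (e₁ ((1 : R) ⊗ₜ[A] p)) =
      eT e₁ e₁ (Algebra.TensorProduct.map (IsScalarTower.toAlgHom A S R) (AlgHom.id A (P ⊗[A] P)) (w p))) (x : P') :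
    ΔC (eStep e₁ e' ((1 : R) ⊗ₜ[S] x)) = eT (eStep e₁ e') (eStep e₁ e') ((1 : R) ⊗ₜ[S] DP x) :=
  forall_bc e' (ΔC.comp (eStep e₁ e').toAlgHom).toLinearMap
    ((eT (eStep e₁ e') (eStep e₁ e')).toLinearMap ∘ₗ DP.toLinearMap.baseChange R) (fun p => by
      simp only [AlgHom.toLinearMap_apply, AlgHom.comp_apply, AlgEquiv.coe_toAlgHom, LinearMap.comp_apply,
        LinearMap.baseChange_tmul, AlgEquiv.toLinearMap_apply, h1, eStep_tmul, h3, eT_step]) x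

theorem step_counit (e₁ : R ⊗[A] P ≃ₐ[R] C) (e' : S ⊗[A] P ≃ₐ[S] P') (εC : C →ₐ[R] R)
    (EP : P' →ₐ[S] S) (w : P → S) (h1 : ∀ p, EP (e' ((1 : S) ⊗ₜ[A] p)) = w p)
    (h3 : ∀ p, εC (e₁ ((1 : R) ⊗ₜ[A] p)) = algebraMap S R (w p)) (x : P') :
    εC (eStep e₁ e' ((1 : R) ⊗ₜ[S] x)) = algebraMap S R (EP x) := by
  have h := forall_bc e' (εC.comp (eStep e₁ e').toAlgHom).toLinearMap
    ((TensorProduct.AlgebraTensorModule.rid S R R).toLinearMap ∘ₗ EP.toLinearMap.baseChange R) (fun p => by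
      simp only [AlgHom.toLinearMap_apply, AlgHom.comp_apply, AlgEquiv.coe_toAlgHom, LinearMap.comp_apply,
        LinearMap.baseChange_tmul, LinearEquiv.coe_coe, AlgebraTensorModule.rid_tmul, h1, eStep_tmul, h3,
        Algebra.algebraMap_eq_smul_one]) x
  simpa [Algebra.algebraMap_eq_smul_one] using h

theorem step_antipode (e₁ : R ⊗[A] P ≃ₐ[R] C) (e' : S ⊗[A] P ≃ₐ[S] P') (SC : C →ₐ[R] C)
    (SP : P' →ₐ[S] P') (w : P → S ⊗[A] P) (h1 : ∀ p, SP (e' ((1 : S) ⊗ₜ[A] p)) = e' (w p))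
    (h3 : ∀ p, SC (e₁ ((1 : R) ⊗ₜ[A] p)) =
      e₁ (Algebra.TensorProduct.map (IsScalarTower.toAlgHom A S R) (AlgHom.id A P) (w p))) (x : P') :
    SC (eStep e₁ e' ((1 : R) ⊗ₜ[S] x)) = eStep e₁ e' ((1 : R) ⊗ₜ[S] SP x) :=
  forall_bc e' (SC.comp (eStep e₁ e').toAlgHom).toLinearMap
    ((eStep e₁ e').toLinearMap ∘ₗ SP.toLinearMap.baseChange R) (fun p => by
      simp only [AlgHom.toLinearMap_apply, AlgHom.comp_apply, AlgEquiv.coe_toAlgHom, LinearMap.comp_apply,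
        LinearMap.baseChange_tmul, AlgEquiv.toLinearMap_apply, h1, eStep_tmul, h3]
      induction w p with
      | zero => simp
      | add a b ha hb => simp only [map_add, tmul_add, ha, hb]
      | tmul s q =>
        simp [eStep, Algebra.TensorProduct.map_tmul, Algebra.smul_def]) x

end Step

theorem exists_hopf_model_of_data {D : Type u} [CommRing D] (hD : Algebra.FiniteType ℤ D) {R : Type u} [CommRing R]
    [Algebra D R] {P₁ : Type u} [CommRing P₁] [Algebra D P₁]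
    [Algebra.FinitePresentation D P₁] {C : Type u} [CommRing C] [HopfAlgebra R C] (e₁ : R ⊗[D] P₁ ≃ₐ[R] C)
    (DP : P₁ →ₐ[D] P₁ ⊗[D] P₁) (EP : P₁ →ₐ[D] D) (SP : P₁ →ₐ[D] P₁)
    (hΔ₁ : ∀ x, Bialgebra.comulAlgHom R C (e₁ ((1 : R) ⊗ₜ[D] x)) = eT e₁ e₁ ((1 : R) ⊗ₜ[D] DP x))
    (hε₁ : ∀ x, Bialgebra.counitAlgHom R C (e₁ ((1 : R) ⊗ₜ[D] x)) = algebraMap D R (EP x))
    (hS₁ : ∀ x, HopfAlgebra.antipodeAlgHom R C (e₁ ((1 : R) ⊗ₜ[D] x)) = e₁ ((1 : R) ⊗ₜ[D] SP x)) :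
    ∃ (A : Type u) (_ : CommRing A) (_ : Algebra A R) (P : Type u) (_ : CommRing P) (_ : HopfAlgebra A P),
      Algebra.FiniteType ℤ A ∧ Function.Injective (algebraMap A R) ∧ Algebra.FinitePresentation A P ∧
      (Coalgebra.IsCocomm R C → Coalgebra.IsCocomm A P) ∧ Nonempty (R ⊗[A] P ≃ₐc[R] C) := by
  classical
  have hax := axioms_of_hopf e₁ DP EP SP hΔ₁ hε₁ hS₁
  obtain ⟨F1, hF1, k1⟩ := exists_eq_stage (R := R) (coL DP) (coR DP) hax.coassoc
  obtain ⟨F2, hF2, k2⟩ := exists_eq_stage (R := R) (cuL DP EP) (AlgHom.id D _) hax.counitL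
  obtain ⟨F3, hF3, k3⟩ := exists_eq_stage (R := R) (cuR DP EP) (AlgHom.id D _) hax.counitR
  obtain ⟨F4, hF4, k4⟩ := exists_eq_stage (R := R) (anti DP SP (AlgHom.id D _)) ((Algebra.ofId D _).comp EP) hax.antiR
  obtain ⟨F5, hF5, k5⟩ := exists_eq_stage (R := R) (anti DP (AlgHom.id D _) SP) ((Algebra.ofId D _).comp EP) hax.antiL
  obtain ⟨F6, hF6, k6⟩ : ∃ F : Subalgebra D R, F.FG ∧ ∀ F' : Subalgebra D R, F ≤ F' → Coalgebra.IsCocomm R C →
      ∀ c, (1 : F') ⊗ₜ[D] ((Algebra.TensorProduct.comm D _ _).toAlgHom.comp DP) c = (1 : F') ⊗ₜ[D] DP c := by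
    by_cases hc : Coalgebra.IsCocomm R C
    · have hcc : (Algebra.TensorProduct.comm R C C).toAlgHom.comp (Bialgebra.comulAlgHom R C) =
          Bialgebra.comulAlgHom R C := AlgHom.toLinearMap_injective (Coalgebra.comm_comp_comul R C)
      obtain ⟨F, hF, k⟩ := exists_eq_stage (R := R) _ _ ((cocomm_iff e₁ DP _ hΔ₁).1 hcc)
      exact ⟨F, hF, fun F' h _ => k F' h⟩
    · exact ⟨⊥, Subalgebra.fg_bot, fun _ _ h => absurd h hc⟩
  let F : Subalgebra D R := F1 ⊔ F2 ⊔ F3 ⊔ F4 ⊔ F5 ⊔ F6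
  have l1 : F1 ≤ F := le_sup_of_le_left (le_sup_of_le_left (le_sup_of_le_left (le_sup_of_le_left le_sup_left)))
  have l2 : F2 ≤ F := le_sup_of_le_left (le_sup_of_le_left (le_sup_of_le_left (le_sup_of_le_left le_sup_right)))
  have l3 : F3 ≤ F := le_sup_of_le_left (le_sup_of_le_left (le_sup_of_le_left le_sup_right))
  have l4 : F4 ≤ F := le_sup_of_le_left (le_sup_of_le_left le_sup_right)
  have l5 : F5 ≤ F := le_sup_of_le_left le_sup_right
  have l6 : F6 ≤ F := le_sup_right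
  haveI : Algebra.FiniteType D F :=
    (Subalgebra.fg_iff_finiteType F).1 (((((hF1.sup hF2).sup hF3).sup hF4).sup hF5).sup hF6)
  obtain ⟨P, _, hH, eF, hΔF, hεF⟩ :=
    exists_hopf (S := F) DP EP SP ⟨k1 F l1, k2 F l2, k3 F l3, k4 F l4, k5 F l5⟩
  haveI : Algebra.FinitePresentation F P := Algebra.FinitePresentation.equiv eF
  refine ⟨F, inferInstance, inferInstance, P, inferInstance, hH,
    Algebra.FiniteType.trans (R := ℤ) (S := D) (A := F) hD inferInstance,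
    Subtype.val_injective, inferInstance, fun hc => ?_, ?_⟩
  · have h2 := (cocomm_iff eF DP (Bialgebra.comulAlgHom F P) hΔF).2 (k6 F l6 hc)
    exact ⟨congrArg AlgHom.toLinearMap h2⟩
  · refine nonempty_bialgEquiv (eStep e₁ eF)
      (step_comul e₁ eF _ (Bialgebra.comulAlgHom F P) (fun x => (1 : F) ⊗ₜ[D] DP x) hΔF fun x => ?_)
      (step_counit e₁ eF _ (Bialgebra.counitAlgHom F P) (fun x => algebraMap D F (EP x)) hεF fun x => ?_)
    · rw [hΔ₁, Algebra.TensorProduct.map_tmul, map_one, AlgHom.id_apply]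
    · rw [hε₁, ← IsScalarTower.algebraMap_apply]

theorem exists_hopf_model_aux {A₀ : Type u} [CommRing A₀] [hA₀ : Algebra.FiniteType ℤ A₀] {R : Type u} [CommRing R]
    [Algebra A₀ R] {P₀ : Type u} [CommRing P₀] [Algebra A₀ P₀] [Algebra.FinitePresentation A₀ P₀]
    {C : Type u} [CommRing C] [HopfAlgebra R C] (e₀ : R ⊗[A₀] P₀ ≃ₐ[R] C) :
    ∃ (A : Type u) (_ : CommRing A) (_ : Algebra A R) (P : Type u) (_ : CommRing P) (_ : HopfAlgebra A P),
      Algebra.FiniteType ℤ A ∧ Function.Injective (algebraMap A R) ∧ Algebra.FinitePresentation A P ∧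
      (Coalgebra.IsCocomm R C → Coalgebra.IsCocomm A P) ∧ Nonempty (R ⊗[A] P ≃ₐc[R] C) := by
  classical
  let fΔ : P₀ →ₐ[A₀] R ⊗[A₀] (P₀ ⊗[A₀] P₀) :=
    (((eT e₀ e₀).symm.toAlgHom.comp ((Bialgebra.comulAlgHom R C).comp e₀.toAlgHom)).restrictScalars A₀).comp
      Algebra.TensorProduct.includeRight
  let fE : P₀ →ₐ[A₀] R ⊗[A₀] A₀ :=
    (((Algebra.TensorProduct.rid A₀ R R).symm.toAlgHom.comp
      ((Bialgebra.counitAlgHom R C).comp e₀.toAlgHom)).restrictScalars A₀).comp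
      Algebra.TensorProduct.includeRight
  let fS : P₀ →ₐ[A₀] R ⊗[A₀] P₀ :=
    ((e₀.symm.toAlgHom.comp ((HopfAlgebra.antipodeAlgHom R C).comp e₀.toAlgHom)).restrictScalars A₀).comp
      Algebra.TensorProduct.includeRight
  obtain ⟨D1, hD1, gΔ, hgΔ⟩ := exists_algHom_stage fΔ
  obtain ⟨D2, hD2, gE, hgE⟩ := exists_algHom_stage fE
  obtain ⟨D3, hD3, gS, hgS⟩ := exists_algHom_stage fS
  let D : Subalgebra A₀ R := D1 ⊔ D2 ⊔ D3
  have h1D : D1 ≤ D := le_sup_of_le_left le_sup_left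
  have h2D : D2 ≤ D := le_sup_of_le_left le_sup_right
  have h3D : D3 ≤ D := le_sup_right
  haveI : Algebra.FiniteType A₀ D := (Subalgebra.fg_iff_finiteType D).1 ((hD1.sup hD2).sup hD3)
  let gΔ' : P₀ →ₐ[A₀] D ⊗[A₀] (P₀ ⊗[A₀] P₀) :=
    (Algebra.TensorProduct.map (Subalgebra.inclusion h1D) (AlgHom.id A₀ _)).comp gΔ
  let gE' : P₀ →ₐ[A₀] D := (Algebra.TensorProduct.rid A₀ A₀ D).toAlgHom.comp
    ((Algebra.TensorProduct.map (Subalgebra.inclusion h2D) (AlgHom.id A₀ _)).comp gE)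
  let gS' : P₀ →ₐ[A₀] D ⊗[A₀] P₀ :=
    (Algebra.TensorProduct.map (Subalgebra.inclusion h3D) (AlgHom.id A₀ _)).comp gS
  let e' : D ⊗[A₀] P₀ ≃ₐ[D] D ⊗[A₀] P₀ := AlgEquiv.refl
  let DP : D ⊗[A₀] P₀ →ₐ[D] (D ⊗[A₀] P₀) ⊗[D] (D ⊗[A₀] P₀) :=
    liftBC (((eT e' e').toAlgHom.restrictScalars A₀).comp gΔ')
  let EP : D ⊗[A₀] P₀ →ₐ[D] D := liftBC gE'
  let SP : D ⊗[A₀] P₀ →ₐ[D] D ⊗[A₀] P₀ := liftBC gS'
  let e₁ : R ⊗[D] (D ⊗[A₀] P₀) ≃ₐ[R] C := eStep e₀ e'
  have hincl : ∀ {E : Subalgebra A₀ R} (h : E ≤ D) {N : Type u} [CommRing N] [Algebra A₀ N] (z : E ⊗[A₀] N),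
      Algebra.TensorProduct.map (IsScalarTower.toAlgHom A₀ D R) (AlgHom.id A₀ N)
        (Algebra.TensorProduct.map (Subalgebra.inclusion h) (AlgHom.id A₀ N) z) =
      Algebra.TensorProduct.map E.val (AlgHom.id A₀ N) z := by
    intro E h N _ _ z
    rw [map_id_eq, map_id_eq, map_id_eq, ← LinearMap.rTensor_comp_apply]
    rfl
  have hΔ₁ : ∀ x, Bialgebra.comulAlgHom R C (e₁ ((1 : R) ⊗ₜ[D] x)) = eT e₁ e₁ ((1 : R) ⊗ₜ[D] DP x) := by
    refine step_comul e₀ e' _ DP gΔ' (fun p => ?_) fun p => ?_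
    · simp [DP, e', liftBC_tmul]
    · simp only [gΔ', AlgHom.comp_apply, hincl h1D, hgΔ]
      simp [fΔ]
  have hε₁ : ∀ x, Bialgebra.counitAlgHom R C (e₁ ((1 : R) ⊗ₜ[D] x)) = algebraMap D R (EP x) := by
    refine step_counit e₀ e' _ EP gE' (fun p => ?_) fun p => ?_
    · simp [EP, e', liftBC_tmul]
    · have h4 : ∀ z : D ⊗[A₀] A₀, algebraMap D R (Algebra.TensorProduct.rid A₀ A₀ D z) =
          Algebra.TensorProduct.rid A₀ R R
            (Algebra.TensorProduct.map (IsScalarTower.toAlgHom A₀ D R) (AlgHom.id A₀ A₀) z) := by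
        intro z
        induction z with
        | zero => simp
        | add a b ha hb => simp only [map_add, ha, hb]
        | tmul d a => simp [Algebra.smul_def]
      simp only [gE', AlgHom.comp_apply, AlgEquiv.coe_toAlgHom, h4, hincl h2D, hgE]
      simp [fE]
  have hS₁ : ∀ x, HopfAlgebra.antipodeAlgHom R C (e₁ ((1 : R) ⊗ₜ[D] x)) = e₁ ((1 : R) ⊗ₜ[D] SP x) := by
    refine step_antipode e₀ e' _ SP gS' (fun p => ?_) fun p => ?_
    · simp [SP, e', liftBC_tmul]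
    · simp only [gS', AlgHom.comp_apply, hincl h3D, hgS]
      simp [fS]
  exact exists_hopf_model_of_data (Algebra.FiniteType.trans (R := ℤ) (S := A₀) (A := D) hA₀ inferInstance)
    e₁ DP EP SP hΔ₁ hε₁ hS₁

/-- A Hopf algebra of finite presentation comes from a finitely generated ring. -/
theorem exists_hopf_model (R : Type u) [CommRing R] (C : Type u) [CommRing C] [HopfAlgebra R C]
    [Algebra.FinitePresentation R C] :
    ∃ (A : Type u) (_ : CommRing A) (_ : Algebra A R) (P : Type u) (_ : CommRing P) (_ : HopfAlgebra A P),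
      Algebra.FiniteType ℤ A ∧ Function.Injective (algebraMap A R) ∧ Algebra.FinitePresentation A P ∧
      (Coalgebra.IsCocomm R C → Coalgebra.IsCocomm A P) ∧ Nonempty (R ⊗[A] P ≃ₐc[R] C) := by
  classical
  let Pr := Algebra.Presentation.ofFinitePresentation R C
  let A₀ : Subalgebra ℤ R := Algebra.adjoin ℤ Pr.coeffs
  haveI : Algebra.FiniteType ℤ A₀ := .adjoin_of_finite Pr.finite_coeffs
  haveI : Pr.HasCoeffs A₀ := ⟨fun x hx => ⟨⟨x, Algebra.subset_adjoin hx⟩, rfl⟩⟩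
  exact exists_hopf_model_aux (Pr.tensorModelOfHasCoeffsEquiv A₀)

end Model

end Groth.Agent.SGA3b53
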