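import Mathlib
import Groth.Agent.Cohen12.ConnectedNormal
import Groth.Agent.FlatMor67.SmoothIsRegular

/-!
# Infinitesimal neighbourhoods of a section detect vanishing on a smooth algebra
with connected geometric fibres
-/

set_option autoImplicit false
universe u

open TensorProduct

namespace Groth.Agent.SGA3b53.InfNbhd

theorem isDomain_of_smooth_connected (L S : Type u) [Field L] [CommRing S] [Algebra L S]
    [Algebra.Smooth L S] (hc : ConnectedSpace (PrimeSpectrum S)) : IsDomain S := by
  have : IsNoetherianRing S := Algebra.FiniteType.isNoetherianRing L S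
  have : IsRegularRing S := FlatMor67.isRegularRing_of_smooth L S
  exact (Cohen12.isDomain_of_normal S (FlatMor67.isNormalRing_of_regular S) hc).1

/-- An element killed by `s` is a combination with coefficients killed by `s` (flatness). -/
theorem exists_coeff_killed {A B : Type u} [CommRing A] [CommRing B] [Algebra A B] [Module.Flat A B]
    (z : B) (s : Finset A) (hs : ∀ a ∈ s, a • z = 0) :
    ∃ (n : ℕ) (c : Fin n → A) (w : Fin n → B), z = ∑ i, c i • w i ∧ ∀ a ∈ s, ∀ i, a * c i = 0 := by
  classical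
  induction s using Finset.induction_on with
  | empty => exact ⟨1, fun _ => 1, fun _ => z, by simp, by simp⟩
  | insert a t hat ih =>
    obtain ⟨n, c, w, hz, hc⟩ := ih fun x hx => hs x (Finset.mem_insert_of_mem hx)
    have h0 : ∑ i, (a * c i) • w i = 0 := by
      simp only [mul_smul, ← Finset.smul_sum, ← hz]
      exact hs a (Finset.mem_insert_self a t)
    obtain ⟨k, b, y, hw, hb⟩ :=
      Module.Flat.isTrivialRelation_of_sum_smul_eq_zero (R := A) (M := B) h0
    refine ⟨k, fun j => ∑ i, c i * b i j, y, ?_, fun x hx j => ?_⟩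
    · rw [hz]
      simp only [hw, Finset.smul_sum, smul_smul, Finset.sum_smul]
      exact Finset.sum_comm
    · rw [Finset.mul_sum]
      rcases Finset.mem_insert.1 hx with rfl | hx
      · simpa only [mul_assoc] using hb j
      · exact Finset.sum_eq_zero fun i _ => by rw [← mul_assoc, hc x hx i, zero_mul]

/-- An element of a flat algebra over a Noetherian ring is regular once it is regular
on the fibres at the associated primes. -/
theorem eq_zero_of_mul_eq_zero {A B : Type u} [CommRing A] [IsNoetherianRing A] [CommRing B]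
    [Algebra A B] [Module.Flat A B] (g : B)
    (hg : ∀ (q : Ideal A), q.IsPrime → ∀ c : A, (∀ a, a * c = 0 ↔ a ∈ q) →
      ∀ w : B, g * w ∈ q.map (algebraMap A B) → w ∈ q.map (algebraMap A B))
    (z : B) (hz : g * z = 0) : z = 0 := by
  classical
  by_contra hne
  let P : Set (Ideal A) := {I | ∃ x : B, x ≠ 0 ∧ g * x = 0 ∧ ∀ a, a ∈ I ↔ a • x = 0}
  let ann : B → Ideal A := fun x => LinearMap.ker (LinearMap.toSpanSingleton A B x)
  have hP : P.Nonempty := ⟨ann z, z, hne, hz, fun a => by simp [ann]⟩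
  obtain ⟨q, hqP, hmax⟩ : ∃ q : Ideal A, q ∈ P ∧ ∀ I ∈ P, ¬ q < I :=
    set_has_maximal_iff_noetherian.2 inferInstance P hP
  obtain ⟨x, hx0, hgx, hqx⟩ := hqP
  have hprime : q.IsPrime := by
    refine ⟨fun ht => hx0 ?_, fun {a b} hab => ?_⟩
    · simpa using (hqx 1).1 (ht ▸ Submodule.mem_top)
    · by_contra hn
      rw [not_or] at hn
      have hbx : b • x ≠ 0 := fun h => hn.2 ((hqx b).2 h)
      have hle : q ≤ ann (b • x) := fun c hc => by
        simp [ann, smul_comm c b x, (hqx c).1 hc]
      have hmem : ann (b • x) ∈ P :=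
        ⟨b • x, hbx, by rw [mul_smul_comm, hgx, smul_zero], fun c => by simp [ann]⟩
      have ha : a ∈ ann (b • x) := by
        simpa [ann, smul_smul] using (hqx (a * b)).1 hab
      exact hmax _ hmem (lt_of_le_of_ne hle fun h => hn.1 (h ▸ ha))
  obtain ⟨S, hS⟩ := q.fg_of_isNoetherianRing
  obtain ⟨n, c, w, hcw, hkill⟩ := exists_coeff_killed x S fun a ha =>
    (hqx a).1 (hS ▸ Ideal.subset_span ha)
  have hkill' : ∀ a ∈ q, ∀ i, a * c i = 0 := fun a ha i => by
    rw [← hS] at ha
    induction ha using Submodule.span_induction with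
    | mem b hb => exact hkill b hb i
    | zero => exact zero_mul _
    | add _ _ _ _ h₁ h₂ => rw [add_mul, h₁, h₂, add_zero]
    | smul r b _ h => rw [smul_eq_mul, mul_assoc, h, mul_zero]
  suffices H : ∀ (n : ℕ) (c : Fin n → A) (w : Fin n → B), (∀ a ∈ q, ∀ i, a * c i = 0) →
      g * ∑ i, c i • w i = 0 → ∃ s, s ∉ q ∧ s • ∑ i, c i • w i = 0 by
    obtain ⟨s, hs, hsx⟩ := H n c w hkill' (hcw ▸ hgx)
    exact hs ((hqx s).2 (hcw ▸ hsx))
  intro n
  induction n with
  | zero => exact fun c w _ _ => ⟨1, hprime.one_notMem, by simp⟩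
  | succ n ih =>
    intro c w hc hgw
    by_cases hdep : ∃ d : Fin (n + 1) → A, ∑ i, d i * c i = 0 ∧ ∃ l, d l ∉ q
    · obtain ⟨d, hd, l, hl⟩ := hdep
      let w' : Fin n → B := fun i => d l • w (l.succAbove i) - d (l.succAbove i) • w l
      have hsum : d l • ∑ i, c i • w i = ∑ i, c (l.succAbove i) • w' i := by
        have h1 : d l * c l = -∑ i, d (l.succAbove i) * c (l.succAbove i) := by
          rw [Fin.sum_univ_succAbove _ l] at hd
          exact eq_neg_of_add_eq_zero_left hd
        rw [Fin.sum_univ_succAbove _ l, smul_add, smul_smul, h1, neg_smul, Finset.sum_smul,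
          Finset.smul_sum, neg_add_eq_sub, ← Finset.sum_sub_distrib]
        refine Finset.sum_congr rfl fun i _ => ?_
        simp only [w', smul_sub, smul_smul, mul_comm (c (l.succAbove i))]
      obtain ⟨s, hs, hs0⟩ := ih (fun i => c (l.succAbove i)) w' (fun a ha i => hc a ha _)
        (by rw [← hsum, mul_smul_comm, hgw, smul_zero])
      exact ⟨s * d l, fun h => (hprime.mem_or_mem h).elim hs hl, by rw [mul_smul, hsum, hs0]⟩
    · push Not at hdep
      have hassoc : ∀ l a, a * c l = 0 ↔ a ∈ q := fun l a =>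
        ⟨fun h => by
          simpa using hdep (Pi.single l a) (by simp [Pi.single_apply, ite_mul, h]) l,
          fun h => hc a h l⟩
      have hrel : ∑ i, c i • (g * w i) = 0 := by
        simpa only [Finset.mul_sum, mul_smul_comm] using hgw
      obtain ⟨k, b, y, hy, hb⟩ :=
        Module.Flat.isTrivialRelation_of_sum_smul_eq_zero (R := A) (M := B) hrel
      refine ⟨1, hprime.one_notMem, ?_⟩
      rw [one_smul]
      refine Finset.sum_eq_zero fun i _ => ?_
      have hgi : g * w i ∈ q.map (algebraMap A B) := by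
        rw [show g * w i = _ from hy i]
        refine Ideal.sum_mem _ fun j _ => ?_
        rw [Algebra.smul_def]
        exact Ideal.mul_mem_right _ _ (Ideal.mem_map_of_mem _
          (hdep (fun i => b i j) (by simpa only [mul_comm] using hb j) i))
      have hwi := hg q hprime (c i) (hassoc i) _ hgi
      have hle : q.map (algebraMap A B) ≤ LinearMap.ker (LinearMap.mulLeft B (algebraMap A B (c i))) := by
        rw [Ideal.map_le_iff_le_comap]
        intro a ha
        simp [← map_mul, mul_comm (c i) a, hc a ha i]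
      simpa [Algebra.smul_def] using hle hwi

/-- The infinitesimal neighbourhoods of a section of a smooth algebra are projective:
they are retracts of polynomial algebras. -/
theorem exists_retraction {R B : Type u} [CommRing R] [IsNoetherianRing R] [CommRing B] [Algebra R B]
    [Algebra.Smooth R B] (e : B →ₐ[R] R) :
    ∃ (k : ℕ) (ψ : MvPolynomial (Fin k) R →ₐ[R] B), ∀ n : ℕ,
      ∃ s : (B ⧸ RingHom.ker e ^ (n + 1)) →ₗ[R] MvPolynomial (Fin k) R,
        ∀ x, Ideal.Quotient.mk (RingHom.ker e ^ (n + 1)) (ψ (s x)) = x := by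
  classical
  have : IsNoetherianRing B := Algebra.FiniteType.isNoetherianRing R B
  obtain ⟨k, g, hg⟩ := Submodule.fg_iff_exists_fin_generating_family.1
    (IsNoetherian.noetherian (RingHom.ker e))
  let ψ : MvPolynomial (Fin k) R →ₐ[R] B := MvPolynomial.aeval g
  have hgm : ∀ i, g i ∈ RingHom.ker e := fun i => hg.le (Submodule.subset_span ⟨i, rfl⟩)
  have hcc : ∀ p, e (ψ p) = MvPolynomial.constantCoeff p := fun p => by
    induction p using MvPolynomial.induction_on with
    | C a => simp [ψ]
    | add p q hp hq => simp [hp, hq]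
    | mul_X p i hp => simp [ψ, show e (g i) = 0 from hgm i]
  have hvars : ∀ p, e (ψ p) = 0 → p ∈ MvPolynomial.idealOfVars (Fin k) R := fun p hp => by
    rw [← pow_one (MvPolynomial.idealOfVars (Fin k) R), MvPolynomial.mem_pow_idealOfVars_iff']
    intro d hd
    rw [(Finsupp.degree_eq_zero_iff d).1 (Nat.lt_one_iff.1 hd), ← MvPolynomial.constantCoeff_eq,
      ← hcc, hp]
  have hψm : ∀ j, (MvPolynomial.idealOfVars (Fin k) R ^ j).map ψ ≤ RingHom.ker e ^ j := fun j => by
    rw [Ideal.map_pow]
    refine Ideal.pow_right_mono ?_ j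
    rw [MvPolynomial.idealOfVars, Ideal.map_span, Ideal.span_le]
    rintro _ ⟨_, ⟨i, rfl⟩, rfl⟩
    simpa [ψ] using hgm i
  have hstep : ∀ j, ∀ x ∈ RingHom.ker e ^ j, ∃ p, x - ψ p ∈ RingHom.ker e ^ (j + 1) := by
    intro j
    induction j with
    | zero =>
      intro x _
      exact ⟨MvPolynomial.C (e x), by simp [ψ]⟩
    | succ j ih =>
      intro x hx
      rw [pow_succ] at hx
      induction hx using Submodule.mul_induction_on' with
      | mem_mul_mem a ha b hb =>
        obtain ⟨p, hp⟩ := ih a ha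
        obtain ⟨c, hc⟩ := (Submodule.mem_span_range_iff_exists_fun B).1 (hg.ge hb)
        refine ⟨p * ∑ i, MvPolynomial.C (e (c i)) * MvPolynomial.X i, ?_⟩
        have h2 : b - ψ (∑ i, MvPolynomial.C (e (c i)) * MvPolynomial.X i) ∈ RingHom.ker e ^ 2 := by
          rw [← hc, map_sum, ← Finset.sum_sub_distrib]
          refine Ideal.sum_mem _ fun i _ => ?_
          rw [smul_eq_mul, map_mul, pow_two]
          simp only [ψ, MvPolynomial.aeval_C, MvPolynomial.aeval_X, ← sub_mul]
          exact Ideal.mul_mem_mul (by simp) (hgm i)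
        have h3 : ψ (∑ i, MvPolynomial.C (e (c i)) * MvPolynomial.X i) ∈ RingHom.ker e := by
          rw [map_sum]
          refine Ideal.sum_mem _ fun i _ => ?_
          simp only [ψ, map_mul, MvPolynomial.aeval_X]
          exact Ideal.mul_mem_left _ _ (hgm i)
        rw [map_mul, show ∀ P Q : B, a * b - P * Q = a * (b - Q) + (a - P) * Q from fun P Q => by ring]
        refine add_mem ?_ ?_
        · have := Ideal.mul_mem_mul ha h2
          rwa [← pow_add] at this
        · have := Ideal.mul_mem_mul hp h3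
          rwa [← pow_succ] at this
      | add a _ b _ h₁ h₂ =>
        obtain ⟨p, hp⟩ := h₁
        obtain ⟨q, hq⟩ := h₂
        exact ⟨p + q, by rw [map_add, add_sub_add_comm]; exact add_mem hp hq⟩
  have hsurj : ∀ j, ∀ b : B, ∃ p, b - ψ p ∈ RingHom.ker e ^ j := by
    intro j
    induction j with
    | zero => exact fun b => ⟨0, by simp⟩
    | succ j ih =>
      intro b
      obtain ⟨p, hp⟩ := ih b
      obtain ⟨q, hq⟩ := hstep j _ hp
      exact ⟨p + q, by rwa [map_add, ← sub_sub]⟩
  refine ⟨k, ψ, fun n => ?_⟩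
  let I : Ideal (MvPolynomial (Fin k) R) := MvPolynomial.idealOfVars (Fin k) R ^ (n + 1)
  let π : (MvPolynomial (Fin k) R ⧸ I) →ₐ[R] B ⧸ RingHom.ker e ^ (n + 1) :=
    Ideal.Quotient.liftₐ I ((Ideal.Quotient.mkₐ R _).comp ψ) fun p hp => by
      simpa [Ideal.Quotient.eq_zero_iff_mem] using hψm (n + 1) (Ideal.mem_map_of_mem ψ hp)
  have hπ : ∀ p, π (Ideal.Quotient.mk I p) = Ideal.Quotient.mk _ (ψ p) := fun p => rfl
  have hπs : Function.Surjective π := fun y => by
    obtain ⟨b, rfl⟩ := Ideal.Quotient.mk_surjective y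
    obtain ⟨p, hp⟩ := hsurj (n + 1) b
    exact ⟨Ideal.Quotient.mk I p, by rw [hπ]; exact (Ideal.Quotient.eq.2 hp).symm⟩
  have haux : ∀ t, π t ∈ (RingHom.ker e).map (Ideal.Quotient.mk (RingHom.ker e ^ (n + 1))) →
      t ∈ (MvPolynomial.idealOfVars (Fin k) R).map (Ideal.Quotient.mk I) := fun t ht => by
    obtain ⟨p, rfl⟩ := Ideal.Quotient.mk_surjective t
    rw [hπ, Ideal.mem_quotient_iff_mem (Ideal.pow_le_self (Nat.succ_ne_zero n))] at ht
    exact Ideal.mem_map_of_mem _ (hvars p ht)
  have hIpow : (MvPolynomial.idealOfVars (Fin k) R).map (Ideal.Quotient.mk I) ^ (n + 1) = ⊥ := by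
    rw [← Ideal.map_pow, Ideal.map_quotient_self]
  have hnil : IsNilpotent (RingHom.ker π) := by
    refine ⟨n + 1, le_bot_iff.1 ((Ideal.pow_right_mono (fun t ht => haux t ?_) (n + 1)).trans hIpow.le)⟩
    rw [show π t = 0 from ht]
    exact zero_mem _
  let φ : B →ₐ[R] MvPolynomial (Fin k) R ⧸ I :=
    Algebra.FormallySmooth.liftOfSurjective (Ideal.Quotient.mkₐ R _) π hπs hnil
  have hφ : ∀ b, π (φ b) = Ideal.Quotient.mk _ b := fun b =>
    Algebra.FormallySmooth.liftOfSurjective_apply (Ideal.Quotient.mkₐ R _) π hπs hnil b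
  have hle : RingHom.ker e ≤ ((MvPolynomial.idealOfVars (Fin k) R).map (Ideal.Quotient.mk I)).comap φ :=
    fun b hb => haux _ (by rw [hφ]; exact Ideal.mem_map_of_mem _ hb)
  have hφ0 : ∀ b ∈ RingHom.ker e ^ (n + 1), φ b = 0 := fun b hb => by
    have h := (Ideal.pow_right_mono hle (n + 1)).trans (Ideal.le_comap_pow φ (n + 1)) hb
    rwa [Ideal.mem_comap, hIpow, Ideal.mem_bot] at h
  let φ' := Ideal.Quotient.liftₐ (RingHom.ker e ^ (n + 1)) φ hφ0
  let trunc : MvPolynomial (Fin k) R →ₗ[R] MvPolynomial (Fin k) R :=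
    ∑ j ∈ Finset.range (n + 1), MvPolynomial.homogeneousComponent j
  have htrunc : ∀ p d, (trunc p).coeff d = if d.degree < n + 1 then p.coeff d else 0 := fun p d => by
    simp [trunc, MvPolynomial.coeff_sum, MvPolynomial.coeff_homogeneousComponent]
  have htI : I.restrictScalars R ≤ LinearMap.ker trunc := fun p hp => by
    rw [LinearMap.mem_ker]
    ext d
    rw [htrunc, MvPolynomial.coeff_zero]
    split_ifs with h
    · exact (MvPolynomial.mem_pow_idealOfVars_iff' _ _).1 hp d h
    · rfl
  have hsub : ∀ p, Ideal.Quotient.mk I (trunc p) = Ideal.Quotient.mk I p := fun p => by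
    rw [Ideal.Quotient.eq]
    refine (MvPolynomial.mem_pow_idealOfVars_iff' _ _).2 fun d hd => ?_
    rw [MvPolynomial.coeff_sub, htrunc, if_pos hd, sub_self]
  let sec : (MvPolynomial (Fin k) R ⧸ I) →ₗ[R] MvPolynomial (Fin k) R :=
    ((I.restrictScalars R).liftQ trunc htI).comp
      (Submodule.Quotient.restrictScalarsEquiv R I).symm.toLinearMap
  refine ⟨sec.comp φ'.toLinearMap, fun x => ?_⟩
  obtain ⟨b, rfl⟩ := Ideal.Quotient.mk_surjective x
  obtain ⟨p, hp⟩ := Ideal.Quotient.mk_surjective (φ b)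
  have : sec (φ b) = trunc p := by
    rw [← hp]
    rfl
  rw [LinearMap.comp_apply, show φ'.toLinearMap (Ideal.Quotient.mk _ b) = φ b from rfl, this,
    ← hπ, hsub, hp, hφ]

end Groth.Agent.SGA3b53.InfNbhd
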