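import Groth.Agent.SGA3b53.InfNbhd

/-!
# Stabilisation of infinitesimal vanishing conditions
-/

set_option autoImplicit false
universe u

open TensorProduct

namespace Groth.Agent.SGA3b53.InfNbhd

/-- Krull intersection in the form needed below. -/
theorem exists_fix {S : Type u} [CommRing S] [IsNoetherianRing S] (m : Ideal S) (x : S)
    (h : ∀ n, x ∈ m ^ (n + 1)) : ∃ y ∈ m, y * x = x := by
  have hx : x ∈ (⨅ i : ℕ, m ^ i • ⊤ : Submodule S S) := by
    refine Submodule.mem_iInf _ |>.2 fun i => ?_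
    rw [smul_eq_mul, Ideal.mul_top]
    cases i with
    | zero => simp
    | succ i => exact h i
  obtain ⟨⟨y, hy⟩, hyx⟩ := (Ideal.mem_iInf_smul_pow_eq_bot_iff m x).1 hx
  exact ⟨y, hy, hyx⟩

/-- Regularity on `A ⊗ B` of an element congruent to `1` along the section, given that the
geometric fibres are domains. -/
theorem eq_zero_of_fix {R A B : Type u} [CommRing R] [CommRing B] [Algebra R B]
    [Module.Flat R B] [CommRing A] [IsNoetherianRing A] [Algebra R A] (e : B →ₐ[R] R)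
    (hfib : ∀ (q : Ideal A), q.IsPrime → (∃ c : A, ∀ a, a * c = 0 ↔ a ∈ q) →
      ∃ (L : Type u) (_ : Field L) (_ : Algebra R L) (j : A →ₐ[R] L),
        RingHom.ker j = q ∧ IsDomain (L ⊗[R] B))
    (y z : A ⊗[R] B)
    (hy : y ∈ (RingHom.ker e).map (Algebra.TensorProduct.includeRight : B →ₐ[R] A ⊗[R] B))
    (hyz : y * z = z) : z = 0 := by
  refine eq_zero_of_mul_eq_zero (A := A) (1 - y) (fun q hq c hc w hw => ?_) z
    (by rw [sub_mul, one_mul, hyz, sub_self])
  obtain ⟨L, _, _, j, hj, hdom⟩ := hfib q hq ⟨c, hc⟩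
  let mkq : A →ₐ[R] A ⧸ q := Ideal.Quotient.mkₐ R q
  let jbar : (A ⧸ q) →ₐ[R] L := Ideal.Quotient.liftₐ q j fun a ha => by
    have : a ∈ RingHom.ker j := by rw [hj]; exact ha
    exact this
  have hjbar : Function.Injective jbar :=
    RingHom.lift_injective_of_ker_le_ideal q _ (le_of_eq hj)
  let θ₁ : A ⊗[R] B →ₐ[R] (A ⧸ q) ⊗[R] B := Algebra.TensorProduct.map mkq (AlgHom.id R B)
  let θ₂ : (A ⧸ q) ⊗[R] B →ₐ[R] L ⊗[R] B := Algebra.TensorProduct.map jbar (AlgHom.id R B)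
  have hker : RingHom.ker θ₁ = q.map (algebraMap A (A ⊗[R] B)) := by
    rw [show RingHom.ker θ₁ = _ from Algebra.TensorProduct.rTensor_ker (C := B) mkq
      (Ideal.Quotient.mkₐ_surjective R q)]
    rw [show RingHom.ker mkq = q from Ideal.mk_ker]
    rfl
  have hθ₂ : Function.Injective θ₂ := by
    intro a b hab
    exact Module.Flat.rTensor_preserves_injective_linearMap (M := B) jbar.toLinearMap hjbar hab
  let ev : L ⊗[R] B →ₐ[R] L :=
    Algebra.TensorProduct.lift (AlgHom.id R L) ((Algebra.ofId R L).comp e) fun _ _ => .all _ _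
  have hev : ev (θ₂ (θ₁ y)) = 0 := by
    have hle : (RingHom.ker e).map (Algebra.TensorProduct.includeRight : B →ₐ[R] A ⊗[R] B)
        ≤ RingHom.ker (ev.comp (θ₂.comp θ₁)) := by
      rw [Ideal.map_le_iff_le_comap]
      intro b hb
      simp [ev, θ₂, θ₁, show e b = 0 from hb]
    exact hle hy
  have hne : θ₂ (θ₁ (1 - y)) ≠ 0 := fun h0 => by
    have := congrArg ev h0
    simp [hev] at this
  have hw0 : θ₁ ((1 - y) * w) = 0 := by
    rw [← RingHom.mem_ker, hker]; exact hw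
  have : θ₂ (θ₁ (1 - y)) * θ₂ (θ₁ w) = 0 := by rw [← map_mul, ← map_mul, hw0, map_zero]
  have h1 : θ₂ (θ₁ w) = 0 := (mul_eq_zero.1 this).resolve_left hne
  rw [← hker, RingHom.mem_ker]
  exact hθ₂ (by rw [h1, map_zero])

/-- Stabilisation: vanishing on a fixed infinitesimal neighbourhood forces vanishing. -/
theorem exists_bound {R1 R B1 : Type u} [CommRing R1] [IsNoetherianRing R1] [CommRing R]
    [Algebra R1 R] [CommRing B1] [Algebra R1 B1] [Algebra.Smooth R1 B1]
    (e : B1 →ₐ[R1] R1) (J : Set B1)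
    (hconn : ∀ (L : Type u) [Field L] [IsAlgClosed L] [Algebra R L] [Algebra R1 L]
      [IsScalarTower R1 R L], ConnectedSpace (PrimeSpectrum (L ⊗[R1] B1))) :
    ∃ n : ℕ, ∀ (R' : Type u) [CommRing R'] [Algebra R R'] [Algebra R1 R'] [IsScalarTower R1 R R'],
      (∀ x ∈ J, (1 : R') ⊗ₜ[R1] Ideal.Quotient.mk (RingHom.ker e ^ (n + 1)) x = 0) →
        ∀ x ∈ J, (1 : R') ⊗ₜ[R1] x = 0 := by
  obtain ⟨k, ψ, hψ⟩ := exists_retraction e
  choose s hs using hψ
  let Z : ℕ → Ideal R1 := fun n => Ideal.span {a | ∃ x ∈ J,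
    ∃ φ : (B1 ⧸ RingHom.ker e ^ (n + 1)) →ₗ[R1] R1, φ (Ideal.Quotient.mk _ x) = a}
  have hZ : Monotone Z := monotone_nat_of_le_succ fun n => Ideal.span_le.2 fun a ha => by
    obtain ⟨x, hx, φ, rfl⟩ := ha
    exact Ideal.subset_span ⟨x, hx, φ.comp (Ideal.Quotient.factorₐ R1
      (Ideal.pow_le_pow_right (Nat.le_succ (n + 1)))).toLinearMap, rfl⟩
  obtain ⟨n₀, hn₀⟩ := monotone_stabilizes_iff_noetherian.2 inferInstance ⟨Z, hZ⟩
  refine ⟨n₀, fun R' _ _ _ _ h => ?_⟩
  let K : Ideal R1 := RingHom.ker (algebraMap R1 R')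
  have hK₀ : Z n₀ ≤ K := Ideal.span_le.2 fun a ha => by
    obtain ⟨x, hx, φ, rfl⟩ := ha
    have := congrArg (fun t => TensorProduct.rid R1 R' (φ.lTensor R' t)) (h x hx)
    simpa [K, Algebra.algebraMap_eq_smul_one] using this
  have hK : ∀ n, Z n ≤ K := fun n => by
    rcases le_total n n₀ with hn | hn
    · exact (hZ hn).trans hK₀
    · exact (hn₀ n hn).symm.trans_le hK₀
  have hmem : ∀ x ∈ J, ∀ n, x ∈ K.map (algebraMap R1 B1) ⊔ RingHom.ker e ^ (n + 1) := by
    intro x hx n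
    have hp : s n (Ideal.Quotient.mk _ x) ∈ K.map MvPolynomial.C := MvPolynomial.mem_map_C_iff.2
      fun d => hK n (Ideal.subset_span ⟨x, hx, (MvPolynomial.lcoeff R1 d).comp (s n), rfl⟩)
    have hC : (ψ : MvPolynomial (Fin k) R1 →+* B1).comp MvPolynomial.C = algebraMap R1 B1 :=
      ψ.comp_algebraMap
    have h1 : ψ (s n (Ideal.Quotient.mk _ x)) ∈ K.map (algebraMap R1 B1) := by
      rw [← hC, ← Ideal.map_map]
      exact Ideal.mem_map_of_mem _ hp
    refine Submodule.mem_sup.2 ⟨_, h1, x - ψ (s n (Ideal.Quotient.mk _ x)), ?_, add_sub_cancel _ _⟩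
    rw [← Ideal.Quotient.eq, hs]
  let ι : (R1 ⧸ K) →ₐ[R1] R' := Ideal.Quotient.liftₐ K (Algebra.ofId R1 R') fun a ha => ha
  have hι : Function.Injective ι := RingHom.lift_injective_of_ker_le_ideal K _ le_rfl
  have hfib : ∀ q : Ideal (R1 ⧸ K), q.IsPrime → (∃ c, ∀ a, a * c = 0 ↔ a ∈ q) →
      ∃ (L : Type u) (_ : Field L) (_ : Algebra R1 L) (j : (R1 ⧸ K) →ₐ[R1] L),
        RingHom.ker j = q ∧ IsDomain (L ⊗[R1] B1) := by
    rintro q hq ⟨c, hc⟩
    let I : Ideal R' := LinearMap.ker (LinearMap.mulLeft R' (ι c))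
    have hdisj : Disjoint (I : Set R') (q.primeCompl.map ι : Submonoid R') := by
      rw [Set.disjoint_left]
      rintro _ h0 ⟨a, ha, rfl⟩
      exact ha ((hc a).1 (hι (by rw [map_mul, map_zero, mul_comm]; exact h0)))
    obtain ⟨Q, hQ, hIQ, hQd⟩ := I.exists_le_prime_disjoint _ hdisj
    obtain ⟨L, _, _, jR, hjR⟩ : ∃ (L : Type u) (_ : Field L) (_ : IsAlgClosed L) (jR : R' →+* L),
        RingHom.ker jR = Q := by
      refine ⟨AlgebraicClosure (FractionRing (R' ⧸ Q)), inferInstance, inferInstance,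
        (algebraMap (FractionRing (R' ⧸ Q)) _).comp
          ((algebraMap (R' ⧸ Q) (FractionRing (R' ⧸ Q))).comp (Ideal.Quotient.mk Q)), ?_⟩
      rw [RingHom.ker_comp_of_injective _ (FaithfulSMul.algebraMap_injective _ _),
        RingHom.ker_comp_of_injective _ (FaithfulSMul.algebraMap_injective _ _), Ideal.mk_ker]
    let _ : Algebra R L := (jR.comp (algebraMap R R')).toAlgebra
    let _ : Algebra R1 L := (jR.comp (algebraMap R1 R')).toAlgebra
    have : IsScalarTower R1 R L := IsScalarTower.of_algebraMap_eq fun a => by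
      simp [RingHom.algebraMap_toAlgebra, ← IsScalarTower.algebraMap_apply R1 R R']
    refine ⟨L, inferInstance, inferInstance,
      (⟨jR, fun _ => rfl⟩ : R' →ₐ[R1] L).comp ι, ?_, isDomain_of_smooth_connected L _ (hconn L)⟩
    ext a
    change jR (ι a) = 0 ↔ a ∈ q
    rw [← RingHom.mem_ker, hjR]
    refine ⟨fun ha => by_contra fun hn => Set.disjoint_left.1 hQd ha ⟨a, hn, rfl⟩, fun ha => hIQ ?_⟩
    simp [I, ← map_mul, mul_comm c a, (hc a).2 ha]
  have : IsNoetherianRing ((R1 ⧸ K) ⊗[R1] B1) := Algebra.FiniteType.isNoetherianRing (R1 ⧸ K) _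
  intro x hx
  let inc : B1 →ₐ[R1] (R1 ⧸ K) ⊗[R1] B1 := Algebra.TensorProduct.includeRight
  have hinc : ∀ n, inc x ∈ (RingHom.ker e).map inc ^ (n + 1) := fun n => by
    have h0 : (K.map (algebraMap R1 B1)).map inc = ⊥ := by
      rw [Ideal.map_eq_bot_iff_le_ker, Ideal.map_le_iff_le_comap]
      intro a ha
      change inc (algebraMap R1 B1 a) = 0
      rw [AlgHom.commutes, Algebra.TensorProduct.algebraMap_apply,
        show algebraMap R1 (R1 ⧸ K) a = 0 from Ideal.Quotient.eq_zero_iff_mem.2 ha, zero_tmul]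
    have := Ideal.mem_map_of_mem inc (hmem x hx n)
    rwa [Ideal.map_sup, h0, bot_sup_eq, Ideal.map_pow] at this
  obtain ⟨y, hy, hyx⟩ := exists_fix _ _ hinc
  have hzero := eq_zero_of_fix e hfib y (inc x) hy hyx
  have := congrArg (Algebra.TensorProduct.map ι (AlgHom.id R1 B1)) hzero
  simpa [inc] using this

end Groth.Agent.SGA3b53.InfNbhd
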