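import Groth.Agent.SGA3b53.FibreVanish
import Groth.Agent.SGA3b53.DensityApply
import Groth.Agent.SGA3b53.MultBC
import Groth.Agent.SGA3b53.TypeCover
import Groth.Agent.CAlg6.GeomTensor
import Groth.Agent.FlatCrit65.FlatLocus.Module
import Groth.Agent.FlatCrit65.Point.Global
import Mathlib

/-!
Preparations for the local criteria for groups of multiplicative type.
-/

set_option autoImplicit false
set_option linter.unusedSectionVars false
set_option linter.style.haveILetI false
universe u v w
open TensorProduct

noncomputable section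

namespace Groth.Agent.SGA3b53

variable {R : Type u} [CommRing R] {A : Type u} [CommRing A] [HopfAlgebra R A]

theorem isMultType_of_equiv {B : Type u} [CommRing B] [HopfAlgebra R B] (f : A ≃ₐc[R] B)
    (h : SGA3b.IsMultType R A) : SGA3b.IsMultType R B := by
  obtain ⟨ι, _, T, _, _, hT, hd⟩ := exists_finite_cover h
  exact isMultType_of_cover hT fun i => isDiag_of_equiv (congrBC (T i) f) (hd i)

/-- Being of multiplicative type descends along faithfully flat maps. -/
theorem isMultType_of_faithfullyFlat (S : Type u) [CommRing S] [Algebra R S] [Module.FaithfullyFlat R S]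
    (h : SGA3b.IsMultType S (S ⊗[R] A)) : SGA3b.IsMultType R A := by
  obtain ⟨ι, _, T, _, _, hT, hd⟩ := exists_finite_cover h
  letI : ∀ i, Algebra R (T i) := fun i => ((algebraMap S (T i)).comp (algebraMap R S)).toAlgebra
  haveI : ∀ i, IsScalarTower R S (T i) := fun i => IsScalarTower.of_algebraMap_eq fun _ => rfl
  refine isMultType_of_cover (T := T) ⟨fun i => ?_, fun p => ?_⟩
    fun i => isDiag_of_equiv (cancelBC R S (T i) A) (hd i)
  · haveI := hT.flat i
    exact Module.Flat.trans R S (T i)
  · obtain ⟨P, hP⟩ := PrimeSpectrum.comap_surjective_of_faithfullyFlat (A := R) (B := S) p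
    obtain ⟨i, q, hq⟩ := hT.exists_lift P
    exact ⟨i, q, by rw [← hP, ← hq, ← PrimeSpectrum.comap_comp_apply]; rfl⟩

theorem map_torsionIdeal_of_hom {B : Type u} [CommRing B] [HopfAlgebra R B] (f : A →ₐc[R] B) (n : ℕ) {a : A}
    (ha : a ∈ SGA3b.torsionIdeal R A n) : f a ∈ SGA3b.torsionIdeal R B n := by
  have h1 : Ideal.map (f : A →ₐ[R] B) (SGA3b.torsionIdeal R A n) ≤ SGA3b.torsionIdeal R B n := by
    rw [SGA3b.torsionIdeal, Ideal.map_le_iff_le_comap, Ideal.map_le_iff_le_comap]
    intro x hx
    rw [Ideal.mem_comap, Ideal.mem_comap]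
    change f (SGA3b.powConv R A n x) ∈ _
    rw [powConv_naturality]
    refine Ideal.mem_map_of_mem _ ?_
    rw [RingHom.mem_ker] at hx ⊢
    change Coalgebra.counit (R := R) (f x) = 0
    rw [CoalgHomClass.counit_comp_apply]
    exact hx
  exact h1 (Ideal.mem_map_of_mem _ ha)

/-- A connected algebra with a rational point stays without idempotents vanishing at the point. -/
theorem idem_eq_zero_of_pointed {k : Type u} [Field k] {B : Type u} [CommRing B] [Algebra k B]
    [ConnectedSpace (PrimeSpectrum B)] (ε : B →ₐ[k] k) (K : Type u) [Field K] [Algebra k K] {x : K ⊗[k] B}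
    (hx : IsIdempotentElem x) (h0 : Algebra.TensorProduct.map (AlgHom.id k K) ε x = 0) : x = 0 := by
  let kb := AlgebraicClosure k
  let Ω := AlgebraicClosure K
  letI : Algebra kb Ω := (IsAlgClosed.lift : kb →ₐ[k] Ω).toRingHom.toAlgebra
  haveI : IsScalarTower k kb Ω := IsScalarTower.of_algHom _
  -- the algebra over the algebraic closure is connected
  haveI hkb : ConnectedSpace (PrimeSpectrum (kb ⊗[k] B)) := by
    haveI : Nontrivial B := ε.toRingHom.domain_nontrivial
    haveI : Nontrivial (kb ⊗[k] B) :=
      (Algebra.TensorProduct.map (AlgHom.id k kb) ε).toRingHom.domain_nontrivial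
    let j : B →+* kb ⊗[k] B := (Algebra.TensorProduct.includeRight : B →ₐ[k] kb ⊗[k] B).toRingHom
    have hopen : IsOpenMap (PrimeSpectrum.comap j) := by
      have h1 := PrimeSpectrum.isOpenMap_comap_algebraMap_tensorProduct_of_field (K := k) (A := B) (B := kb)
      let eσ := PrimeSpectrum.homeomorphOfRingEquiv (Algebra.TensorProduct.comm k kb B).toRingEquiv
      intro U hU
      have h2 := h1 _ (eσ.isOpenMap _ hU)
      convert h2 using 1
      rw [Set.image_image]
      refine Set.image_congr fun q _ => ?_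
      refine PrimeSpectrum.ext (Ideal.ext fun b => ?_)
      simp [eσ, j, PrimeSpectrum.homeomorphOfRingEquiv]
    have hint : j.IsIntegral := by
      have h1 : (algebraMap B (B ⊗[k] kb)).IsIntegral := algebraMap_isIntegral_iff.2 inferInstance
      have h2 := RingHom.IsIntegral.trans _ (Algebra.TensorProduct.comm k B kb).toRingEquiv.toRingHom h1
        (RingHom.isIntegral_of_surjective _ (Algebra.TensorProduct.comm k B kb).surjective)
      rw [show j = (Algebra.TensorProduct.comm k B kb).toRingEquiv.toRingHom.comp (algebraMap B (B ⊗[k] kb)) from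
        RingHom.ext fun b => by simp [j]]
      exact h2
    have hclosed : IsClosedMap (PrimeSpectrum.comap j) := PrimeSpectrum.isClosedMap_comap_of_isIntegral j hint
    let x₀ : PrimeSpectrum B := ⟨RingHom.ker ε, RingHom.ker_isPrime _⟩
    let y₀ : Ideal (kb ⊗[k] B) := RingHom.ker (Algebra.TensorProduct.map (AlgHom.id k kb) ε)
    have huniq : ∀ q : PrimeSpectrum (kb ⊗[k] B), PrimeSpectrum.comap j q = x₀ → q.asIdeal = y₀ := by
      intro q hq
      have hy : y₀ = Ideal.map (Algebra.TensorProduct.includeRight : B →ₐ[k] kb ⊗[k] B) (RingHom.ker ε) :=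
        Algebra.TensorProduct.lTensor_ker _ fun t => ⟨algebraMap k B t, ε.commutes t⟩
      have hle : y₀ ≤ q.asIdeal := by
        rw [hy, Ideal.map_le_iff_le_comap]
        intro b hb
        have : b ∈ (PrimeSpectrum.comap j q).asIdeal := by rw [hq]; exact hb
        exact this
      haveI : y₀.IsMaximal := by
        have hs : Function.Surjective ((Algebra.TensorProduct.rid k k kb).toAlgHom.comp
            (Algebra.TensorProduct.map (AlgHom.id k kb) ε)) := fun t => ⟨t ⊗ₜ 1, by simp⟩
        rw [show y₀ = RingHom.ker ((Algebra.TensorProduct.rid k k kb).toAlgHom.comp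
            (Algebra.TensorProduct.map (AlgHom.id k kb) ε)) from Ideal.ext fun z => by simp [y₀, RingHom.mem_ker]]
        exact RingHom.ker_isMaximal_of_surjective _ hs
      exact (this.eq_of_le q.isPrime.ne_top hle).symm
    rw [connectedSpace_iff_clopen]
    refine ⟨inferInstance, fun U hU => ?_⟩
    by_contra hne
    push Not at hne
    have key : ∀ V : Set (PrimeSpectrum (kb ⊗[k] B)), IsClopen V → V.Nonempty →
        ∃ q ∈ V, q.asIdeal = y₀ := by
      intro V hV hVn
      have h1 : IsClopen (PrimeSpectrum.comap j '' V) := ⟨hclosed _ hV.1, hopen _ hV.2⟩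
      obtain ⟨q, hq, hqx⟩ : x₀ ∈ PrimeSpectrum.comap j '' V := by
        rw [h1.eq_univ (hVn.image _)]
        trivial
      exact ⟨q, hq, huniq q hqx⟩
    obtain ⟨q, hq, hqy⟩ := key U hU hne.1
    obtain ⟨q', hq', hqy'⟩ := key Uᶜ hU.compl (Set.nonempty_compl.2 hne.2)
    exact hq' ((PrimeSpectrum.ext (hqy'.trans hqy.symm) : q' = q) ▸ hq)
  haveI := CAlg6.connectedSpace_baseChange_of_isSepClosed kb (kb ⊗[k] B) Ω
  let ι : K ⊗[k] B →ₐ[k] Ω ⊗[k] B := Algebra.TensorProduct.map (IsScalarTower.toAlgHom k K Ω) (AlgHom.id k B)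
  have hι : Function.Injective ι :=
    Module.Flat.rTensor_preserves_injective_linearMap (IsScalarTower.toAlgHom k K Ω).toLinearMap
      (algebraMap K Ω).injective
  let c : Ω ⊗[kb] (kb ⊗[k] B) ≃ₐ[Ω] Ω ⊗[k] B := Algebra.TensorProduct.cancelBaseChange k kb Ω Ω B
  rcases isIdempotentElem_eq_zero_or_one (hx.map (c.symm.toRingHom.comp ι.toRingHom)) with h | h
  · have h1 : c.symm (ι x) = 0 := h
    rw [map_eq_zero_iff _ c.symm.injective, map_eq_zero_iff _ hι] at h1
    exact h1
  · exfalso
    have h1 : ι x = 1 := c.symm.injective (h.trans (map_one c.symm).symm)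
    have h2 : ∀ z, Algebra.TensorProduct.map (AlgHom.id k Ω) ε (ι z) =
        Algebra.TensorProduct.map (IsScalarTower.toAlgHom k K Ω) (AlgHom.id k k)
          (Algebra.TensorProduct.map (AlgHom.id k K) ε z) := by
      intro z
      induction z with
      | zero => simp
      | add a b ha hb => simp only [map_add, ha, hb]
      | tmul a b => simp [ι]
    have h3 := h2 x
    rw [h0, map_zero, h1, map_one] at h3
    exact one_ne_zero h3

/-- An idempotent of a base change vanishing at the origin is zero when the fibres are connected. -/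
theorem idem_eq_zero_of_connected_bc {C : Type u} [CommRing C] [HopfAlgebra R C] (S : Type u) [CommRing S]
    [Algebra R S] (hconn : ∀ (p : Ideal R) [p.IsPrime], ConnectedSpace (PrimeSpectrum (p.ResidueField ⊗[R] C)))
    {e : S ⊗[R] C} (he : IsIdempotentElem e) (hε : Coalgebra.counit (R := S) e = 0) : e = 0 := by
  refine idem_eq_zero_of_fibres (R := S) he fun P _ => ?_
  let p := P.comap (algebraMap R S)
  haveI : p.IsPrime := Ideal.IsPrime.comap _
  haveI := hconn p
  letI : Algebra p.ResidueField P.ResidueField := (Ideal.ResidueField.map p P (algebraMap R S) rfl).toAlgebra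
  haveI : IsScalarTower R p.ResidueField P.ResidueField := IsScalarTower.of_algebraMap_eq fun r => by
    rw [RingHom.algebraMap_toAlgebra, IsScalarTower.algebraMap_apply R S P.ResidueField]
    simp
  let K := P.ResidueField
  let c1 : K ⊗[S] (S ⊗[R] C) ≃ₐc[K] K ⊗[R] C := cancelBC R S K C
  let c2 : K ⊗[p.ResidueField] (p.ResidueField ⊗[R] C) ≃ₐc[K] K ⊗[R] C := cancelBC R p.ResidueField K C
  let c := c1.trans c2.symm
  suffices c ((1 : K) ⊗ₜ e) = 0 from (map_eq_zero_iff c (EquivLike.injective c)).1 this
  refine idem_eq_zero_of_pointed (Bialgebra.counitAlgHom p.ResidueField (p.ResidueField ⊗[R] C)) K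
    ((show IsIdempotentElem ((1 : K) ⊗ₜ[S] e) by
      rw [IsIdempotentElem, Algebra.TensorProduct.tmul_mul_tmul, one_mul, he]).map c) ?_
  have h1 : Coalgebra.counit (R := K) (c ((1 : K) ⊗ₜ[S] e)) = 0 := by
    rw [CoalgHomClass.counit_comp_apply, TensorProduct.counit_tmul, hε, zero_smul]
  generalize c ((1 : K) ⊗ₜ[S] e) = z at h1
  have h2 : ∀ z : K ⊗[p.ResidueField] (p.ResidueField ⊗[R] C),
      Algebra.TensorProduct.map (AlgHom.id p.ResidueField K)
        (Bialgebra.counitAlgHom p.ResidueField (p.ResidueField ⊗[R] C)) z =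
      Coalgebra.counit (R := K) z ⊗ₜ[p.ResidueField] (1 : p.ResidueField) := by
    intro z
    induction z with
    | zero => simp
    | add a b ha hb => simp only [map_add, ha, hb, add_tmul]
    | tmul a b =>
      rw [Algebra.TensorProduct.map_tmul, TensorProduct.counit_tmul, Bialgebra.counitAlgHom_apply,
        AlgHom.id_apply, CommSemiring.counit_apply, TensorProduct.smul_tmul, smul_eq_mul, mul_one]
  rw [h2, h1, zero_tmul]

/-- Near a closed subset of flatness there are basic opens of flatness. -/
theorem exists_flat_nhd {C : Type u} [CommRing C] [Algebra R C] [Algebra.FinitePresentation R C] (J : Ideal C)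
    (hfl : ∀ (q : Ideal C) [q.IsPrime], J ≤ q → Module.Flat R (Localization.AtPrime q)) :
    ∃ s : Finset C, (∀ f ∈ s, Module.Flat R (Localization.Away f)) ∧ Ideal.span (s : Set C) ⊔ J = ⊤ := by
  classical
  let U : Set (PrimeSpectrum C) := {q | Module.Flat R (LocalizedModule q.asIdeal.primeCompl C)}
  have hU : IsOpen U := FlatCrit65.isOpen_flat_locus_module
  let F : Set C := {f | ∀ q : PrimeSpectrum C, f ∉ q.asIdeal → q ∈ U}
  have htop : Ideal.span F ⊔ J = ⊤ := by
    by_contra hne
    obtain ⟨m, hm, hle⟩ := Ideal.exists_le_maximal _ hne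
    let x : PrimeSpectrum C := ⟨m, hm.isPrime⟩
    have hxU : x ∈ U := by
      haveI := hfl m (le_sup_right.trans hle)
      exact Module.Flat.of_linearEquiv
        ((IsLocalizedModule.iso m.primeCompl (Algebra.linearMap C (Localization.AtPrime m))).restrictScalars R)
    obtain ⟨_, ⟨f, rfl⟩, hxf, hfU⟩ := PrimeSpectrum.isTopologicalBasis_basic_opens.exists_subset_of_mem_open hxU hU
    exact hxf (hle (Ideal.mem_sup_left (Ideal.subset_span fun q hq => hfU hq)))
  obtain ⟨a, ha, b, hb, hab⟩ := Submodule.mem_sup.1 ((Ideal.eq_top_iff_one _).1 htop)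
  obtain ⟨s, hs, has⟩ := Submodule.mem_span_finite_of_mem_span ha
  refine ⟨s, fun f hf => ?_, (Ideal.eq_top_iff_one _).2 (hab ▸ Submodule.add_mem_sup has hb)⟩
  haveI := FlatCrit65.flat_powers_of_forall (R := R) (M := C) f fun q hq => hs hf q hq
  exact Module.Flat.of_linearEquiv
    ((IsLocalizedModule.iso (Submonoid.powers f) (Algebra.linearMap C (Localization.Away f))).restrictScalars R).symm

end Groth.Agent.SGA3b53
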