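import Groth.Agent.SGA3b53.HopfModel
import Groth.Agent.SGA3b53.LocalPrep
import Groth.Agent.FlatStage64.Main
import Mathlib

/-!
A finitely presented group over a local ring, flat along the closed fibre, comes from a Noetherian
local ring.
-/

set_option autoImplicit false
set_option linter.unusedSectionVars false
set_option linter.style.haveILetI false
universe u v w
open TensorProduct

noncomputable section

namespace Groth.Agent.SGA3b53

namespace Model

theorem flat_away_of_equiv {R X C : Type u} [CommRing R] [CommRing X] [CommRing C] [Algebra R X] [Algebra R C]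
    (e : X ≃ₐ[R] C) (g : X) [Module.Flat R (Localization.Away (e g))] : Module.Flat R (Localization.Away g) :=
  Module.Flat.of_linearEquiv (IsLocalization.algEquivOfAlgEquiv (Localization.Away g) (Localization.Away (e g)) e
    (M := Submonoid.powers g) (T := Submonoid.powers (e g)) (Submonoid.map_powers _ g)).toLinearEquiv

theorem cancel_map {A D R P : Type u} [CommRing A] [CommRing D] [CommRing R] [Algebra A D] [Algebra A R] [Algebra D R]
    [IsScalarTower A D R] [CommRing P] [Algebra A P] (z : D ⊗[A] P) :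
    Algebra.TensorProduct.cancelBaseChange A D R R P ((1 : R) ⊗ₜ[D] z) =
      Algebra.TensorProduct.map (IsScalarTower.toAlgHom A D R) (AlgHom.id A P) z := by
  induction z with
  | zero => simp
  | add a b ha hb => simp only [tmul_add, map_add, ha, hb]
  | tmul d p => simp [Algebra.smul_def]

theorem flat_away_baseChange {D E P : Type u} [CommRing D] [CommRing E] [Algebra D E] [CommRing P] [Algebra D P]
    (g : P) [Module.Flat E (E ⊗[D] Localization.Away g)] : Module.Flat E (Localization.Away ((1 : E) ⊗ₜ[D] g)) :=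
  Module.Flat.of_linearEquiv
    (IsLocalization.Away.tensorProductEquivTMulRight D E g (Localization.Away g)).symm.toLinearEquiv

theorem exists_fg_flat_away {D : Type u} [CommRing D] [IsNoetherianRing D] {R : Type u} [CommRing R] [Algebra D R]
    {P : Type u} [CommRing P] [Algebra D P] [Algebra.FiniteType D P] (g : P)
    [Module.Flat R (Localization.Away ((1 : R) ⊗ₜ[D] g))] :
    ∃ F : Subalgebra D R, F.FG ∧ ∀ G : Subalgebra D R, F ≤ G → Module.Flat G (Localization.Away ((1 : G) ⊗ₜ[D] g)) := by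
  haveI : Module.Flat R (R ⊗[D] Localization.Away g) := Module.Flat.of_linearEquiv
    (IsLocalization.Away.tensorProductEquivTMulRight D R g (Localization.Away g)).toLinearEquiv
  haveI : Algebra.FiniteType D (Localization.Away g) :=
    Algebra.FiniteType.trans (R := D) (S := P) (A := Localization.Away g) inferInstance inferInstance
  obtain ⟨F, hF, hflat⟩ := FlatStage64.exists_fg_flat (R := D) (Localization.Away g) (M := Localization.Away g) R inferInstance
  exact ⟨F, hF, fun G hG => haveI := hflat G hG; flat_away_baseChange g⟩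

theorem flat_atPrime_of_stage {E : Type u} [CommRing E] {S : Type u} [CommRing S] [Algebra E S] {P : Type u} [CommRing P]
    [Algebra E P] (g : P) [Module.Flat E (Localization.Away g)] (q : Ideal (S ⊗[E] P)) [q.IsPrime]
    (hq : (1 : S) ⊗ₜ[E] g ∉ q) : Module.Flat S (Localization.AtPrime q) := by
  let G := Localization.Away ((1 : S) ⊗ₜ[E] g)
  haveI : Module.Flat S G := Module.Flat.of_linearEquiv
    (IsLocalization.Away.tensorProductEquivTMulRight E S g (Localization.Away g)).symm.toLinearEquiv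
  have hu : IsUnit (algebraMap (S ⊗[E] P) (Localization.AtPrime q) ((1 : S) ⊗ₜ[E] g)) :=
    IsLocalization.map_units _ (⟨_, hq⟩ : q.primeCompl)
  letI : Algebra G (Localization.AtPrime q) := (IsLocalization.Away.lift ((1 : S) ⊗ₜ[E] g) hu).toAlgebra
  haveI : IsScalarTower (S ⊗[E] P) G (Localization.AtPrime q) :=
    IsScalarTower.of_algebraMap_eq fun x => (IsLocalization.Away.lift_eq _ hu x).symm
  haveI : IsScalarTower S G (Localization.AtPrime q) := IsScalarTower.to₁₃₄ S (S ⊗[E] P) G (Localization.AtPrime q)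
  have hle : Submonoid.powers ((1 : S) ⊗ₜ[E] g) ≤ q.primeCompl := (Submonoid.powers_le).2 hq
  haveI : IsLocalization (q.primeCompl.map (algebraMap (S ⊗[E] P) G)) (Localization.AtPrime q) :=
    IsLocalization.isLocalization_of_submonoid_le G (Localization.AtPrime q) (Submonoid.powers ((1 : S) ⊗ₜ[E] g)) q.primeCompl hle
  haveI : Module.Flat G (Localization.AtPrime q) :=
    IsLocalization.flat (Localization.AtPrime q) (q.primeCompl.map (algebraMap (S ⊗[E] P) G))
  exact Module.Flat.trans S G (Localization.AtPrime q)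

theorem flat_atPrime_of_baseChange {A F R₀ P : Type u} [CommRing A] [CommRing F] [CommRing R₀] [CommRing P]
    [Algebra A F] [Algebra A R₀] [Algebra F R₀] [IsScalarTower A F R₀] [Algebra A P] (g : F ⊗[A] P)
    [Module.Flat F (Localization.Away g)] (q : Ideal (R₀ ⊗[A] P)) [q.IsPrime]
    (hq : Algebra.TensorProduct.map (IsScalarTower.toAlgHom A F R₀) (AlgHom.id A P) g ∉ q) :
    Module.Flat R₀ (Localization.AtPrime q) := by
  let c : R₀ ⊗[F] (F ⊗[A] P) ≃ₐ[R₀] R₀ ⊗[A] P := Algebra.TensorProduct.cancelBaseChange A F R₀ R₀ P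
  let q' : Ideal (R₀ ⊗[F] (F ⊗[A] P)) := q.comap c.toRingEquiv.toRingHom
  haveI : q'.IsPrime := Ideal.IsPrime.comap _
  haveI := flat_atPrime_of_stage g q' (fun h => hq (by
    have h1 : c ((1 : R₀) ⊗ₜ[F] g) ∈ q := h
    rwa [show c ((1 : R₀) ⊗ₜ[F] g) = _ from cancel_map g] at h1))
  exact Module.Flat.of_linearEquiv (IsLocalization.algEquivOfAlgEquiv (Localization.AtPrime q) (Localization.AtPrime q')
    c.symm (M := q.primeCompl) (T := q'.primeCompl) (by
      ext z
      refine ⟨fun ⟨x, hx, hxz⟩ => ?_, fun hz => ⟨c z, hz, c.symm_apply_apply z⟩⟩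
      subst hxz
      intro hc
      refine hx ?_
      have h1 : c (c.symm x) ∈ q := hc
      rwa [AlgEquiv.apply_symm_apply] at h1)).toLinearEquiv

theorem exists_stage_flat_all {D : Type u} [CommRing D] [IsNoetherianRing D] {R : Type u} [CommRing R] [Algebra D R]
    {P : Type u} [CommRing P] [Algebra D P] [Algebra.FiniteType D P] {C : Type u} [CommRing C] [Algebra R C]
    (e : R ⊗[D] P ≃ₐ[R] C) {ι : Type u} [Finite ι] (g : ι → P)
    (hflat : ∀ i, Module.Flat R (Localization.Away (e ((1 : R) ⊗ₜ[D] g i)))) :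
    ∃ F : Subalgebra D R, F.FG ∧ ∀ i, Module.Flat F (Localization.Away ((1 : F) ⊗ₜ[D] g i)) := by
  classical
  haveI := Fintype.ofFinite ι
  choose E hE hEflat using fun i => by
    haveI := hflat i
    haveI : Module.Flat R (Localization.Away ((1 : R) ⊗ₜ[D] g i)) := flat_away_of_equiv e _
    exact exists_fg_flat_away (D := D) (P := P) (R := R) (g i)
  exact ⟨Finset.univ.sup E, Finset.sup_induction Subalgebra.fg_bot (fun a ha b hb => ha.sup hb) fun i _ => hE i,
    fun i => hEflat i _ (Finset.le_sup (Finset.mem_univ i))⟩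

end Model

theorem exists_notMem_of_span {R₀ R : Type u} [CommRing R₀] [IsLocalRing R₀] [CommRing R] [IsLocalRing R] [Algebra R₀ R]
    [IsLocalHom (algebraMap R₀ R)] {C₀ C : Type u} [CommRing C₀] [Algebra R₀ C₀] [CommRing C] [Algebra R C]
    (e : R ⊗[R₀] C₀ ≃ₐ[R] C) {ι : Type u} (g : ι → C₀)
    (h : Ideal.span (Set.range fun i => e ((1 : R) ⊗ₜ g i)) ⊔ Ideal.map (algebraMap R C) (IsLocalRing.maximalIdeal R) = ⊤)
    (q : Ideal C₀) [q.IsPrime] (hq : Ideal.map (algebraMap R₀ C₀) (IsLocalRing.maximalIdeal R₀) ≤ q) :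
    ∃ i, g i ∉ q := by
  by_contra hall
  push Not at hall
  let k₀ := IsLocalRing.ResidueField R₀
  let k := IsLocalRing.ResidueField R
  haveI : IsScalarTower R₀ k₀ k := IsScalarTower.of_algebraMap_eq fun r => rfl
  let Q := q.ResidueField
  let φQ : k₀ →+* Q := (Ideal.Quotient.lift (IsLocalRing.maximalIdeal R₀) (algebraMap R₀ Q) fun r hr => by
    rw [IsScalarTower.algebraMap_apply R₀ C₀ Q]
    exact Ideal.algebraMap_residueField_eq_zero.2 (hq (Ideal.mem_map_of_mem _ hr)))
  letI : Algebra k₀ Q := φQ.toAlgebra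
  haveI : IsScalarTower R₀ k₀ Q := IsScalarTower.of_algebraMap_eq fun r => rfl
  haveI : Nontrivial (k ⊗[k₀] Q) := inferInstance
  let aR : R →ₐ[R₀] k ⊗[k₀] Q :=
    ((Algebra.TensorProduct.includeLeft : k →ₐ[k₀] k ⊗[k₀] Q).restrictScalars R₀).comp (IsScalarTower.toAlgHom R₀ R k)
  let aC : C₀ →ₐ[R₀] k ⊗[k₀] Q :=
    ((Algebra.TensorProduct.includeRight : Q →ₐ[k₀] k ⊗[k₀] Q).restrictScalars R₀).comp (IsScalarTower.toAlgHom R₀ C₀ Q)
  let χ : C →+* k ⊗[k₀] Q := (Algebra.TensorProduct.productMap aR aC).toRingHom.comp e.symm.toRingHom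
  have hker : Ideal.span (Set.range fun i => e ((1 : R) ⊗ₜ g i)) ⊔
      Ideal.map (algebraMap R C) (IsLocalRing.maximalIdeal R) ≤ RingHom.ker χ := by
    refine sup_le (Ideal.span_le.2 ?_) (Ideal.map_le_iff_le_comap.2 fun r hr => ?_)
    · rintro _ ⟨i, rfl⟩
      rw [SetLike.mem_coe, RingHom.mem_ker]
      change Algebra.TensorProduct.productMap aR aC (e.symm (e ((1 : R) ⊗ₜ g i))) = 0
      rw [AlgEquiv.symm_apply_apply, Algebra.TensorProduct.productMap_apply_tmul, map_one, one_mul]
      change (1 : k) ⊗ₜ[k₀] algebraMap C₀ Q (g i) = 0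
      rw [Ideal.algebraMap_residueField_eq_zero.2 (hall i), tmul_zero]
    · rw [Ideal.mem_comap, RingHom.mem_ker]
      change Algebra.TensorProduct.productMap aR aC (e.symm (algebraMap R C r)) = 0
      rw [AlgEquiv.commutes, Algebra.TensorProduct.algebraMap_apply, Algebra.TensorProduct.productMap_apply_tmul,
        map_one, mul_one]
      change algebraMap R k r ⊗ₜ[k₀] (1 : Q) = 0
      rw [show algebraMap R k r = 0 from (IsLocalRing.residue_eq_zero_iff r).2 hr, zero_tmul]
  rw [h] at hker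
  exact RingHom.ker_ne_top χ (top_le_iff.1 hker)

theorem exists_noetherian_local_model_aux {D : Type u} [CommRing D] [IsNoetherianRing D] {R : Type u} [CommRing R]
    [IsLocalRing R] [Algebra D R] {P : Type u} [CommRing P] [HopfAlgebra D P] [Algebra.FiniteType D P]
    {C : Type u} [CommRing C] [HopfAlgebra R C] (e : R ⊗[D] P ≃ₐc[R] C) (hcoc : Coalgebra.IsCocomm R C → Coalgebra.IsCocomm D P)
    (s : Finset C) (hsflat : ∀ f ∈ s, Module.Flat R (Localization.Away f))
    (hstop : Ideal.span (s : Set C) ⊔ Ideal.map (algebraMap R C) (IsLocalRing.maximalIdeal R) = ⊤)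
    (g : s → P) (hg : ∀ f, e ((1 : R) ⊗ₜ[D] g f) = f.1)
    (hs : SGA3b.IsMultType (IsLocalRing.ResidueField R) (IsLocalRing.ResidueField R ⊗[R] C)) :
    ∃ (R₀ : Type u) (_ : CommRing R₀) (_ : IsLocalRing R₀) (_ : Algebra R₀ R)
      (C₀ : Type u) (_ : CommRing C₀) (_ : HopfAlgebra R₀ C₀),
      IsNoetherianRing R₀ ∧ IsLocalHom (algebraMap R₀ R) ∧ Algebra.FiniteType R₀ C₀ ∧
      (∀ (q : Ideal C₀) [q.IsPrime], Ideal.map (algebraMap R₀ C₀) (IsLocalRing.maximalIdeal R₀) ≤ q →
        Module.Flat R₀ (Localization.AtPrime q)) ∧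
      SGA3b.IsMultType (IsLocalRing.ResidueField R₀) (IsLocalRing.ResidueField R₀ ⊗[R₀] C₀) ∧
      (Coalgebra.IsCocomm R C → Coalgebra.IsCocomm R₀ C₀) ∧ Nonempty (R ⊗[R₀] C₀ ≃ₐc[R] C) := by
  classical
  let ea : R ⊗[D] P ≃ₐ[R] C := AlgEquivClass.toAlgEquiv e
  obtain ⟨F, hF, hFflat⟩ := Model.exists_stage_flat_all ea g fun f => by
    rw [show ea ((1 : R) ⊗ₜ[D] g f) = f.1 from hg f]
    exact hsflat f.1 f.2
  haveI : Algebra.FiniteType D F := (Subalgebra.fg_iff_finiteType F).1 hF
  haveI : IsNoetherianRing F := Algebra.FiniteType.isNoetherianRing D F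
  let p : Ideal F := (IsLocalRing.maximalIdeal R).comap (algebraMap F R)
  haveI : p.IsPrime := Ideal.IsPrime.comap _
  let R₀ := Localization.AtPrime p
  have hu : ∀ y : p.primeCompl, IsUnit (algebraMap F R y) := fun y => by
    by_contra h
    exact y.2 h
  letI : Algebra R₀ R := (IsLocalization.lift hu).toAlgebra
  haveI : IsScalarTower F R₀ R := IsScalarTower.of_algebraMap_eq fun x => (IsLocalization.lift_eq hu x).symm
  haveI : IsScalarTower D R₀ R := IsScalarTower.of_algebraMap_eq fun a => by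
    rw [IsScalarTower.algebraMap_apply D F R, IsScalarTower.algebraMap_apply D F R₀,
      ← IsScalarTower.algebraMap_apply F R₀ R]
  haveI hloc : IsLocalHom (algebraMap R₀ R) := ⟨fun x hx => by
    obtain ⟨a, b, rfl⟩ := IsLocalization.exists_mk'_eq p.primeCompl x
    rw [IsLocalization.AtPrime.isUnit_mk'_iff R₀ p a b]
    intro ha
    have h1 : algebraMap R₀ R (IsLocalization.mk' R₀ a b) * algebraMap F R b = algebraMap F R a := by
      rw [IsScalarTower.algebraMap_apply F R₀ R b, IsScalarTower.algebraMap_apply F R₀ R a, ← map_mul,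
        IsLocalization.mk'_spec]
    exact ha (h1 ▸ hx.mul (hu b))⟩
  let cb : R ⊗[R₀] (R₀ ⊗[D] P) ≃ₐc[R] R ⊗[D] P := cancelBC D R₀ R P
  refine ⟨R₀, inferInstance, inferInstance, inferInstance, R₀ ⊗[D] P, inferInstance, inferInstance, inferInstance, hloc,
    inferInstance, fun q _ hq => ?_, ?_, fun hc => ?_, ⟨cb.trans e⟩⟩
  · let cb' : R ⊗[R₀] (R₀ ⊗[D] P) ≃ₐ[R] C := AlgEquivClass.toAlgEquiv (cb.trans e)
    have h1 : ∀ f : s, cb' ((1 : R) ⊗ₜ ((1 : R₀) ⊗ₜ g f)) = f.1 := by
      intro f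
      change e (cb _) = f.1
      rw [show cb ((1 : R) ⊗ₜ ((1 : R₀) ⊗ₜ g f)) = ((1 : R₀) • (1 : R)) ⊗ₜ g f from cancelBC_tmul D R₀ R P _ _ _,
        one_smul, hg]
    obtain ⟨f, hf⟩ := exists_notMem_of_span cb' (fun f => (1 : R₀) ⊗ₜ g f) (by
      rw [show (Set.range fun i => cb' ((1 : R) ⊗ₜ ((1 : R₀) ⊗ₜ g i))) = (s : Set C) by
        ext x
        simp [h1]]
      exact hstop) q hq
    haveI := hFflat f
    refine Model.flat_atPrime_of_baseChange ((1 : F) ⊗ₜ g f) q ?_
    rw [Algebra.TensorProduct.map_tmul, map_one]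
    exact hf
  · let k₀ := IsLocalRing.ResidueField R₀
    let k := IsLocalRing.ResidueField R
    haveI : IsScalarTower R₀ k₀ k := IsScalarTower.of_algebraMap_eq fun r => rfl
    exact isMultType_of_faithfullyFlat k (isMultType_of_equiv
      (((congrBC k (cb.trans e)).symm.trans (cancelBC R₀ R k (R₀ ⊗[D] P))).trans (cancelBC R₀ k₀ k (R₀ ⊗[D] P)).symm) hs)
  · haveI := hcoc hc
    infer_instance

/-- The noetherian local model. -/
theorem exists_noetherian_local_model (R : Type u) [CommRing R] [IsLocalRing R] (C : Type u) [CommRing C]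
    [HopfAlgebra R C] [Algebra.FinitePresentation R C]
    (hfl : ∀ (q : Ideal C) [q.IsPrime], Ideal.map (algebraMap R C) (IsLocalRing.maximalIdeal R) ≤ q →
      Module.Flat R (Localization.AtPrime q))
    (hs : SGA3b.IsMultType (IsLocalRing.ResidueField R) (IsLocalRing.ResidueField R ⊗[R] C)) :
    ∃ (R₀ : Type u) (_ : CommRing R₀) (_ : IsLocalRing R₀) (_ : Algebra R₀ R)
      (C₀ : Type u) (_ : CommRing C₀) (_ : HopfAlgebra R₀ C₀),
      IsNoetherianRing R₀ ∧ IsLocalHom (algebraMap R₀ R) ∧ Algebra.FiniteType R₀ C₀ ∧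
      (∀ (q : Ideal C₀) [q.IsPrime], Ideal.map (algebraMap R₀ C₀) (IsLocalRing.maximalIdeal R₀) ≤ q →
        Module.Flat R₀ (Localization.AtPrime q)) ∧
      SGA3b.IsMultType (IsLocalRing.ResidueField R₀) (IsLocalRing.ResidueField R₀ ⊗[R₀] C₀) ∧
      (Coalgebra.IsCocomm R C → Coalgebra.IsCocomm R₀ C₀) ∧ Nonempty (R ⊗[R₀] C₀ ≃ₐc[R] C) := by
  classical
  obtain ⟨A, _, _, P, _, _, hA, -, hP, hcoc, ⟨e⟩⟩ := Model.exists_hopf_model R C
  haveI := hA
  haveI := hP
  haveI : IsNoetherianRing A := Algebra.FiniteType.isNoetherianRing ℤ A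
  let ea : R ⊗[A] P ≃ₐ[R] C := AlgEquivClass.toAlgEquiv e
  obtain ⟨s, hsflat, hstop⟩ := exists_flat_nhd _ hfl
  obtain ⟨D, hD, hg⟩ := Model.exists_lift_stage fun f : s => ea.symm f.1
  choose g hg using hg
  haveI : Algebra.FiniteType A D := (Subalgebra.fg_iff_finiteType D).1 hD
  haveI : IsNoetherianRing D := Algebra.FiniteType.isNoetherianRing A D
  let e₁ : R ⊗[D] (D ⊗[A] P) ≃ₐc[R] C := (cancelBC A D R P).trans e
  have hg₁ : ∀ f : s, e₁ ((1 : R) ⊗ₜ[D] g f) = f.1 := fun f => by
    change ea (Algebra.TensorProduct.cancelBaseChange A D R R P ((1 : R) ⊗ₜ[D] g f)) = f.1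
    rw [Model.cancel_map, show (IsScalarTower.toAlgHom A D R) = D.val from rfl, hg, AlgEquiv.apply_symm_apply]
  exact exists_noetherian_local_model_aux e₁ (hcoc := fun hc => haveI := hcoc hc; inferInstance) s hsflat hstop g hg₁ hs

end Groth.Agent.SGA3b53
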