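import Groth.Agent.SGA3b53.HomLift
import Groth.Agent.SGA3b53.FlatLift
import Groth.Agent.SGA3b53.FlatPoints
import Mathlib

/-!
Homomorphisms of groups of multiplicative type lift uniquely along nilpotent thickenings.
-/

set_option autoImplicit false
set_option linter.unusedSectionVars false
set_option linter.style.haveILetI false
universe u v w
open TensorProduct

noncomputable section

namespace Groth.Agent.SGA3b53

namespace HomLift

variable {R : Type u} [CommRing R] {B : Type u} [CommRing B] [HopfAlgebra R B] {C : Type u} [CommRing C]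
  [HopfAlgebra R C]

/-- Two covers have a common refinement. -/
theorem isCover_pairs {ι κ : Type u} {T : ι → Type u} [∀ i, CommRing (T i)] [∀ i, Algebra R (T i)] {S : κ → Type u}
    [∀ j, CommRing (S j)] [∀ j, Algebra R (S j)] (hT : IsCover R T) (hS : IsCover R S) :
    IsCover R (fun p : ι × κ => T p.1 ⊗[R] S p.2) where
  flat p := by
    haveI := hT.flat p.1
    haveI := hS.flat p.2
    exact Module.Flat.trans R (T p.1) (T p.1 ⊗[R] S p.2)
  exists_lift p := by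
    obtain ⟨i, q, hq⟩ := hT.exists_lift p
    let K := q.asIdeal.ResidueField
    obtain ⟨j, hj⟩ : ∃ j, (1 : S j) ⊗ₜ[R] (1 : K) ≠ 0 := by
      by_contra hc
      push Not at hc
      exact one_ne_zero (hS.eq_zero (M := K) hc)
    haveI : Nontrivial (K ⊗[R] S j) := by
      refine ⟨⟨(1 : K) ⊗ₜ[R] (1 : S j), 0, fun h => hj ?_⟩⟩
      simpa using congrArg (TensorProduct.comm R K (S j)) h
    obtain ⟨Q⟩ : Nonempty (PrimeSpectrum (K ⊗[R] S j)) := inferInstance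
    let h : T i ⊗[R] S j →ₐ[R] K ⊗[R] S j :=
      Algebra.TensorProduct.map (IsScalarTower.toAlgHom R (T i) K) (AlgHom.id R (S j))
    refine ⟨(i, j), Q.comap (h : T i ⊗[R] S j →+* K ⊗[R] S j), ?_⟩
    have hQ : (Q.comap (Algebra.TensorProduct.includeLeftRingHom : K →+* K ⊗[R] S j)).asIdeal = ⊥ :=
      (Ideal.eq_bot_or_top _).resolve_right (PrimeSpectrum.isPrime _).ne_top
    have hq' : (Q.comap (Algebra.TensorProduct.includeLeftRingHom : K →+* K ⊗[R] S j)).comap (algebraMap (T i) K) = q := by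
      refine PrimeSpectrum.ext ?_
      rw [PrimeSpectrum.comap_asIdeal, hQ, ← RingHom.ker_eq_comap_bot, Ideal.ker_algebraMap_residueField]
    refine (Eq.trans ?_ (congrArg (PrimeSpectrum.comap (algebraMap R (T i))) hq')).trans hq
    rw [← PrimeSpectrum.comap_comp_apply, ← PrimeSpectrum.comap_comp_apply, ← PrimeSpectrum.comap_comp_apply]
    congr 1

theorem exists_common_cover (hB : SGA3b.IsMultType R B) (hC : SGA3b.IsMultType R C) :
    ∃ (ι : Type u) (_ : Finite ι) (T : ι → Type u) (_ : ∀ i, CommRing (T i)) (_ : ∀ i, Algebra R (T i)),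
      IsCover R T ∧ (∀ i, SGA3b.IsDiag (T i) (T i ⊗[R] B)) ∧ ∀ i, SGA3b.IsDiag (T i) (T i ⊗[R] C) := by
  obtain ⟨ι, _, T, _, _, hT, hTd⟩ := exists_finite_cover hB
  obtain ⟨κ, _, S, _, _, hS, hSd⟩ := exists_finite_cover hC
  exact ⟨ι × κ, inferInstance, fun p => T p.1 ⊗[R] S p.2, inferInstance, inferInstance, isCover_pairs hT hS,
    fun p => DLift.isDiag_of_algHom (Algebra.TensorProduct.includeLeft : T p.1 →ₐ[R] T p.1 ⊗[R] S p.2) (hTd p.1),
    fun p => DLift.isDiag_of_algHom (Algebra.TensorProduct.includeRight : S p.2 →ₐ[R] T p.1 ⊗[R] S p.2) (hSd p.2)⟩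

/-- Reduction modulo a nil ideal is bijective on homomorphisms of groups of multiplicative type. -/
theorem bijective_of_nil {J : Ideal R} (hJ : ∀ x ∈ J, IsNilpotent x) (hB : SGA3b.IsMultType R B)
    (hC : SGA3b.IsMultType R C) :
    (∀ φ ψ : C →ₐc[R] B, (∀ c, (1 : R ⧸ J) ⊗ₜ[R] φ c = (1 : R ⧸ J) ⊗ₜ[R] ψ c) → φ = ψ) ∧
    (∀ φ₀ : ((R ⧸ J) ⊗[R] C) →ₐc[R ⧸ J] ((R ⧸ J) ⊗[R] B),
      ∃ φ : C →ₐc[R] B, ∀ c, φ₀ ((1 : R ⧸ J) ⊗ₜ[R] c) = (1 : R ⧸ J) ⊗ₜ[R] φ c) := by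
  obtain ⟨ι, _, T, _, _, hT, hdB, hdC⟩ := exists_common_cover hB hC
  have hr := DLift.rigid_of_nil hJ T
  exact ⟨fun φ ψ h => eq_of_reduction hT hr.jac₁ hdC hdB φ ψ h,
    fun φ₀ => exists_hom_lift hT hr.jac₁ hr.jac₂ (fun i e he =>
      exists_isIdempotentElem_eq_of_ker_isNilpotent (Ideal.Quotient.mk _)
        (fun x hx => DLift.le_jac_of_nil hJ _ x (by rwa [Ideal.mk_ker] at hx)) e
        (RingHom.mem_range.2 (Ideal.Quotient.mk_surjective e)) he) hdC hdB φ₀⟩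

/-- Lifting of homomorphisms along a surjection with nilpotent kernel. -/
theorem bijective_of_surjective {K K₀ : Type u} [CommRing K] [Algebra R K] [CommRing K₀] [Algebra R K₀] (q : K →ₐ[R] K₀)
    (hq : Function.Surjective q) (hn : IsNilpotent (RingHom.ker (q : K →+* K₀)))
    (hB : SGA3b.IsMultType K (K ⊗[R] B)) (hC : SGA3b.IsMultType K (K ⊗[R] C)) :
    (∀ φ ψ : K ⊗[R] C →ₐc[K] K ⊗[R] B, (∀ c, Algebra.TensorProduct.map q (AlgHom.id R B) (φ ((1 : K) ⊗ₜ[R] c)) =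
        Algebra.TensorProduct.map q (AlgHom.id R B) (ψ ((1 : K) ⊗ₜ[R] c))) → φ = ψ) ∧
    (∀ φ₀ : K₀ ⊗[R] C →ₐc[K₀] K₀ ⊗[R] B, ∃ φ : K ⊗[R] C →ₐc[K] K ⊗[R] B, ∀ c,
      Algebra.TensorProduct.map q (AlgHom.id R B) (φ ((1 : K) ⊗ₜ[R] c)) = φ₀ ((1 : K₀) ⊗ₜ[R] c)) := by
  let J := RingHom.ker (q : K →+* K₀)
  have hJ : ∀ x ∈ J, IsNilpotent x := fun x hx => nil_of_isNilpotent hn hx
  let σ : (K ⧸ J) ≃ₐ[R] K₀ := Ideal.quotientKerAlgEquivOfSurjective (f := q) hq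
  have hσ : (σ : (K ⧸ J) →ₐ[R] K₀).comp (Ideal.Quotient.mkₐ R J) = q := rfl
  have hcan : ∀ {X : Type u} [CommRing X] [HopfAlgebra R X] (z : K ⊗[R] X),
      cancelBC R K (K ⧸ J) X ((1 : K ⧸ J) ⊗ₜ[K] z) = Algebra.TensorProduct.map (Ideal.Quotient.mkₐ R J) (AlgHom.id R X) z := by
    intro X _ _ z
    induction z with
    | zero => simp
    | add a b ha hb => simp only [map_add, tmul_add, ha, hb]
    | tmul k x =>
      rw [cancelBC_tmul, Algebra.smul_def, mul_one]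
      rfl
  have hback : ∀ {X : Type u} [CommRing X] [HopfAlgebra R X] (z : (K ⧸ J) ⊗[R] X),
      Algebra.TensorProduct.map (σ.symm : K₀ →ₐ[R] K ⧸ J) (AlgHom.id R X)
        (Algebra.TensorProduct.map (σ : (K ⧸ J) →ₐ[R] K₀) (AlgHom.id R X) z) = z := by
    intro X _ _ z
    induction z with
    | zero => simp
    | add a b ha hb => simp only [map_add, ha, hb]
    | tmul k x => simp
  obtain ⟨huniq, hex⟩ := bijective_of_nil hJ hB hC
  refine ⟨fun φ ψ h => huniq φ ψ fun z => ?_, fun φ₀ => ?_⟩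
  · apply EquivLike.injective (cancelBC R K (K ⧸ J) B)
    rw [hcan, hcan]
    induction z with
    | zero => simp
    | add a b ha hb => simp only [map_add, ha, hb]
    | tmul k c =>
      rw [show k ⊗ₜ[R] c = k • ((1 : K) ⊗ₜ[R] c) by rw [smul_tmul', smul_eq_mul, mul_one], map_smul φ, map_smul ψ,
        map_smul', map_smul']
      refine congrArg _ ?_
      have h1 := congrArg (Algebra.TensorProduct.map (σ.symm : K₀ →ₐ[R] K ⧸ J) (AlgHom.id R B)) (h c)
      rw [← hσ] at h1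
      have h2 : ∀ w : K ⊗[R] B, Algebra.TensorProduct.map ((σ : (K ⧸ J) →ₐ[R] K₀).comp (Ideal.Quotient.mkₐ R J)) (AlgHom.id R B) w =
          Algebra.TensorProduct.map (σ : (K ⧸ J) →ₐ[R] K₀) (AlgHom.id R B)
            (Algebra.TensorProduct.map (Ideal.Quotient.mkₐ R J) (AlgHom.id R B) w) := fun w => by
        induction w with
        | zero => simp
        | add a b ha hb => simp only [map_add, ha, hb]
        | tmul a b => simp
      rw [h2, h2, hback, hback] at h1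
      exact h1
  · obtain ⟨g', hg'⟩ := exists_hom_map (σ.symm : K₀ →ₐ[R] K ⧸ J) φ₀
    let φ₁ : (K ⧸ J) ⊗[K] (K ⊗[R] C) →ₐc[K ⧸ J] (K ⧸ J) ⊗[K] (K ⊗[R] B) :=
      ((cancelBC R K (K ⧸ J) B).symm : (K ⧸ J) ⊗[R] B →ₐc[K ⧸ J] (K ⧸ J) ⊗[K] (K ⊗[R] B)).comp
        (g'.comp (cancelBC R K (K ⧸ J) C : (K ⧸ J) ⊗[K] (K ⊗[R] C) →ₐc[K ⧸ J] (K ⧸ J) ⊗[R] C))
    obtain ⟨φ, hφ⟩ := hex φ₁
    refine ⟨φ, fun c => ?_⟩
    have h1 := congrArg (cancelBC R K (K ⧸ J) B) (hφ ((1 : K) ⊗ₜ[R] c))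
    rw [hcan, show φ₁ ((1 : K ⧸ J) ⊗ₜ[K] ((1 : K) ⊗ₜ[R] c)) =
      (cancelBC R K (K ⧸ J) B).symm (g' (cancelBC R K (K ⧸ J) C ((1 : K ⧸ J) ⊗ₜ[K] ((1 : K) ⊗ₜ[R] c)))) from rfl,
      show ∀ w, cancelBC R K (K ⧸ J) B ((cancelBC R K (K ⧸ J) B).symm w) = w from
        fun w => (cancelBC R K (K ⧸ J) B).apply_symm_apply w, hcan, Algebra.TensorProduct.map_tmul, map_one] at h1
    have h2 := hg' ((1 : K₀) ⊗ₜ[R] c)
    rw [Algebra.TensorProduct.map_tmul, map_one] at h2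
    rw [h2] at h1
    have h3 := congrArg (Algebra.TensorProduct.map (σ : (K ⧸ J) →ₐ[R] K₀) (AlgHom.id R B)) h1
    have h4 : ∀ w : K₀ ⊗[R] B, Algebra.TensorProduct.map (σ : (K ⧸ J) →ₐ[R] K₀) (AlgHom.id R B)
        (Algebra.TensorProduct.map (σ.symm : K₀ →ₐ[R] K ⧸ J) (AlgHom.id R B) w) = w := fun w => by
      induction w with
      | zero => simp
      | add a b ha hb => simp only [map_add, ha, hb]
      | tmul a b => simp
    rw [h4] at h3
    rw [h3]
    generalize φ ((1 : K) ⊗ₜ[R] c) = w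
    induction w with
    | zero => simp
    | add a b ha hb => simp only [map_add, ha, hb]
    | tmul a b => rfl

end HomLift

end Groth.Agent.SGA3b53
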