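import Groth.Agent.SGA3b53.QuasiIso
import Groth.Agent.SGA3b53.DiagLift
import Groth.Agent.SGA3b53.DensityApply
import Mathlib

/-!
Over a normal domain a group of multiplicative type which is diagonalisable at the generic point is diagonalisable.
-/

set_option autoImplicit false
set_option linter.unusedSectionVars false
set_option linter.style.haveILetI false
universe u
open TensorProduct

noncomputable section

namespace Groth.Agent.SGA3b53.Normal

variable {R : Type u} [CommRing R] {A : Type u} [CommRing A] [HopfAlgebra R A]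

theorem exists_etale_cover_diag (hft : Algebra.FiniteType R A) (h : SGA3b.IsMultType R A) :
    ∃ (ι : Type u) (_ : Finite ι) (T : ι → Type u) (_ : ∀ i, CommRing (T i)) (_ : ∀ i, Algebra R (T i)),
      (∀ i, Algebra.Etale R (T i)) ∧ IsCover R T ∧ ∀ i, SGA3b.IsDiag (T i) (T i ⊗[R] A) := by
  choose S hS₁ hS₂ hS₃ hS₄ hS₅ using fun p => exists_etale_point hft h p
  letI : ∀ p, CommRing (S p) := hS₁
  letI : ∀ p, Algebra R (S p) := hS₂
  haveI : ∀ p, Algebra.Etale R (S p) := hS₃
  haveI : ∀ p, Algebra.HasGoingDown R (S p) := fun p => inferInstance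
  obtain ⟨t, ht⟩ := isCompact_univ.elim_finite_subcover
    (fun p : PrimeSpectrum R => Set.range (PrimeSpectrum.comap (algebraMap R (S p))))
    (fun p => (PrimeSpectrum.isOpenMap_comap_of_hasGoingDown_of_finitePresentation (R := R) (S := S p)).isOpen_range)
    (fun p _ => Set.mem_iUnion.2 ⟨p, hS₄ p⟩)
  haveI : Finite {p // p ∈ t} := Finset.finite_toSet t |>.to_subtype
  refine ⟨{p // p ∈ t}, inferInstance, fun p => S p.1, inferInstance, inferInstance, fun p => hS₃ p.1,
    ⟨fun p => inferInstance, fun q => ?_⟩, fun p => hS₅ p.1⟩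
  obtain ⟨p, hp⟩ := Set.mem_iUnion.1 (ht (Set.mem_univ q))
  obtain ⟨hpt, r, hr⟩ := Set.mem_iUnion.1 hp
  exact ⟨⟨p, hpt⟩, r, hr⟩

/-- A smooth algebra over a normal domain is integrally closed in its generic fibre. -/
theorem eq_tmul_one_of_isIntegral [IsDomain R] [IsIntegrallyClosed R] (K : Type u) [Field K] [Algebra R K]
    [IsFractionRing R K] (T : Type u) [CommRing T] [Algebra R T] [Algebra.Smooth R T] {x : T ⊗[R] K}
    (hx : IsIntegral T x) : ∃ t : T, x = t ⊗ₜ[R] (1 : K) := by
  obtain ⟨z, hz⟩ := (TensorProduct.toIntegralClosure_bijective_of_smooth (R := R) (S := T) (B := K)).2 ⟨x, hx⟩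
  have hz' : Algebra.TensorProduct.map (AlgHom.id T T) (integralClosure R K).val z = x := congrArg Subtype.val hz
  rw [← hz']
  clear hz hz'
  induction z with
  | zero => exact ⟨0, by simp⟩
  | add a b ha hb =>
    obtain ⟨t, ht⟩ := ha
    obtain ⟨t', ht'⟩ := hb
    exact ⟨t + t', by rw [map_add, ht, ht', add_tmul]⟩
  | tmul t s =>
    obtain ⟨r, hr⟩ := IsIntegrallyClosed.isIntegral_iff.1 s.2
    refine ⟨r • t, ?_⟩
    rw [Algebra.TensorProduct.map_tmul, AlgHom.id_apply, Subalgebra.coe_val, ← hr, Algebra.algebraMap_eq_smul_one,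
      TensorProduct.smul_tmul]

/-- An element lying in a submodule after a faithfully flat family of base changes lies in it. -/
theorem mem_range_of_cover {ι : Type u} {T : ι → Type u} [∀ i, CommRing (T i)] [∀ i, Algebra R (T i)]
    (hT : IsCover R T) {M N : Type u} [AddCommGroup M] [Module R M] [AddCommGroup N] [Module R N] (f : M →ₗ[R] N)
    {y : N} (h : ∀ i, ∃ z, f.lTensor (T i) z = (1 : T i) ⊗ₜ[R] y) : ∃ x, f x = y := by
  suffices Submodule.Quotient.mk (p := LinearMap.range f) y = 0 from (Submodule.Quotient.mk_eq_zero _).1 this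
  refine hT.eq_zero fun i => ?_
  obtain ⟨z, hz⟩ := h i
  have h0 := congrArg ((LinearMap.range f).mkQ.lTensor (T i)) hz
  rw [← LinearMap.comp_apply, ← LinearMap.lTensor_comp, LinearMap.lTensor_tmul,
    LinearMap.range_mkQ_comp, LinearMap.lTensor_zero, LinearMap.zero_apply] at h0
  exact h0.symm

theorem isGroupLike_of_coeff {W U : Type u} [CommRing W] [CommRing U] {N : Type u} [CommGroup N] (h : W →+* U)
    (hinj : Function.Injective h) {x : MonoidAlgebra W N}
    (hx : IsGroupLikeElem U (MonoidAlgebra.mapRingHom N h x)) : IsGroupLikeElem W x := by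
  classical
  have hc : ∀ n, (MonoidAlgebra.mapRingHom N h x).coeff n = h (x.coeff n) := fun n => by
    simp [MonoidAlgebra.mapRingHom]
  have he : CompleteOrthogonalIdempotents fun m : x.coeff.support => x.coeff (m : N) :=
    { idem := fun m => hinj (by rw [map_mul, ← hc]; exact (grouplike_coeff_idem hx _).eq)
      ortho := fun m n hmn => hinj (by
        rw [map_mul, ← hc, ← hc, map_zero, grouplike_coeff_mul hx, if_neg fun e => hmn (Subtype.ext e)])
      complete := hinj (by
        rw [Finset.sum_coe_sort x.coeff.support (fun m => x.coeff m), map_sum, map_one, ← hx.counit_eq_one, counit_eq_sum,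
          Finsupp.sum]
        refine Finset.sum_congr ?_ fun n _ => (hc n).symm
        ext n
        simp [Finsupp.mem_support_iff, hc, map_eq_zero_iff h hinj]) }
  have h1 : x = ∑ m : x.coeff.support, MonoidAlgebra.single (m : N) (x.coeff (m : N)) := by
    rw [Finset.sum_coe_sort x.coeff.support (fun m => MonoidAlgebra.single m (x.coeff m))]
    exact x.sum_coeff_single.symm
  rw [h1]
  exact isGroupLike_sum he _

theorem isIntegral_of_idem {W U : Type u} [CommRing W] [CommRing U] [Algebra W U] {e : U} (he : IsIdempotentElem e) :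
    IsIntegral W e := by
  refine ⟨Polynomial.X * (Polynomial.X - Polynomial.C 1), Polynomial.monic_X.mul (Polynomial.monic_X_sub_C 1), ?_⟩
  simp [mul_sub, he.eq]

section

variable [IsDomain R] [IsIntegrallyClosed R] (K : Type u) [Field K] [Algebra R K] [IsFractionRing R K]

/-- Group-like elements of the generic fibre extend, on a chart, to group-like elements. -/
theorem exists_of_grouplike_generic (T : Type u) [CommRing T] [Algebra R T] [Algebra.Smooth R T]
    (hd : SGA3b.IsDiag T (T ⊗[R] A)) {u : (T ⊗[R] K) ⊗[R] A} (hu : IsGroupLikeElem (T ⊗[R] K) u) :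
    ∃ z : T ⊗[R] A, Algebra.TensorProduct.map (Algebra.TensorProduct.includeLeft : T →ₐ[R] T ⊗[R] K) (AlgHom.id R A) z = u := by
  classical
  obtain ⟨N, _, ⟨ρ⟩⟩ := hd
  obtain ⟨ρ', hρ'⟩ := exists_split_map (Algebra.TensorProduct.includeLeft : T →ₐ[R] T ⊗[R] K) ρ
  have h1 : ∀ n, ∃ t : T, (ρ' u).coeff n = t ⊗ₜ[R] (1 : K) := fun n => by
    exact eq_tmul_one_of_isIntegral K T (isIntegral_of_idem (grouplike_coeff_idem (hu.map ρ') n))
  choose t ht using h1
  refine ⟨ρ.symm (∑ n ∈ (ρ' u).coeff.support, MonoidAlgebra.single n (t n)), ?_⟩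
  apply EquivLike.injective ρ'
  rw [hρ']
  erw [BialgEquiv.apply_symm_apply]
  refine MonoidAlgebra.ext (Finsupp.ext fun n => ?_)
  simp only [map_sum, MonoidAlgebra.coeff_sum, Finsupp.finsetSum_apply]
  simp [MonoidAlgebra.mapRingHom, Finsupp.single_apply, apply_ite]
  split_ifs with h0
  · exact h0.symm
  · exact (ht n).symm

/-- Diagonalisability at the generic point. -/
theorem isDiag_of_frac (hft : Algebra.FiniteType R A) (h : SGA3b.IsMultType R A)
    (hK : SGA3b.IsDiag K (K ⊗[R] A)) : SGA3b.IsDiag R A := by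
  classical
  haveI := flat_of_isMultType_global h
  obtain ⟨M, _, ⟨ρ⟩⟩ := hK
  obtain ⟨ι, _, T, _, _, het, hT, hd⟩ := exists_etale_cover_diag hft h
  haveI : ∀ i, Algebra.Smooth R (T i) := fun i => by haveI := het i; infer_instance
  let ι₀ : A →ₐ[R] K ⊗[R] A := Algebra.TensorProduct.includeRight
  have hι : Function.Injective ι₀ :=
    Algebra.TensorProduct.includeRight_injective (FaithfulSMul.algebraMap_injective R K)
  let j : ∀ i, K ⊗[R] A →ₐ[R] (T i ⊗[R] K) ⊗[R] A := fun i =>
    Algebra.TensorProduct.map Algebra.TensorProduct.includeRight (AlgHom.id R A)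
  let jT : ∀ i, T i ⊗[R] A →ₐ[R] (T i ⊗[R] K) ⊗[R] A := fun i =>
    Algebra.TensorProduct.map Algebra.TensorProduct.includeLeft (AlgHom.id R A)
  have hj : ∀ i (a : A), jT i ((1 : T i) ⊗ₜ[R] a) = j i (ι₀ a) := fun i a => by
    simp [j, jT, ι₀]
  have hext : ∀ m : M, ∃ a : A, ι₀ a = ρ.symm (MonoidAlgebra.of K M m) := by
    intro m
    refine mem_range_of_cover hT ι₀.toLinearMap fun i => ?_
    have hg : IsGroupLikeElem (T i ⊗[R] K) (j i (ρ.symm (MonoidAlgebra.of K M m))) :=
      isGroupLike_map (Algebra.TensorProduct.includeRight : K →ₐ[R] T i ⊗[R] K)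
        ((MonoidAlgebra.isGroupLikeElem_of (R := K) m).map ρ.symm)
    obtain ⟨z, hz⟩ := exists_of_grouplike_generic K (T i) (hd i) hg
    refine ⟨z, ?_⟩
    apply (TensorProduct.assoc R (T i) K A).symm.injective
    refine Eq.trans ?_ (hz.trans ?_)
    · clear hz
      induction z with
      | zero => simp
      | add a b ha hb => simp only [map_add, ha, hb]
      | tmul t a => simp [ι₀]
    · generalize ρ.symm (MonoidAlgebra.of K M m) = y
      induction y with
      | zero => simp [j]
      | add a b ha hb => simp only [map_add, TensorProduct.tmul_add, ha, hb]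
      | tmul c a => simp [j]
  choose γ hγ using hext
  let γ' : M →* A :=
    { toFun := γ
      map_one' := hι (by rw [hγ, map_one, map_one, map_one])
      map_mul' := fun a b => hι (by rw [hγ, map_mul, map_mul, map_mul, hγ, hγ]) }
  have hgl : ∀ m, IsGroupLikeElem R (γ' m) := fun m => by
    refine hT.isGroupLike_of_forall fun i => ?_
    obtain ⟨N, _, ⟨σ⟩⟩ := hd i
    obtain ⟨σ', hσ'⟩ := exists_split_map (Algebra.TensorProduct.includeLeft : T i →ₐ[R] T i ⊗[R] K) σ
    have hinj : Function.Injective (Algebra.TensorProduct.includeLeft : T i →ₐ[R] T i ⊗[R] K) :=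
      Algebra.TensorProduct.includeLeft_injective (FaithfulSMul.algebraMap_injective R K)
    have hg : IsGroupLikeElem (T i ⊗[R] K) (jT i ((1 : T i) ⊗ₜ[R] γ m)) := by
      rw [hj, hγ]
      exact isGroupLike_map (Algebra.TensorProduct.includeRight : K →ₐ[R] T i ⊗[R] K)
        ((MonoidAlgebra.isGroupLikeElem_of (R := K) m).map ρ.symm)
    have hg' := hg.map σ'
    rw [hσ'] at hg'
    suffices IsGroupLikeElem (T i) (σ ((1 : T i) ⊗ₜ[R] γ m)) by
      have h2 := this.map σ.symm
      rwa [BialgEquiv.symm_apply_apply] at h2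
    generalize σ ((1 : T i) ⊗ₜ[R] γ m) = x at hg'
    exact isGroupLike_of_coeff _ hinj hg'
  obtain ⟨θ, hθ⟩ := exists_bialgHom_of_grouplike γ' hgl
  have hθK : ∀ x : MonoidAlgebra R M, ι₀ (θ x) = ρ.symm (MonoidAlgebra.mapRingHom M (algebraMap R K) x) := by
    intro x
    induction x using MonoidAlgebra.induction_linear with
    | zero => simp
    | add f g hf hg => simp only [map_add, hf, hg]
    | single m r =>
      rw [hθ, map_smul, show MonoidAlgebra.mapRingHom M (algebraMap R K) (MonoidAlgebra.single m r) =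
        r • MonoidAlgebra.of K M m by simp [MonoidAlgebra.mapRingHom, Algebra.smul_def],
        ← algebraMap_smul K r (MonoidAlgebra.of K M m), map_smul, algebraMap_smul]
      exact congrArg (r • ·) (hγ m)
  refine ⟨M, inferInstance, ⟨(BialgEquiv.ofBijective θ ⟨fun x y hxy => ?_, fun a => ?_⟩).symm⟩⟩
  · have h1 := congrArg ι₀ hxy
    rw [hθK, hθK] at h1
    have h2 := EquivLike.injective ρ.symm h1
    refine MonoidAlgebra.ext (Finsupp.ext fun m => FaithfulSMul.algebraMap_injective R K ?_)
    simpa [MonoidAlgebra.mapRingHom] using congrArg (fun w => MonoidAlgebra.coeff w m) h2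
  · set y := ρ (ι₀ a) with hy
    have hc : ∀ m, ∃ r : R, algebraMap R K r = y.coeff m := by
      intro m
      refine mem_range_of_cover hT (Algebra.linearMap R K) fun i => ?_
      obtain ⟨N, _, ⟨σ⟩⟩ := hd i
      obtain ⟨ρ', hρ'⟩ := exists_split_map (Algebra.TensorProduct.includeRight : K →ₐ[R] T i ⊗[R] K) ρ
      have key : ∀ w : T i ⊗[R] A, ∃ t : T i, (ρ' (jT i w)).coeff m = t ⊗ₜ[R] (1 : K) := by
        intro w
        obtain ⟨v, rfl⟩ := EquivLike.surjective σ.symm w
        induction v using MonoidAlgebra.induction_linear with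
        | zero => exact ⟨0, by simp⟩
        | add f g hf hg =>
          obtain ⟨t, ht⟩ := hf
          obtain ⟨t', ht'⟩ := hg
          exact ⟨t + t', by simp only [map_add, MonoidAlgebra.coeff_add, Finsupp.add_apply, ht, ht', add_tmul]⟩
        | single n s =>
          have hg1 : IsGroupLikeElem (T i ⊗[R] K) (jT i (σ.symm (MonoidAlgebra.of (T i) N n))) :=
            isGroupLike_map (Algebra.TensorProduct.includeLeft : T i →ₐ[R] T i ⊗[R] K)
              ((MonoidAlgebra.isGroupLikeElem_of (R := T i) n).map σ.symm)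
          obtain ⟨t, ht⟩ : ∃ t : T i, (ρ' (jT i (σ.symm (MonoidAlgebra.of (T i) N n)))).coeff m = t ⊗ₜ[R] (1 : K) := by
            exact eq_tmul_one_of_isIntegral K (T i) (isIntegral_of_idem (grouplike_coeff_idem (hg1.map ρ') m))
          refine ⟨s * t, ?_⟩
          have h3 : MonoidAlgebra.single n s = s • MonoidAlgebra.of (T i) N n := by simp
          have h4 : ∀ w, jT i (s • w) = (s ⊗ₜ[R] (1 : K)) • jT i w := fun w => by
            induction w with
            | zero => simp
            | add a b ha hb => simp only [smul_add, map_add, ha, hb]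
            | tmul c a => simp [jT, TensorProduct.smul_tmul']
          rw [h3, map_smul, h4, map_smul, MonoidAlgebra.coeff_smul, Finsupp.smul_apply, ht, smul_eq_mul,
            Algebra.TensorProduct.tmul_mul_tmul, mul_one]
      obtain ⟨t, ht⟩ := key ((1 : T i) ⊗ₜ[R] a)
      rw [hj, hρ', ← hy] at ht
      refine ⟨t ⊗ₜ[R] (1 : R), ?_⟩
      rw [LinearMap.lTensor_tmul, Algebra.linearMap_apply, map_one, ← ht]
      simp [MonoidAlgebra.mapRingHom]
    choose r hr using hc
    refine ⟨∑ m ∈ y.coeff.support, MonoidAlgebra.single m (r m), hι ?_⟩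
    rw [hθK]
    apply EquivLike.injective ρ
    erw [BialgEquiv.apply_symm_apply]
    rw [← hy]
    conv_rhs => rw [← y.sum_coeff_single]
    simp [MonoidAlgebra.mapRingHom, Finsupp.sum, hr]

end

end Groth.Agent.SGA3b53.Normal
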