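import Groth.Agent.SGA3b53.Coord
import Groth.Agent.SGA3b53.HopfKer
import Groth.Agent.SGA3b53.Descend
import Groth.Agent.SGA3b53.DiagLiftDescend
import Mathlib

/-!
Square-zero lifting of homomorphisms from groups of multiplicative type to smooth groups.
-/

set_option autoImplicit false
set_option linter.unusedSectionVars false
set_option linter.style.haveILetI false
universe u v w
open TensorProduct WithConv

noncomputable section

namespace Groth.Agent.SGA3b53

namespace SmoothLift

variable {R : Type u} [CommRing R] {C : Type u} [CommRing C] [HopfAlgebra R C]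

theorem mem_smul_top_of_one_tmul' {M : Type*} [AddCommGroup M] [Module R M] (I : Ideal R) {x : M}
    (h : (1 : R ⧸ I) ⊗ₜ[R] x = 0) : x ∈ I • (⊤ : Submodule R M) := by
  have := congrArg (TensorProduct.quotTensorEquivQuotSMul M I) h
  rw [map_zero, ← Submodule.Quotient.mk_eq_zero (I • (⊤ : Submodule R M))] at *
  simpa using this

/-- The points with values in any algebra form a group. -/
instance (priority := high) instGroupPoints {X : Type u} [CommRing X] [Algebra R X] : Group (WithConv (C →ₐ[R] X)) :=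
  { (inferInstance : Monoid (WithConv (C →ₐ[R] X))) with
    inv := fun f => toConv (f.ofConv.comp (HopfAlgebra.antipodeAlgHom R C))
    inv_mul_cancel := fun f => WithConv.ext (AlgHom.ext fun c => by
    rw [AlgHom.convMul_apply, AlgHom.convOne_apply,
      ← f.ofConv.commutes (Coalgebra.counit (R := R) c), ← HopfAlgebra.mul_antipode_rTensor_comul_apply c]
    generalize Coalgebra.comul (R := R) c = w
    induction w with
    | zero => simp
    | add a b ha hb => simp only [map_add, ha, hb]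
    | tmul a b => simp) }

/-- Functoriality of points. -/
def post {X Y : Type u} [CommRing X] [Algebra R X] [CommRing Y] [Algebra R Y] (p : X →ₐ[R] Y) :
    WithConv (C →ₐ[R] X) →* WithConv (C →ₐ[R] Y) where
  toFun f := toConv (p.comp f.ofConv)
  map_one' := WithConv.ext (AlgHom.ext fun c => p.commutes _)
  map_mul' f g := WithConv.ext (AlgHom.ext fun c => by
    simp only [AlgHom.convMul_apply, AlgHom.comp_apply]
    generalize Coalgebra.comul (R := R) c = w
    induction w with
    | zero => simp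
    | add a b ha hb => simp only [map_add, ha, hb]
    | tmul a b => simp)

theorem post_apply {X Y : Type u} [CommRing X] [Algebra R X] [CommRing Y] [Algebra R Y] (p : X →ₐ[R] Y)
    (f : WithConv (C →ₐ[R] X)) (c : C) : (post p f).ofConv c = p (f.ofConv c) :=
  rfl

theorem post_post {X Y Z : Type u} [CommRing X] [Algebra R X] [CommRing Y] [Algebra R Y] [CommRing Z] [Algebra R Z]
    (p : Y →ₐ[R] Z) (q : X →ₐ[R] Y) (f : WithConv (C →ₐ[R] X)) : post p (post q f) = post (p.comp q) f :=
  rfl

/-- Points congruent to the identity modulo `J`. -/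
def Near (J : Ideal R) {X : Type u} [CommRing X] [Algebra R X] (p : WithConv (C →ₐ[R] X)) : Prop :=
  post (Ideal.Quotient.mkₐ R (J.map (algebraMap R X))) p = 1

/-- The linear map of a point. -/
def lin {X : Type u} [CommRing X] [Algebra R X] (p : WithConv (C →ₐ[R] X)) : WithConv (C →ₗ[R] X) :=
  toConv p.ofConv.toLinearMap

theorem lin_apply {X : Type u} [CommRing X] [Algebra R X] (p : WithConv (C →ₐ[R] X)) (c : C) :
    (lin p).ofConv c = p.ofConv c :=
  rfl

theorem lin_mul {X : Type u} [CommRing X] [Algebra R X] (p q : WithConv (C →ₐ[R] X)) : lin (p * q) = lin p * lin q :=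
  AlgHom.toLinearMap_convMul p q

theorem lin_one {X : Type u} [CommRing X] [Algebra R X] : lin (1 : WithConv (C →ₐ[R] X)) = 1 :=
  AlgHom.toLinearMap_convOne

theorem lin_injective {X : Type u} [CommRing X] [Algebra R X] {p q : WithConv (C →ₐ[R] X)} (h : lin p = lin q) : p = q :=
  WithConv.ext (AlgHom.ext fun c => by rw [← lin_apply, h, lin_apply])

theorem near_iff {J : Ideal R} {X : Type u} [CommRing X] [Algebra R X] {p : WithConv (C →ₐ[R] X)} :
    Near J p ↔ ∀ c, p.ofConv c - algebraMap R X (Coalgebra.counit (R := R) c) ∈ J.map (algebraMap R X) := by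
  constructor
  · intro h c
    have h1 := congrArg (fun f : WithConv (C →ₐ[R] _) => f.ofConv c) h
    simp only [post_apply, Ideal.Quotient.mkₐ_eq_mk, AlgHom.convOne_apply] at h1
    rw [← Ideal.Quotient.eq_zero_iff_mem, map_sub, h1, sub_eq_zero]
    rfl
  · intro h
    refine WithConv.ext (AlgHom.ext fun c => ?_)
    rw [post_apply, AlgHom.convOne_apply, Ideal.Quotient.mkₐ_eq_mk]
    exact Ideal.Quotient.eq.2 (h c)

theorem near_mul_inv {J : Ideal R} {X : Type u} [CommRing X] [Algebra R X] {p q : WithConv (C →ₐ[R] X)}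
    (h : ∀ c, p.ofConv c - q.ofConv c ∈ J.map (algebraMap R X)) : Near J (p * q⁻¹) := by
  rw [Near, map_mul, map_inv, mul_inv_eq_one]
  exact WithConv.ext (AlgHom.ext fun c => Ideal.Quotient.eq.2 (h c))

theorem near_mul {J : Ideal R} {X : Type u} [CommRing X] [Algebra R X] {p q : WithConv (C →ₐ[R] X)}
    (hp : Near J p) (hq : Near J q) : Near J (p * q) := by
  rw [Near, map_mul, show post _ p = 1 from hp, show post _ q = 1 from hq, one_mul]

theorem near_conj {J : Ideal R} {X : Type u} [CommRing X] [Algebra R X] {p : WithConv (C →ₐ[R] X)}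
    (u : WithConv (C →ₐ[R] X)) (hp : Near J p) : Near J (u * p * u⁻¹) := by
  rw [Near, map_mul, map_mul, show post _ p = 1 from hp, mul_one, map_inv, mul_inv_cancel]

theorem near_post {J : Ideal R} {X Y : Type u} [CommRing X] [Algebra R X] [CommRing Y] [Algebra R Y] (g : X →ₐ[R] Y)
    {p : WithConv (C →ₐ[R] X)} (hp : Near J p) : Near J (post g p) := by
  rw [near_iff] at hp ⊢
  intro c
  have h1 := Ideal.mem_map_of_mem (g : X →+* Y) (hp c)
  rwa [Ideal.map_map, AlgHom.comp_algebraMap, RingHom.coe_coe, map_sub, AlgHom.commutes] at h1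

theorem mul_eq_zero_of_mem {J : Ideal R} (hJ : J ^ 2 = ⊥) {X : Type u} [CommRing X] [Algebra R X] {x y : X}
    (hx : x ∈ J.map (algebraMap R X)) (hy : y ∈ J.map (algebraMap R X)) : x * y = 0 := by
  have h1 := Ideal.mul_mem_mul hx hy
  rwa [← Ideal.map_mul, ← sq, hJ, Ideal.map_bot, Ideal.mem_bot] at h1

theorem lin_mul_near {J : Ideal R} (hJ : J ^ 2 = ⊥) {X : Type u} [CommRing X] [Algebra R X]
    {p q : WithConv (C →ₐ[R] X)} (hp : Near J p) (hq : Near J q) : lin (p * q) = lin p + lin q - 1 := by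
  have h : (lin p - 1) * (lin q - 1) = 0 := by
    refine WithConv.ext (LinearMap.ext fun c => ?_)
    rw [LinearMap.convMul_apply]
    generalize Coalgebra.comul (R := R) c = w
    induction w with
    | zero => simp
    | add a b ha hb =>
      rw [map_add, map_add, ha, hb]
      simp
    | tmul a b => exact mul_eq_zero_of_mem hJ (near_iff.1 hp a) (near_iff.1 hq b)
  rw [lin_mul, ← sub_eq_zero]
  refine Eq.trans ?_ h
  noncomm_ring

theorem linear_mem {J : Ideal R} {X Y : Type u} [CommRing X] [Algebra R X] [CommRing Y] [Algebra R Y] (L : X →ₗ[R] Y)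
    {x : X} (hx : x ∈ J.map (algebraMap R X)) : L x ∈ J.map (algebraMap R Y) := by
  have h1 : x ∈ J • (⊤ : Submodule R X) := by
    rw [Ideal.smul_top_eq_map]
    exact hx
  have h2 : L x ∈ J • (⊤ : Submodule R Y) := by
    refine Submodule.smul_induction_on h1 (fun a ha y _ => ?_) (fun a b ha hb => ?_)
    · rw [map_smul]
      exact Submodule.smul_mem_smul ha Submodule.mem_top
    · rw [map_add]
      exact add_mem ha hb
  rw [Ideal.smul_top_eq_map] at h2
  exact h2

/-- Constant points are preserved. -/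
theorem post_const {X Y : Type u} [CommRing X] [Algebra R X] [CommRing Y] [Algebra R Y] (p : X →ₐ[R] Y)
    (ξ : WithConv (C →ₐ[R] R)) : post p (post (Algebra.ofId R X) ξ) = post (Algebra.ofId R Y) ξ := by
  rw [post_post, show p.comp (Algebra.ofId R X) = Algebra.ofId R Y from AlgHom.ext fun r => p.commutes r]

/-- Integration of a point near the identity. -/
theorem exists_int_point {J : Ideal R} (hJ : J ^ 2 = ⊥) {X Y : Type u} [CommRing X] [Algebra R X] [CommRing Y]
    [Algebra R Y] (L : X →ₗ[R] Y) (hL : L 1 = 1) {p : WithConv (C →ₐ[R] X)} (hp : Near J p) :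
    ∃ b : WithConv (C →ₐ[R] Y), Near J b ∧ ∀ c, b.ofConv c = L (p.ofConv c) := by
  have hLa : ∀ r, L (algebraMap R X r) = algebraMap R Y r := fun r => by
    rw [Algebra.algebraMap_eq_smul_one, map_smul, hL, Algebra.algebraMap_eq_smul_one]
  let b : C →ₐ[R] Y :=
    { toFun := fun c => L (p.ofConv c)
      map_one' := by rw [map_one, hL]
      map_mul' := fun c d => by
        have h1 := near_iff.1 hp
        have hX := mul_eq_zero_of_mem hJ (h1 c) (h1 d)
        have hY : (L (p.ofConv c) - algebraMap R Y (Coalgebra.counit (R := R) c)) *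
            (L (p.ofConv d) - algebraMap R Y (Coalgebra.counit (R := R) d)) = 0 := by
          rw [← hLa, ← hLa, ← map_sub, ← map_sub]
          exact mul_eq_zero_of_mem hJ (linear_mem L (h1 c)) (linear_mem L (h1 d))
        have e1 : p.ofConv c * p.ofConv d = Coalgebra.counit (R := R) c • p.ofConv d +
            Coalgebra.counit (R := R) d • p.ofConv c - algebraMap R X (Coalgebra.counit (R := R) c * Coalgebra.counit (R := R) d) := by
          rw [Algebra.smul_def, Algebra.smul_def, map_mul]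
          linear_combination hX
        rw [map_mul, e1, map_sub, map_add, map_smul, map_smul, hLa, Algebra.smul_def, Algebra.smul_def, map_mul]
        linear_combination -hY
      map_zero' := by rw [map_zero, map_zero]
      map_add' := fun c d => by rw [map_add, map_add]
      commutes' := fun r => by rw [AlgHom.commutes, hLa] }
  refine ⟨toConv b, near_iff.2 fun c => ?_, fun c => rfl⟩
  change L (p.ofConv c) - _ ∈ _
  rw [← hLa, ← map_sub]
  exact linear_mem L (near_iff.1 hp c)

theorem comp_convMul {X Y : Type u} [CommRing X] [Algebra R X] [CommRing Y] [Algebra R Y] (L : X →ₗ[R] Y) (g : Y →ₐ[R] X)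
    (hLg : ∀ y x, L (g y * x) = y * L x) (U V : WithConv (C →ₗ[R] Y)) (W : WithConv (C →ₗ[R] X)) :
    toConv (L ∘ₗ (toConv (g.toLinearMap ∘ₗ U.ofConv) * W * toConv (g.toLinearMap ∘ₗ V.ofConv)).ofConv) =
      U * toConv (L ∘ₗ W.ofConv) * V := by
  have h1 : ∀ (U : WithConv (C →ₗ[R] Y)) (W : WithConv (C →ₗ[R] X)),
      toConv (L ∘ₗ (toConv (g.toLinearMap ∘ₗ U.ofConv) * W).ofConv) = U * toConv (L ∘ₗ W.ofConv) := by
    intro U W
    refine WithConv.ext (LinearMap.ext fun c => ?_)
    simp only [ofConv_toConv, LinearMap.comp_apply, LinearMap.convMul_apply]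
    generalize Coalgebra.comul (R := R) c = w
    induction w with
    | zero => simp
    | add a b ha hb => simp only [map_add, ha, hb]
    | tmul a b => simp [hLg]
  have h2 : ∀ (V : WithConv (C →ₗ[R] Y)) (W : WithConv (C →ₗ[R] X)),
      toConv (L ∘ₗ (W * toConv (g.toLinearMap ∘ₗ V.ofConv)).ofConv) = toConv (L ∘ₗ W.ofConv) * V := by
    intro V W
    refine WithConv.ext (LinearMap.ext fun c => ?_)
    simp only [ofConv_toConv, LinearMap.comp_apply, LinearMap.convMul_apply]
    generalize Coalgebra.comul (R := R) c = w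
    induction w with
    | zero => simp
    | add a b ha hb => simp only [map_add, ha, hb]
    | tmul a b =>
      simp only [TensorProduct.map_tmul, LinearMap.mul'_apply, ofConv_toConv, LinearMap.comp_apply,
        AlgHom.toLinearMap_apply]
      rw [mul_comm, hLg, mul_comm]
  rw [h2, h1]

theorem comp_lin_conj {X Y : Type u} [CommRing X] [Algebra R X] [CommRing Y] [Algebra R Y] (L : X →ₗ[R] Y) (g : Y →ₐ[R] X)
    (hLg : ∀ y x, L (g y * x) = y * L x) (u : WithConv (C →ₐ[R] Y)) (w : WithConv (C →ₐ[R] X)) (b : WithConv (C →ₐ[R] Y))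
    (hb : ∀ c, b.ofConv c = L (w.ofConv c)) (c : C) :
    L ((post g u * w * (post g u)⁻¹).ofConv c) = (u * b * u⁻¹).ofConv c := by
  rw [← map_inv, ← lin_apply, ← lin_apply (u * b * u⁻¹), lin_mul, lin_mul, lin_mul, lin_mul,
    show lin b = toConv (L ∘ₗ (lin w).ofConv) from WithConv.ext (LinearMap.ext fun c => hb c)]
  exact LinearMap.congr_fun (congrArg WithConv.ofConv (comp_convMul L g hLg (lin u) (lin u⁻¹) (lin w))) c

section Integral

variable {B : Type u} [CommRing B] [HopfAlgebra R B]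

/-- An invariant integral with values in an algebra. -/
def IsInt {Q : Type u} [CommRing Q] [Algebra R Q] (ℓ : B →ₗ[R] Q) : Prop :=
  ℓ 1 = 1 ∧ ∀ b, ℓ.rTensor B (Coalgebra.comul (R := R) b) = ℓ b ⊗ₜ[R] (1 : B)

theorem int_unique [Coalgebra.IsCocomm R B] {Q : Type u} [CommRing Q] [Algebra R Q] {ℓ ℓ' : B →ₗ[R] Q} (h : IsInt ℓ)
    (h' : IsInt ℓ') (b : B) : ℓ b = ℓ' b := by
  have e1 := congrArg (LinearMap.mul' R Q ∘ₗ ℓ'.lTensor Q) (h.2 b)
  have e2 := congrArg (LinearMap.mul' R Q ∘ₗ ℓ.lTensor Q) (h'.2 b)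
  rw [LinearMap.comp_apply, LinearMap.comp_apply, LinearMap.lTensor_tmul, LinearMap.mul'_apply, h'.1, mul_one] at e1
  rw [LinearMap.comp_apply, LinearMap.comp_apply, LinearMap.lTensor_tmul, LinearMap.mul'_apply, h.1, mul_one,
    ← Coalgebra.comm_comul R b] at e2
  rw [← e1, ← e2]
  generalize Coalgebra.comul (R := R) b = w
  induction w with
  | zero => simp
  | add x y hx hy => simp only [map_add, hx, hy]
  | tmul x y => simp [mul_comm]

theorem isInt_comp {Q Q' : Type u} [CommRing Q] [Algebra R Q] [CommRing Q'] [Algebra R Q'] {ℓ : B →ₗ[R] Q} (h : IsInt ℓ)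
    (f : Q →ₐ[R] Q') : IsInt (f.toLinearMap ∘ₗ ℓ) := by
  refine ⟨by simp [h.1], fun b => ?_⟩
  rw [LinearMap.rTensor_comp, LinearMap.comp_apply, h.2, LinearMap.rTensor_tmul]
  rfl

theorem exists_int_diag {T : Type u} [CommRing T] [Algebra R T] (hd : SGA3b.IsDiag T (T ⊗[R] B)) :
    ∃ ℓ : B →ₗ[R] T, IsInt ℓ := by
  classical
  obtain ⟨M, _, ⟨ρ⟩⟩ := hd
  refine ⟨coord ρ 1, (coord_one ρ 1).trans (if_pos rfl), fun b => ?_⟩
  apply EquivLike.injective ρ
  refine MonoidAlgebra.ext (Finsupp.ext fun m => ?_)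
  have h1 : ∀ w : B ⊗[R] B, (ρ ((coord ρ 1).rTensor B w)).coeff m =
      LinearMap.mul' R T (TensorProduct.map (coord ρ 1) (coord ρ m) w) := fun w => by
    induction w with
    | zero => simp
    | add x y hx hy => simp only [map_add, MonoidAlgebra.coeff_add, Finsupp.add_apply, hx, hy]
    | tmul x y =>
      rw [LinearMap.rTensor_tmul, show coord ρ 1 x ⊗ₜ[R] y = coord ρ 1 x • ((1 : T) ⊗ₜ[R] y) by
        rw [TensorProduct.smul_tmul', smul_eq_mul, mul_one], map_smul]
      simp
  have h2 := congrArg (fun f : WithConv (B →ₗ[R] T) => f.ofConv b) (coord_conv ρ 1 m)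
  simp only [LinearMap.convMul_apply, ofConv_toConv] at h2
  rw [h1, h2, show coord ρ 1 b ⊗ₜ[R] (1 : B) = coord ρ 1 b • ((1 : T) ⊗ₜ[R] (1 : B)) by
    rw [TensorProduct.smul_tmul', smul_eq_mul, mul_one], map_smul, ← Algebra.TensorProduct.one_def, map_one,
    MonoidAlgebra.one_def]
  by_cases hm : (1 : M) = m <;> simp [hm]

/-- Groups of multiplicative type have an invariant integral. -/
theorem exists_int (h : SGA3b.IsMultType R B) : ∃ I : B →ₗ[R] R, IsInt I := by
  haveI := isCocomm_of_isMultType h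
  obtain ⟨ι, _, T, _, _, hT, hd⟩ := exists_finite_cover h
  choose ℓ hℓ using fun i => exists_int_diag (hd i)
  let y : B → ∀ i, T i ⊗[R] R := fun b i => ℓ i b ⊗ₜ[R] 1
  have hy : ∀ b i j, ((TensorProduct.mk R (T j) (T i)).flip 1).rTensor R (y b j) =
      ((TensorProduct.mk R (T j) (T i)) 1).rTensor R (y b i) := by
    intro b i j
    have h1 := int_unique (isInt_comp (hℓ j) (Algebra.TensorProduct.includeLeft : T j →ₐ[R] T j ⊗[R] T i))
      (isInt_comp (hℓ i) (Algebra.TensorProduct.includeRight : T i →ₐ[R] T j ⊗[R] T i)) b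
    exact congrArg (fun z => z ⊗ₜ[R] (1 : R)) h1
  choose x hx using fun b => hT.descend (y b) (hy b)
  have hx' : ∀ b i, algebraMap R (T i) (x b) = ℓ i b := fun b i => by
    have h1 := congrArg (TensorProduct.rid R (T i)) (hx b i)
    simpa [y, Algebra.algebraMap_eq_smul_one] using h1
  have huniq : ∀ r r' : R, (∀ i, algebraMap R (T i) r = algebraMap R (T i) r') → r = r' := fun r r' h =>
    sub_eq_zero.1 (hT.eq_zero fun i => by
      apply (TensorProduct.rid R (T i)).injective
      rw [map_zero, TensorProduct.rid_tmul, ← Algebra.algebraMap_eq_smul_one, map_sub, h i, sub_self])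
  let I : B →ₗ[R] R :=
    { toFun := x
      map_add' := fun a b => huniq _ _ fun i => by rw [map_add, hx', hx', hx', map_add]
      map_smul' := fun r b => huniq _ _ fun i => by
        rw [hx', map_smul, RingHom.id_apply, smul_eq_mul, map_mul, hx', Algebra.smul_def] }
  refine ⟨I, huniq _ _ fun i => (hx' 1 i).trans ((hℓ i).1.trans (map_one _).symm), fun b => ?_⟩
  apply (TensorProduct.lid R B).injective
  refine sub_eq_zero.1 (hT.eq_zero fun i => ?_)
  rw [tmul_sub, sub_eq_zero]
  have h2 : ∀ w : B ⊗[R] B, (1 : T i) ⊗ₜ[R] TensorProduct.lid R B (I.rTensor B w) = (ℓ i).rTensor B w := fun w => by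
    induction w with
    | zero => simp
    | add a b ha hb => simp only [map_add, tmul_add, ha, hb]
    | tmul a b =>
      rw [LinearMap.rTensor_tmul, LinearMap.rTensor_tmul, TensorProduct.lid_tmul, tmul_smul, smul_tmul',
        ← Algebra.algebraMap_eq_smul_one]
      exact congrArg (fun z => z ⊗ₜ[R] b) (hx' a i)
  rw [h2, (hℓ i).2, TensorProduct.lid_tmul, tmul_smul, smul_tmul', ← Algebra.algebraMap_eq_smul_one]
  exact congrArg (fun z => z ⊗ₜ[R] (1 : B)) (hx' b i).symm

/-- Integration over the last variable. -/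
def L₂ (I : B →ₗ[R] R) : B ⊗[R] B →ₗ[R] B :=
  (TensorProduct.rid R B).toLinearMap ∘ₗ I.lTensor B

theorem L₂_tmul (I : B →ₗ[R] R) (x y : B) : L₂ I (x ⊗ₜ[R] y) = I y • x := by
  simp [L₂]

theorem L₂_comul [Coalgebra.IsCocomm R B] {I : B →ₗ[R] R} (h : IsInt I) (b : B) :
    L₂ I (Coalgebra.comul (R := R) b) = algebraMap R B (I b) := by
  have h1 := congrArg (TensorProduct.lid R B) (h.2 b)
  rw [TensorProduct.lid_tmul, ← Algebra.algebraMap_eq_smul_one, ← Coalgebra.comm_comul R b] at h1
  rw [← h1]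
  generalize Coalgebra.comul (R := R) b = w
  induction w with
  | zero => simp
  | add x y hx hy => simp only [map_add, hx, hy]
  | tmul x y =>
    rw [TensorProduct.comm_tmul, LinearMap.rTensor_tmul, TensorProduct.lid_tmul]
    simp [L₂]

theorem L₂_mul (I : B →ₗ[R] R) (y : B) (x : B ⊗[R] B) :
    L₂ I ((Algebra.TensorProduct.includeLeft : B →ₐ[R] B ⊗[R] B) y * x) = y * L₂ I x := by
  induction x with
  | zero => simp
  | add a b ha hb => simp only [mul_add, map_add, ha, hb]
  | tmul a b => simp [L₂_tmul]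

end Integral

variable {B : Type u} [CommRing B] [HopfAlgebra R B]

/-- A multiplicative point gives a homomorphism. -/
theorem exists_bialgHom (f : WithConv (C →ₐ[R] B))
    (h : post (Bialgebra.comulAlgHom R B) f =
      post (Algebra.TensorProduct.includeLeft : B →ₐ[R] B ⊗[R] B) f * post Algebra.TensorProduct.includeRight f) :
    ∃ φ : C →ₐc[R] B, ∀ c, φ c = f.ofConv c := by
  have hg : post (Bialgebra.counitAlgHom R B) f * post (Bialgebra.counitAlgHom R B) f = post (Bialgebra.counitAlgHom R B) f := by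
    have h1 := congrArg (post (Algebra.TensorProduct.productMap (Bialgebra.counitAlgHom R B) (Bialgebra.counitAlgHom R B))) h
    rw [map_mul, post_post, post_post, post_post, Algebra.TensorProduct.productMap_left,
      Algebra.TensorProduct.productMap_right] at h1
    rw [← h1]
    refine congrArg (fun p => post p f) (AlgHom.ext fun b => ?_)
    rw [AlgHom.comp_apply, Bialgebra.comulAlgHom_apply, Bialgebra.counitAlgHom_apply]
    conv_rhs => rw [← Coalgebra.sum_counit_smul (Coalgebra.Repr.arbitrary R b), map_sum]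
    rw [← (Coalgebra.Repr.arbitrary R b).eq, map_sum]
    refine Finset.sum_congr rfl fun i _ => ?_
    simp
  have hg1 : post (Bialgebra.counitAlgHom R B) f = 1 := mul_eq_left.1 hg
  have hc : (Bialgebra.counitAlgHom R B).comp f.ofConv = Bialgebra.counitAlgHom R C :=
    AlgHom.ext fun c => by
      have h2 := congrArg (fun g : WithConv (C →ₐ[R] R) => g.ofConv c) hg1
      simpa [post_apply] using h2
  have hm : (Algebra.TensorProduct.map f.ofConv f.ofConv).comp (Bialgebra.comulAlgHom R C) =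
      (Bialgebra.comulAlgHom R B).comp f.ofConv := by
    refine AlgHom.ext fun c => ?_
    have h2 := congrArg (fun g : WithConv (C →ₐ[R] B ⊗[R] B) => g.ofConv c) h
    simp only [post_apply, AlgHom.convMul_apply] at h2
    refine Eq.trans ?_ h2.symm
    change Algebra.TensorProduct.map f.ofConv f.ofConv (Coalgebra.comul (R := R) c) = _
    generalize Coalgebra.comul (R := R) c = w
    induction w with
    | zero => simp
    | add a b ha hb => simp only [map_add, ha, hb]
    | tmul a b => simp [post_apply]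
  exact ⟨BialgHom.ofAlgHom f.ofConv hc hm, fun c => rfl⟩

theorem bialgHom_mult (φ : C →ₐc[R] B) :
    post (Bialgebra.comulAlgHom R B) (toConv (φ : C →ₐ[R] B)) =
      post (Algebra.TensorProduct.includeLeft : B →ₐ[R] B ⊗[R] B) (toConv (φ : C →ₐ[R] B)) *
        post Algebra.TensorProduct.includeRight (toConv (φ : C →ₐ[R] B)) := by
  refine WithConv.ext (AlgHom.ext fun c => ?_)
  simp only [post_apply, AlgHom.convMul_apply]
  change Coalgebra.comul (R := R) (φ c) = _
  rw [← CoalgHomClass.map_comp_comul_apply φ]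
  generalize Coalgebra.comul (R := R) c = w
  induction w with
  | zero => simp
  | add a b ha hb => simp only [map_add, ha, hb]
  | tmul a b => simp [post_apply]

theorem cocycle_id {G : Type*} [Group G] (F P Q X Y Z : G) :
    F * (P * Z)⁻¹ * (P * (X * Y)⁻¹) = F * (X * Q)⁻¹ * (X * (Q * (Y * Z)⁻¹) * X⁻¹) := by
  group

theorem conj_one' {G : Type*} [Group G] (a : G) : 1 * a * 1⁻¹ = a := by
  group

/-- The correction step: an approximate homomorphism is close to a homomorphism. -/
theorem exists_correction [Coalgebra.IsCocomm R B] {J : Ideal R} (hJ : J ^ 2 = ⊥) {I : B →ₗ[R] R} (hI : IsInt I)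
    (f : WithConv (C →ₐ[R] B))
    (hf : ∀ c, (post (Bialgebra.comulAlgHom R B) f).ofConv c -
      (post (Algebra.TensorProduct.includeLeft : B →ₐ[R] B ⊗[R] B) f * post Algebra.TensorProduct.includeRight f).ofConv c ∈
        J.map (algebraMap R (B ⊗[R] B))) :
    ∃ b : WithConv (C →ₐ[R] B), Near J b ∧ post (Bialgebra.comulAlgHom R B) (b * f) =
      post (Algebra.TensorProduct.includeLeft : B →ₐ[R] B ⊗[R] B) (b * f) * post Algebra.TensorProduct.includeRight (b * f) := by
  let iL : B →ₐ[R] B ⊗[R] B := Algebra.TensorProduct.includeLeft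
  let iR : B →ₐ[R] B ⊗[R] B := Algebra.TensorProduct.includeRight
  let Δ := Bialgebra.comulAlgHom R B
  let p12 : B ⊗[R] B →ₐ[R] B ⊗[R] (B ⊗[R] B) := Algebra.TensorProduct.map (AlgHom.id R B) iL
  let p23 : B ⊗[R] B →ₐ[R] B ⊗[R] (B ⊗[R] B) := Algebra.TensorProduct.includeRight
  let m1 : B ⊗[R] B →ₐ[R] B ⊗[R] (B ⊗[R] B) :=
    (Algebra.TensorProduct.assoc R R R B B B).toAlgHom.comp (Algebra.TensorProduct.map Δ (AlgHom.id R B))
  let m2 : B ⊗[R] B →ₐ[R] B ⊗[R] (B ⊗[R] B) := Algebra.TensorProduct.map (AlgHom.id R B) Δ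
  let L3 : B ⊗[R] (B ⊗[R] B) →ₗ[R] B ⊗[R] B := (L₂ I).lTensor B
  have hL1 : L₂ I (1 : B ⊗[R] B) = 1 := by rw [Algebra.TensorProduct.one_def, L₂_tmul, hI.1, one_smul]
  obtain ⟨D, hD⟩ : ∃ D, D = post Δ f * (post iL f * post iR f)⁻¹ := ⟨_, rfl⟩
  have hDn : Near J D := hD ▸ near_mul_inv hf
  obtain ⟨b, hb, hbc⟩ := exists_int_point (C := C) (X := B ⊗[R] B) (Y := B) hJ (L₂ I) hL1 hDn
  refine ⟨b, hb, ?_⟩
  have hX : m2.comp iL = p12.comp iL := AlgHom.ext fun x => by simp [m2, p12, iL]
  have hY : p23.comp iL = p12.comp iR := AlgHom.ext fun x => by simp [p23, p12, iL, iR]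
  have hZ : m1.comp iR = p23.comp iR := AlgHom.ext fun x => by
    simp [m1, p23, iR, Algebra.TensorProduct.one_def]
  have hP : m1.comp iL = p12.comp Δ := AlgHom.ext fun x => by
    simp only [m1, p12, iL, AlgHom.comp_apply, Algebra.TensorProduct.includeLeft_apply, Algebra.TensorProduct.map_tmul,
      map_one, AlgEquiv.coe_toAlgHom]
    generalize Δ x = w
    induction w with
    | zero => simp
    | add a b ha hb => simp only [add_tmul, map_add, ha, hb]
    | tmul a b => simp
  have hQ : m2.comp iR = p23.comp Δ := AlgHom.ext fun x => by simp [m2, p23, iR]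
  have hC : m1.comp Δ = m2.comp Δ := AlgHom.ext fun x => by
    simp only [m1, m2, Δ, AlgHom.comp_apply, AlgEquiv.coe_toAlgHom, Bialgebra.comulAlgHom_apply]
    exact Coalgebra.coassoc_apply x
  have hcoc : post m1 D * post p12 D =
      post m2 D * (post p12 (post iL f) * post p23 D * (post p12 (post iL f))⁻¹) := by
    rw [hD]
    simp only [map_mul, map_inv, post_post, hX, hY, hZ, hP, hQ, hC]
    exact cocycle_id (G := WithConv (C →ₐ[R] B ⊗[R] (B ⊗[R] B))) _ _ _ _ _ _
  have hL12 : ∀ w, L3 (p12 w) = w := fun w => by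
    induction w with
    | zero => simp
    | add a b ha hb => simp only [map_add, ha, hb]
    | tmul x y => simp [L3, p12, iL, L₂_tmul, hI.1]
  have hL23 : ∀ w, L3 (p23 w) = iR (L₂ I w) := fun w => by simp [L3, p23, iR]
  have hLm2 : ∀ w, L3 (m2 w) = iL (L₂ I w) := fun w => by
    induction w with
    | zero => simp
    | add a b ha hb => simp only [map_add, ha, hb]
    | tmul x y =>
      simp only [L3, m2, Δ, iL, Algebra.TensorProduct.map_tmul, AlgHom.id_apply, Bialgebra.comulAlgHom_apply,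
        LinearMap.lTensor_tmul, L₂_comul hI, L₂_tmul, Algebra.TensorProduct.includeLeft_apply]
      rw [Algebra.algebraMap_eq_smul_one, tmul_smul, smul_tmul']
  have hLm1 : ∀ w, L3 (m1 w) = Δ (L₂ I w) := fun w => by
    induction w with
    | zero => simp
    | add a b ha hb => simp only [map_add, ha, hb]
    | tmul x y =>
      rw [L₂_tmul, map_smul]
      simp only [L3, m1, AlgHom.comp_apply, Algebra.TensorProduct.map_tmul, AlgHom.id_apply, AlgEquiv.coe_toAlgHom]
      generalize Δ x = z
      induction z with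
      | zero => simp
      | add a b ha hb => simp only [add_tmul, map_add, smul_add, ha, hb]
      | tmul a b => simp [L₂_tmul, tmul_smul]
  have hLg : ∀ y x, L3 (p12 y * x) = y * L3 x := by
    intro y x
    induction y with
    | zero => simp
    | add a b ha hb => simp only [map_add, add_mul, ha, hb]
    | tmul a b =>
      induction x with
      | zero => simp
      | add c d hc hd => simp only [mul_add, map_add, hc, hd]
      | tmul c d =>
        simp only [p12, Algebra.TensorProduct.map_tmul, AlgHom.id_apply, Algebra.TensorProduct.tmul_mul_tmul, L3,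
          LinearMap.lTensor_tmul, iL, L₂_mul]
  have key : post Δ b * D = post iL b * (post iL f * post iR b * (post iL f)⁻¹) := by
    apply lin_injective
    rw [lin_mul_near hJ (near_post _ hb) hDn, lin_mul_near hJ (near_post _ hb) (near_conj _ (near_post _ hb))]
    have h1 := congrArg lin hcoc
    rw [lin_mul_near hJ (near_post _ hDn) (near_post _ hDn),
      lin_mul_near hJ (near_post _ hDn) (near_conj _ (near_post _ hDn))] at h1
    refine WithConv.ext (LinearMap.ext fun c => ?_)
    have h2 := congrArg (fun g : WithConv (C →ₗ[R] B ⊗[R] (B ⊗[R] B)) => L3 (g.ofConv c)) h1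
    simp only [WithConv.ofConv_sub, WithConv.ofConv_add, LinearMap.sub_apply, LinearMap.add_apply, map_sub, map_add,
      lin_apply, post_apply, hL12, hLm2, hLm1] at h2
    rw [comp_lin_conj L3 p12 hLg (post iL f) (post p23 D) (post iR b)
      (fun c => by rw [post_apply, post_apply, hL23, hbc]), ← hbc] at h2
    have hone : L3 ((1 : WithConv (C →ₗ[R] B ⊗[R] (B ⊗[R] B))).ofConv c) = (1 : WithConv (C →ₗ[R] B ⊗[R] B)).ofConv c := by
      simp only [LinearMap.convOne_apply, Algebra.algebraMap_eq_smul_one, map_smul]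
      congr 1
      rw [show (1 : B ⊗[R] (B ⊗[R] B)) = p12 1 from (map_one p12).symm, hL12]
    rw [hone] at h2
    simp only [WithConv.ofConv_sub, WithConv.ofConv_add, LinearMap.sub_apply, LinearMap.add_apply, lin_apply, post_apply]
    exact h2
  change post Δ (b * f) = post iL (b * f) * post iR (b * f)
  rw [map_mul, map_mul, map_mul,
    show post Δ b = post iL b * (post iL f * post iR b * (post iL f)⁻¹) * D⁻¹ from eq_mul_inv_of_mul_eq key, hD]
  group

variable {J : Ideal R}

/-- Lifting homomorphisms into smooth groups along a square-zero ideal. -/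
theorem exists_lift [Algebra.Smooth R C] (hJ : J ^ 2 = ⊥) (hB : SGA3b.IsMultType R B)
    (φ₀ : ((R ⧸ J) ⊗[R] C) →ₐc[R ⧸ J] ((R ⧸ J) ⊗[R] B)) :
    ∃ φ : C →ₐc[R] B, ∀ c, φ₀ ((1 : R ⧸ J) ⊗ₜ[R] c) = (1 : R ⧸ J) ⊗ₜ[R] φ c := by
  haveI := isCocomm_of_isMultType hB
  obtain ⟨I, hI⟩ := exists_int hB
  let q : B →ₐ[R] (R ⧸ J) ⊗[R] B := Algebra.TensorProduct.includeRight
  have hqs : Function.Surjective q := fun z => by
    induction z with
    | zero => exact ⟨0, map_zero q⟩
    | add a b ha hb =>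
      obtain ⟨a, rfl⟩ := ha
      obtain ⟨b, rfl⟩ := hb
      exact ⟨a + b, map_add q a b⟩
    | tmul r b =>
      obtain ⟨r, rfl⟩ := Ideal.Quotient.mk_surjective r
      refine ⟨r • b, ?_⟩
      change (1 : R ⧸ J) ⊗ₜ[R] (r • b) = _
      rw [tmul_smul, smul_tmul', ← Algebra.algebraMap_eq_smul_one]
      rfl
  have hker : ∀ {M : Type u} [CommRing M] [Algebra R M] (x : M), (1 : R ⧸ J) ⊗ₜ[R] x = 0 → x ∈ J.map (algebraMap R M) :=
    fun x h => by
      have h1 := mem_smul_top_of_one_tmul' J h
      rw [Ideal.smul_top_eq_map] at h1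
      exact h1
  have hkn : IsNilpotent (RingHom.ker (q : B →+* (R ⧸ J) ⊗[R] B)) := by
    refine ⟨2, le_bot_iff.1 ((Ideal.pow_right_mono (fun x hx => hker x hx) 2).trans ?_)⟩
    rw [← Ideal.map_pow, hJ, Ideal.map_bot]
  let g₀ : C →ₐ[R] (R ⧸ J) ⊗[R] B :=
    ((φ₀ : (R ⧸ J) ⊗[R] C →ₐ[R ⧸ J] (R ⧸ J) ⊗[R] B).restrictScalars R).comp Algebra.TensorProduct.includeRight
  let f : C →ₐ[R] B := Algebra.FormallySmooth.liftOfSurjective g₀ q hqs hkn
  have hfq : ∀ c, (1 : R ⧸ J) ⊗ₜ[R] f c = φ₀ ((1 : R ⧸ J) ⊗ₜ[R] c) :=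
    fun c => AlgHom.congr_fun (Algebra.FormallySmooth.comp_liftOfSurjective g₀ q hqs hkn) c
  obtain ⟨b, hb, hmult⟩ := exists_correction hJ hI (toConv f) fun c => by
    refine hker _ ?_
    rw [tmul_sub, sub_eq_zero]
    apply (Model.eT (AlgEquiv.refl : (R ⧸ J) ⊗[R] B ≃ₐ[R ⧸ J] _) AlgEquiv.refl).injective
    simp only [post_apply, AlgHom.convMul_apply, ofConv_toConv, Bialgebra.comulAlgHom_apply]
    rw [← DLift.comul_one_tmul, hfq, ← CoalgHomClass.map_comp_comul_apply φ₀, DLift.comul_one_tmul]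
    generalize Coalgebra.comul (R := R) c = w
    induction w with
    | zero => simp
    | add x y hx hy => simp only [tmul_add, map_add, hx, hy]
    | tmul x y => simp [Model.eT_tmul, post_apply, hfq]
  obtain ⟨φ, hφ⟩ := exists_bialgHom _ hmult
  refine ⟨φ, fun c => ?_⟩
  have h1 : (post q (b * toConv f)).ofConv c = (post q (toConv f)).ofConv c := by
    have hb1 : post q b = 1 := WithConv.ext (AlgHom.ext fun d => by
      have h2 : q (b.ofConv d - algebraMap R B (Coalgebra.counit (R := R) d)) = 0 := by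
        have h3 : J.map (algebraMap R B) ≤ RingHom.ker (q : B →+* (R ⧸ J) ⊗[R] B) :=
          Ideal.map_le_iff_le_comap.2 fun a ha => by
            rw [Ideal.mem_comap, RingHom.mem_ker, RingHom.coe_coe, AlgHom.commutes,
              IsScalarTower.algebraMap_apply R (R ⧸ J) ((R ⧸ J) ⊗[R] B), Ideal.Quotient.algebraMap_eq,
              Ideal.Quotient.eq_zero_iff_mem.2 ha, map_zero]
        exact h3 (near_iff.1 hb d)
      rw [map_sub, sub_eq_zero, AlgHom.commutes] at h2
      exact h2)
    rw [map_mul, hb1]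
    exact congrArg (fun g : WithConv (C →ₐ[R] _) => g.ofConv c) (one_mul (post q (toConv f)))
  rw [hφ, ← hfq]
  exact h1.symm

/-- Lifting relative to a homomorphism of the sources. -/
theorem exists_lift_rel [Algebra.Smooth R C] (hJ : J ^ 2 = ⊥) {A₂ : Type u} [CommRing A₂] [HopfAlgebra R A₂]
    (hB : SGA3b.IsMultType R B) (h₂ : SGA3b.IsMultType R A₂) (α : A₂ →ₐc[R] B) (β : C →ₐc[R] B)
    (γ₀ : ((R ⧸ J) ⊗[R] C) →ₐc[R ⧸ J] ((R ⧸ J) ⊗[R] A₂))
    (h0 : ∀ c, Algebra.TensorProduct.map (AlgHom.id (R ⧸ J) (R ⧸ J)) (α : A₂ →ₐ[R] B) (γ₀ ((1 : R ⧸ J) ⊗ₜ[R] c)) =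
      (1 : R ⧸ J) ⊗ₜ[R] β c) :
    ∃ γ : C →ₐc[R] A₂, (∀ c, γ₀ ((1 : R ⧸ J) ⊗ₜ[R] c) = (1 : R ⧸ J) ⊗ₜ[R] γ c) ∧ ∀ c, α (γ c) = β c := by
  haveI := isCocomm_of_isMultType hB
  obtain ⟨I, hI⟩ := exists_int hB
  obtain ⟨φ, hφ⟩ := exists_lift hJ h₂ γ₀
  let β' : WithConv (C →ₐ[R] B) := toConv ((α.comp φ : C →ₐc[R] B) : C →ₐ[R] B)
  let β₁ : WithConv (C →ₐ[R] B) := toConv (β : C →ₐ[R] B)
  obtain ⟨η, hη⟩ : ∃ η, η = β₁ * β'⁻¹ := ⟨_, rfl⟩
  have hηn : Near J η := hη ▸ near_mul_inv fun c => by
    have h1 := h0 c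
    rw [hφ, Algebra.TensorProduct.map_tmul] at h1
    have h2 := mem_smul_top_of_one_tmul' J (show (1 : R ⧸ J) ⊗ₜ[R] (β c - α (φ c)) = 0 by
      rw [tmul_sub, ← h1]; exact sub_self _)
    rw [Ideal.smul_top_eq_map] at h2
    exact h2
  obtain ⟨ξ, hξ, hξc⟩ := exists_int_point hJ I hI.1 hηn
  let iL : B →ₐ[R] B ⊗[R] B := Algebra.TensorProduct.includeLeft
  let iR : B →ₐ[R] B ⊗[R] B := Algebra.TensorProduct.includeRight
  let Δ := Bialgebra.comulAlgHom R B
  have hmulη : post Δ η = post iL η * (post iL β' * post iR η * (post iL β')⁻¹) := by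
    have e1 : post Δ β₁ = post iL β₁ * post iR β₁ := bialgHom_mult β
    have e2 : post Δ β' = post iL β' * post iR β' := bialgHom_mult (α.comp φ)
    rw [hη, map_mul, map_mul, map_mul, map_inv, map_inv, map_inv, e1, e2]
    group
  obtain ⟨ξB, hξB⟩ : ∃ ξB, ξB = post (Algebra.ofId R B) ξ := ⟨_, rfl⟩
  have hξη : ξB = η * (β' * ξB * β'⁻¹) := by
    subst hξB
    apply lin_injective
    rw [lin_mul_near hJ hηn (near_conj _ (near_post _ hξ))]
    refine WithConv.ext (LinearMap.ext fun c => ?_)
    have h1 := congrArg lin hmulη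
    rw [lin_mul_near hJ (near_post _ hηn) (near_conj _ (near_post _ hηn))] at h1
    have h2 := congrArg (fun g : WithConv (C →ₗ[R] B ⊗[R] B) => L₂ I (g.ofConv c)) h1
    simp only [WithConv.ofConv_sub, WithConv.ofConv_add, LinearMap.sub_apply, LinearMap.add_apply, map_sub, map_add,
      lin_apply, post_apply] at h2
    rw [comp_lin_conj (L₂ I) iL (L₂_mul I) β' (post iR η) (post (Algebra.ofId R B) ξ)
      (fun c => by
        rw [post_apply, post_apply, hξc]
        change algebraMap R B (I (η.ofConv c)) = L₂ I ((1 : B) ⊗ₜ[R] η.ofConv c)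
        rw [L₂_tmul, Algebra.algebraMap_eq_smul_one])] at h2
    rw [show L₂ I (iL (η.ofConv c)) = η.ofConv c by
        change L₂ I (η.ofConv c ⊗ₜ[R] (1 : B)) = _
        rw [L₂_tmul, hI.1, one_smul],
      show L₂ I (Δ (η.ofConv c)) = algebraMap R B (I (η.ofConv c)) from L₂_comul hI _] at h2
    have hone : L₂ I ((1 : WithConv (C →ₗ[R] B ⊗[R] B)).ofConv c) = (1 : WithConv (C →ₗ[R] B)).ofConv c := by
      simp only [LinearMap.convOne_apply, Algebra.algebraMap_eq_smul_one, map_smul]
      congr 1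
      rw [Algebra.TensorProduct.one_def, L₂_tmul, hI.1, one_smul]
    rw [hone] at h2
    simp only [WithConv.ofConv_sub, WithConv.ofConv_add, LinearMap.sub_apply, LinearMap.add_apply, lin_apply, post_apply, hξc]
    exact h2
  obtain ⟨ξ₂, hξ₂⟩ : ∃ ξ₂, ξ₂ = post (Algebra.ofId R A₂) ξ := ⟨_, rfl⟩
  let φ₁ : WithConv (C →ₐ[R] A₂) := toConv (φ : C →ₐ[R] A₂)
  obtain ⟨γ, hγ⟩ := exists_bialgHom (ξ₂ * φ₁ * ξ₂⁻¹) (by
    have e1 : post (Bialgebra.comulAlgHom R A₂) φ₁ =
        post (Algebra.TensorProduct.includeLeft : A₂ →ₐ[R] A₂ ⊗[R] A₂) φ₁ * post Algebra.TensorProduct.includeRight φ₁ :=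
      bialgHom_mult φ
    simp only [map_mul, map_inv, e1, hξ₂, post_const]
    group)
  refine ⟨γ, fun c => ?_, fun c => ?_⟩
  · rw [hφ, hγ]
    let q : A₂ →ₐ[R] (R ⧸ J) ⊗[R] A₂ := Algebra.TensorProduct.includeRight
    have hb1 : post q ξ₂ = 1 := by
      rw [hξ₂, post_post]
      refine WithConv.ext (AlgHom.ext fun d => ?_)
      have h2 : q.comp (Algebra.ofId R A₂) = ((Algebra.ofId (R ⧸ J) ((R ⧸ J) ⊗[R] A₂)).restrictScalars R).comp (Ideal.Quotient.mkₐ R J) :=
        AlgHom.ext fun r => by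
          change q (algebraMap R A₂ r) = algebraMap (R ⧸ J) _ (algebraMap R (R ⧸ J) r)
          rw [AlgHom.commutes, ← IsScalarTower.algebraMap_apply]
      rw [post_apply, h2, AlgHom.comp_apply, AlgHom.convOne_apply]
      have h3 : Ideal.Quotient.mk J (ξ.ofConv d) = Ideal.Quotient.mk J (Coalgebra.counit (R := R) d) := by
        refine Ideal.Quotient.eq.2 ?_
        have h4 := near_iff.1 hξ d
        rwa [Algebra.algebraMap_self, Ideal.map_id, RingHom.id_apply] at h4
      change algebraMap (R ⧸ J) _ (Ideal.Quotient.mk J (ξ.ofConv d)) = _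
      rw [h3, ← Ideal.Quotient.algebraMap_eq, ← IsScalarTower.algebraMap_apply]
    have h1 : post q (ξ₂ * φ₁ * ξ₂⁻¹) = post q φ₁ := by
      rw [map_mul, map_mul, map_inv, hb1]
      exact conj_one' (post q φ₁)
    exact (congrArg (fun g : WithConv (C →ₐ[R] _) => g.ofConv c) h1).symm
  · rw [hγ]
    have h1 : post (α : A₂ →ₐ[R] B) (ξ₂ * φ₁ * ξ₂⁻¹) = β₁ := by
      simp only [map_mul, map_inv, hξ₂, post_const, ← hξB]
      rw [show post (α : A₂ →ₐ[R] B) φ₁ = β' from rfl]
      have h2 : ξB * β' * ξB⁻¹ = η * β' := by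
        rw [show η = ξB * (β' * ξB * β'⁻¹)⁻¹ from eq_mul_inv_of_mul_eq hξη.symm]
        group
      rw [h2, hη, inv_mul_cancel_right]
    exact congrArg (fun g : WithConv (C →ₐ[R] B) => g.ofConv c) h1

end SmoothLift

end Groth.Agent.SGA3b53
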