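import Groth.Agent.SGA3b53.NormalDiag
import Groth.Agent.SGA3b53.FieldSplit
import Mathlib

/-!
The smallest splitting field of a group of multiplicative type at the generic point.
-/

set_option autoImplicit false
set_option linter.unusedSectionVars false
set_option linter.style.haveILetI false
universe u
open TensorProduct

noncomputable section

namespace Groth.Agent.SGA3b53.Normal

variable {R : Type u} [CommRing R] {A : Type u} [CommRing A] [HopfAlgebra R A]
variable {K : Type u} [Field K] [Algebra R K]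

/-- The coordinate of a base change along a functional. -/
def cf (E : Type u) [CommRing E] [Algebra R E] [Algebra K E] [IsScalarTower R K E] (φ : A →ₗ[R] K) : E ⊗[R] A →ₗ[E] E :=
  (((Algebra.linearMap K E).restrictScalars R).comp φ).liftBaseChange E

theorem cf_tmul (E : Type u) [CommRing E] [Algebra R E] [Algebra K E] [IsScalarTower R K E] (φ : A →ₗ[R] K) (e : E) (a : A) :
    cf E φ (e ⊗ₜ[R] a) = e * algebraMap K E (φ a) := by
  simp [cf]

theorem cf_map {E E' : Type u} [CommRing E] [Algebra R E] [Algebra K E] [IsScalarTower R K E] [CommRing E'] [Algebra R E']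
    [Algebra K E'] [IsScalarTower R K E'] (τ : E →ₐ[K] E') (φ : A →ₗ[R] K) (z : E ⊗[R] A) :
    cf E' φ (Algebra.TensorProduct.map (τ.restrictScalars R) (AlgHom.id R A) z) = τ (cf E φ z) := by
  induction z with
  | zero => simp
  | add a b ha hb => simp only [map_add, ha, hb]
  | tmul e a => simp [cf_tmul, τ.commutes]

/-- Coordinates in a subfield give elements over the subfield. -/
theorem mem_range_of_cf {Ω : Type u} [Field Ω] [Algebra R Ω] [Algebra K Ω] [IsScalarTower R K Ω]
    (E : IntermediateField K Ω) {g : Ω ⊗[R] A} (h : ∀ φ : A →ₗ[R] K, cf Ω φ g ∈ E) :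
    ∃ z : E ⊗[R] A, Algebra.TensorProduct.map (E.val.restrictScalars R) (AlgHom.id R A) z = g := by
  classical
  let b := Module.Free.chooseBasis K (K ⊗[R] A)
  let ι₀ : A →ₗ[R] K ⊗[R] A := TensorProduct.mk R K A 1
  let φ := fun j => ((b.coord j).restrictScalars R).comp ι₀
  let κ : K ⊗[R] A →ₐ[R] E ⊗[R] A := Algebra.TensorProduct.map ((Algebra.ofId K E).restrictScalars R) (AlgHom.id R A)
  let ξ : E ⊗[R] A →ₐ[R] Ω ⊗[R] A := Algebra.TensorProduct.map (E.val.restrictScalars R) (AlgHom.id R A)
  have key : ∀ (w : Ω ⊗[R] A), ∃ s : Finset _, ∀ t, s ⊆ t → w = ∑ j ∈ t, cf Ω (φ j) w • ξ (κ (b j)) := by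
    intro w
    induction w with
    | zero => exact ⟨∅, fun t _ => by simp⟩
    | add x y hx hy =>
      obtain ⟨s, hs⟩ := hx
      obtain ⟨s', hs'⟩ := hy
      refine ⟨s ∪ s', fun t ht => ?_⟩
      conv_lhs => rw [hs t (Finset.union_subset_left ht), hs' t (Finset.union_subset_right ht)]
      simp [add_smul, Finset.sum_add_distrib]
    | tmul c a =>
      refine ⟨(b.repr (ι₀ a)).support, fun t ht => ?_⟩
      have h1 : ι₀ a = ∑ j ∈ t, b.repr (ι₀ a) j • b j := by
        conv_lhs => rw [← b.linearCombination_repr (ι₀ a)]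
        rw [Finsupp.linearCombination_apply, Finsupp.sum_of_support_subset _ ht _ (by simp)]
      have hmap : ∀ z : K ⊗[R] A, ξ (κ z) = Algebra.TensorProduct.map ((Algebra.ofId K Ω).restrictScalars R) (AlgHom.id R A) z := fun z => by
        induction z with
        | zero => simp
        | add p q hp hq => simp only [map_add, hp, hq]
        | tmul k a => simp [ξ, κ]
      have h2 : ∀ (k : K) (z : K ⊗[R] A), ξ (κ (k • z)) = algebraMap K Ω k • ξ (κ z) := fun k z => by
        rw [hmap, hmap]
        induction z with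
        | zero => simp
        | add p q hp hq => simp only [smul_add, map_add, hp, hq]
        | tmul k' a => simp [Algebra.smul_def]
      have h3 : c ⊗ₜ[R] a = c • ξ (κ (ι₀ a)) := by
        simp [ξ, κ, ι₀, TensorProduct.smul_tmul']
      conv_lhs => rw [h3, h1, map_sum, map_sum, Finset.smul_sum]
      refine Finset.sum_congr rfl fun j _ => ?_
      rw [h2, smul_smul, cf_tmul]
      rfl
  obtain ⟨s, hs⟩ := key g
  refine ⟨∑ j ∈ s, (⟨cf Ω (φ j) g, h _⟩ : E) • κ (b j), ?_⟩
  rw [map_sum]
  conv_rhs => rw [hs s subset_rfl]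
  refine Finset.sum_congr rfl fun j _ => ?_
  have hsm : ∀ (e : E) (z : E ⊗[R] A), ξ (e • z) = (e : Ω) • ξ z := fun e z => by
    induction z with
    | zero => simp
    | add p q hp hq => simp only [smul_add, map_add, hp, hq]
    | tmul e' a => simp [ξ, TensorProduct.smul_tmul']
  exact hsm _ _

/-- A group split over a faithfully flat algebra by group-like elements of the base is diagonalisable. -/
theorem isDiag_of_grouplikes {L : Type u} [CommRing L] {B : Type u} [CommRing B] [HopfAlgebra L B] (T : Type u)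
    [CommRing T] [Algebra L T] [Module.FaithfullyFlat L T] {M : Type u} [CommGroup M]
    (ρ : T ⊗[L] B ≃ₐc[T] MonoidAlgebra T M) (γ : M → B)
    (hγ : ∀ m, ρ ((1 : T) ⊗ₜ[L] γ m) = MonoidAlgebra.of T M m) : SGA3b.IsDiag L B := by
  classical
  have hT : IsCover L fun _ : PUnit.{u + 1} => T := ⟨fun _ => inferInstance, fun p => by
    obtain ⟨q, hq⟩ := PrimeSpectrum.comap_surjective_of_faithfullyFlat (A := L) (B := T) p
    exact ⟨PUnit.unit, q, hq⟩⟩
  have huniq : ∀ a b : B, (1 : T) ⊗ₜ[L] a = (1 : T) ⊗ₜ[L] b → a = b := fun a b hab =>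
    sub_eq_zero.1 (hT.eq_zero fun _ => by rw [tmul_sub, hab, sub_self])
  have hgl : ∀ m, IsGroupLikeElem L (γ m) := fun m => hT.isGroupLike_of_forall fun _ => by
    have h1 : IsGroupLikeElem T (ρ ((1 : T) ⊗ₜ[L] γ m)) := by
      rw [hγ]; exact MonoidAlgebra.isGroupLikeElem_of (R := T) m
    have h2 := h1.map ρ.symm
    rwa [BialgEquiv.symm_apply_apply] at h2
  let γ' : M →* B :=
    { toFun := γ
      map_one' := huniq _ _ (EquivLike.injective ρ (by rw [hγ, map_one, ← Algebra.TensorProduct.one_def, map_one]))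
      map_mul' := fun a b => huniq _ _ (EquivLike.injective ρ (by
        rw [hγ, ← one_mul (1 : T), ← Algebra.TensorProduct.tmul_mul_tmul, map_mul ρ, hγ, hγ, map_mul])) }
  obtain ⟨θ, hθ⟩ := exists_bialgHom_of_grouplike γ' hgl
  let e := (monoidAlgebraBC L T M).trans ρ.symm
  have he : ((θ : MonoidAlgebra L M →ₗ[L] B).lTensor T : _ → _) = e := by
    funext w
    apply EquivLike.injective ρ
    change _ = ρ (ρ.symm (monoidAlgebraBC L T M w))
    rw [BialgEquiv.apply_symm_apply]
    induction w with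
    | zero => simp
    | add a b ha hb => simp only [map_add, ha, hb]
    | tmul t c =>
      induction c using MonoidAlgebra.induction_linear with
      | zero => simp
      | add f g hf hg => simp only [map_add, tmul_add, hf, hg]
      | single m r =>
        rw [LinearMap.lTensor_tmul]
        change ρ (t ⊗ₜ[L] θ (MonoidAlgebra.single m r)) = _
        rw [hθ, TensorProduct.tmul_smul, TensorProduct.smul_tmul',
          show (r • t) ⊗ₜ[L] γ' m = (r • t) • ((1 : T) ⊗ₜ[L] γ m) from
            (by rw [TensorProduct.smul_tmul', smul_eq_mul, mul_one]; rfl), map_smul, hγ]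
        refine MonoidAlgebra.ext (Finsupp.ext fun n => ?_)
        rw [show t ⊗ₜ[L] MonoidAlgebra.single m r = t • ((1 : T) ⊗ₜ[L] MonoidAlgebra.single m r) by
          rw [TensorProduct.smul_tmul', smul_eq_mul, mul_one], map_smul, MonoidAlgebra.coeff_smul, Finsupp.smul_apply,
          MonoidAlgebra.coeff_smul, Finsupp.smul_apply, monoidAlgebraBC_one_tmul]
        by_cases hmn : m = n <;> simp [hmn, Algebra.smul_def, mul_comm]
  refine ⟨M, inferInstance, ⟨(BialgEquiv.ofBijective θ
    ⟨hT.injective (θ : MonoidAlgebra L M →ₗ[L] B) fun _ => ?_,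
      hT.surjective (θ : MonoidAlgebra L M →ₗ[L] B) fun _ => ?_⟩).symm⟩⟩
  · rw [he]; exact EquivLike.injective e
  · rw [he]; exact EquivLike.surjective e

/-- The field generated by the coordinates of the characters. -/
theorem exists_splitting_field (hft : Algebra.FiniteType R A) (h : SGA3b.IsMultType R A) :
    ∃ (L : Type u) (_ : Field L) (_ : Algebra K L) (_ : Algebra R L) (_ : IsScalarTower R K L),
      Module.Finite K L ∧ Algebra.IsSeparable K L ∧ SGA3b.IsDiag L (L ⊗[R] A) ∧
      ∀ (F : Type u) [Field F] [Algebra K F] [Algebra R F] [IsScalarTower R K F], SGA3b.IsDiag F (F ⊗[R] A) →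
        ∀ σ : L →ₐ[K] AlgebraicClosure F, ∀ x, σ x ∈ Set.range (algebraMap F (AlgebraicClosure F)) := by
  let Ω := AlgebraicClosure K
  let G : Set Ω := {x | ∃ (φ : A →ₗ[R] K) (g : Ω ⊗[R] A), IsGroupLikeElem Ω g ∧ cf Ω φ g = x}
  let L := IntermediateField.adjoin K G
  have hmem : ∀ (F : Type u) [Field F] [Algebra K F] [Algebra R F] [IsScalarTower R K F], SGA3b.IsDiag F (F ⊗[R] A) →
      ∀ σ : L →ₐ[K] AlgebraicClosure F, ∀ x, σ x ∈ Set.range (algebraMap F (AlgebraicClosure F)) := by
    intro F _ _ _ _ hF σ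
    let Ω' := AlgebraicClosure F
    letI : Algebra L Ω' := σ.toRingHom.toAlgebra
    haveI : IsScalarTower K L Ω' := IsScalarTower.of_algebraMap_eq fun k => (σ.commutes k).symm
    haveI : Algebra.IsAlgebraic L Ω := Algebra.IsAlgebraic.tower_top (K := K) L
    let τ : Ω →ₐ[K] Ω' := (IsAlgClosed.lift (R := L) (S := Ω) (M := Ω')).restrictScalars K
    have hτ : ∀ y : L, τ (y : Ω) = σ y := fun y => (IsAlgClosed.lift (R := L) (S := Ω) (M := Ω')).commutes y
    let S : IntermediateField K Ω := (IsScalarTower.toAlgHom K F Ω').fieldRange.comap τ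
    suffices L ≤ S by
      intro x
      obtain ⟨y, hy⟩ := this x.2
      exact ⟨y, hy.trans (hτ x)⟩
    rw [IntermediateField.adjoin_le_iff]
    rintro _ ⟨φ, g, hg, rfl⟩
    obtain ⟨M, _, ⟨ρ⟩⟩ := hF
    obtain ⟨ρ', hρ'⟩ := exists_split_map ((IsScalarTower.toAlgHom K F Ω').restrictScalars R) ρ
    obtain ⟨m, hm⟩ := exists_eq_single_of_connected (fun e he => IsIdempotentElem.iff_eq_zero_or_one.1 he)
      ((isGroupLike_map (τ.restrictScalars R) hg).map ρ')
    have h1 : Algebra.TensorProduct.map ((IsScalarTower.toAlgHom K F Ω').restrictScalars R) (AlgHom.id R A)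
        (ρ.symm (MonoidAlgebra.of F M m)) = Algebra.TensorProduct.map (τ.restrictScalars R) (AlgHom.id R A) g := by
      apply EquivLike.injective ρ'
      rw [hρ', hm]
      erw [BialgEquiv.apply_symm_apply]
      simp [MonoidAlgebra.mapRingHom]
    refine ⟨cf F φ (ρ.symm (MonoidAlgebra.of F M m)), ?_⟩
    have h2 := congrArg (cf Ω' φ) h1
    rwa [cf_map, cf_map] at h2
  obtain ⟨k', _, _, _, _, hd⟩ := isotrivial_of_field (K := K) (A := K ⊗[R] A) inferInstance (isMultType_baseChange K h)
  letI : Algebra R k' := ((algebraMap K k').comp (algebraMap R K)).toAlgebra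
  haveI : IsScalarTower R K k' := IsScalarTower.of_algebraMap_eq fun _ => rfl
  obtain ⟨M, _, -, ⟨ρ₀⟩⟩ := hd
  let ρ := (cancelBC R K k' A).symm.trans ρ₀
  have hd' : SGA3b.IsDiag k' (k' ⊗[R] A) := ⟨M, inferInstance, ⟨ρ⟩⟩
  have hσ : Nonempty (L →ₐ[K] k') := by
    let σ : L →ₐ[K] AlgebraicClosure k' := IsAlgClosed.lift (R := K) (S := L) (M := AlgebraicClosure k')
    have hr : σ.range ≤ (IsScalarTower.toAlgHom K k' (AlgebraicClosure k')).range := by
      rintro _ ⟨x, rfl⟩
      exact hmem k' hd' σ x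
    exact ⟨((AlgEquiv.ofInjective (IsScalarTower.toAlgHom K k' (AlgebraicClosure k'))
      (FaithfulSMul.algebraMap_injective k' (AlgebraicClosure k'))).symm.toAlgHom).comp
        ((Subalgebra.inclusion hr).comp σ.rangeRestrict)⟩
  obtain ⟨σ⟩ := hσ
  haveI : Module.Finite K L := Module.Finite.of_injective σ.toLinearMap σ.toRingHom.injective
  haveI : Algebra.IsSeparable K L := Algebra.IsSeparable.of_algHom K k' σ
  refine ⟨L, inferInstance, inferInstance, inferInstance, inferInstance, inferInstance, inferInstance, ?_, hmem⟩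
  let jk : k' →ₐ[K] Ω := IsAlgClosed.lift (R := K) (S := k') (M := Ω)
  obtain ⟨ρΩ, hρΩ⟩ := exists_split_map (jk.restrictScalars R) ρ
  haveI : IsScalarTower R L Ω := IsScalarTower.of_algebraMap_eq fun r => IsScalarTower.algebraMap_apply R K Ω r
  let ρL : Ω ⊗[L] (L ⊗[R] A) ≃ₐc[Ω] MonoidAlgebra Ω M := (cancelBC R L Ω A).trans ρΩ
  have hh : ∀ m, ∃ z : L ⊗[R] A, Algebra.TensorProduct.map (L.val.restrictScalars R) (AlgHom.id R A) z =
      ρΩ.symm (MonoidAlgebra.of Ω M m) := fun m => mem_range_of_cf L fun φ =>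
    IntermediateField.subset_adjoin K G ⟨φ, _, (MonoidAlgebra.isGroupLikeElem_of (R := Ω) m).map ρΩ.symm, rfl⟩
  choose γ hγ using hh
  refine isDiag_of_grouplikes Ω ρL γ fun m => ?_
  have h1 : ∀ z : L ⊗[R] A, cancelBC R L Ω A ((1 : Ω) ⊗ₜ[L] z) =
      Algebra.TensorProduct.map (L.val.restrictScalars R) (AlgHom.id R A) z := fun z => by
    induction z with
    | zero => simp
    | add a b ha hb => simp only [map_add, tmul_add, ha, hb]
    | tmul t a =>
      rw [cancelBC_tmul, Algebra.smul_def, mul_one, Algebra.TensorProduct.map_tmul]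
      rfl
  change ρΩ (cancelBC R L Ω A _) = _
  rw [h1, hγ]
  exact BialgEquiv.apply_symm_apply ρΩ _

end Groth.Agent.SGA3b53.Normal
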