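import Groth.Agent.SGA3b53.Stage
import Groth.Agent.SGA3b53.SepLift
import Mathlib

/-!
Spreading out of splittings.
-/

set_option autoImplicit false
set_option linter.unusedSectionVars false
set_option linter.style.haveILetI false
universe u v w
open TensorProduct CategoryTheory

noncomputable section

namespace Groth.Agent.SGA3b53

open Henz21

variable {R : Type u} [CommRing R] {A : Type u} [CommRing A] [HopfAlgebra R A] {K : Type u} [CommRing K] [Algebra R K]
variable {M : Type u} [CommGroup M]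

theorem ext₁_surjective {S : Type u} [CommRing S] [Algebra R S] (φ : A →ₐ[R] MonoidAlgebra S M)
    (G : Set M) (hG : Submonoid.closure G = ⊤) (h : ∀ g ∈ G, ∃ x, ext₁ φ x = MonoidAlgebra.of S M g) :
    Function.Surjective (ext₁ φ) := by
  have h1 : ∀ m : M, MonoidAlgebra.of S M m ∈ (ext₁ φ).range := by
    intro m
    have hm : m ∈ Submonoid.closure G := hG ▸ Submonoid.mem_top m
    induction hm using Submonoid.closure_induction with
    | mem g hg => exact h g hg
    | one => rw [map_one]; exact one_mem _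
    | mul a b _ _ ha hb => rw [map_mul]; exact mul_mem ha hb
  intro y
  induction y using MonoidAlgebra.induction_linear with
  | zero => exact ⟨0, map_zero _⟩
  | add a b ha hb =>
    obtain ⟨x, rfl⟩ := ha
    obtain ⟨x', rfl⟩ := hb
    exact ⟨x + x', map_add _ _ _⟩
  | single m s =>
    obtain ⟨x, hx⟩ := h1 m
    exact ⟨s • x, by rw [map_smul, show ext₁ φ x = _ from hx]; simp⟩

theorem compat_map (ρ : H R K ⊗[R] A ≃ₐc[H R K] MonoidAlgebra (H R K) M) {i j : Pt R K} (a : i ⟶ j)
    (φ : A →ₐ[R] MonoidAlgebra i.S M)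
    (h : ∀ x, MonoidAlgebra.mapAlgHom M (H.incl i) (ext₁ φ x) = ρ (Algebra.TensorProduct.map (H.incl i) (AlgHom.id R A) x))
    (z : j.S ⊗[R] A) : MonoidAlgebra.mapAlgHom M (H.incl j) (ext₁ ((MonoidAlgebra.mapAlgHom M a.φ).comp φ) z) =
      ρ (Algebra.TensorProduct.map (H.incl j) (AlgHom.id R A) z) := by
  induction z with
  | zero => simp
  | add u v hu hv => simp only [map_add, hu, hv]
  | tmul s c =>
    rw [ext₁, Algebra.TensorProduct.lift_tmul, map_mul, Algebra.TensorProduct.map_tmul, AlgHom.id_apply,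
      show (H.incl j) s ⊗ₜ[R] c = (H.incl j) s • ((1 : H R K) ⊗ₜ[R] c) by simp [TensorProduct.smul_tmul'],
      map_smul, Algebra.smul_def]
    congr 1
    · simp [MonoidAlgebra.mapAlgHom, Algebra.ofId_apply]
    · have h1 := h ((1 : i.S) ⊗ₜ[R] c)
      rw [ext₁, Algebra.TensorProduct.lift_tmul, map_one, one_mul, Algebra.TensorProduct.map_tmul, map_one,
        AlgHom.id_apply] at h1
      rw [← h1]
      refine MonoidAlgebra.ext (Finsupp.ext fun m => ?_)
      simp [MonoidAlgebra.mapAlgHom]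

variable [Algebra.FinitePresentation R A] [Monoid.FG M]

theorem exists_stage_point (ρ : H R K ⊗[R] A ≃ₐc[H R K] MonoidAlgebra (H R K) M) :
    ∃ (i : Pt R K) (φ : A →ₐ[R] MonoidAlgebra i.S M), ∀ x,
      MonoidAlgebra.mapAlgHom M (H.incl i) (ext₁ φ x) = ρ (Algebra.TensorProduct.map (H.incl i) (AlgHom.id R A) x) := by
  classical
  obtain ⟨n, f, hf, hker⟩ := Algebra.FinitePresentation.out (R := R) (A := A)
  let φH : A →ₐ[R] MonoidAlgebra (H R K) M := (((ρ : H R K ⊗[R] A →ₐc[H R K] MonoidAlgebra (H R K) M) : H R K ⊗[R] A →ₐ[H R K] MonoidAlgebra (H R K) M).restrictScalars R).comp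
    Algebra.TensorProduct.includeRight
  choose ι w hw using fun j => exists_monoidAlgebra_rep (φH (f (MvPolynomial.X j)))
  obtain ⟨i, hi⟩ := IsFiltered.sup_objs_exists (Finset.univ.image ι)
  let g : ∀ j, ι j ⟶ i := fun j => (hi (Finset.mem_image_of_mem ι (Finset.mem_univ j))).some
  let Φ : MvPolynomial (Fin n) R →ₐ[R] MonoidAlgebra i.S M :=
    MvPolynomial.aeval fun j => MonoidAlgebra.mapAlgHom M (g j).φ (w j)
  have hΦ : (MonoidAlgebra.mapAlgHom M (H.incl i)).comp Φ = φH.comp f := by
    refine MvPolynomial.algHom_ext fun j => ?_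
    simp only [AlgHom.comp_apply, Φ, MvPolynomial.aeval_X, ← hw]
    refine MonoidAlgebra.ext (Finsupp.ext fun m => ?_)
    simp [MonoidAlgebra.mapAlgHom]
  obtain ⟨F, hF⟩ := hker
  obtain ⟨k, a, ha⟩ := stage_forall (i := i) F (fun r k a => MonoidAlgebra.mapAlgHom M a.φ (Φ r) = 0)
    (fun r k l a b hr => by
      have e : MonoidAlgebra.mapAlgHom M (a ≫ b).φ (Φ r) = MonoidAlgebra.mapAlgHom M b.φ (MonoidAlgebra.mapAlgHom M a.φ (Φ r)) :=
        MonoidAlgebra.ext (Finsupp.ext fun m => by simp [MonoidAlgebra.mapAlgHom])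
      rw [e, hr, map_zero])
    (fun r hr => stage_zero_monoidAlgebra _ (by
      rw [← AlgHom.comp_apply, hΦ, AlgHom.comp_apply,
        show f r = 0 from RingHom.mem_ker.1 (hF ▸ Ideal.subset_span hr), map_zero]))
  have hle : RingHom.ker f.toRingHom ≤ RingHom.ker ((MonoidAlgebra.mapAlgHom M a.φ).comp Φ).toRingHom :=
    hF ▸ Ideal.span_le.2 fun r hr => ha r hr
  let e : (MvPolynomial (Fin n) R ⧸ RingHom.ker f.toRingHom) ≃ₐ[R] A := Ideal.quotientKerAlgEquivOfSurjective hf
  let φ : A →ₐ[R] MonoidAlgebra k.S M := (Ideal.Quotient.liftₐ _ _ hle).comp (e.symm : A →ₐ[R] _)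
  have hφ : ∀ p, φ (f p) = MonoidAlgebra.mapAlgHom M a.φ (Φ p) := by
    intro p
    have h1 : e.symm (f p) = Ideal.Quotient.mk _ p := by
      rw [AlgEquiv.symm_apply_eq]
      rfl
    simp only [φ, AlgHom.comp_apply, AlgEquiv.coe_toAlgHom, h1]
    rfl
  refine ⟨k, φ, fun x => ?_⟩
  induction x with
  | zero => simp
  | add p q hp hq => simp only [map_add, hp, hq]
  | tmul s b =>
    obtain ⟨p, rfl⟩ := hf b
    rw [ext₁, Algebra.TensorProduct.lift_tmul, map_mul, hφ, Algebra.TensorProduct.map_tmul, AlgHom.id_apply,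
      show (H.incl k) s ⊗ₜ[R] f p = (H.incl k) s • ((1 : H R K) ⊗ₜ[R] f p) by simp [TensorProduct.smul_tmul'],
      map_smul, Algebra.smul_def]
    congr 1
    · simp [MonoidAlgebra.mapAlgHom, Algebra.ofId_apply]
    · change _ = (φH.comp f) p
      rw [← hΦ, AlgHom.comp_apply]
      refine MonoidAlgebra.ext (Finsupp.ext fun m => ?_)
      simp [MonoidAlgebra.mapAlgHom]

/-- A splitting over the colimit comes from a finite stage. -/
theorem exists_stage_isDiag [Nontrivial K] (ρ : H R K ⊗[R] A ≃ₐc[H R K] MonoidAlgebra (H R K) M) :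
    ∃ i : Pt R K, SGA3b.IsDiag i.S (i.S ⊗[R] A) := by
  classical
  obtain ⟨i, φ, hφ⟩ := exists_stage_point ρ
  obtain ⟨G, hG⟩ := Monoid.FG.fg_top (M := M)
  -- surjective at a finite stage
  obtain ⟨j, a, ha⟩ := stage_forall (i := i) G
    (fun g j a => ∃ x, ext₁ ((MonoidAlgebra.mapAlgHom M a.φ).comp φ) x = MonoidAlgebra.of j.S M g)
    (fun g j l a b hx => by
      obtain ⟨x, hx⟩ := hx
      refine ⟨Algebra.TensorProduct.map b.φ (AlgHom.id R A) x, ?_⟩
      have e : (MonoidAlgebra.mapAlgHom M (a ≫ b).φ).comp φ =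
          (MonoidAlgebra.mapAlgHom M b.φ).comp ((MonoidAlgebra.mapAlgHom M a.φ).comp φ) :=
        AlgHom.ext fun y => MonoidAlgebra.ext (Finsupp.ext fun m => by simp [MonoidAlgebra.mapAlgHom])
      rw [e, ext₁_map, hx]
      simp [MonoidAlgebra.mapAlgHom])
    (fun g hg => by
      obtain ⟨j, x, hx⟩ := exists_tensor_rep (N := A) (ρ.symm (MonoidAlgebra.of (H R K) M g))
      let p := IsFiltered.leftToMax i j
      let q := IsFiltered.rightToMax i j
      let y := Algebra.TensorProduct.map q.φ (AlgHom.id R A) x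
      let φ' := (MonoidAlgebra.mapAlgHom M p.φ).comp φ
      obtain ⟨l, b, hb⟩ := stage_zero_monoidAlgebra (ext₁ φ' y - MonoidAlgebra.of _ M g) (by
        have e1 := compat_map ρ p φ hφ
        rw [map_sub, e1 y, map_incl_stage, map_id_eq_rTensor, hx, sub_eq_zero]
        rw [show ρ (ρ.symm (MonoidAlgebra.of (H R K) M g)) = MonoidAlgebra.of (H R K) M g from ρ.apply_symm_apply _]
        simp [MonoidAlgebra.mapAlgHom])
      refine ⟨l, p ≫ b, Algebra.TensorProduct.map b.φ (AlgHom.id R A) y, ?_⟩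
      have e : (MonoidAlgebra.mapAlgHom M (p ≫ b).φ).comp φ = (MonoidAlgebra.mapAlgHom M b.φ).comp φ' :=
        AlgHom.ext fun y => MonoidAlgebra.ext (Finsupp.ext fun m => by simp [φ', MonoidAlgebra.mapAlgHom])
      rw [map_sub, sub_eq_zero] at hb
      rw [e, ext₁_map, hb]
      simp [MonoidAlgebra.mapAlgHom])
  let φj := (MonoidAlgebra.mapAlgHom M a.φ).comp φ
  have hsurj : Function.Surjective (ext₁ φj) := ext₁_surjective φj G hG ha
  have hcompat : ∀ x, MonoidAlgebra.mapAlgHom M (H.incl j) (ext₁ φj x) =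
      ρ (Algebra.TensorProduct.map (H.incl j) (AlgHom.id R A) x) := compat_map ρ a φ hφ
  -- the kernel dies at a finite stage
  haveI := finitePresentation_monoidAlgebra j.S M
  obtain ⟨Fk, hFk⟩ := Algebra.FinitePresentation.ker_fG_of_surjective (ext₁ φj) hsurj
  obtain ⟨k, b, hb⟩ := stage_forall (i := j) Fk
    (fun x k b => Algebra.TensorProduct.map b.φ (AlgHom.id R A) x = 0)
    (fun x k l b c hx => by rw [map_comp_stage, hx, map_zero])
    (fun x hx => stage_zero_tensor x (by
      have h1 := hcompat x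
      rw [show ext₁ φj x = 0 from RingHom.mem_ker.1 (hFk ▸ Ideal.subset_span hx), map_zero] at h1
      exact (map_eq_zero_iff ρ (EquivLike.injective ρ)).1 h1.symm))
  have hkill : ∀ {l : Pt R K} (c : k ⟶ l), ∀ x, ext₁ φj x = 0 →
      Algebra.TensorProduct.map (b ≫ c).φ (AlgHom.id R A) x = 0 := by
    intro l c x hx
    have h1 : RingHom.ker (ext₁ φj) ≤ RingHom.ker (Algebra.TensorProduct.map b.φ (AlgHom.id R A)) :=
      hFk ▸ Ideal.span_le.2 fun r hr => hb r hr
    rw [map_comp_stage, RingHom.mem_ker.1 (h1 (RingHom.mem_ker.2 hx)), map_zero]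
  choose pre hpre using fun g => hsurj (MonoidAlgebra.of j.S M g)
  -- the generators become group-like at a finite stage
  obtain ⟨l, c, hc⟩ := stage_forall (i := k) G
    (fun g l c => IsGroupLikeElem l.S (Algebra.TensorProduct.map (b ≫ c).φ (AlgHom.id R A) (pre g)))
    (fun g l l' c d hx => by
      rw [← Category.assoc, map_comp_stage]
      exact isGroupLike_map d.φ hx)
    (fun g _ => by
      obtain ⟨l, c, hl⟩ := stage_grouplike (Algebra.TensorProduct.map b.φ (AlgHom.id R A) (pre g)) (by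
        rw [map_incl_stage]
        have h1 := hcompat (pre g)
        rw [hpre] at h1
        have h2 : Algebra.TensorProduct.map (H.incl j) (AlgHom.id R A) (pre g) =
            ρ.symm (MonoidAlgebra.of (H R K) M g) := by
          apply EquivLike.injective ρ
          rw [← h1, show ρ (ρ.symm (MonoidAlgebra.of (H R K) M g)) = MonoidAlgebra.of (H R K) M g from ρ.apply_symm_apply _]
          simp [MonoidAlgebra.mapAlgHom]
        rw [h2]
        exact (MonoidAlgebra.isGroupLikeElem_of g).map ρ.symm)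
      exact ⟨l, c, by rw [map_comp_stage]; exact hl⟩)
  obtain ⟨γ, hbij, hγ⟩ := exists_inverse (b ≫ c).φ φj hsurj (hkill c)
  have hgl : ∀ m, IsGroupLikeElem l.S (γ m) := by
    intro m
    have hm : m ∈ Submonoid.closure (G : Set M) := hG ▸ Submonoid.mem_top m
    induction hm using Submonoid.closure_induction with
    | mem g hg => rw [hγ g _ (hpre g)]; exact hc g hg
    | one => rw [map_one]; exact IsGroupLikeElem.one
    | mul u v _ _ hu hv => rw [map_mul]; exact hu.mul hv
  obtain ⟨θ, hθ⟩ := exists_bialgHom_of_grouplike γ hgl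
  have hθ' : (θ : MonoidAlgebra l.S M → l.S ⊗[R] A) = MonoidAlgebra.lift l.S (l.S ⊗[R] A) M γ := by
    funext y
    induction y using MonoidAlgebra.induction_linear with
    | zero => simp
    | add u v hu hv => simp only [map_add, hu, hv]
    | single m s => rw [hθ, MonoidAlgebra.lift_single]
  exact ⟨l, M, inferInstance, ⟨(BialgEquiv.ofBijective θ (by rw [hθ']; exact hbij)).symm⟩⟩

end Groth.Agent.SGA3b53
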