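import Groth.Agent.SGA3b53.Descend
import Groth.Agent.SGA3b53.DiagLift
import Groth.Agent.SGA3b53.FPres
import Groth.Agent.Henz21.Henselian
import Mathlib

/-!
Splittings over a colimit of etale algebras come from a finite stage.
-/

set_option autoImplicit false
set_option linter.unusedSectionVars false
set_option linter.style.haveILetI false
universe u v w
open TensorProduct CategoryTheory

noncomputable section

namespace Groth.Agent.SGA3b53

open Henz21

variable {R : Type u} [CommRing R] {K : Type u} [CommRing K] [Algebra R K]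

/-- A monotone property that holds eventually for each of finitely many indices holds eventually for all. -/
theorem stage_forall {ι : Type*} (s : Finset ι) {i : Pt R K} (P : ι → ∀ k : Pt R K, (i ⟶ k) → Prop)
    (hmono : ∀ a k l (f : i ⟶ k) (g : k ⟶ l), P a k f → P a l (f ≫ g))
    (h : ∀ a ∈ s, ∃ k f, P a k f) : ∃ (k : Pt R K) (f : i ⟶ k), ∀ a ∈ s, P a k f := by
  classical
  induction s using Finset.induction with
  | empty => exact ⟨i, 𝟙 i, by simp⟩
  | insert a s ha ih =>
    obtain ⟨k, f, hk⟩ := ih fun b hb => h b (Finset.mem_insert_of_mem hb)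
    obtain ⟨k', f', hk'⟩ := h a (Finset.mem_insert_self a s)
    obtain ⟨l, g, g', hgg⟩ := IsFiltered.span f f'
    refine ⟨l, f ≫ g, fun b hb => ?_⟩
    rcases Finset.mem_insert.1 hb with rfl | hb
    · rw [hgg]; exact hmono _ _ _ _ _ hk'
    · exact hmono _ _ _ _ _ (hk b hb)

theorem stage_zero {i : Pt R K} (F : Finset i.S) (h : ∀ s ∈ F, H.incl i s = 0) :
    ∃ (k : Pt R K) (f : i ⟶ k), ∀ s ∈ F, f.φ s = 0 := by
  refine stage_forall F (fun s k f => f.φ s = 0) (fun s k l f g hs => ?_) fun s hs => ?_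
  · rw [Pt.comp_φ, AlgHom.comp_apply, hs, map_zero]
  · obtain ⟨k, f, g, hfg⟩ := (H.incl_eq_iff s (0 : i.S)).1 (by rw [h s hs, map_zero])
    exact ⟨k, f, by rw [hfg, map_zero]⟩

section Module

variable {N : Type u} [AddCommGroup N] [Module R N]

theorem exists_tensor_rep (z : H R K ⊗[R] N) :
    ∃ (i : Pt R K) (w : i.S ⊗[R] N), (H.incl i).toLinearMap.rTensor N w = z := by
  induction z with
  | zero => exact ⟨H.base R K, 0, by simp⟩
  | tmul x n =>
    obtain ⟨i, s, rfl⟩ := H.exists_rep x
    exact ⟨i, s ⊗ₜ n, by simp⟩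
  | add a b ha hb =>
    obtain ⟨i, w, rfl⟩ := ha
    obtain ⟨j, w', rfl⟩ := hb
    refine ⟨IsFiltered.max i j, (IsFiltered.leftToMax i j).φ.toLinearMap.rTensor N w +
      (IsFiltered.rightToMax i j).φ.toLinearMap.rTensor N w', ?_⟩
    rw [map_add, ← LinearMap.rTensor_comp_apply, ← LinearMap.rTensor_comp_apply, ← AlgHom.comp_toLinearMap,
      ← AlgHom.comp_toLinearMap, H.incl_comp, H.incl_comp]

theorem rTensor_incl {i k : Pt R K} (f : i ⟶ k) (w : i.S ⊗[R] N) :
    (H.incl k).toLinearMap.rTensor N (f.φ.toLinearMap.rTensor N w) = (H.incl i).toLinearMap.rTensor N w := by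
  rw [← LinearMap.rTensor_comp_apply, ← AlgHom.comp_toLinearMap, H.incl_comp]

theorem rTensor_comp' {i k l : Pt R K} (f : i ⟶ k) (g : k ⟶ l) (w : i.S ⊗[R] N) :
    (f ≫ g).φ.toLinearMap.rTensor N w = g.φ.toLinearMap.rTensor N (f.φ.toLinearMap.rTensor N w) := by
  rw [← LinearMap.rTensor_comp_apply, ← AlgHom.comp_toLinearMap, Pt.comp_φ]

theorem stage_zero_free {ι : Type u} {i : Pt R K} (z : i.S ⊗[R] (ι →₀ R))
    (hz : (H.incl i).toLinearMap.rTensor (ι →₀ R) z = 0) :
    ∃ (k : Pt R K) (f : i ⟶ k), f.φ.toLinearMap.rTensor (ι →₀ R) z = 0 := by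
  classical
  have nat : ∀ {S T : Type u} [CommRing S] [Algebra R S] [CommRing T] [Algebra R T] (g : S →ₐ[R] T)
      (w : S ⊗[R] (ι →₀ R)) (a : ι), TensorProduct.finsuppScalarRight R R T ι (g.toLinearMap.rTensor (ι →₀ R) w) a =
        g (TensorProduct.finsuppScalarRight R R S ι w a) := by
    intro S T _ _ _ _ g w a
    induction w with
    | zero => simp
    | add x y hx hy => simp only [map_add, Finsupp.add_apply, hx, hy]
    | tmul s p => simp [TensorProduct.finsuppScalarRight_apply_tmul_apply]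
  let c := TensorProduct.finsuppScalarRight R R i.S ι z
  obtain ⟨k, f, hf⟩ := stage_zero (c.support.image c) fun s hs => by
    obtain ⟨a, -, rfl⟩ := Finset.mem_image.1 hs
    rw [← nat, hz, map_zero]
    rfl
  refine ⟨k, f, (TensorProduct.finsuppScalarRight R R k.S ι).injective (Finsupp.ext fun a => ?_)⟩
  rw [nat, map_zero, Finsupp.zero_apply]
  by_cases ha : a ∈ c.support
  · exact hf _ (Finset.mem_image_of_mem c ha)
  · rw [Finsupp.notMem_support_iff.1 ha, map_zero]

/-- An element of a tensor product killed in the colimit is killed at a finite stage. -/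
theorem stage_zero_tensor {i : Pt R K} (z : i.S ⊗[R] N) (hz : (H.incl i).toLinearMap.rTensor N z = 0) :
    ∃ (k : Pt R K) (f : i ⟶ k), f.φ.toLinearMap.rTensor N z = 0 := by
  let π : (N →₀ R) →ₗ[R] N := Finsupp.linearCombination R id
  have hπ : Function.Surjective π := fun n => ⟨Finsupp.single n 1, by simp [π]⟩
  obtain ⟨z', rfl⟩ := LinearMap.lTensor_surjective i.S hπ z
  rw [← LinearMap.comp_apply, LinearMap.rTensor_comp_lTensor, ← LinearMap.lTensor_comp_rTensor,
    LinearMap.comp_apply] at hz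
  have hex : Function.Exact ((LinearMap.ker π).subtype.lTensor (H R K)) (π.lTensor (H R K)) :=
    _root_.lTensor_exact (M := LinearMap.ker π) (N := N →₀ R) (P := N) (H R K) (LinearMap.exact_subtype_ker_map π) hπ
  obtain ⟨y, hy⟩ := (hex _).1 hz
  obtain ⟨j, y', rfl⟩ := exists_tensor_rep (N := LinearMap.ker π) y
  let i' := IsFiltered.max i j
  let a := IsFiltered.leftToMax i j
  let b := IsFiltered.rightToMax i j
  obtain ⟨k, f, hf⟩ := stage_zero_free
    (a.φ.toLinearMap.rTensor (N →₀ R) z' - (LinearMap.ker π).subtype.lTensor i'.S (b.φ.toLinearMap.rTensor _ y')) (by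
      rw [map_sub, rTensor_incl, sub_eq_zero, ← hy, show (H.incl j) = (H.incl i').comp b.φ from (H.incl_comp b).symm,
        AlgHom.comp_toLinearMap, LinearMap.rTensor_comp_apply, ← LinearMap.comp_apply,
        LinearMap.lTensor_comp_rTensor, ← LinearMap.rTensor_comp_lTensor, LinearMap.comp_apply])
  refine ⟨k, a ≫ f, ?_⟩
  rw [map_sub, sub_eq_zero] at hf
  rw [← LinearMap.comp_apply, LinearMap.rTensor_comp_lTensor, ← LinearMap.lTensor_comp_rTensor,
    LinearMap.comp_apply, rTensor_comp', hf,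
    ← LinearMap.comp_apply (f.φ.toLinearMap.rTensor (N →₀ R)), LinearMap.rTensor_comp_lTensor,
    ← LinearMap.lTensor_comp_rTensor, LinearMap.comp_apply, ← LinearMap.comp_apply (π.lTensor k.S),
    ← LinearMap.lTensor_comp, LinearMap.comp_ker_subtype, LinearMap.lTensor_zero, LinearMap.zero_apply]

end Module

variable {A : Type u} [CommRing A] [HopfAlgebra R A]

theorem map_id_eq_rTensor {S T : Type u} [CommRing S] [Algebra R S] [CommRing T] [Algebra R T] {B : Type u}
    [CommRing B] [Algebra R B] (g : S →ₐ[R] T) (z : S ⊗[R] B) :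
    Algebra.TensorProduct.map g (AlgHom.id R B) z = g.toLinearMap.rTensor B z := rfl

theorem map_comp_stage {i k l : Pt R K} (f : i ⟶ k) (g : k ⟶ l) (z : i.S ⊗[R] A) :
    Algebra.TensorProduct.map (f ≫ g).φ (AlgHom.id R A) z =
      Algebra.TensorProduct.map g.φ (AlgHom.id R A) (Algebra.TensorProduct.map f.φ (AlgHom.id R A) z) :=
  rTensor_comp' f g z

theorem map_incl_stage {i k : Pt R K} (f : i ⟶ k) (z : i.S ⊗[R] A) :
    Algebra.TensorProduct.map (H.incl k) (AlgHom.id R A) (Algebra.TensorProduct.map f.φ (AlgHom.id R A) z) =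
      Algebra.TensorProduct.map (H.incl i) (AlgHom.id R A) z :=
  rTensor_incl f z

section GroupLike

variable {S T : Type u} [CommRing S] [Algebra R S] [CommRing T] [Algebra R T]

theorem counit_map_base (g : S →ₐ[R] T) (x : S ⊗[R] A) :
    Coalgebra.counit (R := T) (Algebra.TensorProduct.map g (AlgHom.id R A) x) = g (Coalgebra.counit (R := S) x) := by
  induction x with
  | zero => simp
  | add a b ha hb => simp only [map_add, ha, hb]
  | tmul s a => simp

/-- `x ↦ Δ x` on the small side. -/
def comulSmall (x : S ⊗[R] A) : S ⊗[R] (A ⊗[R] A) := (Coalgebra.comul (R := R) (A := A)).lTensor S x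

/-- `x ↦ x ⊗ x` on the small side. -/
def squareSmall (x : S ⊗[R] A) : S ⊗[R] (A ⊗[R] A) :=
  Algebra.TensorProduct.map (AlgHom.id R S) (Algebra.TensorProduct.includeLeft : A →ₐ[R] A ⊗[R] A) x *
    Algebra.TensorProduct.map (AlgHom.id R S) (Algebra.TensorProduct.includeRight : A →ₐ[R] A ⊗[R] A) x

theorem comulSmall_map (g : S →ₐ[R] T) (x : S ⊗[R] A) :
    Algebra.TensorProduct.map g (AlgHom.id R (A ⊗[R] A)) (comulSmall x) =
      comulSmall (Algebra.TensorProduct.map g (AlgHom.id R A) x) := by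
  induction x with
  | zero => simp [comulSmall]
  | add a b ha hb => simp only [comulSmall, map_add] at ha hb ⊢; rw [ha, hb]
  | tmul s a => simp [comulSmall]

theorem squareSmall_map (g : S →ₐ[R] T) (x : S ⊗[R] A) :
    Algebra.TensorProduct.map g (AlgHom.id R (A ⊗[R] A)) (squareSmall x) =
      squareSmall (Algebra.TensorProduct.map g (AlgHom.id R A) x) := by
  rw [squareSmall, squareSmall, map_mul]
  congr 1 <;>
  · rw [← AlgHom.comp_apply, ← AlgHom.comp_apply, ← Algebra.TensorProduct.map_comp, ← Algebra.TensorProduct.map_comp,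
      AlgHom.comp_id, AlgHom.id_comp, AlgHom.id_comp, AlgHom.comp_id]

theorem distrib_comulSmall (x : S ⊗[R] A) :
    AlgebraTensorModule.distribBaseChange R S A A (comulSmall x) = Coalgebra.comul (R := S) x := by
  induction x with
  | zero => simp [comulSmall]
  | add a b ha hb => simp only [comulSmall, map_add] at ha hb ⊢; rw [ha, hb]
  | tmul s a =>
    rw [comulSmall, LinearMap.lTensor_tmul, TensorProduct.comul_tmul, CommSemiring.comul_apply]
    generalize Coalgebra.comul (R := R) a = z
    induction z with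
    | zero => simp
    | add b c hb hc => simp only [tmul_add, map_add, hb, hc]
    | tmul b c =>
      simp only [AlgebraTensorModule.tensorTensorTensorComm_tmul]
      simp [AlgebraTensorModule.distribBaseChange]
      rw [show s ⊗ₜ[R] b = s • ((1 : S) ⊗ₜ[R] b) by simp [TensorProduct.smul_tmul'], TensorProduct.smul_tmul,
        show s • ((1 : S) ⊗ₜ[R] c) = s ⊗ₜ[R] c by simp [TensorProduct.smul_tmul']]

theorem distrib_squareSmall (x : S ⊗[R] A) :
    AlgebraTensorModule.distribBaseChange R S A A (squareSmall x) = x ⊗ₜ[S] x := by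
  suffices ∀ x y : S ⊗[R] A, AlgebraTensorModule.distribBaseChange R S A A
      (Algebra.TensorProduct.map (AlgHom.id R S) (Algebra.TensorProduct.includeLeft : A →ₐ[R] A ⊗[R] A) x *
        Algebra.TensorProduct.map (AlgHom.id R S) (Algebra.TensorProduct.includeRight : A →ₐ[R] A ⊗[R] A) y) =
        x ⊗ₜ[S] y from this x x
  intro x y
  induction x with
  | zero => simp
  | add a b ha hb => simp only [map_add, add_mul, add_tmul, ha, hb]
  | tmul s a =>
    induction y with
    | zero => simp
    | add b c hb hc => simp only [map_add, mul_add, tmul_add, hb, hc]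
    | tmul t b =>
      simp only [Algebra.TensorProduct.map_tmul, AlgHom.id_apply, Algebra.TensorProduct.includeLeft_apply,
        Algebra.TensorProduct.includeRight_apply, Algebra.TensorProduct.tmul_mul_tmul, mul_one, one_mul]
      rw [show (s * t) ⊗ₜ[R] (a ⊗ₜ[R] b) = s • t • ((1 : S) ⊗ₜ[R] (a ⊗ₜ[R] b)) by
          simp [TensorProduct.smul_tmul'], map_smul, map_smul]
      simp [AlgebraTensorModule.distribBaseChange, TensorProduct.smul_tmul']
      rw [show t ⊗ₜ[R] b = t • ((1 : S) ⊗ₜ[R] b) by simp [TensorProduct.smul_tmul'], ← TensorProduct.smul_tmul,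
        TensorProduct.smul_tmul', smul_eq_mul, mul_comm t s]

theorem isGroupLike_iff_small (x : S ⊗[R] A) :
    IsGroupLikeElem S x ↔ Coalgebra.counit (R := S) x = 1 ∧ comulSmall x = squareSmall x := by
  constructor
  · intro h
    refine ⟨h.counit_eq_one, (AlgebraTensorModule.distribBaseChange R S A A).injective ?_⟩
    rw [distrib_comulSmall, distrib_squareSmall]
    exact h.comul_eq_tmul_self
  · rintro ⟨h1, h2⟩
    exact ⟨h1, by rw [← distrib_comulSmall, h2, distrib_squareSmall]⟩

end GroupLike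

theorem stage_grouplike {i : Pt R K} (x : i.S ⊗[R] A)
    (h : IsGroupLikeElem (H R K) (Algebra.TensorProduct.map (H.incl i) (AlgHom.id R A) x)) :
    ∃ (k : Pt R K) (f : i ⟶ k), IsGroupLikeElem k.S (Algebra.TensorProduct.map f.φ (AlgHom.id R A) x) := by
  rw [isGroupLike_iff_small, counit_map_base, ← comulSmall_map, ← squareSmall_map] at h
  obtain ⟨k, f, hf⟩ := stage_zero {Coalgebra.counit (R := i.S) x - 1} fun s hs => by
    rw [Finset.mem_singleton.1 hs, map_sub, h.1, map_one, sub_self]
  have h2 : (H.incl k).toLinearMap.rTensor (A ⊗[R] A)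
      (f.φ.toLinearMap.rTensor (A ⊗[R] A) (comulSmall x - squareSmall x)) = 0 := by
    rw [rTensor_incl, ← map_id_eq_rTensor, map_sub, sub_eq_zero]
    exact h.2
  obtain ⟨l, g, hg⟩ := stage_zero_tensor _ h2
  refine ⟨l, f ≫ g, (isGroupLike_iff_small _).2 ⟨?_, ?_⟩⟩
  · rw [counit_map_base, Pt.comp_φ, AlgHom.comp_apply, ← sub_eq_zero, ← map_one g.φ, ← map_sub, ← map_one f.φ,
      ← map_sub, hf _ (Finset.mem_singleton_self _), map_zero]
  · rw [← comulSmall_map, ← squareSmall_map, ← sub_eq_zero, ← map_sub, map_id_eq_rTensor, rTensor_comp', hg]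

section Splitting

variable {M : Type u} [CommGroup M] {S T : Type u} [CommRing S] [Algebra R S] [CommRing T] [Algebra R T]

/-- The `S`-linear extension of a point of `A`. -/
def ext₁ (φ : A →ₐ[R] MonoidAlgebra S M) : S ⊗[R] A →ₐ[S] MonoidAlgebra S M :=
  Algebra.TensorProduct.lift (Algebra.ofId S _) φ fun _ _ => Commute.all _ _

theorem ext₁_map (g : S →ₐ[R] T) (φ : A →ₐ[R] MonoidAlgebra S M) (x : S ⊗[R] A) :
    ext₁ ((MonoidAlgebra.mapAlgHom M g).comp φ) (Algebra.TensorProduct.map g (AlgHom.id R A) x) =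
      MonoidAlgebra.mapAlgHom M g (ext₁ φ x) := by
  induction x with
  | zero => simp
  | add a b ha hb => simp only [map_add, ha, hb]
  | tmul s a =>
    rw [Algebra.TensorProduct.map_tmul, ext₁, ext₁, Algebra.TensorProduct.lift_tmul, Algebra.TensorProduct.lift_tmul,
      map_mul]
    congr 1
    simp [MonoidAlgebra.mapAlgHom, Algebra.ofId_apply]

/-- A surjection onto a group algebra whose kernel dies gives an inverse. -/
theorem exists_inverse (g : S →ₐ[R] T) (φ : A →ₐ[R] MonoidAlgebra S M) (hs : Function.Surjective (ext₁ φ))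
    (hk : ∀ x, ext₁ φ x = 0 → Algebra.TensorProduct.map g (AlgHom.id R A) x = 0) :
    ∃ γ : M →* T ⊗[R] A, Function.Bijective (MonoidAlgebra.lift T (T ⊗[R] A) M γ) ∧
      ∀ m x, ext₁ φ x = MonoidAlgebra.of S M m → γ m = Algebra.TensorProduct.map g (AlgHom.id R A) x := by
  let μ := Algebra.TensorProduct.map g (AlgHom.id R A)
  have hwd : ∀ x y, ext₁ φ x = ext₁ φ y → μ x = μ y := fun x y h => by
    rw [← sub_eq_zero, ← map_sub]
    exact hk _ (by rw [map_sub, h, sub_self])
  choose pre hpre using fun m => hs (MonoidAlgebra.of S M m)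
  let γ : M →* T ⊗[R] A :=
    { toFun := fun m => μ (pre m)
      map_one' := (hwd _ 1 (by rw [hpre, map_one, map_one])).trans (map_one μ)
      map_mul' := fun a b => (hwd _ (pre a * pre b) (by rw [hpre, map_mul, map_mul, hpre, hpre])).trans (map_mul μ _ _) }
  refine ⟨γ, ?_, fun m x hx => hwd _ _ ((hpre m).trans hx.symm)⟩
  let Φ := MonoidAlgebra.lift T (T ⊗[R] A) M γ
  let σ' := ext₁ ((MonoidAlgebra.mapAlgHom M g).comp φ)
  have h1 : σ'.comp Φ = AlgHom.id T _ := MonoidAlgebra.algHom_ext (fun m => by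
    change σ' (Φ (MonoidAlgebra.single m 1)) = MonoidAlgebra.single m 1
    rw [MonoidAlgebra.lift_single, one_smul]
    change σ' (μ (pre m)) = _
    rw [ext₁_map, hpre]
    simp [MonoidAlgebra.mapAlgHom]) (Subsingleton.elim _ _)
  have h2 : ∀ y x, ext₁ φ x = y → Φ (MonoidAlgebra.mapAlgHom M g y) = μ x := by
    intro y
    induction y using MonoidAlgebra.induction_linear with
    | zero => intro x hx; rw [map_zero, map_zero]; exact (hk x hx).symm
    | add a b ha hb =>
      intro x hx
      obtain ⟨xa, hxa⟩ := hs a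
      obtain ⟨xb, hxb⟩ := hs b
      rw [map_add, map_add, ha xa hxa, hb xb hxb, ← map_add]
      exact hwd _ _ (by rw [map_add, hxa, hxb, hx])
    | single m s =>
      intro x hx
      have h3 : μ x = μ (s • pre m) := hwd _ _ (by rw [hx, map_smul, hpre]; simp)
      rw [h3]
      simp only [MonoidAlgebra.mapAlgHom, AlgHom.coe_mk, MonoidAlgebra.mapRingHom_single]
      rw [MonoidAlgebra.lift_single]
      rw [Algebra.smul_def, Algebra.smul_def, map_mul]
      congr 1
  have h4 : Φ.comp σ' = AlgHom.id T _ := Algebra.TensorProduct.ext' fun t a => by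
    rw [show t ⊗ₜ[R] a = t • μ ((1 : S) ⊗ₜ[R] a) by simp [μ, TensorProduct.smul_tmul'], map_smul, map_smul]
    congr 1
    change Φ (σ' (μ ((1 : S) ⊗ₜ[R] a))) = μ ((1 : S) ⊗ₜ[R] a)
    rw [ext₁_map]
    exact h2 _ _ rfl
  exact ⟨Function.LeftInverse.injective (g := σ') (fun x => DFunLike.congr_fun h1 x),
    Function.RightInverse.surjective (g := σ') (fun x => DFunLike.congr_fun h4 x)⟩

end Splitting

theorem exists_monoidAlgebra_rep {M : Type u} [CommGroup M] (z : MonoidAlgebra (H R K) M) :
    ∃ (i : Pt R K) (w : MonoidAlgebra i.S M), MonoidAlgebra.mapAlgHom M (H.incl i) w = z := by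
  induction z using MonoidAlgebra.induction_linear with
  | zero => exact ⟨H.base R K, 0, map_zero _⟩
  | single m x =>
    obtain ⟨i, s, rfl⟩ := H.exists_rep x
    exact ⟨i, MonoidAlgebra.single m s, by simp [MonoidAlgebra.mapAlgHom]⟩
  | add a b ha hb =>
    obtain ⟨i, w, rfl⟩ := ha
    obtain ⟨j, w', rfl⟩ := hb
    refine ⟨IsFiltered.max i j, MonoidAlgebra.mapAlgHom M (IsFiltered.leftToMax i j).φ w +
      MonoidAlgebra.mapAlgHom M (IsFiltered.rightToMax i j).φ w', ?_⟩
    rw [map_add]
    congr 1 <;> refine MonoidAlgebra.ext (Finsupp.ext fun m => ?_) <;> simp [MonoidAlgebra.mapAlgHom]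

theorem stage_zero_monoidAlgebra {M : Type u} [CommGroup M] {i : Pt R K} (w : MonoidAlgebra i.S M)
    (h : MonoidAlgebra.mapAlgHom M (H.incl i) w = 0) :
    ∃ (k : Pt R K) (f : i ⟶ k), MonoidAlgebra.mapAlgHom M f.φ w = 0 := by
  classical
  obtain ⟨k, f, hf⟩ := stage_zero (w.coeff.support.image w.coeff) fun s hs => by
    obtain ⟨a, -, rfl⟩ := Finset.mem_image.1 hs
    simpa [MonoidAlgebra.mapAlgHom] using congrArg (fun z => MonoidAlgebra.coeff z a) h
  refine ⟨k, f, MonoidAlgebra.ext (Finsupp.ext fun a => ?_)⟩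
  by_cases ha : a ∈ w.coeff.support
  · simpa [MonoidAlgebra.mapAlgHom] using hf _ (Finset.mem_image_of_mem _ ha)
  · simp [MonoidAlgebra.mapAlgHom, Finsupp.notMem_support_iff.1 ha]

end Groth.Agent.SGA3b53
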