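import Mathlib

/-!
Density of torsion in split tori, in algebraic form.
-/

set_option autoImplicit false
set_option linter.unusedSectionVars false
set_option linter.style.haveILetI false
universe u v w
open TensorProduct

noncomputable section

namespace Groth.Agent.SGA3b53

/-- Reduction of a free abelian group modulo `ℓ`. -/
def redMod (r ℓ : ℕ) : Multiplicative (Fin r → ℤ) →* Multiplicative (Fin r → ZMod ℓ) :=
  AddMonoidHom.toMultiplicative
    (AddMonoidHom.mk' (fun x i => (x i : ZMod ℓ)) fun a b => funext fun i => by simp)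

theorem coeff_mul_right_sum {T : Type u} [CommRing T] {G : Type v} [CommGroup G] (z a : MonoidAlgebra T G) (g : G)
    (s : Finset G) (hs : a.coeff.support ⊆ s) : (z * a).coeff g = ∑ h ∈ s, z.coeff (g * h⁻¹) * a.coeff h := by
  classical
  conv_lhs => rw [← MonoidAlgebra.sum_coeff_single a]
  rw [Finsupp.sum, Finset.mul_sum, MonoidAlgebra.coeff_sum, Finsupp.finsetSum_apply]
  rw [Finset.sum_subset hs (fun h _ hh => by simp [Finsupp.notMem_support_iff.1 hh])]
  refine Finset.sum_congr rfl fun h _ => ?_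
  rw [MonoidAlgebra.coeff_mul_single_eq_coeff_mul (g * h⁻¹)]
  intro m _
  exact ⟨fun e => by rw [← e, mul_inv_cancel_right], fun e => by rw [e, inv_mul_cancel_right]⟩

theorem exists_pow_mul_eq_zero_noetherian {T : Type u} [CommRing T] [IsNoetherianRing T] (r : ℕ)
    (y a : MonoidAlgebra T (Multiplicative (Fin r → ℤ)))
    (h : ∀ ℓ : ℕ, ℓ.Prime → ∃ N, MonoidAlgebra.mapDomainRingHom T (redMod r ℓ) (y * a ^ N) = 0) :
    ∃ K, y * a ^ K = 0 := by
  classical
  let G := Multiplicative (Fin r → ℤ)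
  by_contra hK
  push Not at hK
  let W : Set (MonoidAlgebra T G) := {w | (∀ j, w * a ^ j ≠ 0) ∧ ∃ (t : T) (j : ℕ), w = t • (y * a ^ j)}
  let ann : MonoidAlgebra T G → Ideal T := fun w => LinearMap.ker (LinearMap.toSpanSingleton T _ w)
  have hann : ∀ w s, s ∈ ann w ↔ s • w = 0 := fun w s => by simp [ann]
  have hy : y ∈ W := ⟨hK, 1, 0, by simp⟩
  obtain ⟨_, ⟨w, hw, rfl⟩, hmax⟩ := set_has_maximal_iff_noetherian.2 (inferInstance : IsNoetherian T T) (ann '' W)
    ⟨_, y, hy, rfl⟩
  obtain ⟨hw0, t, j₀, hwe⟩ := hw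
  have hmove : ∀ (s : T) (j : ℕ), (∀ i, s • (w * a ^ j) * a ^ i ≠ 0) → ann w = ann (s • (w * a ^ j)) := by
    intro s j hne
    have hmem : s • (w * a ^ j) ∈ W := ⟨hne, s * t, j₀ + j, by
      rw [hwe, pow_add, smul_mul_assoc, smul_smul, mul_assoc]⟩
    have hle : ann w ≤ ann (s • (w * a ^ j)) := fun x hx => by
      rw [hann] at hx ⊢
      rw [smul_comm, ← smul_mul_assoc, hx, zero_mul, smul_zero]
    exact hle.eq_of_not_lt (hmax _ ⟨_, hmem, rfl⟩)
  have hpow : ∀ j, ann (w * a ^ j) = ann w := fun j => by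
    have := hmove 1 j fun i => by rw [one_smul, mul_assoc, ← pow_add]; exact hw0 _
    rwa [one_smul, eq_comm] at this
  let p := ann w
  haveI hp : p.IsPrime := by
    refine Ideal.isPrime_iff.2 ⟨fun ht => hw0 0 (by
      have h1 : (1 : T) ∈ p := ht ▸ Submodule.mem_top
      rw [hann, one_smul] at h1
      rw [h1, zero_mul]), fun {s s'} hss => ?_⟩
    by_cases hs : s ∈ p
    · exact Or.inl hs
    right
    by_cases hne : ∀ i, s • (w * a ^ 0) * a ^ i ≠ 0
    · have h1 := hmove s 0 hne
      change s' ∈ ann w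
      rw [h1, hann, pow_zero, mul_one, smul_smul, mul_comm]
      exact (hann w _).1 hss
    · exfalso
      push Not at hne
      obtain ⟨i, hi⟩ := hne
      apply hs
      change s ∈ ann w
      rw [← hpow i, hann]
      rwa [pow_zero, mul_one, smul_mul_assoc] at hi
  -- the module of elements killed by `p`
  let U : Submodule T T := Submodule.torsionBySet T T (p : Set T)
  have hU : ∀ j g, (w * a ^ j).coeff g ∈ U := fun j g => by
    rw [Submodule.mem_torsionBySet_iff]
    rintro ⟨s, hs⟩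
    have h1 : s • (w * a ^ j) = 0 := (hann _ s).1 (by rw [hpow j]; exact hs)
    simpa using congrArg (fun z => MonoidAlgebra.coeff z g) h1
  let S := T ⧸ p
  let κ := FractionRing S
  letI : Module S U := (Module.isTorsionBySet_iff_is_torsion_by_span (R := T) (M := U) (p : Set T)).1
    (Submodule.torsionBySet_isTorsionBySet _) |> fun hh => (show Module.IsTorsionBySet T U (p : Set T) from
      Submodule.torsionBySet_isTorsionBySet _).module
  haveI : IsScalarTower T S U := (show Module.IsTorsionBySet T U (p : Set T) from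
      Submodule.torsionBySet_isTorsionBySet _).isScalarTower
  obtain ⟨g₀, hg₀⟩ : ∃ g, ∀ s, s ∉ p → s * w.coeff g ≠ 0 := by
    by_contra hc
    push Not at hc
    choose s hs hs0 using hc
    have h1 : (∏ g ∈ w.coeff.support, s g) • w = 0 := MonoidAlgebra.ext (Finsupp.ext fun g => by
      by_cases hg : g ∈ w.coeff.support
      · rw [← Finset.mul_prod_erase _ _ hg]
        simp only [MonoidAlgebra.coeff_smul, Finsupp.smul_apply, smul_eq_mul, MonoidAlgebra.coeff_zero, Finsupp.coe_zero, Pi.zero_apply]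
        rw [mul_assoc, mul_left_comm, hs0, mul_zero]
      · simp [Finsupp.notMem_support_iff.1 hg])
    obtain ⟨g, -, hg⟩ := (Ideal.IsPrime.prod_mem_iff (p := p)).1 ((hann w _).2 h1)
    exact hs g hg
  let c₀ : U := ⟨w.coeff g₀, by simpa using hU 0 g₀⟩
  have hc₀ : (1 : κ) ⊗ₜ[S] c₀ ≠ 0 := by
    intro h0
    obtain ⟨⟨s, hs⟩, hs0⟩ := (IsLocalizedModule.eq_zero_iff (nonZeroDivisors S) (TensorProduct.mk S κ U 1)).1 h0
    obtain ⟨s, rfl⟩ := Ideal.Quotient.mk_surjective s
    refine hg₀ s (fun hsp => nonZeroDivisors.ne_zero hs (Ideal.Quotient.eq_zero_iff_mem.2 hsp)) ?_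
    have h2 : algebraMap T S s • c₀ = 0 := hs0
    rw [algebraMap_smul] at h2
    exact congrArg Subtype.val h2
  obtain ⟨F, hF⟩ : ∃ F : κ ⊗[S] U →ₗ[κ] κ, F ((1 : κ) ⊗ₜ[S] c₀) ≠ 0 := by
    by_contra hc
    push Not at hc
    exact hc₀ ((Module.forall_dual_apply_eq_zero_iff κ _).1 fun F => hc F)
  let ψ : U →ₗ[T] κ := ((F.restrictScalars S) ∘ₗ TensorProduct.mk S κ U 1).restrictScalars T
  let zj : ℕ → MonoidAlgebra κ G := fun j => MonoidAlgebra.ofCoeff
    (Finsupp.onFinset (w * a ^ j).coeff.support (fun g => ψ ⟨_, hU j g⟩) fun g hg => Finsupp.mem_support_iff.2 fun h0 => by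
      refine hg ?_
      rw [show (⟨_, hU j g⟩ : U) = 0 from Subtype.ext h0, map_zero])
  let q : T →+* κ := algebraMap T κ
  let ā := MonoidAlgebra.mapRingHom G q a
  have hā : ∀ g, ā.coeff g = q (a.coeff g) := fun g => MonoidAlgebra.coeff_mapRingHom q a g
  have hstep : ∀ j, zj (j + 1) = zj j * ā := by
    intro j
    refine MonoidAlgebra.ext (Finsupp.ext fun g => ?_)
    rw [coeff_mul_right_sum _ _ _ a.coeff.support]
    · simp only [zj, Finsupp.onFinset_apply]
      have h1 : (w * a ^ (j + 1)).coeff g = ∑ h ∈ a.coeff.support, (w * a ^ j).coeff (g * h⁻¹) * a.coeff h := by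
        rw [pow_succ, ← mul_assoc, coeff_mul_right_sum _ _ _ a.coeff.support (le_refl _)]
      have h2 : (⟨_, hU (j + 1) g⟩ : U) = ∑ h ∈ a.coeff.support, a.coeff h • (⟨_, hU j (g * h⁻¹)⟩ : U) := by
        apply Subtype.ext
        rw [Submodule.coe_sum]
        exact h1.trans (Finset.sum_congr rfl fun h _ => mul_comm _ _)
      rw [h2, map_sum]
      refine Finset.sum_congr rfl fun h _ => ?_
      rw [map_smul, Algebra.smul_def, mul_comm]
      rw [hā]
    · intro h hh
      rw [Finsupp.mem_support_iff] at hh ⊢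
      intro h0
      exact hh (by rw [hā, h0, map_zero])
  have hzpow : ∀ j, zj j = zj 0 * ā ^ j := by
    intro j
    induction j with
    | zero => simp
    | succ j ih => rw [hstep, ih, pow_succ, mul_assoc]
  have hz : zj 0 ≠ 0 := fun h0 => hF (by
    have h1 := congrArg (fun z => MonoidAlgebra.coeff z g₀) h0
    simp only [zj, Finsupp.onFinset_apply, MonoidAlgebra.coeff_zero, Finsupp.coe_zero,
      Pi.zero_apply] at h1
    rw [show c₀ = (⟨_, hU 0 g₀⟩ : U) from Subtype.ext (by simp [c₀])]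
    exact h1)
  have ha : ā ≠ 0 := by
    intro h0
    refine hw0 1 ?_
    rw [pow_one]
    have hap : ∀ g, a.coeff g ∈ p := fun g => by
      have h1 : q (a.coeff g) = 0 := by rw [← hā, h0]; rfl
      have h2 : algebraMap S κ (Ideal.Quotient.mk p (a.coeff g)) = 0 := by
        rw [← Ideal.Quotient.algebraMap_eq, ← IsScalarTower.algebraMap_apply]
        simpa using h1
      exact Ideal.Quotient.eq_zero_iff_mem.1 ((map_eq_zero_iff _ (IsFractionRing.injective S κ)).1 h2)
    rw [← MonoidAlgebra.sum_coeff_single a, Finsupp.sum, Finset.mul_sum]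
    refine Finset.sum_eq_zero fun g _ => ?_
    rw [show MonoidAlgebra.single g (a.coeff g) = a.coeff g • MonoidAlgebra.single g (1 : T) by simp, mul_smul_comm,
      ← smul_mul_assoc, (hann w _).1 (hap g), zero_mul]
  -- separate by a prime
  let u := zj 0 * ā
  have hu : u ≠ 0 := mul_ne_zero hz ha
  let B : ℕ := (u.coeff.support ×ˢ u.coeff.support).sup fun x => Finset.univ.sup fun i =>
    (Multiplicative.toAdd x.1 i - Multiplicative.toAdd x.2 i).natAbs
  obtain ⟨ℓ, hℓB, hℓ⟩ := Nat.exists_infinite_primes (B + ringChar κ + 1)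
  haveI : Fact ℓ.Prime := ⟨hℓ⟩
  have hinj : Set.InjOn (redMod r ℓ) (u.coeff.support : Set G) := by
    intro x hx x' hx' hxx
    refine Multiplicative.toAdd.injective (funext fun i => ?_)
    have h1 : ((Multiplicative.toAdd x i - Multiplicative.toAdd x' i : ℤ) : ZMod ℓ) = 0 := by
      rw [Int.cast_sub, sub_eq_zero]
      exact congrFun (congrArg Multiplicative.toAdd hxx) i
    have h2 : (Multiplicative.toAdd x i - Multiplicative.toAdd x' i).natAbs ≤ B :=
      le_trans (Finset.le_sup (f := fun i => (Multiplicative.toAdd x i - Multiplicative.toAdd x' i).natAbs) (Finset.mem_univ i))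
        (Finset.le_sup (f := fun x : G × G => Finset.univ.sup fun i =>
          (Multiplicative.toAdd x.1 i - Multiplicative.toAdd x.2 i).natAbs) (Finset.mem_product.2 ⟨hx, hx'⟩ : (x, x') ∈ _))
    rw [ZMod.intCast_zmod_eq_zero_iff_dvd, Int.natCast_dvd] at h1
    have h3 := Nat.eq_zero_of_dvd_of_lt h1 (by omega)
    omega
  let π := MonoidAlgebra.mapDomainRingHom κ (redMod r ℓ)
  have hπu : π u ≠ 0 := by
    intro h0
    apply hu
    refine MonoidAlgebra.ext (Finsupp.ext fun g => ?_)
    by_cases hg : g ∈ u.coeff.support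
    · have h1 := congrArg (fun z => MonoidAlgebra.coeff z (redMod r ℓ g)) h0
      simp only [π, MonoidAlgebra.mapDomainRingHom_apply, MonoidAlgebra.coeff_mapDomain, MonoidAlgebra.coeff_zero,
        Finsupp.coe_zero, Pi.zero_apply] at h1
      rw [Finsupp.mapDomain_apply' (u.coeff.support : Set G) _ (le_refl _) hinj hg] at h1
      simpa using h1
    · simp [Finsupp.notMem_support_iff.1 hg]
  haveI : NeZero ((Nat.card (Multiplicative (Fin r → ZMod ℓ)) : κ)) := ⟨by
    rw [Nat.card_congr Multiplicative.toAdd, Nat.card_pi]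
    simp only [Nat.card_zmod, Finset.prod_const, Nat.cast_pow]
    refine pow_ne_zero _ fun h0 => ?_
    have h1 := (ringChar.spec κ ℓ).1 h0
    rcases (Nat.dvd_prime hℓ).1 h1 with h2 | h2
    · exact CharP.ringChar_ne_one h2
    · omega⟩
  haveI : IsReduced (MonoidAlgebra κ (Multiplicative (Fin r → ZMod ℓ))) := inferInstance
  obtain ⟨N, hN⟩ := h ℓ hℓ
  -- transport the vanishing
  have h4 : MonoidAlgebra.mapDomainRingHom T (redMod r ℓ) (w * a ^ N) = 0 := by
    rw [hwe, smul_mul_assoc, mul_assoc, ← pow_add, show j₀ + N = N + j₀ from add_comm _ _, pow_add, ← mul_assoc,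
      Algebra.smul_def, map_mul, map_mul, hN, zero_mul, mul_zero]
  have h5 : π (zj N) = 0 := by
    refine MonoidAlgebra.ext (Finsupp.ext fun g => ?_)
    have h6 := congrArg (fun z => MonoidAlgebra.coeff z g) h4
    simp only [π, MonoidAlgebra.mapDomainRingHom_apply, MonoidAlgebra.coeff_mapDomain, MonoidAlgebra.coeff_zero,
      Finsupp.coe_zero, Pi.zero_apply, Finsupp.mapDomain, Finsupp.sum_apply, Finsupp.single_apply] at h6 ⊢
    rw [Finsupp.sum] at h6 ⊢
    have h7 : ∑ x ∈ (w * a ^ N).coeff.support.filter (fun x => redMod r ℓ x = g), (⟨_, hU N x⟩ : U) = 0 := by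
      apply Subtype.ext
      rw [Submodule.coe_sum, Finset.sum_filter]
      exact h6
    have h8 := congrArg ψ h7
    rw [map_sum, map_zero] at h8
    rw [Finset.sum_subset (s₂ := (w * a ^ N).coeff.support) (fun x hx => Finsupp.support_onFinset_subset hx)
      (fun x _ hx => by
        have h9 : (zj N).coeff x = 0 := Finsupp.notMem_support_iff.1 hx
        simp [h9]), ← Finset.sum_filter]
    exact h8
  apply hπu
  refine IsReduced.eq_zero _ ⟨N + 1, ?_⟩
  have h10 : u ^ (N + 1) = zj N * (zj 0 ^ N * ā) := by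
    rw [hzpow N]; ring
  rw [← map_pow, h10, map_mul, h5, zero_mul]

theorem exists_pow_mul_eq_zero {T : Type u} [CommRing T] (r : ℕ) (y a : MonoidAlgebra T (Multiplicative (Fin r → ℤ)))
    (h : ∀ ℓ : ℕ, ℓ.Prime → ∃ N, MonoidAlgebra.mapDomainRingHom T (redMod r ℓ) (y * a ^ N) = 0) :
    ∃ K, y * a ^ K = 0 := by
  classical
  let G := Multiplicative (Fin r → ℤ)
  let s : Finset T := y.coeff.support.image y.coeff ∪ a.coeff.support.image a.coeff
  let T₀ := Algebra.adjoin ℤ (s : Set T)
  haveI : Algebra.FiniteType ℤ T₀ := Algebra.FiniteType.adjoin_of_finite s.finite_toSet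
  haveI : IsNoetherianRing T₀ := Algebra.FiniteType.isNoetherianRing ℤ T₀
  let i : T₀ →+* T := T₀.val.toRingHom
  have hi : Function.Injective i := Subtype.val_injective
  have hlift : ∀ z : MonoidAlgebra T G, (∀ g, z.coeff g ∈ T₀) → ∃ z₀, MonoidAlgebra.mapRingHom G i z₀ = z := fun z hz =>
    ⟨MonoidAlgebra.ofCoeff (Finsupp.onFinset z.coeff.support (fun g => ⟨z.coeff g, hz g⟩) fun g hg =>
      Finsupp.mem_support_iff.2 fun h0 => hg (Subtype.ext h0)), MonoidAlgebra.ext (Finsupp.ext fun g => by simp [i])⟩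
  have hmem : ∀ (z : MonoidAlgebra T G), z.coeff.support.image z.coeff ⊆ s → ∀ g, z.coeff g ∈ T₀ := fun z hz g => by
    by_cases hg : g ∈ z.coeff.support
    · exact Algebra.subset_adjoin (hz (Finset.mem_image_of_mem _ hg))
    · rw [Finsupp.notMem_support_iff.1 hg]; exact zero_mem _
  obtain ⟨y₀, hy₀⟩ := hlift y (hmem y Finset.subset_union_left)
  obtain ⟨a₀, ha₀⟩ := hlift a (hmem _ Finset.subset_union_right)
  have hinjmap : ∀ {X : Type} [CommMonoid X], Function.Injective (MonoidAlgebra.mapRingHom X i) := fun {X} _ u v huv =>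
    MonoidAlgebra.ext (Finsupp.ext fun x => hi (by simpa using congrArg (fun z => MonoidAlgebra.coeff z x) huv))
  obtain ⟨K, hK⟩ := exists_pow_mul_eq_zero_noetherian r y₀ a₀ fun ℓ hℓ => by
    obtain ⟨N, hN⟩ := h ℓ hℓ
    refine ⟨N, hinjmap ?_⟩
    rw [map_zero, ← hN, ← hy₀, ← ha₀, ← map_pow, ← map_mul]
    generalize y₀ * a₀ ^ N = z
    induction z using MonoidAlgebra.induction_linear with
    | zero => simp
    | add u v hu hv => simp only [map_add, hu, hv]
    | single g t => simp
  exact ⟨K, by rw [← hy₀, ← ha₀, ← map_pow, ← map_mul, hK, map_zero]⟩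

end Groth.Agent.SGA3b53
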