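import Groth.Agent.SGA3b53.UnionStage
import Groth.Agent.SGA3b53.AdicHom
import Groth.Agent.SGA3b53.HopfModel
import Mathlib

/-!
Splitting covers over a ring come from finitely generated subrings.
-/

set_option autoImplicit false
set_option linter.unusedSectionVars false
set_option linter.style.haveILetI false
universe u
open TensorProduct

noncomputable section

namespace Groth.Agent.SGA3b53.UnionDescent

variable {A₀ : Type u} [CommRing A₀] {A : Type u} [CommRing A] [Algebra A₀ A]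
variable {P : Type u} [CommRing P] [HopfAlgebra A₀ P]

variable (P) in
/-- An etale algebra over a subring splitting the model and giving `T` over `A`. -/
def HasChart (E : Subalgebra A₀ A) (T : Type u) [CommRing T] [Algebra A T] : Prop :=
  ∃ (U : Type u) (_ : CommRing U) (_ : Algebra E U) (_ : Algebra A₀ U) (_ : IsScalarTower A₀ E U),
    Algebra.Etale E U ∧ SGA3b.IsDiag U (U ⊗[A₀] P) ∧ Nonempty (A ⊗[E] U ≃ₐ[A] T)

theorem HasChart.mono {E E' : Subalgebra A₀ A} (hle : E ≤ E') {T : Type u} [CommRing T] [Algebra A T]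
    (h : HasChart P E T) : HasChart P E' T := by
  obtain ⟨U, _, _, _, _, het, hd, ⟨e⟩⟩ := h
  letI : Algebra E E' := (Subalgebra.inclusion hle).toRingHom.toAlgebra
  haveI : IsScalarTower A₀ E E' := IsScalarTower.of_algebraMap_eq fun r => rfl
  haveI : IsScalarTower E E' A := IsScalarTower.of_algebraMap_eq fun r => rfl
  letI : Algebra U (E' ⊗[E] U) := Algebra.TensorProduct.rightAlgebra
  haveI : IsScalarTower A₀ U (E' ⊗[E] U) := IsScalarTower.of_algebraMap_eq fun r => by
    change algebraMap A₀ (E' ⊗[E] U) r = (1 : E') ⊗ₜ[E] algebraMap A₀ U r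
    rw [Algebra.TensorProduct.algebraMap_apply, IsScalarTower.algebraMap_apply A₀ E E', IsScalarTower.algebraMap_apply A₀ E U,
      Algebra.algebraMap_eq_smul_one (R := E) (A := E'), TensorProduct.smul_tmul, ← Algebra.algebraMap_eq_smul_one]
  exact ⟨E' ⊗[E] U, inferInstance, inferInstance, inferInstance, inferInstance, inferInstance,
    isDiag_tower U (E' ⊗[E] U) hd, ⟨(Algebra.TensorProduct.cancelBaseChange E E' A A U).trans e⟩⟩

/-- A splitting may be taken with a finitely generated group. -/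
theorem exists_split_fg {W : Type u} [CommRing W] [Algebra A₀ W] [Algebra.FiniteType A₀ P] (h : SGA3b.IsDiag W (W ⊗[A₀] P)) :
    ∃ (M : Type u) (_ : CommGroup M), Group.FG M ∧ Nonempty (W ⊗[A₀] P ≃ₐc[W] MonoidAlgebra W M) := by
  rcases subsingleton_or_nontrivial W with hW | hW
  · obtain ⟨M, _, ⟨ρ⟩⟩ := h
    haveI : Subsingleton (W ⊗[A₀] P) := Module.subsingleton W _
    haveI : Subsingleton (MonoidAlgebra W PUnit.{u + 1}) := Module.subsingleton W _
    obtain ⟨θ, -⟩ := exists_bialgHom_of_grouplike (R := W) (1 : PUnit.{u + 1} →* W ⊗[A₀] P) fun _ => IsGroupLikeElem.one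
    exact ⟨PUnit.{u + 1}, inferInstance, inferInstance,
      ⟨(BialgEquiv.ofBijective θ ⟨Function.injective_of_subsingleton θ, fun x => ⟨0, Subsingleton.elim _ _⟩⟩).symm⟩⟩
  · obtain ⟨M, _, ⟨ρ⟩⟩ := h
    exact ⟨M, inferInstance, Group.fg_iff_monoid_fg.2 (monoidFG_of_finiteType ρ), ⟨ρ⟩⟩

theorem isDiag_transfer {W U : Type u} [CommRing W] [CommRing U] [Algebra A₀ W] [Algebra A₀ U] (φ : W →ₐ[A₀] U)
    (h : SGA3b.IsDiag W (W ⊗[A₀] P)) : SGA3b.IsDiag U (U ⊗[A₀] P) := by
  letI : Algebra W U := φ.toRingHom.toAlgebra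
  haveI : IsScalarTower A₀ W U := IsScalarTower.of_algebraMap_eq fun r => (φ.commutes r).symm
  exact isDiag_tower W U h

theorem hasChart_of_stage {A₁ : Subalgebra A₀ A} (hA₁ : A₁.FG) {B : Type u} [CommRing B] [Algebra A₁ B] [Algebra A₀ B]
    [IsScalarTower A₀ A₁ B] [Algebra.Etale A₁ B] {D : Subalgebra A₁ A} (hD : D.FG)
    (hdD : SGA3b.IsDiag (B ⊗[A₁] D) ((B ⊗[A₁] D) ⊗[B] (B ⊗[A₀] P))) {T : Type u} [CommRing T] [Algebra A T]
    (e : T ≃ₐ[A] A ⊗[A₁] B) : ∃ E : Subalgebra A₀ A, E.FG ∧ HasChart P E T := by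
  have hft : Algebra.FiniteType A₀ D :=
    Algebra.FiniteType.trans (A₁.fg_iff_finiteType.1 hA₁) (D.fg_iff_finiteType.1 hD)
  have hDfg : (D.restrictScalars A₀).FG := (D.restrictScalars A₀).fg_iff_finiteType.2 hft
  refine ⟨D.restrictScalars A₀, hDfg, ?_⟩
  let φ : B ⊗[A₁] D →ₐ[A₀] D ⊗[A₁] B := (Algebra.TensorProduct.comm A₁ B D).toAlgHom.restrictScalars A₀
  have hdU := isDiag_transfer (U := D ⊗[A₁] B) φ (isDiag_of_equiv (cancelBC A₀ B (B ⊗[A₁] D) P) hdD)
  letI algU : Algebra (D.restrictScalars A₀) (D ⊗[A₁] B) := inferInstanceAs (Algebra D (D ⊗[A₁] B))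
  haveI : IsScalarTower A₀ (D.restrictScalars A₀) (D ⊗[A₁] B) := IsScalarTower.of_algebraMap_eq fun r => by
    rw [IsScalarTower.algebraMap_apply A₀ A₁ (D ⊗[A₁] B)]
    rfl
  refine ⟨D ⊗[A₁] B, inferInstance, algU, inferInstance, inferInstance, ?_, hdU,
    ⟨(Algebra.TensorProduct.cancelBaseChange A₁ D A A B).trans e.symm⟩⟩
  exact inferInstanceAs (Algebra.Etale D (D ⊗[A₁] B))

/-- A splitting etale algebra comes from a finitely generated subring. -/
theorem exists_hasChart [Algebra.FinitePresentation A₀ P] (T : Type u) [CommRing T] [Algebra A T] [Algebra.Etale A T]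
    [Algebra A₀ T] [IsScalarTower A₀ A T] (hd : SGA3b.IsDiag T (T ⊗[A₀] P)) :
    ∃ E : Subalgebra A₀ A, E.FG ∧ HasChart P E T := by
  obtain ⟨A₁, B, _, algB, hA₁, hB, ⟨e⟩⟩ := Algebra.Etale.exists_subalgebra_fg A₀ A T
  letI : Algebra A₀ B := ((algebraMap A₁ B).comp (algebraMap A₀ A₁)).toAlgebra
  haveI : IsScalarTower A₀ A₁ B := IsScalarTower.of_algebraMap_eq fun _ => rfl
  let φT : T →ₐ[A₀] B ⊗[A₁] A := ((Algebra.TensorProduct.comm A₁ A B).toAlgHom.restrictScalars A₀).comp
    ((e.toAlgHom).restrictScalars A₀)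
  letI : Algebra T (B ⊗[A₁] A) := φT.toRingHom.toAlgebra
  haveI : IsScalarTower A₀ T (B ⊗[A₁] A) := IsScalarTower.of_algebraMap_eq fun r => (φT.commutes r).symm
  obtain ⟨M, _, hMfg, ⟨ρ⟩⟩ := exists_split_fg (isDiag_tower (A := P) T (B ⊗[A₁] A) hd)
  haveI := hMfg
  let ρ' := (cancelBC A₀ B (B ⊗[A₁] A) P).trans ρ
  obtain ⟨D, hD, hdD⟩ := UnionStage.exists_diag_stage (S := B) (R := A) (B ⊗[A₀] P) ρ'
  exact hasChart_of_stage hA₁ hD hdD e

/-- A lift over a larger base of a point lying under a point of an algebra. -/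
theorem exists_lift_baseChange {E E' U : Type u} [CommRing E] [CommRing E'] [CommRing U] [Algebra E E'] [Algebra E U]
    (p' : PrimeSpectrum E') (h : p'.comap (algebraMap E E') ∈ Set.range (PrimeSpectrum.comap (algebraMap E U))) :
    ∃ q : PrimeSpectrum (E' ⊗[E] U), q.comap (algebraMap E' (E' ⊗[E] U)) = p' := by
  let p := p'.comap (algebraMap E E')
  haveI h1 : Nontrivial (p.asIdeal.ResidueField ⊗[E] U) := p.nontrivial_iff_mem_rangeComap.2 h
  let g : p.asIdeal.ResidueField →ₐ[E] p'.asIdeal.ResidueField :=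
    Ideal.ResidueField.mapₐ p.asIdeal p'.asIdeal (Algebra.ofId E E') rfl
  letI : Algebra p.asIdeal.ResidueField p'.asIdeal.ResidueField := g.toRingHom.toAlgebra
  haveI : IsScalarTower E p.asIdeal.ResidueField p'.asIdeal.ResidueField := IsScalarTower.of_algebraMap_eq fun r => (g.commutes r).symm
  haveI : Nontrivial (p'.asIdeal.ResidueField ⊗[p.asIdeal.ResidueField] (p.asIdeal.ResidueField ⊗[E] U)) :=
    (Algebra.TensorProduct.includeLeft_injective (S := p'.asIdeal.ResidueField) (A := p'.asIdeal.ResidueField)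
      (algebraMap p.asIdeal.ResidueField (p.asIdeal.ResidueField ⊗[E] U)).injective).nontrivial
  haveI : Nontrivial (p'.asIdeal.ResidueField ⊗[E'] (E' ⊗[E] U)) :=
    ((Algebra.TensorProduct.cancelBaseChange E E' p'.asIdeal.ResidueField p'.asIdeal.ResidueField U).trans
      (Algebra.TensorProduct.cancelBaseChange E p.asIdeal.ResidueField p'.asIdeal.ResidueField p'.asIdeal.ResidueField U).symm).toEquiv.nontrivial
  exact p'.nontrivial_iff_mem_rangeComap.1 inferInstance

theorem exists_stage_unit {E : Type u} [CommRing E] [Algebra E A] (I : Ideal E) {x : A} (hx : x ∈ I.map (algebraMap E A)) :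
    ∃ D : Subalgebra E A, D.FG ∧ ∃ y : D, y ∈ I.map (algebraMap E D) ∧ (y : A) = x := by
  induction hx using Submodule.span_induction with
  | mem x hx =>
    obtain ⟨i, hi, rfl⟩ := hx
    exact ⟨⊥, Subalgebra.fg_bot, algebraMap E _ i, Ideal.mem_map_of_mem _ hi, rfl⟩
  | zero => exact ⟨⊥, Subalgebra.fg_bot, 0, zero_mem _, rfl⟩
  | add a b _ _ ha hb =>
    obtain ⟨D, hD, y, hy, rfl⟩ := ha
    obtain ⟨D', hD', y', hy', rfl⟩ := hb
    have key : ∀ {D D' : Subalgebra E A} (h : D ≤ D') {y : D}, y ∈ I.map (algebraMap E D) →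
        Subalgebra.inclusion h y ∈ I.map (algebraMap E D') := fun {D D'} h {y} hy => by
      have := Ideal.mem_map_of_mem (Subalgebra.inclusion h : D →+* D') hy
      rwa [Ideal.map_map, AlgHom.comp_algebraMap] at this
    exact ⟨D ⊔ D', hD.sup hD', _, add_mem (key (le_sup_left : D ≤ D ⊔ D') hy) (key (le_sup_right : D' ≤ D ⊔ D') hy'), rfl⟩
  | smul a b _ hb =>
    obtain ⟨D, hD, y, hy, rfl⟩ := hb
    have h : D ≤ D ⊔ Algebra.adjoin E {a} := le_sup_left
    refine ⟨D ⊔ Algebra.adjoin E {a}, hD.sup ⟨{a}, by simp⟩,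
      ⟨a, (le_sup_right : Algebra.adjoin E {a} ≤ _) (Algebra.subset_adjoin rfl)⟩ * Subalgebra.inclusion h y, ?_, rfl⟩
    refine Ideal.mul_mem_left _ _ ?_
    have := Ideal.mem_map_of_mem (Subalgebra.inclusion h : D →+* (D ⊔ Algebra.adjoin E {a} : Subalgebra E A)) hy
    rwa [Ideal.map_map, AlgHom.comp_algebraMap] at this

/-- Covers come from a stage. -/
theorem exists_cover_stage {E : Type u} [CommRing E] [Algebra E A] {ι : Type u} (U : ι → Type u) [∀ i, CommRing (U i)]
    [∀ i, Algebra E (U i)] [∀ i, Algebra.Etale E (U i)] (hc : IsCover A fun i => A ⊗[E] U i) :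
    ∃ D : Subalgebra E A, D.FG ∧ ∀ D' : Subalgebra E A, D ≤ D' → IsCover D' fun i => D' ⊗[E] U i := by
  haveI : ∀ i, Algebra.HasGoingDown E (U i) := fun i => inferInstance
  have hop : IsOpen (⋃ i, Set.range (PrimeSpectrum.comap (algebraMap E (U i)))) := isOpen_iUnion fun i =>
    (PrimeSpectrum.isOpenMap_comap_of_hasGoingDown_of_finitePresentation (R := E) (S := U i)).isOpen_range
  obtain ⟨s, hs⟩ := (PrimeSpectrum.isOpen_iff _).1 hop
  let I := Ideal.span s
  have hI : ∀ p : PrimeSpectrum E, p ∈ (⋃ i, Set.range (PrimeSpectrum.comap (algebraMap E (U i)))) ↔ ¬ I ≤ p.asIdeal := fun p => by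
    rw [← compl_compl (⋃ i, Set.range (PrimeSpectrum.comap (algebraMap E (U i)))), hs, Set.mem_compl_iff,
      ← PrimeSpectrum.zeroLocus_span, PrimeSpectrum.mem_zeroLocus, SetLike.coe_subset_coe]
  have htop : (1 : A) ∈ I.map (algebraMap E A) := by
    by_contra hne
    obtain ⟨m, hm, hle⟩ := Ideal.exists_le_maximal (I.map (algebraMap E A)) fun h => hne (by rw [h]; exact Submodule.mem_top)
    obtain ⟨i, q, hq⟩ := hc.exists_lift ⟨m, hm.isPrime⟩
    refine (hI ((⟨m, hm.isPrime⟩ : PrimeSpectrum A).comap (algebraMap E A))).1 (Set.mem_iUnion.2 ⟨i,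
      q.comap (Algebra.TensorProduct.includeRight : U i →ₐ[E] A ⊗[E] U i).toRingHom, ?_⟩) (Ideal.map_le_iff_le_comap.1 hle)
    rw [← hq, ← PrimeSpectrum.comap_comp_apply, ← PrimeSpectrum.comap_comp_apply]
    congr 1
    refine RingHom.ext fun r => ?_
    simp only [RingHom.coe_comp, Function.comp_apply, AlgHom.toRingHom_eq_coe, RingHom.coe_coe, AlgHom.commutes]
    exact IsScalarTower.algebraMap_apply E A (A ⊗[E] U i) r
  obtain ⟨D, hD, y, hy, hy1⟩ := exists_stage_unit I htop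
  obtain rfl : y = 1 := Subtype.ext hy1
  refine ⟨D, hD, fun D' hle => ⟨fun i => inferInstance, fun p' => ?_⟩⟩
  have hp : p'.comap (algebraMap E D') ∈ ⋃ i, Set.range (PrimeSpectrum.comap (algebraMap E (U i))) := by
    rw [hI]
    intro h
    have h1 := Ideal.mem_map_of_mem (Subalgebra.inclusion hle : D →+* D') hy
    rw [Ideal.map_map, AlgHom.comp_algebraMap, map_one] at h1
    exact p'.isPrime.ne_top ((Ideal.eq_top_iff_one _).2 (Ideal.map_le_iff_le_comap.2 h h1))
  obtain ⟨i, hi⟩ := Set.mem_iUnion.1 hp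
  obtain ⟨q, hq⟩ := exists_lift_baseChange p' hi
  exact ⟨i, q, hq⟩

/-- Integrality comes from a stage. -/
theorem exists_integral_stage {E : Type u} [CommRing E] [Algebra E A] {U : Type u} [CommRing U] [Algebra E U] (u : U)
    (h : IsIntegral A ((1 : A) ⊗ₜ[E] u)) :
    ∃ D : Subalgebra E A, D.FG ∧ ∀ D' : Subalgebra E A, D ≤ D' → IsIntegral D' ((1 : D') ⊗ₜ[E] u) := by
  classical
  obtain ⟨f, hf, hfu⟩ := h
  let D : Subalgebra E A := Algebra.adjoin E (f.coeffs : Set A)
  have hD : D.FG := ⟨f.coeffs, rfl⟩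
  have hl : f ∈ Polynomial.lifts (algebraMap D A) := by
    rw [Polynomial.lifts_iff_coeff_lifts]
    intro n
    by_cases hn : f.coeff n = 0
    · exact ⟨0, by rw [map_zero, hn]⟩
    · exact ⟨⟨f.coeff n, Algebra.subset_adjoin (Polynomial.coeff_mem_coeffs hn)⟩, rfl⟩
  obtain ⟨g, hg, -, hgm⟩ := Polynomial.lifts_and_natDegree_eq_and_monic hl hf
  have hmap : ∀ (D₁ D₂ : Subalgebra E A) (hle : D₁ ≤ D₂) (g : Polynomial D₁),
      Algebra.TensorProduct.map (Subalgebra.inclusion hle) (AlgHom.id E U) (Polynomial.aeval ((1 : D₁) ⊗ₜ[E] u) g) =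
        Polynomial.aeval ((1 : D₂) ⊗ₜ[E] u) (g.map (Subalgebra.inclusion hle : D₁ →+* D₂)) := fun D₁ D₂ hle g => by
    rw [Polynomial.aeval_def, Polynomial.aeval_def, Polynomial.eval₂_map]
    refine (Polynomial.hom_eval₂ g (algebraMap D₁ (D₁ ⊗[E] U))
      (Algebra.TensorProduct.map (Subalgebra.inclusion hle) (AlgHom.id E U) : D₁ ⊗[E] U →+* D₂ ⊗[E] U) _).trans ?_
    congr 1
  have h0 : D.val.toLinearMap.rTensor U (Polynomial.aeval ((1 : D) ⊗ₜ[E] u) g) = 0 := by
    change Algebra.TensorProduct.map D.val (AlgHom.id E U) (Polynomial.aeval ((1 : D) ⊗ₜ[E] u) g) = 0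
    rw [← hfu, ← hg, Polynomial.eval₂_map, Polynomial.aeval_def]
    refine (Polynomial.hom_eval₂ g (algebraMap D (D ⊗[E] U))
      (Algebra.TensorProduct.map D.val (AlgHom.id E U) : D ⊗[E] U →+* A ⊗[E] U) _).trans ?_
    congr 1
  obtain ⟨D₁, hle₁, hD₁, h1⟩ := TensorProduct.Algebra.eq_of_fg_of_subtype_eq hD (t' := 0) (by rw [h0, map_zero])
  refine ⟨D₁, hD₁, fun D' hle => ⟨g.map (Subalgebra.inclusion (hle₁.trans hle) : D →+* D'), hgm.map _, ?_⟩⟩
  rw [map_zero] at h1
  have h2 : Algebra.TensorProduct.map (Subalgebra.inclusion hle₁) (AlgHom.id E U) (Polynomial.aeval ((1 : D) ⊗ₜ[E] u) g) = 0 := h1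
  rw [← Polynomial.aeval_def, ← hmap]
  have h3 := congrArg (Algebra.TensorProduct.map (Subalgebra.inclusion hle) (AlgHom.id E U)) h2
  rw [map_zero, hmap, hmap, Polynomial.map_map] at h3
  rw [hmap]
  exact h3

/-- Finiteness comes from a stage. -/
theorem exists_finite_stage {E : Type u} [CommRing E] [Algebra E A] {U : Type u} [CommRing U] [Algebra E U]
    [Algebra.FiniteType E U] [Module.Finite A (A ⊗[E] U)] :
    ∃ D : Subalgebra E A, D.FG ∧ ∀ D' : Subalgebra E A, D ≤ D' → Module.Finite D' (D' ⊗[E] U) := by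
  classical
  obtain ⟨s, hs⟩ := Algebra.FiniteType.out (R := E) (A := U)
  choose D hD hint using fun u : U =>
    exists_integral_stage (A := A) (E := E) u (Algebra.IsIntegral.isIntegral (R := A) ((1 : A) ⊗ₜ[E] u))
  refine ⟨s.sup D, Finset.sup_induction Subalgebra.fg_bot (fun a ha b hb => ha.sup hb) fun i _ => hD i, fun D' hle => ?_⟩
  haveI : Algebra.IsIntegral D' (D' ⊗[E] U) := ⟨fun z => by
    induction z with
    | zero => exact isIntegral_zero
    | add a b ha hb => exact ha.add hb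
    | tmul d w =>
      have hw : (Algebra.TensorProduct.includeRight : U →ₐ[E] D' ⊗[E] U) w ∈
          (integralClosure D' (D' ⊗[E] U)).restrictScalars E := by
        have hle' : Algebra.adjoin E (s : Set U) ≤ ((integralClosure D' (D' ⊗[E] U)).restrictScalars E).comap
            (Algebra.TensorProduct.includeRight : U →ₐ[E] D' ⊗[E] U) :=
          Algebra.adjoin_le fun x hx => hint x D' ((Finset.le_sup (f := D) hx).trans hle)
        exact hle' (hs ▸ Algebra.mem_top)
      have h1 := IsIntegral.smul d (hw : IsIntegral D' ((1 : D') ⊗ₜ[E] w))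
      rwa [Algebra.TensorProduct.includeRight_apply, TensorProduct.smul_tmul', smul_eq_mul, mul_one] at h1⟩
  exact Algebra.IsIntegral.finite

end Groth.Agent.SGA3b53.UnionDescent
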