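import Groth.Agent.SGA3b53.Stage
import Groth.Agent.SGA3b53.ModelExists
import Groth.Agent.SGA3b53.FPres
import Groth.Agent.SGA3b53.DiagLift
import Mathlib

/-!
Diagonalisations over the base change of an algebra to a ring come from finitely generated subrings.
-/

set_option autoImplicit false
set_option linter.unusedSectionVars false
set_option linter.style.haveILetI false
universe u
open TensorProduct

noncomputable section

namespace Groth.Agent.SGA3b53.UnionStage

variable {A₁ : Type u} [CommRing A₁] {R : Type u} [CommRing R] [Algebra A₁ R] {S : Type u} [CommRing S] [Algebra A₁ S]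

/-- The inclusion of a stage. -/
abbrev incl (D : Subalgebra A₁ R) : S ⊗[A₁] D →ₐ[S] S ⊗[A₁] R := Algebra.TensorProduct.map (AlgHom.id S S) D.val

/-- The transition between stages. -/
abbrev trans {D D' : Subalgebra A₁ R} (h : D ≤ D') : S ⊗[A₁] D →ₐ[S] S ⊗[A₁] D' :=
  Algebra.TensorProduct.map (AlgHom.id S S) (Subalgebra.inclusion h)

theorem incl_trans {D D' : Subalgebra A₁ R} (h : D ≤ D') (x : S ⊗[A₁] D) : incl D' (trans h x) = incl D x := by
  induction x with
  | zero => simp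
  | add a b ha hb => simp only [map_add, ha, hb]
  | tmul s d => simp [incl, trans]

theorem trans_trans {D D' D'' : Subalgebra A₁ R} (h : D ≤ D') (h' : D' ≤ D'') (x : S ⊗[A₁] D) :
    trans h' (trans h x) = trans (h.trans h') x := by
  induction x with
  | zero => simp
  | add a b ha hb => simp only [map_add, ha, hb]
  | tmul s d => simp [trans]

theorem exists_rep (t : S ⊗[A₁] R) : ∃ D : Subalgebra A₁ R, D.FG ∧ ∃ x, incl D x = t := by
  induction t with
  | zero => exact ⟨⊥, Subalgebra.fg_bot, 0, map_zero _⟩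
  | tmul s r =>
    refine ⟨Algebra.adjoin A₁ {r}, ⟨{r}, by simp⟩, s ⊗ₜ[A₁] ⟨r, Algebra.subset_adjoin rfl⟩, ?_⟩
    simp [incl]
  | add a b ha hb =>
    obtain ⟨D, hD, x, rfl⟩ := ha
    obtain ⟨D', hD', y, rfl⟩ := hb
    exact ⟨D ⊔ D', hD.sup hD', trans (S := S) (le_sup_left : D ≤ D ⊔ D') x + trans (S := S) (le_sup_right : D' ≤ D ⊔ D') y, by rw [map_add, incl_trans, incl_trans]⟩

section Module

variable (N : Type u) [AddCommGroup N] [Module S N] [Module A₁ N] [IsScalarTower A₁ S N]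

/-- Moving the stage to the left. -/
def κ (D : Type u) [CommRing D] [Algebra A₁ D] : (S ⊗[A₁] D) ⊗[S] N ≃ₗ[A₁] D ⊗[A₁] N :=
  ((TensorProduct.comm S (S ⊗[A₁] D) N).restrictScalars A₁).trans
    (((AlgebraTensorModule.cancelBaseChange A₁ S S N D).restrictScalars A₁).trans (TensorProduct.comm A₁ N D))

theorem κ_tmul (D : Type u) [CommRing D] [Algebra A₁ D] (s : S) (d : D) (n : N) :
    κ N D ((s ⊗ₜ[A₁] d) ⊗ₜ[S] n) = d ⊗ₜ[A₁] (s • n) := by
  simp [κ]

theorem κ_natural {D D' : Type u} [CommRing D] [Algebra A₁ D] [CommRing D'] [Algebra A₁ D'] (f : D →ₐ[A₁] D')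
    (w : (S ⊗[A₁] D) ⊗[S] N) :
    κ N D' ((Algebra.TensorProduct.map (AlgHom.id S S) f).toLinearMap.rTensor N w) = f.toLinearMap.rTensor N (κ N D w) := by
  induction w with
  | zero => simp
  | add a b ha hb => simp only [map_add, ha, hb]
  | tmul x n =>
    induction x with
    | zero => simp
    | add a b ha hb => simp only [map_add, add_tmul, ha, hb]
    | tmul s d => simp [κ_tmul]

theorem exists_rep_tensor (z : (S ⊗[A₁] R) ⊗[S] N) :
    ∃ D : Subalgebra A₁ R, D.FG ∧ ∃ w, (incl (S := S) D).toLinearMap.rTensor N w = z := by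
  induction z with
  | zero => exact ⟨⊥, Subalgebra.fg_bot, 0, map_zero _⟩
  | tmul t n =>
    obtain ⟨D, hD, x, rfl⟩ := exists_rep t
    exact ⟨D, hD, x ⊗ₜ n, rfl⟩
  | add a b ha hb =>
    obtain ⟨D, hD, x, rfl⟩ := ha
    obtain ⟨D', hD', y, rfl⟩ := hb
    refine ⟨D ⊔ D', hD.sup hD', (trans (S := S) (le_sup_left : D ≤ D ⊔ D')).toLinearMap.rTensor N x +
      (trans (S := S) (le_sup_right : D' ≤ D ⊔ D')).toLinearMap.rTensor N y, ?_⟩
    rw [map_add, ← LinearMap.rTensor_comp_apply, ← LinearMap.rTensor_comp_apply]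
    congr 2 <;> · congr 1; exact LinearMap.ext fun x => incl_trans _ x

theorem exists_zero {D : Subalgebra A₁ R} (hD : D.FG) (w : (S ⊗[A₁] D) ⊗[S] N)
    (h : (incl (S := S) D).toLinearMap.rTensor N w = 0) :
    ∃ (D' : Subalgebra A₁ R) (hle : D ≤ D'), D'.FG ∧ (trans (S := S) hle).toLinearMap.rTensor N w = 0 := by
  obtain ⟨D', hle, hD', hz⟩ := TensorProduct.Algebra.eq_of_fg_of_subtype_eq hD (t := κ N D w) (t' := 0)
    (by rw [map_zero, ← κ_natural, h, map_zero])
  refine ⟨D', hle, hD', (κ N D').injective ?_⟩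
  rw [κ_natural, map_zero, hz, map_zero]

end Module

theorem exists_zero_base {D : Subalgebra A₁ R} (hD : D.FG) (x : S ⊗[A₁] D) (h : incl D x = 0) :
    ∃ (D' : Subalgebra A₁ R) (hle : D ≤ D'), D'.FG ∧ trans hle x = 0 := by
  obtain ⟨D', hle, hD', hz⟩ := exists_zero (S := S) S hD (x ⊗ₜ[S] (1 : S))
    ((congrArg (fun t => t ⊗ₜ[S] (1 : S)) h).trans (TensorProduct.zero_tmul _ _))
  refine ⟨D', hle, hD', ?_⟩
  have h1 := congrArg (TensorProduct.rid S (S ⊗[A₁] D')) (show (trans (S := S) hle x) ⊗ₜ[S] (1 : S) = 0 from hz)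
  rw [TensorProduct.rid_tmul, one_smul, map_zero] at h1
  exact h1

theorem exists_zero_finset {D : Subalgebra A₁ R} (hD : D.FG) (F : Finset (S ⊗[A₁] D)) (h : ∀ x ∈ F, incl D x = 0) :
    ∃ (D' : Subalgebra A₁ R) (hle : D ≤ D'), D'.FG ∧ ∀ x ∈ F, trans hle x = 0 := by
  classical
  induction F using Finset.induction_on with
  | empty => exact ⟨D, le_rfl, hD, fun x hx => absurd hx (Finset.notMem_empty x)⟩
  | insert a F ha ih =>
    obtain ⟨D₁, h₁, hD₁, hF⟩ := ih fun x hx => h x (Finset.mem_insert_of_mem hx)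
    obtain ⟨D₂, h₂, hD₂, h0⟩ := exists_zero_base hD₁ (trans h₁ a) (by rw [incl_trans]; exact h a (Finset.mem_insert_self a F))
    refine ⟨D₂, h₁.trans h₂, hD₂, fun x hx => ?_⟩
    rw [← trans_trans h₁ h₂]
    rcases Finset.mem_insert.1 hx with rfl | hx
    · exact h0
    · rw [hF x hx, map_zero]

variable (Q : Type u) [CommRing Q] [HopfAlgebra S Q] [Algebra A₁ Q] [IsScalarTower A₁ S Q]

/-- Base change of points along a transition. -/
abbrev μ {D D' : Type u} [CommRing D] [CommRing D'] [Algebra S D] [Algebra S D'] (f : D →ₐ[S] D') :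
    D ⊗[S] Q →ₐ[S] D' ⊗[S] Q :=
  Algebra.TensorProduct.map f (AlgHom.id S Q)

theorem μ_incl {D D' : Subalgebra A₁ R} (h : D ≤ D') (z : (S ⊗[A₁] D) ⊗[S] Q) :
    μ Q (incl D') (μ Q (trans h) z) = μ Q (incl D) z := by
  induction z with
  | zero => simp
  | add a b ha hb => simp only [map_add, ha, hb]
  | tmul x n => simp only [μ, Algebra.TensorProduct.map_tmul, incl_trans, AlgHom.id_apply]

theorem μ_trans {D D' D'' : Subalgebra A₁ R} (h : D ≤ D') (h' : D' ≤ D'') (z : (S ⊗[A₁] D) ⊗[S] Q) :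
    μ Q (trans h') (μ Q (trans h) z) = μ Q (trans (h.trans h')) z := by
  induction z with
  | zero => simp
  | add a b ha hb => simp only [map_add, ha, hb]
  | tmul x n => simp only [μ, Algebra.TensorProduct.map_tmul, trans_trans, AlgHom.id_apply]

theorem exists_eq {D : Subalgebra A₁ R} (hD : D.FG) (z z' : (S ⊗[A₁] D) ⊗[S] Q) (h : μ Q (incl D) z = μ Q (incl D) z') :
    ∃ (D' : Subalgebra A₁ R) (hle : D ≤ D'), D'.FG ∧ μ Q (trans hle) z = μ Q (trans hle) z' := by
  obtain ⟨D', hle, hD', hz⟩ := exists_zero (S := S) Q hD (z - z') (by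
    rw [← map_id_eq_rTensor, map_sub, sub_eq_zero]; exact h)
  refine ⟨D', hle, hD', ?_⟩
  rw [← map_id_eq_rTensor, map_sub, sub_eq_zero] at hz
  exact hz

theorem exists_grouplike {D : Subalgebra A₁ R} (hD : D.FG) (z : (S ⊗[A₁] D) ⊗[S] Q)
    (h : IsGroupLikeElem (S ⊗[A₁] R) (μ Q (incl D) z)) :
    ∃ (D' : Subalgebra A₁ R) (hle : D ≤ D'), D'.FG ∧ IsGroupLikeElem (S ⊗[A₁] D') (μ Q (trans hle) z) := by
  rw [isGroupLike_iff_small] at h
  obtain ⟨h1, h2⟩ := h
  rw [counit_map_base] at h1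
  rw [← comulSmall_map, ← squareSmall_map] at h2
  obtain ⟨D₁, le₁, hD₁, e₁⟩ := exists_zero_base hD (Coalgebra.counit (R := S ⊗[A₁] D) z - 1)
    (by rw [map_sub, h1, map_one, sub_self])
  obtain ⟨D₂, le₂, hD₂, e₂⟩ := exists_zero (S := S) (Q ⊗[S] Q) hD₁
    (Algebra.TensorProduct.map (trans le₁) (AlgHom.id S (Q ⊗[S] Q)) (comulSmall z - squareSmall z)) (by
      rw [map_id_eq_rTensor, ← LinearMap.rTensor_comp_apply,
        show (incl (S := S) D₁).toLinearMap ∘ₗ (trans le₁).toLinearMap = (incl (S := S) D).toLinearMap from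
          LinearMap.ext fun x => incl_trans le₁ x, ← map_id_eq_rTensor, map_sub, sub_eq_zero]
      exact h2)
  refine ⟨D₂, le₁.trans le₂, hD₂, ?_⟩
  rw [isGroupLike_iff_small, counit_map_base]
  refine ⟨?_, ?_⟩
  · rw [← sub_eq_zero, ← map_one (trans (S := S) (le₁.trans le₂)), ← map_sub, ← trans_trans le₁ le₂, e₁, map_zero]
  · rw [← comulSmall_map, ← squareSmall_map, ← sub_eq_zero, ← map_sub, map_id_eq_rTensor,
      show (trans (S := S) (le₁.trans le₂)).toLinearMap = (trans (S := S) le₂).toLinearMap ∘ₗ (trans le₁).toLinearMap from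
          LinearMap.ext fun x => (trans_trans le₁ le₂ x).symm, LinearMap.rTensor_comp_apply, ← map_id_eq_rTensor (trans le₁)]
    exact e₂

/-- The group of group-like points over an algebra. -/
abbrev GL' (S : Type u) [CommRing S] (Q : Type u) [CommRing Q] [HopfAlgebra S Q] (U : Type u) [CommRing U] [Algebra S U] :
    Type u := GroupLike U (U ⊗[S] Q)

instance instCommGroupGL (S : Type u) [CommRing S] (Q : Type u) [CommRing Q] [HopfAlgebra S Q] (U : Type u) [CommRing U]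
    [Algebra S U] : CommGroup (GL' S Q U) := GroupLike.instCommGroup

theorem isGroupLike_μ {D D' : Type u} [CommRing D] [CommRing D'] [Algebra S D] [Algebra S D'] (f : D →ₐ[S] D')
    {z : D ⊗[S] Q} (h : IsGroupLikeElem D z) : IsGroupLikeElem D' (μ Q f z) :=
  isGroupLike_map f h

/-- Functoriality of the group-like points. -/
def glMap {U U' : Type u} [CommRing U] [Algebra S U] [CommRing U'] [Algebra S U'] (f : U →ₐ[S] U') :
    GL' S Q U →* GL' S Q U' where
  toFun u := ⟨μ Q f u.val, isGroupLike_μ Q f u.isGroupLikeElem_val⟩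
  map_one' := GroupLike.val_injective (map_one (μ Q f))
  map_mul' a b := GroupLike.val_injective (map_mul (μ Q f) a.val b.val)

@[simp] theorem glMap_val {U U' : Type u} [CommRing U] [Algebra S U] [CommRing U'] [Algebra S U'] (f : U →ₐ[S] U')
    (u : GL' S Q U) : (glMap Q f u).val = μ Q f u.val := rfl

theorem μ_smul {U U' : Type u} [CommRing U] [Algebra S U] [CommRing U'] [Algebra S U'] (f : U →ₐ[S] U') (r : U)
    (z : U ⊗[S] Q) : μ Q f (r • z) = f r • μ Q f z := by
  induction z with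
  | zero => simp
  | add a b ha hb => simp only [smul_add, map_add, ha, hb]
  | tmul t q => simp [μ, TensorProduct.smul_tmul']

theorem finitePresentation_monoidAlgebra (U : Type u) [CommRing U] (M : Type u) [CommGroup M] [Monoid.FG M] :
    Algebra.FinitePresentation U (MonoidAlgebra U M) :=
  finitePresentation_of_isDiag (A := MonoidAlgebra U M) inferInstance ⟨M, inferInstance, ⟨BialgEquiv.refl _ _⟩⟩

theorem exists_ker_generators {U : Type u} [CommRing U] [Algebra S U] [Algebra.FinitePresentation S Q] {M : Type u}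
    [CommGroup M] [Monoid.FG M] (θ : MonoidAlgebra U M →ₐc[U] U ⊗[S] Q) (hs : Function.Surjective θ) :
    ∃ Kg : Finset (MonoidAlgebra U M), ∀ y, θ y = 0 ↔ y ∈ Ideal.span (Kg : Set (MonoidAlgebra U M)) := by
  haveI : Algebra.FinitePresentation U (MonoidAlgebra U M) := finitePresentation_monoidAlgebra U M
  obtain ⟨Kg, hKg⟩ := Algebra.FinitePresentation.ker_fG_of_surjective (θ : MonoidAlgebra U M →ₐ[U] U ⊗[S] Q) hs
  exact ⟨Kg, fun y => by rw [show Ideal.span (Kg : Set (MonoidAlgebra U M)) = _ from hKg]; exact Iff.rfl⟩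

theorem exists_factor {U : Type u} [CommRing U] [Algebra S U] {Y : Type u} [CommRing Y] [Algebra S Y] {M : Type u}
    [CommGroup M] (θ : MonoidAlgebra U M →ₐc[U] U ⊗[S] Q) (hs : Function.Surjective θ)
    (ν : MonoidAlgebra U M →ₐ[S] Y) (h : ∀ y, θ y = 0 → ν y = 0) :
    ∃ σ : U ⊗[S] Q →ₐ[S] Y, ∀ y, σ (θ y) = ν y :=
  ⟨AlgHom.liftOfSurjective ((θ : MonoidAlgebra U M →ₐ[U] U ⊗[S] Q).restrictScalars S) hs ν (fun y hy => h y hy),
    fun y => AlgHom.liftOfSurjective_apply ((θ : MonoidAlgebra U M →ₐ[U] U ⊗[S] Q).restrictScalars S) hs ν (fun y hy => h y hy) y⟩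

theorem exists_theta {U : Type u} [CommRing U] [Algebra S U] {M : Type u} [CommGroup M] (γ : M →* GL' S Q U) :
    ∃ θ : MonoidAlgebra U M →ₐc[U] U ⊗[S] Q, ∀ m r, θ (MonoidAlgebra.single m r) = r • (γ m).val :=
  exists_bialgHom_of_grouplike
    (({ toFun := GroupLike.val, map_one' := rfl, map_mul' := fun _ _ => rfl } : GL' S Q U →* U ⊗[S] Q).comp γ)
    fun m => (γ m).isGroupLikeElem_val

theorem bijective_of_kill {U U' : Type u} [CommRing U] [Algebra S U] [CommRing U'] [Algebra S U'] {M : Type u}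
    [CommGroup M] (f : U →ₐ[S] U') (θ : MonoidAlgebra U M →ₐc[U] U ⊗[S] Q) (θ' : MonoidAlgebra U' M →ₐc[U'] U' ⊗[S] Q)
    (hnat : ∀ y, μ Q f (θ y) = θ' (MonoidAlgebra.mapRingHom M (f : U →+* U') y))
    (hs : Function.Surjective θ) (Kg : Finset (MonoidAlgebra U M))
    (hKg : ∀ y, θ y = 0 ↔ y ∈ Ideal.span (Kg : Set (MonoidAlgebra U M)))
    (hzero : ∀ k ∈ Kg, ∀ m, f (k.coeff m) = 0) : Function.Bijective θ' := by
  let ν : MonoidAlgebra U M →ₐ[S] MonoidAlgebra U' M := MonoidAlgebra.mapAlgHom M f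
  have hker : ∀ y, θ y = 0 → ν y = 0 := by
    intro y hy
    refine (Ideal.span_le.2 ?_ ((hKg y).1 hy) : y ∈ RingHom.ker ν)
    intro k hk
    refine MonoidAlgebra.ext (Finsupp.ext fun m => ?_)
    simpa [ν, MonoidAlgebra.mapAlgHom, MonoidAlgebra.mapRingHom] using hzero k hk m
  obtain ⟨σ, hσ⟩ := exists_factor Q θ hs ν hker
  let τ : U' ⊗[S] Q →ₐ[U'] MonoidAlgebra U' M := ext₁ (σ.comp Algebra.TensorProduct.includeRight)
  have hτ : ∀ z, τ (μ Q f z) = σ z := by
    intro z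
    induction z with
    | zero => simp
    | add a b ha hb => simp only [map_add, ha, hb]
    | tmul t q =>
      have h1 : t ⊗ₜ[S] q = θ (algebraMap U _ t) * ((1 : U) ⊗ₜ[S] q) := by
        rw [show θ (algebraMap U _ t) = algebraMap U _ t from AlgHomClass.commutes _ _]
        simp [Algebra.TensorProduct.algebraMap_apply]
      conv_rhs => rw [h1, map_mul, hσ]
      simp only [τ, ext₁, μ, Algebra.TensorProduct.map_tmul, AlgHom.id_apply, Algebra.TensorProduct.lift_tmul,
        AlgHom.comp_apply, Algebra.TensorProduct.includeRight_apply]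
      congr 1
      simp [ν, MonoidAlgebra.mapAlgHom, MonoidAlgebra.mapRingHom, Algebra.ofId_apply]
  have hinv : ∀ y, τ (θ' y) = y := by
    intro y
    induction y using MonoidAlgebra.induction_linear with
    | zero => simp
    | add a b ha hb => simp only [map_add, ha, hb]
    | single m r =>
      have h1 : θ' (MonoidAlgebra.single m 1) = μ Q f (θ (MonoidAlgebra.single m 1)) := by
        rw [hnat, MonoidAlgebra.mapRingHom_single, map_one]
      rw [show MonoidAlgebra.single m r = r • MonoidAlgebra.single m (1 : U') by simp, map_smul, map_smul, h1, hτ, hσ]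
      congr 1
      simp [ν, MonoidAlgebra.mapAlgHom]
  refine ⟨Function.LeftInverse.injective hinv, fun z => ?_⟩
  induction z with
  | zero => exact ⟨0, map_zero _⟩
  | add a b ha hb =>
    obtain ⟨x, rfl⟩ := ha
    obtain ⟨y, rfl⟩ := hb
    exact ⟨x + y, map_add _ _ _⟩
  | tmul t q =>
    obtain ⟨y, hy⟩ := hs ((1 : U) ⊗ₜ[S] q)
    refine ⟨t • MonoidAlgebra.mapRingHom M (f : U →+* U') y, ?_⟩
    rw [map_smul, ← hnat, hy]
    simp [μ, TensorProduct.smul_tmul']

/-- Finitely many group-like elements come from a stage. -/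
theorem exists_grouplike_family {ι : Type} [Finite ι] (g : ι → GL' S Q (S ⊗[A₁] R)) :
    ∃ D : Subalgebra A₁ R, D.FG ∧ ∃ z : ι → GL' S Q (S ⊗[A₁] D),
      ∀ i, μ Q (incl D) (z i).val = (g i).val := by
  classical
  haveI := Fintype.ofFinite ι
  have h1 : ∀ i, ∃ D : Subalgebra A₁ R, D.FG ∧ ∃ z : GL' S Q (S ⊗[A₁] D),
      μ Q (incl D) z.val = (g i).val := by
    intro i
    obtain ⟨D, hD, w, hw⟩ := exists_rep_tensor (S := S) Q (g i).val
    have hg : IsGroupLikeElem (S ⊗[A₁] R) (μ Q (incl D) w) := by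
      rw [μ, map_id_eq_rTensor, hw]; exact (g i).isGroupLikeElem_val
    obtain ⟨D', hle, hD', hz⟩ := exists_grouplike Q hD w hg
    exact ⟨D', hD', ⟨_, hz⟩, (μ_incl Q hle w).trans (by rw [μ, map_id_eq_rTensor, hw])⟩
  choose D hD z hz using h1
  refine ⟨Finset.univ.sup D, Finset.sup_induction Subalgebra.fg_bot (fun a ha b hb => ha.sup hb) fun i _ => hD i,
    fun i => ⟨μ Q (trans (Finset.le_sup (f := D) (Finset.mem_univ i))) (z i).val,
      isGroupLike_μ Q _ (z i).isGroupLikeElem_val⟩, fun i => ?_⟩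
  exact (μ_incl Q _ _).trans (hz i)

theorem exists_kill {L : Type} [CommGroup L] {D₀ : Subalgebra A₁ R} (hD₀ : D₀.FG) (ψ : L →* GL' S Q (S ⊗[A₁] D₀))
    (G : Finset L) (h : ∀ g ∈ G, glMap Q (incl D₀) (ψ g) = 1) :
    ∃ (D' : Subalgebra A₁ R) (hle : D₀ ≤ D'), D'.FG ∧ ∀ g ∈ G, glMap Q (trans hle) (ψ g) = 1 := by
  classical
  induction G using Finset.induction_on with
  | empty => exact ⟨D₀, le_rfl, hD₀, fun x hx => absurd hx (Finset.notMem_empty x)⟩
  | insert a F ha ih =>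
    obtain ⟨D₁, h₁, hD₁, hF⟩ := ih fun x hx => h x (Finset.mem_insert_of_mem hx)
    obtain ⟨D₂, h₂, hD₂, h0⟩ := exists_eq Q hD₁ (μ Q (trans h₁) (ψ a).val) 1 (by
      rw [μ_incl, map_one]
      exact congrArg GroupLike.val (h a (Finset.mem_insert_self a F)))
    refine ⟨D₂, h₁.trans h₂, hD₂, fun x hx => GroupLike.val_injective ?_⟩
    refine (μ_trans Q h₁ h₂ (ψ x).val).symm.trans ?_
    rcases Finset.mem_insert.1 hx with rfl | hx
    · rw [h0, map_one]; rfl
    · refine (congrArg (μ Q (trans h₂)) (congrArg GroupLike.val (hF x hx))).trans ?_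
      exact map_one (μ Q (trans (S := S) h₂))

/-- A homomorphism from a finitely generated group to the group-like elements comes from a stage. -/
theorem exists_hom_stage {M : Type u} [CommGroup M] [Group.FG M] (γ : M →* GL' S Q (S ⊗[A₁] R)) :
    ∃ D : Subalgebra A₁ R, D.FG ∧ ∃ δ : M →* GL' S Q (S ⊗[A₁] D),
      ∀ m, μ Q (incl D) (δ m).val = (γ m).val := by
  classical
  obtain ⟨T, hT⟩ := (Group.fg_def.1 ‹Group.FG M› : (⊤ : Subgroup M).FG)
  let e : Fin T.card ≃ T := T.equivFin.symm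
  obtain ⟨D₀, hD₀, z, hz⟩ := exists_grouplike_family Q fun i => γ (e i : M)
  let π : Multiplicative (Fin T.card → ℤ) →* M :=
    { toFun := fun n => ∏ i, (e i : M) ^ (Multiplicative.toAdd n i)
      map_one' := by simp
      map_mul' := fun a b => by simp [zpow_add, Finset.prod_mul_distrib] }
  let ψ : Multiplicative (Fin T.card → ℤ) →* GL' S Q (S ⊗[A₁] D₀) :=
    { toFun := fun n => ∏ i, z i ^ (Multiplicative.toAdd n i)
      map_one' := by simp
      map_mul' := fun a b => by simp [zpow_add, Finset.prod_mul_distrib] }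
  have hπ : Function.Surjective π := by
    rw [← MonoidHom.range_eq_top, eq_top_iff, ← hT, Subgroup.closure_le]
    intro x hx
    refine ⟨Multiplicative.ofAdd (Pi.single (e.symm ⟨x, hx⟩) 1), ?_⟩
    simp [π, Pi.single_apply]
  have hpush : ∀ i, glMap Q (incl D₀) (z i) = γ (e i : M) := fun i => GroupLike.val_injective (hz i)
  have hψ : ∀ n, glMap Q (incl D₀) (ψ n) = γ (π n) := fun n => by
    simp only [ψ, π, MonoidHom.coe_mk, OneHom.coe_mk, map_prod, map_zpow, hpush]
  let K : Submodule ℤ (Fin T.card → ℤ) := π.ker.toAddSubgroup'.toIntSubmodule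
  obtain ⟨G, hG⟩ := (IsNoetherian.noetherian K : K.FG)
  let G' : Finset (Multiplicative (Fin T.card → ℤ)) := G.image fun g : Fin T.card → ℤ => Multiplicative.ofAdd g
  obtain ⟨D, hle, hD, hD0⟩ := exists_kill Q hD₀ ψ G' fun g hg => by
    obtain ⟨g₀, hg₀, rfl⟩ := Finset.mem_image.1 hg
    have h1 : g₀ ∈ K := hG ▸ Submodule.subset_span hg₀
    rw [hψ, show π (Multiplicative.ofAdd g₀) = 1 from h1, map_one]
  let ψ' : Multiplicative (Fin T.card → ℤ) →* GL' S Q (S ⊗[A₁] D) := (glMap Q (trans hle)).comp ψ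
  have hker : π.ker ≤ ψ'.ker := by
    intro n hn
    have h2 : K ≤ ψ'.ker.toAddSubgroup'.toIntSubmodule := by
      rw [← hG]
      exact Submodule.span_le.2 fun g hg => hD0 _ (Finset.mem_image_of_mem _ hg)
    exact h2 hn
  refine ⟨D, hD, π.liftOfSurjective hπ ⟨ψ', hker⟩, fun m => ?_⟩
  obtain ⟨n, rfl⟩ := hπ m
  rw [MonoidHom.liftOfRightInverse_comp_apply]
  refine (μ_incl Q hle _).trans ?_
  exact congrArg GroupLike.val (hψ n)

/-- A diagonalisation over the base change of an algebra comes from a stage. -/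
theorem exists_diag_stage [Algebra.FinitePresentation S Q] {M : Type u} [CommGroup M] [Group.FG M]
    (ρ : (S ⊗[A₁] R) ⊗[S] Q ≃ₐc[S ⊗[A₁] R] MonoidAlgebra (S ⊗[A₁] R) M) :
    ∃ D : Subalgebra A₁ R, D.FG ∧ SGA3b.IsDiag (S ⊗[A₁] D) ((S ⊗[A₁] D) ⊗[S] Q) := by
  classical
  let γ : M →* GL' S Q (S ⊗[A₁] R) :=
    { toFun := fun m => ⟨ρ.symm (MonoidAlgebra.of (S ⊗[A₁] R) M m), (MonoidAlgebra.isGroupLikeElem_of m).map ρ.symm⟩
      map_one' := GroupLike.val_injective (by rw [GroupLike.val_one]; simp only [map_one])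
      map_mul' := fun a b => GroupLike.val_injective (by rw [GroupLike.val_mul]; simp only [map_mul]) }
  obtain ⟨D₀, hD₀, δ, hδ⟩ := exists_hom_stage Q γ
  -- the maps at the stages
  have hθ : ∀ (D : Subalgebra A₁ R) (h : D₀ ≤ D), ∃ θ : MonoidAlgebra (S ⊗[A₁] D) M →ₐc[S ⊗[A₁] D] (S ⊗[A₁] D) ⊗[S] Q,
      ∀ m r, θ (MonoidAlgebra.single m r) = r • μ Q (trans h) (δ m).val := fun D h =>
    exists_theta Q ((glMap Q (trans (S := S) h)).comp δ)
  choose θ hθ using hθ
  have hnat : ∀ (D : Subalgebra A₁ R) (h : D₀ ≤ D) (D' : Subalgebra A₁ R) (h' : D ≤ D') (y : MonoidAlgebra (S ⊗[A₁] D) M),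
      μ Q (trans h') (θ D h y) = θ D' (h.trans h') (MonoidAlgebra.mapRingHom M (trans (S := S) h' : S ⊗[A₁] D →+* _) y) := by
    intro D h D' h' y
    induction y using MonoidAlgebra.induction_linear with
    | zero => simp
    | add f g hf hg => simp only [map_add, hf, hg]
    | single m r =>
      rw [MonoidAlgebra.mapRingHom_single, hθ, hθ]
      refine (μ_smul Q _ r _).trans ?_
      exact congrArg (trans (S := S) h' r • ·) (μ_trans Q h h' _)
  have htop : ∀ (D : Subalgebra A₁ R) (h : D₀ ≤ D) (y : MonoidAlgebra (S ⊗[A₁] D) M),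
      ρ (μ Q (incl D) (θ D h y)) = MonoidAlgebra.mapRingHom M (incl (S := S) D : S ⊗[A₁] D →+* _) y := by
    intro D h y
    induction y using MonoidAlgebra.induction_linear with
    | zero => simp
    | add f g hf hg => simp only [map_add, hf, hg]
    | single m r =>
      rw [MonoidAlgebra.mapRingHom_single, hθ]
      refine (congrArg ρ ((μ_smul Q _ r _).trans (congrArg (incl (S := S) D r • ·) ((μ_incl Q h _).trans (hδ m))))).trans ?_
      refine (map_smul ρ _ _).trans ?_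
      refine (congrArg (incl (S := S) D r • ·) (BialgEquiv.apply_symm_apply ρ _)).trans ?_
      simp
  -- generators
  obtain ⟨G, hG⟩ := Algebra.FiniteType.out (R := S) (A := Q)
  have hrep : ∀ z : MonoidAlgebra (S ⊗[A₁] R) M, ∃ D : Subalgebra A₁ R, D.FG ∧ ∃ y : MonoidAlgebra (S ⊗[A₁] D) M,
      MonoidAlgebra.mapRingHom M (incl (S := S) D : S ⊗[A₁] D →+* _) y = z := by
    intro z
    induction z using MonoidAlgebra.induction_linear with
    | zero => exact ⟨⊥, Subalgebra.fg_bot, 0, map_zero _⟩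
    | add a b ha hb =>
      obtain ⟨D, hD, x, rfl⟩ := ha
      obtain ⟨D', hD', y, rfl⟩ := hb
      refine ⟨D ⊔ D', hD.sup hD', MonoidAlgebra.mapRingHom M (trans (S := S) (le_sup_left : D ≤ D ⊔ D') : S ⊗[A₁] D →+* _) x +
        MonoidAlgebra.mapRingHom M (trans (S := S) (le_sup_right : D' ≤ D ⊔ D') : S ⊗[A₁] D' →+* _) y, ?_⟩
      rw [map_add]
      congr 1 <;>
      · refine MonoidAlgebra.ext (Finsupp.ext fun m => ?_)
        simp [MonoidAlgebra.mapRingHom, incl_trans]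
    | single m r =>
      obtain ⟨D, hD, x, rfl⟩ := exists_rep r
      exact ⟨D, hD, MonoidAlgebra.single m x, by simp⟩
  choose Dq hDq yq hyq using fun q : Q => hrep (ρ ((1 : S ⊗[A₁] R) ⊗ₜ[S] q))
  let D₁ := D₀ ⊔ G.sup Dq
  have hD₁ : D₁.FG := hD₀.sup (Finset.sup_induction Subalgebra.fg_bot (fun a ha b hb => ha.sup hb) fun q _ => hDq q)
  have hle₁ : D₀ ≤ D₁ := le_sup_left
  have hq₁ : ∀ q ∈ G, Dq q ≤ D₁ := fun q hq => le_sup_of_le_right (Finset.le_sup hq)
  have hstage : ∀ F : Finset Q, F ⊆ G → ∃ (D' : Subalgebra A₁ R) (hle : D₁ ≤ D'), D'.FG ∧ ∀ q ∈ F,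
      ∃ y, θ D' (hle₁.trans hle) y = (1 : S ⊗[A₁] D') ⊗ₜ[S] q := by
    intro F
    induction F using Finset.induction_on with
    | empty => exact fun _ => ⟨D₁, le_rfl, hD₁, fun x hx => absurd hx (Finset.notMem_empty x)⟩
    | insert a F ha ih =>
      intro hF
      obtain ⟨D₂, h₂, hD₂, hF₂⟩ := ih ((Finset.subset_insert a F).trans hF)
      let y : MonoidAlgebra (S ⊗[A₁] D₂) M := MonoidAlgebra.mapRingHom M
        (trans (S := S) ((hq₁ a (hF (Finset.mem_insert_self a F))).trans h₂) : S ⊗[A₁] Dq a →+* S ⊗[A₁] D₂) (yq a)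
      obtain ⟨D₃, h₃, hD₃, h0⟩ := exists_eq Q hD₂ (θ D₂ (hle₁.trans h₂) y) ((1 : S ⊗[A₁] D₂) ⊗ₜ[S] a) (by
        apply EquivLike.injective ρ
        rw [htop, show μ Q (incl D₂) ((1 : S ⊗[A₁] D₂) ⊗ₜ[S] a) = (1 : S ⊗[A₁] R) ⊗ₜ[S] a by simp [μ], ← hyq]
        refine MonoidAlgebra.ext (Finsupp.ext fun m => ?_)
        simp [y, MonoidAlgebra.mapRingHom, incl_trans])
      refine ⟨D₃, h₂.trans h₃, hD₃, fun q hq => ?_⟩
      rcases Finset.mem_insert.1 hq with rfl | hq
      · refine ⟨MonoidAlgebra.mapRingHom M (trans (S := S) h₃ : S ⊗[A₁] D₂ →+* _) y, ?_⟩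
        rw [← hnat D₂ (hle₁.trans h₂) D₃ h₃, h0]
        simp [μ]
      · obtain ⟨y', hy'⟩ := hF₂ q hq
        refine ⟨MonoidAlgebra.mapRingHom M (trans (S := S) h₃ : S ⊗[A₁] D₂ →+* _) y', ?_⟩
        rw [← hnat D₂ (hle₁.trans h₂) D₃ h₃, hy']
        simp [μ]
  obtain ⟨D₂, h₂, hD₂, hgen⟩ := hstage G subset_rfl
  have h02 : D₀ ≤ D₂ := hle₁.trans h₂
  have hs : Function.Surjective (θ D₂ h02) := by
    intro z
    induction z with
    | zero => exact ⟨0, map_zero _⟩
    | add a b ha hb =>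
      obtain ⟨x, rfl⟩ := ha
      obtain ⟨y, rfl⟩ := hb
      exact ⟨x + y, map_add _ _ _⟩
    | tmul t q =>
      have h1 : (Algebra.TensorProduct.includeRight : Q →ₐ[S] (S ⊗[A₁] D₂) ⊗[S] Q) q ∈
          ((θ D₂ h02 : MonoidAlgebra (S ⊗[A₁] D₂) M →ₐ[S ⊗[A₁] D₂] (S ⊗[A₁] D₂) ⊗[S] Q).range.restrictScalars S) := by
        have hle : Algebra.adjoin S (G : Set Q) ≤ (((θ D₂ h02 : MonoidAlgebra (S ⊗[A₁] D₂) M →ₐ[S ⊗[A₁] D₂]
            (S ⊗[A₁] D₂) ⊗[S] Q).range.restrictScalars S)).comap Algebra.TensorProduct.includeRight :=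
          Algebra.adjoin_le fun q hq => hgen q hq
        exact hle (hG ▸ Algebra.mem_top)
      obtain ⟨y, hy⟩ := h1
      refine ⟨t • y, ?_⟩
      rw [map_smul]
      refine (congrArg (t • ·) hy).trans ?_
      simp [TensorProduct.smul_tmul']
  -- the kernel
  haveI : Monoid.FG M := Group.fg_iff_monoid_fg.1 inferInstance
  obtain ⟨Kg, hKg⟩ := exists_ker_generators Q (θ D₂ h02) hs
  obtain ⟨D₃, h₃, hD₃, hF⟩ := exists_zero_finset hD₂ (Kg.biUnion fun k => k.coeff.support.image k.coeff) fun x hx => by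
    obtain ⟨k, hk, hx⟩ := Finset.mem_biUnion.1 hx
    obtain ⟨m, -, rfl⟩ := Finset.mem_image.1 hx
    have h1 : θ D₂ h02 k = 0 := (hKg k).2 (Submodule.subset_span hk)
    have h2 := htop D₂ h02 k
    rw [h1, map_zero, map_zero] at h2
    simpa [MonoidAlgebra.mapRingHom] using (congrArg (fun w => MonoidAlgebra.coeff w m) h2).symm
  refine ⟨D₃, hD₃, M, inferInstance, ⟨(BialgEquiv.ofBijective (θ D₃ (h02.trans h₃))
    (bijective_of_kill Q (trans h₃) (θ D₂ h02) (θ D₃ (h02.trans h₃)) (hnat D₂ h02 D₃ h₃) hs Kg hKg fun k hk m => ?_)).symm⟩⟩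
  by_cases hm : m ∈ k.coeff.support
  · exact hF (k.coeff m) (Finset.mem_biUnion.2 ⟨k, hk, Finset.mem_image.2 ⟨m, hm, rfl⟩⟩)
  · rw [Finsupp.notMem_support_iff.1 hm, map_zero]

end Groth.Agent.SGA3b53.UnionStage
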