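import Groth.Agent.SGA3b53.GLLift
import Mathlib

/-!
The locus where a group-like element of a group of multiplicative type is the unit.
-/

set_option autoImplicit false
set_option linter.unusedSectionVars false
set_option linter.style.haveILetI false
universe u v w
open TensorProduct

noncomputable section

namespace Groth.Agent.SGA3b53

variable {R : Type u} [CommRing R] {A : Type u} [CommRing A] [HopfAlgebra R A]

theorem smul_eq_smul_one_iff {T : Type u} [CommRing T] {M : Type u} [CommGroup M] {x : MonoidAlgebra T M}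
    (hx : IsGroupLikeElem T x) (f : T) : f • x = f • 1 ↔ f * x.coeff 1 = f := by
  constructor
  · intro h
    have h1 := congrArg (fun z : MonoidAlgebra T M => z.coeff 1) h
    simpa [MonoidAlgebra.one_def] using h1
  · intro h
    classical
    refine MonoidAlgebra.ext (Finsupp.ext fun m => ?_)
    simp only [MonoidAlgebra.one_def, MonoidAlgebra.coeff_smul, Finsupp.smul_apply, MonoidAlgebra.coeff_single,
      Finsupp.single_apply, smul_eq_mul]
    by_cases hm : (1 : M) = m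
    · subst hm; simpa using h
    · rw [if_neg hm, mul_zero, ← h, mul_assoc, grouplike_coeff_mul hx, if_neg hm, mul_zero]

/-- For a group-like `g` there is an idempotent cutting out the locus where `g = 1`. -/
theorem exists_unit_locus (h : SGA3b.IsMultType R A) {g : A} (hg : IsGroupLikeElem R g) :
    ∃ e : R, IsIdempotentElem e ∧ e • g = e • 1 ∧
      ∀ {T : Type u} [CommRing T] [Algebra R T] {M : Type u} [CommGroup M]
        (ρ : T ⊗[R] A ≃ₐc[T] MonoidAlgebra T M), algebraMap R T e = (ρ ((1 : T) ⊗ₜ g)).coeff 1 := by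
  obtain ⟨ι, _, T, _, _, hT, hd⟩ := exists_finite_cover h
  choose M hM ρ₀ using hd
  let ρ := fun i => (ρ₀ i).some
  have hgl : ∀ {S : Type u} [CommRing S] [Algebra R S] {N : Type u} [CommGroup N]
      (σ : S ⊗[R] A ≃ₐc[S] MonoidAlgebra S N), IsGroupLikeElem S (σ ((1 : S) ⊗ₜ g)) :=
    fun σ => (isGroupLike_one_tmul hg).map σ
  have hchar : ∀ {S : Type u} [CommRing S] [Algebra R S] {N : Type u} [CommGroup N]
      (σ : S ⊗[R] A ≃ₐc[S] MonoidAlgebra S N) (f : S),
      f • ((1 : S) ⊗ₜ[R] g) = f • 1 ↔ f * (σ ((1 : S) ⊗ₜ g)).coeff 1 = f := by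
    intro S _ _ N _ σ f
    rw [← smul_eq_smul_one_iff (hgl σ) f, ← (EquivLike.injective σ).eq_iff]
    simp
  have hidem : ∀ {S : Type u} [CommRing S] [Algebra R S] {N : Type u} [CommGroup N]
      (σ : S ⊗[R] A ≃ₐc[S] MonoidAlgebra S N),
      (σ ((1 : S) ⊗ₜ g)).coeff 1 * (σ ((1 : S) ⊗ₜ g)).coeff 1 = (σ ((1 : S) ⊗ₜ g)).coeff 1 :=
    fun σ => (grouplike_coeff_idem (hgl σ) 1).eq
  have huniq : ∀ {S : Type u} [CommRing S] [Algebra R S] {N N' : Type u} [CommGroup N] [CommGroup N']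
      (σ : S ⊗[R] A ≃ₐc[S] MonoidAlgebra S N) (σ' : S ⊗[R] A ≃ₐc[S] MonoidAlgebra S N'),
      (σ ((1 : S) ⊗ₜ g)).coeff 1 = (σ' ((1 : S) ⊗ₜ g)).coeff 1 := by
    intro S _ _ N N' _ _ σ σ'
    have h1 := (hchar σ' _).1 ((hchar σ _).2 (hidem σ))
    have h2 := (hchar σ _).1 ((hchar σ' _).2 (hidem σ'))
    rw [← h1, mul_comm, h2]
  have hmap : ∀ {S S' : Type u} [CommRing S] [Algebra R S] [CommRing S'] [Algebra R S'] (q : S →ₐ[R] S')
      {N : Type u} [CommGroup N] (σ : S ⊗[R] A ≃ₐc[S] MonoidAlgebra S N)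
      {N' : Type u} [CommGroup N'] (σ' : S' ⊗[R] A ≃ₐc[S'] MonoidAlgebra S' N'),
      q ((σ ((1 : S) ⊗ₜ g)).coeff 1) = (σ' ((1 : S') ⊗ₜ g)).coeff 1 := by
    intro S S' _ _ _ _ q N _ σ N' _ σ'
    obtain ⟨σ'', hσ''⟩ := exists_split_map q σ
    have h1 := hσ'' ((1 : S) ⊗ₜ g)
    rw [Algebra.TensorProduct.map_tmul, map_one, AlgHom.id_apply] at h1
    rw [huniq σ' σ'', h1]
    simp
  have hc : ∀ i j, ((TensorProduct.mk R (T j) (T i)).flip 1).rTensor R ((ρ j ((1 : T j) ⊗ₜ g)).coeff 1 ⊗ₜ[R] (1 : R)) =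
      ((TensorProduct.mk R (T j) (T i)) 1).rTensor R ((ρ i ((1 : T i) ⊗ₜ g)).coeff 1 ⊗ₜ[R] (1 : R)) := by
    intro i j
    obtain ⟨σ, -⟩ := exists_split_map (Algebra.TensorProduct.includeLeft : T j →ₐ[R] T j ⊗[R] T i) (ρ j)
    have h1 := hmap (Algebra.TensorProduct.includeLeft : T j →ₐ[R] T j ⊗[R] T i) (ρ j) σ
    have h2 := hmap (Algebra.TensorProduct.includeRight : T i →ₐ[R] T j ⊗[R] T i) (ρ i) σ
    simp only [Algebra.TensorProduct.includeLeft_apply] at h1
    simp only [Algebra.TensorProduct.includeRight_apply] at h2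
    simp only [LinearMap.rTensor_tmul, LinearMap.flip_apply, TensorProduct.mk_apply]
    rw [h1, h2]
  obtain ⟨e, he⟩ := hT.descend (fun i => (ρ i ((1 : T i) ⊗ₜ g)).coeff 1 ⊗ₜ[R] (1 : R)) hc
  have he' : ∀ i, algebraMap R (T i) e = (ρ i ((1 : T i) ⊗ₜ g)).coeff 1 := by
    intro i
    have h1 := congrArg (TensorProduct.rid R (T i)) (he i)
    rw [TensorProduct.rid_tmul, TensorProduct.rid_tmul, one_smul, Algebra.smul_def, mul_one] at h1
    exact h1
  have hz : ∀ r : R, (∀ i, algebraMap R (T i) r = 0) → r = 0 := fun r hr => hT.eq_zero fun i => by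
    apply (TensorProduct.rid R (T i)).injective
    rw [TensorProduct.rid_tmul, Algebra.smul_def, mul_one, hr, map_zero]
  refine ⟨e, sub_eq_zero.1 (hz _ fun i => ?_), sub_eq_zero.1 (hT.eq_zero fun i => ?_), fun {S} _ _ N _ σ => ?_⟩
  · rw [map_sub, map_mul, he', hidem, sub_self]
  · have hA : ∀ x : A, (1 : T i) ⊗ₜ[R] (e • x) = algebraMap R (T i) e • ((1 : T i) ⊗ₜ[R] x) := fun x => by
      rw [TensorProduct.tmul_smul, algebraMap_smul]
    rw [tmul_sub, sub_eq_zero, hA, hA, he', ← Algebra.TensorProduct.one_def]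
    exact (hchar (ρ i) _).2 (hidem (ρ i))
  · let U : ι → Type u := fun i => T i ⊗[R] S
    have hzS : ∀ s : S, (∀ i, (1 : T i) ⊗ₜ[R] s = 0) → s = 0 := fun s hs => hT.eq_zero hs
    refine sub_eq_zero.1 (hzS _ fun i => ?_)
    rw [tmul_sub, sub_eq_zero]
    obtain ⟨σ', -⟩ := exists_split_map (Algebra.TensorProduct.includeLeft : T i →ₐ[R] T i ⊗[R] S) (ρ i)
    have h1 := hmap (Algebra.TensorProduct.includeLeft : T i →ₐ[R] T i ⊗[R] S) (ρ i) σ'
    have h2 := hmap (Algebra.TensorProduct.includeRight : S →ₐ[R] T i ⊗[R] S) σ σ'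
    simp only [Algebra.TensorProduct.includeLeft_apply] at h1
    simp only [Algebra.TensorProduct.includeRight_apply] at h2
    rw [h2, ← h1, ← he', Algebra.algebraMap_eq_smul_one, Algebra.algebraMap_eq_smul_one, TensorProduct.tmul_smul,
      TensorProduct.smul_tmul']

end Groth.Agent.SGA3b53
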